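import Mathlib

/-! Centralisers of transitive permutation groups. -/

set_option autoImplicit false

namespace H14

open MulAction Subgroup

variable {α : Type*}

/-- A permutation commuting with a transitive group and fixing a point is trivial. -/
theorem eq_one_of_commute_of_fix {G : Type*} [Group G] [MulAction G α] [IsPretransitive G α]
    {c : Equiv.Perm α} (hc : ∀ (g : G) (x : α), c (g • x) = g • c x) {a : α} (ha : c a = a) :
    c = 1 := by
  ext b
  obtain ⟨g, rfl⟩ := exists_smul_eq G a b
  rw [hc, ha]; rfl

/-- If `a` and `b` have the same stabiliser in a transitive group, some permutation commuting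
with the group maps `a` to `b`. -/
theorem exists_commute_of_stabilizer_eq {G : Type*} [Group G] [MulAction G α]
    [IsPretransitive G α] {a b : α} (h : stabilizer G a = stabilizer G b) :
    ∃ c : Equiv.Perm α, (∀ (g : G) (x : α), c (g • x) = g • c x) ∧ c a = b := by
  have key : ∀ {a b : α}, stabilizer G a = stabilizer G b → ∀ g₁ g₂ : G, g₁ • a = g₂ • a →
      g₁ • b = g₂ • b := by
    intro a b h g₁ g₂ h12
    have : g₂⁻¹ * g₁ ∈ stabilizer G a := by
      rw [mem_stabilizer_iff, mul_smul, h12, inv_smul_smul]
    rw [h, mem_stabilizer_iff, mul_smul, inv_smul_eq_iff] at this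
    exact this
  choose u hu using fun x => exists_smul_eq G a x
  choose v hv using fun x => exists_smul_eq G b x
  refine ⟨⟨fun x => u x • b, fun x => v x • a, fun x => ?_, fun x => ?_⟩, fun g x => ?_, ?_⟩
  · show v (u x • b) • a = x
    rw [key h.symm _ (u x) (hv _), hu]
  · show u (v x • a) • b = x
    rw [key h _ (v x) (hu _), hv]
  · show u (g • x) • b = g • u x • b
    rw [← mul_smul]
    apply key h
    rw [mul_smul, hu, hu]
  · show u a • b = b
    rw [key h (u a) 1 (by rw [hu, one_smul]), one_smul]

theorem mem_centralizer_perm_iff (G : Subgroup (Equiv.Perm α)) (c : Equiv.Perm α) :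
    c ∈ centralizer (G : Set (Equiv.Perm α)) ↔ ∀ (g : G) (x : α), c (g • x) = g • c x := by
  rw [mem_centralizer_iff]
  constructor
  · intro h g x
    have := congrArg (fun σ : Equiv.Perm α => σ x) (h g g.2)
    exact this.symm
  · intro h g hg
    ext x
    exact (h ⟨g, hg⟩ x).symm

theorem mem_centralizer_map_iff (G : Subgroup (Equiv.Perm α)) (M : Subgroup G)
    (c : Equiv.Perm α) :
    c ∈ centralizer ((M.map G.subtype : Subgroup (Equiv.Perm α)) : Set (Equiv.Perm α)) ↔
      ∀ (g : M) (x : α), c (g • x) = g • c x := by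
  rw [mem_centralizer_perm_iff]
  constructor
  · intro h g x
    exact h ⟨((g : G) : Equiv.Perm α), ⟨g, g.2, rfl⟩⟩ x
  · rintro h ⟨_, g, hg, rfl⟩ x
    exact h ⟨g, hg⟩ x

theorem centralizer_semiregular (G : Subgroup (Equiv.Perm α)) [IsPretransitive G α] :
    (∀ c ∈ centralizer (G : Set (Equiv.Perm α)), ∀ a : α, c a = a → c = 1) ∧
    (IsPretransitive (centralizer (G : Set (Equiv.Perm α))) α ↔
      ∀ a : α, stabilizer G a = ⊥) := by
  refine ⟨fun c hc a ha => eq_one_of_commute_of_fix ((mem_centralizer_perm_iff G c).1 hc) ha,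
    fun h a => ?_, fun h => ⟨fun a b => ?_⟩⟩
  · rw [eq_bot_iff]
    intro g hg
    rw [mem_bot]
    apply Subtype.ext
    refine eq_one_of_commute_of_fix (G := centralizer (G : Set (Equiv.Perm α))) ?_ (a := a) hg
    intro c x
    exact ((mem_centralizer_perm_iff G c).1 c.2 g x).symm
  · obtain ⟨c, hc, hab⟩ := exists_commute_of_stabilizer_eq (G := G) ((h a).trans (h b).symm)
    exact ⟨⟨c, (mem_centralizer_perm_iff G c).2 hc⟩, hab⟩

theorem stabilizer_eq_of_le {G : Type*} [Group G] [MulAction G α] [Finite α]
    [IsPretransitive G α] {a b : α} (h : stabilizer G a ≤ stabilizer G b) :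
    stabilizer G a = stabilizer G b := by
  have ha := index_stabilizer_of_transitive G a
  have hb := index_stabilizer_of_transitive G b
  have hpos : Nat.card α ≠ 0 := Nat.card_ne_zero.2 ⟨⟨a⟩, inferInstance⟩
  have := relIndex_mul_index h
  rw [ha, hb] at this
  have h1 : (stabilizer G a).relIndex (stabilizer G b) = 1 := by
    apply Nat.eq_of_mul_eq_mul_right (Nat.pos_of_ne_zero hpos)
    rw [this, one_mul]
  exact le_antisymm h (relIndex_eq_one.1 h1)

theorem centralizer_iso [Finite α] (G : Subgroup (Equiv.Perm α)) [IsPretransitive G α] (a : α) :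
    Nonempty (centralizer (G : Set (Equiv.Perm α)) ≃*
      normalizer ((stabilizer G a : Subgroup G) : Set G) ⧸
        (stabilizer G a).subgroupOf (normalizer ((stabilizer G a : Subgroup G) : Set G))) ∧
    orbit (centralizer (G : Set (Equiv.Perm α))) a = fixedPoints (stabilizer G a) α := by
  have hsr := (centralizer_semiregular G).1
  have huniq : ∀ c d : centralizer (G : Set (Equiv.Perm α)),
      (c : Equiv.Perm α) a = (d : Equiv.Perm α) a → c = d := by
    intro c d h
    have : ((d⁻¹ * c : centralizer (G : Set (Equiv.Perm α))) : Equiv.Perm α) = 1 := by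
      apply hsr _ (d⁻¹ * c).2 a
      simp [h]
    have h2 : d⁻¹ * c = 1 := Subtype.ext this
    rw [inv_mul_eq_one] at h2
    exact h2.symm
  constructor
  · have hex : ∀ n : normalizer ((stabilizer G a : Subgroup G) : Set G),
        ∃ c : centralizer (G : Set (Equiv.Perm α)), (c : Equiv.Perm α) a = (n : G)⁻¹ • a := by
      intro n
      have : stabilizer G a = stabilizer G ((n : G)⁻¹ • a) := by
        ext g
        rw [mem_stabilizer_iff (a := (n : G)⁻¹ • a), (mem_normalizer_iff.1 n.2 g),
          mem_stabilizer_iff, mul_smul, mul_smul, smul_eq_iff_eq_inv_smul]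
      obtain ⟨c, hc, hab⟩ := exists_commute_of_stabilizer_eq this
      exact ⟨⟨c, (mem_centralizer_perm_iff G c).2 hc⟩, hab⟩
    choose f hf using hex
    let φ : normalizer ((stabilizer G a : Subgroup G) : Set G) →*
        centralizer (G : Set (Equiv.Perm α)) := MonoidHom.mk' f (by
      intro n m
      apply huniq
      rw [hf]
      show _ = (f n : Equiv.Perm α) ((f m : Equiv.Perm α) a)
      rw [hf, (mem_centralizer_perm_iff G _).1 (f n).2, hf, ← mul_smul]
      simp)
    have hsurj : Function.Surjective φ := by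
      intro c
      obtain ⟨g, hg⟩ := exists_smul_eq G ((c : Equiv.Perm α) a) a
      have hg' : (c : Equiv.Perm α) a = g⁻¹ • a := by rw [eq_inv_smul_iff, hg]
      have hc := (mem_centralizer_perm_iff G _).1 c.2
      refine ⟨⟨g, ?_⟩, huniq _ _ ?_⟩
      · rw [mem_normalizer_iff]
        intro h
        simp only [mem_stabilizer_iff]
        rw [mul_smul, mul_smul, ← hg', smul_eq_iff_eq_inv_smul g, ← hg', ← hc]
        exact (c : Equiv.Perm α).injective.eq_iff.symm
      · show (f _ : Equiv.Perm α) a = _
        rw [hf]; exact hg'.symm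
    have hker : φ.ker = (stabilizer G a).subgroupOf _ := by
      ext n
      rw [MonoidHom.mem_ker, mem_subgroupOf, mem_stabilizer_iff]
      constructor
      · intro h
        have := hf n
        rw [show f n = 1 from h] at this
        rw [smul_eq_iff_eq_inv_smul]
        exact this
      · intro h
        apply huniq
        show (f n : Equiv.Perm α) a = a
        rw [hf, eq_comm, ← smul_eq_iff_eq_inv_smul, h]
    exact ⟨((QuotientGroup.quotientMulEquivOfEq hker.symm).trans
      (QuotientGroup.quotientKerEquivOfSurjective φ hsurj)).symm⟩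
  · ext b
    constructor
    · rintro ⟨c, rfl⟩ g
      have hc := (mem_centralizer_perm_iff G _).1 c.2
      show (g : G) • (c : Equiv.Perm α) a = (c : Equiv.Perm α) a
      rw [← hc, g.2]
    · intro hb
      have : stabilizer G a ≤ stabilizer G b := fun g hg => hb ⟨g, hg⟩
      obtain ⟨c, hc, hab⟩ := exists_commute_of_stabilizer_eq (stabilizer_eq_of_le this)
      exact ⟨⟨c, (mem_centralizer_perm_iff G c).2 hc⟩, hab⟩

section Action

variable {G : Type*} [Group G] [MulAction G α]

/-- An element commuting with a transitive subgroup and fixing a point acts trivially. -/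
theorem smul_eq_of_commute_of_fix (M : Subgroup G) [IsPretransitive M α] {c : G}
    (hc : ∀ m ∈ M, c * m = m * c) {a : α} (ha : c • a = a) (x : α) : c • x = x := by
  obtain ⟨m, rfl⟩ := exists_smul_eq M a x
  show c • (m : G) • a = (m : G) • a
  rw [← mul_smul, hc m m.2, mul_smul, ha]

theorem eq_one_of_centralizes_of_fix [FaithfulSMul G α] (M : Subgroup G) [IsPretransitive M α]
    {c : G} (hc : ∀ m ∈ M, c * m = m * c) {a : α} (ha : c • a = a) : c = 1 :=
  eq_of_smul_eq_smul (α := α) fun x => by rw [smul_eq_of_commute_of_fix M hc ha, one_smul]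

/-- A transitive abelian subgroup of a faithful group is self-centralising. -/
theorem mem_of_centralizes_abelian [FaithfulSMul G α] [Nonempty α] (M : Subgroup G)
    [IsPretransitive M α] (hM : ∀ m ∈ M, ∀ n ∈ M, m * n = n * m) {c : G}
    (hc : ∀ m ∈ M, c * m = m * c) : c ∈ M := by
  obtain ⟨a⟩ := ‹Nonempty α›
  obtain ⟨m, hm⟩ := exists_smul_eq M a (c • a)
  have : (m : G)⁻¹ * c = 1 := by
    apply eq_one_of_centralizes_of_fix M (a := a)
    · intro n hn
      rw [mul_assoc, hc n hn, ← mul_assoc, hM _ (M.inv_mem m.2) n hn, mul_assoc]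
    · rw [mul_smul, ← hm]; exact inv_smul_smul (m : G) a
  rw [inv_mul_eq_one] at this
  rw [← this]; exact m.2

/-- A non-trivial normal subgroup of a faithful primitive group is transitive. -/
theorem isPretransitive_of_normal [FaithfulSMul G α] [IsPreprimitive G α] (N : Subgroup G)
    [N.Normal] (hN : N ≠ ⊥) : IsPretransitive N α := by
  apply IsQuasiPreprimitive.isPretransitive_of_normal
  intro h
  apply hN
  rw [eq_bot_iff]
  intro n hn
  rw [mem_bot]
  refine eq_of_smul_eq_smul (α := α) fun x => ?_
  rw [one_smul]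
  exact (Set.eq_univ_iff_forall.1 h x) ⟨n, hn⟩

theorem commute_of_minimal_normal {M N : Subgroup G} [M.Normal] [N.Normal]
    (hMmin : ∀ L : Subgroup G, L.Normal → L ≤ M → L = ⊥ ∨ L = M)
    (hNmin : ∀ L : Subgroup G, L.Normal → L ≤ N → L = ⊥ ∨ L = N) (hMN : M ≠ N) :
    ∀ m ∈ M, ∀ n ∈ N, m * n = n * m := by
  have hdis : Disjoint M N := by
    rw [disjoint_iff]
    rcases hMmin (M ⊓ N) inferInstance inf_le_left with h | h
    · exact h
    · rcases hNmin (M ⊓ N) inferInstance inf_le_right with h' | h'
      · exact h'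
      · exact absurd (h.symm.trans h') hMN
  intro m hm n hn
  exact commute_of_normal_of_disjoint M N inferInstance inferInstance hdis m n hm hn

/-- Two commuting transitive subgroups are regular, isomorphic, and each contains everything
commuting with the other. -/
theorem commuting_transitive [FaithfulSMul G α] [Nonempty α] (M N : Subgroup G)
    [IsPretransitive M α] [IsPretransitive N α] (h : ∀ m ∈ M, ∀ n ∈ N, m * n = n * m) :
    (∀ a : α, stabilizer M a = ⊥) ∧ Nonempty (M ≃* N) ∧
      ∀ c : Equiv.Perm α, (∀ (m : M) (x : α), c (m • x) = m • c x) →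
        ∃ n : N, ∀ x, c x = n • x := by
  have hM : ∀ (a : α) (m : M), m • a = a → m = 1 := fun a m hm =>
    Subtype.ext (eq_one_of_centralizes_of_fix N (fun n hn => h m m.2 n hn) (a := a) hm)
  have hN : ∀ (a : α) (n : N), n • a = a → n = 1 := fun a n hn =>
    Subtype.ext (eq_one_of_centralizes_of_fix M (fun m hm => (h m hm n n.2).symm) (a := a) hn)
  have hcomm : ∀ (m : M) (n : N) (x : α), m • n • x = n • m • x := by
    intro m n x
    show (m : G) • (n : G) • x = (n : G) • (m : G) • x
    rw [← mul_smul, h m m.2 n n.2, mul_smul]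
  obtain ⟨a⟩ := ‹Nonempty α›
  refine ⟨fun b => ?_, ?_, fun c hc => ?_⟩
  · rw [eq_bot_iff]; intro m hm; exact hM b m hm
  · choose f hf using fun m : M => exists_smul_eq N (m • a) a
    have hNu : ∀ n n' : N, ∀ b : α, n • b = n' • b → n = n' := by
      intro n n' b hb
      have := hN b (n'⁻¹ * n) (by rw [mul_smul, hb, inv_smul_smul])
      rw [inv_mul_eq_one] at this; exact this.symm
    let φ : M →* N := MonoidHom.mk' f (by
      intro m m'
      apply hNu _ _ ((m * m') • a)
      rw [hf, mul_smul, mul_smul, ← hcomm, hf, hf])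
    refine ⟨MulEquiv.ofBijective φ ⟨?_, ?_⟩⟩
    · rw [injective_iff_map_eq_one]
      intro m hm
      have := hf m
      rw [show f m = 1 from hm, one_smul] at this
      exact hM a m this
    · intro n
      obtain ⟨m, hm⟩ := exists_smul_eq M a (n⁻¹ • a)
      refine ⟨m, hNu _ _ (m • a) ?_⟩
      show f m • _ = _
      rw [hf, hm, smul_inv_smul]
  · obtain ⟨n, hn⟩ := exists_smul_eq N a (c a)
    refine ⟨n, fun x => ?_⟩
    obtain ⟨m, rfl⟩ := exists_smul_eq M a x
    rw [hc, ← hn, hcomm]

end Action

end H14
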