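import Mathlib

/-! Relative multiple transitivity: a subgroup `H` acting `k`-transitively on a subset `F`. -/

set_option autoImplicit false

namespace H14

open MulAction

variable {G : Type*} [Group G] {α : Type*} [MulAction G α]

/-- `H` is `k`-fold transitive on `F`: every injection of a subset of `F` with at most `k`
points into `F` is induced by an element of `H`. -/
def MT (H : Subgroup G) (F : Set α) (k : ℕ) : Prop :=
  ∀ (s : Finset α) (f : α → α), (s : Set α) ⊆ F → s.card ≤ k → Set.InjOn f s →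
    Set.MapsTo f s F → ∃ g ∈ H, ∀ a ∈ s, g • a = f a

/-- `H` maps `F` into itself. -/
def Pres (H : Subgroup G) (F : Set α) : Prop := ∀ g ∈ H, ∀ a ∈ F, g • a ∈ F

theorem Pres.univ (H : Subgroup G) : Pres H (Set.univ : Set α) := fun _ _ _ _ => Set.mem_univ _

theorem Pres.mono {H K : Subgroup G} {F : Set α} (h : Pres K F) (hle : H ≤ K) : Pres H F :=
  fun g hg => h g (hle hg)

theorem Pres.smul_mem_iff {H : Subgroup G} {F : Set α} (h : Pres H F) {g : G} (hg : g ∈ H)
    {a : α} : g • a ∈ F ↔ a ∈ F :=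
  ⟨fun ha => by simpa using h g⁻¹ (H.inv_mem hg) _ ha, h g hg a⟩

theorem Pres.stab {H : Subgroup G} {F : Set α} (h : Pres H F) (a : α) :
    Pres (H ⊓ stabilizer G a) (F \ {a}) := by
  rintro g ⟨hg, hga⟩ b ⟨hb, hba⟩
  refine ⟨h g hg b hb, fun hh => hba ?_⟩
  have hga' : g • a = a := hga
  have : g • b = g • a := by rw [hga']; exact hh
  exact MulAction.injective g this

theorem Pres.fixing {H : Subgroup G} {F : Set α} (h : Pres H F) (s : Set α) :
    Pres (H ⊓ fixingSubgroup G s) (F \ s) := by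
  rintro g ⟨hg, hgs⟩ b ⟨hb, hbs⟩
  refine ⟨h g hg b hb, fun hh => hbs ?_⟩
  have h1 : g • (g • b) = g • b := (mem_fixingSubgroup_iff G).1 hgs _ hh
  have : g • b = b := MulAction.injective g h1
  rwa [this] at hh

theorem MT.mono {H : Subgroup G} {F : Set α} {k l : ℕ} (h : MT H F k) (hl : l ≤ k) :
    MT H F l := fun s f hs hc => h s f hs (hc.trans hl)

theorem MT.mono_le {H K : Subgroup G} {F : Set α} {k : ℕ} (h : MT H F k) (hle : H ≤ K) :
    MT K F k := fun s f hs hc hi hm => by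
  obtain ⟨g, hg, h⟩ := h s f hs hc hi hm
  exact ⟨g, hle hg, h⟩

theorem MT.zero (H : Subgroup G) (F : Set α) : MT H F 0 := by
  intro s f _ hc _ _
  have : s = ∅ := Finset.card_eq_zero.1 (Nat.le_zero.1 hc)
  exact ⟨1, H.one_mem, by simp [this]⟩

/-- Tuple form. -/
theorem MT.tuple {H : Subgroup G} {F : Set α} {k : ℕ} (h : MT H F k) {ι : Type*} [Fintype ι]
    (hι : Fintype.card ι ≤ k) (x y : ι → α) (hx : Function.Injective x)
    (hy : Function.Injective y) (hxF : ∀ i, x i ∈ F) (hyF : ∀ i, y i ∈ F) :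
    ∃ g ∈ H, ∀ i, g • x i = y i := by
  classical
  let f : α → α := fun a => if h : ∃ i, x i = a then y h.choose else a
  have hf : ∀ i, f (x i) = y i := by
    intro i
    have h : ∃ j, x j = x i := ⟨i, rfl⟩
    simp only [f, dif_pos h]
    rw [hx h.choose_spec]
  obtain ⟨g, hg, hgf⟩ := h (Finset.univ.image x) f
    (by intro a ha; simp only [Finset.coe_image, Finset.coe_univ, Set.image_univ] at ha
        obtain ⟨i, rfl⟩ := ha; exact hxF i)
    (Finset.card_image_le.trans (by simpa using hι))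
    (by intro a ha b hb hab
        simp only [Finset.coe_image, Finset.coe_univ, Set.image_univ] at ha hb
        obtain ⟨i, rfl⟩ := ha; obtain ⟨j, rfl⟩ := hb
        rw [hf, hf] at hab; rw [hy hab])
    (by intro a ha; simp only [Finset.coe_image, Finset.coe_univ, Set.image_univ] at ha
        obtain ⟨i, rfl⟩ := ha; rw [hf]; exact hyF i)
  exact ⟨g, hg, fun i => by rw [hgf _ (Finset.mem_image_of_mem _ (Finset.mem_univ i)), hf]⟩

theorem MT.one {H : Subgroup G} {F : Set α} {k : ℕ} (h : MT H F k) (hk : 1 ≤ k) {a b : α}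
    (ha : a ∈ F) (hb : b ∈ F) : ∃ g ∈ H, g • a = b := by
  obtain ⟨g, hg, h⟩ := h {a} (fun _ => b) (by simpa using ha) (by simpa using hk)
    (by simp) (by intro x _; exact hb)
  exact ⟨g, hg, h a (by simp)⟩

theorem MT.two {H : Subgroup G} {F : Set α} {k : ℕ} (h : MT H F k) (hk : 2 ≤ k) {a b c d : α}
    (ha : a ∈ F) (hb : b ∈ F) (hc : c ∈ F) (hd : d ∈ F) (hab : a ≠ b) (hcd : c ≠ d) :
    ∃ g ∈ H, g • a = c ∧ g • b = d := by
  obtain ⟨g, hg, h⟩ := h.tuple (ι := Fin 2) (by simpa using hk) ![a, b] ![c, d]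
    (by intro i j; fin_cases i <;> fin_cases j <;> simp [hab, hab.symm])
    (by intro i j; fin_cases i <;> fin_cases j <;> simp [hcd, hcd.symm])
    (by intro i; fin_cases i <;> simpa) (by intro i; fin_cases i <;> simpa)
  exact ⟨g, hg, h 0, h 1⟩

theorem MT.three {H : Subgroup G} {F : Set α} {k : ℕ} (h : MT H F k) (hk : 3 ≤ k)
    {a b c a' b' c' : α} (ha : a ∈ F) (hb : b ∈ F) (hc : c ∈ F) (ha' : a' ∈ F) (hb' : b' ∈ F)
    (hc' : c' ∈ F) (hab : a ≠ b) (hac : a ≠ c) (hbc : b ≠ c) (hab' : a' ≠ b') (hac' : a' ≠ c')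
    (hbc' : b' ≠ c') : ∃ g ∈ H, g • a = a' ∧ g • b = b' ∧ g • c = c' := by
  obtain ⟨g, hg, h⟩ := h.tuple (ι := Fin 3) (by simpa using hk) ![a, b, c] ![a', b', c']
    (by intro i j; fin_cases i <;> fin_cases j <;>
      simp [hab, hab.symm, hac, hac.symm, hbc, hbc.symm])
    (by intro i j; fin_cases i <;> fin_cases j <;>
      simp [hab', hab'.symm, hac', hac'.symm, hbc', hbc'.symm])
    (by intro i; fin_cases i <;> simpa) (by intro i; fin_cases i <;> simpa)
  exact ⟨g, hg, h 0, h 1, h 2⟩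

theorem MT.four {H : Subgroup G} {F : Set α} {k : ℕ} (h : MT H F k) (hk : 4 ≤ k)
    {a b c d a' b' c' d' : α} (ha : a ∈ F) (hb : b ∈ F) (hc : c ∈ F) (hd : d ∈ F) (ha' : a' ∈ F)
    (hb' : b' ∈ F) (hc' : c' ∈ F) (hd' : d' ∈ F) (hab : a ≠ b) (hac : a ≠ c) (had : a ≠ d)
    (hbc : b ≠ c) (hbd : b ≠ d) (hcd : c ≠ d) (hab' : a' ≠ b') (hac' : a' ≠ c') (had' : a' ≠ d')
    (hbc' : b' ≠ c') (hbd' : b' ≠ d') (hcd' : c' ≠ d') :
    ∃ g ∈ H, g • a = a' ∧ g • b = b' ∧ g • c = c' ∧ g • d = d' := by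
  obtain ⟨g, hg, h⟩ := h.tuple (ι := Fin 4) (by simpa using hk) ![a, b, c, d] ![a', b', c', d']
    (by intro i j; fin_cases i <;> fin_cases j <;>
      simp [hab, hab.symm, hac, hac.symm, hbc, hbc.symm, had, had.symm, hbd, hbd.symm, hcd,
        hcd.symm])
    (by intro i j; fin_cases i <;> fin_cases j <;>
      simp [hab', hab'.symm, hac', hac'.symm, hbc', hbc'.symm, had', had'.symm, hbd', hbd'.symm,
        hcd', hcd'.symm])
    (by intro i; fin_cases i <;> simpa) (by intro i; fin_cases i <;> simpa)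
  exact ⟨g, hg, h 0, h 1, h 2, h 3⟩

/-- One more step of transitivity. -/
theorem MT.succ {H : Subgroup G} {F : Set α} {k : ℕ} (h : MT H F k) (hP : Pres H F)
    (hs : ∀ s : Finset α, (s : Set α) ⊆ F → s.card = k → ∀ a ∈ F, ∀ b ∈ F, a ∉ s → b ∉ s →
      ∃ g ∈ H, (∀ x ∈ s, g • x = x) ∧ g • a = b) : MT H F (k + 1) := by
  classical
  intro s f hsF hc hi hm
  rcases Nat.lt_or_ge k s.card with hlt | hle
  swap
  · exact h s f hsF hle hi hm
  have hcard : s.card = k + 1 := by omega
  obtain ⟨a, ha⟩ : s.Nonempty := Finset.card_pos.1 (by omega)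
  have hsub : ((s.erase a : Finset α) : Set α) ⊆ s := by simp
  obtain ⟨g, hg, hgf⟩ := h (s.erase a) f (hsub.trans hsF)
    (by rw [Finset.card_erase_of_mem ha]; omega) (hi.mono hsub) (hm.mono_left hsub)
  obtain ⟨u, hu, hufix, hua⟩ := hs ((s.erase a).image f)
    (by intro x hx
        simp only [Finset.coe_image, Set.mem_image] at hx
        obtain ⟨y, hy, rfl⟩ := hx
        exact hm (hsub hy))
    (by rw [Finset.card_image_of_injOn (hi.mono hsub), Finset.card_erase_of_mem ha]; omega)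
    (g • a) (hP g hg a (hsF ha)) (f a) (hm ha)
    (by intro hx
        obtain ⟨y, hy, hya⟩ := Finset.mem_image.1 hx
        rw [← hgf y hy] at hya
        have := MulAction.injective g hya
        exact (Finset.mem_erase.1 hy).1 this)
    (by intro hx
        obtain ⟨y, hy, hya⟩ := Finset.mem_image.1 hx
        exact (Finset.mem_erase.1 hy).1 (hi (hsub hy) ha hya))
  refine ⟨u * g, H.mul_mem hu hg, fun x hx => ?_⟩
  rw [mul_smul]
  by_cases hxa : x = a
  · subst hxa; exact hua
  · have hx' : x ∈ s.erase a := Finset.mem_erase.2 ⟨hxa, hx⟩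
    rw [hgf x hx']
    exact hufix _ (Finset.mem_image_of_mem _ hx')

/-- One more step of transitivity, checking only one `k`-subset. -/
theorem MT.succ' {H : Subgroup G} {F : Set α} {k : ℕ} (h : MT H F k) (hP : Pres H F)
    (s₀ : Finset α) (hs₀ : (s₀ : Set α) ⊆ F) (hc₀ : s₀.card = k)
    (hs : ∀ a ∈ F, ∀ b ∈ F, a ∉ s₀ → b ∉ s₀ →
      ∃ g ∈ H, (∀ x ∈ s₀, g • x = x) ∧ g • a = b) : MT H F (k + 1) := by
  classical
  refine h.succ hP fun s hsF hc a ha b hb has hbs => ?_
  have e : s ≃ s₀ := Finset.equivOfCardEq (by rw [hc, hc₀])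
  obtain ⟨g, hg, hgf⟩ := h.tuple (ι := s) (by simp [hc]) (fun x => x) (fun x => e x)
    Subtype.val_injective (Subtype.val_injective.comp e.injective) (fun x => hsF x.2)
    (fun x => hs₀ (e x).2)
  have key : ∀ c, g • c ∈ s₀ → c ∈ s := by
    intro c hc
    have := hgf (e.symm ⟨_, hc⟩)
    simp only [Equiv.apply_symm_apply] at this
    rw [← MulAction.injective g this]
    exact (e.symm ⟨_, hc⟩).2
  obtain ⟨u, hu, hufix, hua⟩ := hs (g • a) (hP g hg a ha) (g • b) (hP g hg b hb)
    (fun hh => has (key _ hh)) (fun hh => hbs (key _ hh))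
  refine ⟨g⁻¹ * u * g, H.mul_mem (H.mul_mem (H.inv_mem hg) hu) hg, fun x hx => ?_, ?_⟩
  · rw [mul_smul, mul_smul, hufix, inv_smul_smul]
    rw [hgf ⟨x, hx⟩]; exact (e ⟨x, hx⟩).2
  · rw [mul_smul, mul_smul, hua, inv_smul_smul]

theorem MT.of_one {H : Subgroup G} {F : Set α} (hP : Pres H F)
    (h : ∀ a ∈ F, ∀ b ∈ F, ∃ g ∈ H, g • a = b) : MT H F 1 := by
  refine (MT.zero H F).succ' ?_ ∅ (by simp) rfl fun a ha b hb _ _ => ?_
  · exact hP
  · obtain ⟨g, hg, hab⟩ := h a ha b hb
    exact ⟨g, hg, by simp, hab⟩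

/-- Pointwise stabilisers of subsets. -/
theorem MT.fixing {H : Subgroup G} {F : Set α} {k m : ℕ} (h : MT H F (m + k))
    (s₀ : Finset α) (hs₀ : (s₀ : Set α) ⊆ F) (hc₀ : s₀.card ≤ m) :
    MT (H ⊓ fixingSubgroup G (s₀ : Set α)) (F \ s₀) k := by
  classical
  intro s f hsF hc hi hm
  obtain ⟨g, hg, hgf⟩ := h (s₀ ∪ s) (fun x => if x ∈ s₀ then x else f x)
    (by intro x hx
        rcases Finset.mem_union.1 hx with hx | hx
        · exact hs₀ hx
        · exact (hsF hx).1)
    ((Finset.card_union_le _ _).trans (by omega))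
    (by intro x hx y hy hxy
        simp only at hxy
        by_cases hx0 : x ∈ s₀ <;> by_cases hy0 : y ∈ s₀
        · simpa [hx0, hy0] using hxy
        · have hy' : y ∈ s := by simpa [hy0] using hy
          rw [if_pos hx0, if_neg hy0] at hxy
          exact absurd (hxy ▸ hx0) (hm hy').2
        · have hx' : x ∈ s := by simpa [hx0] using hx
          rw [if_pos hy0, if_neg hx0] at hxy
          exact absurd (hxy ▸ hy0) (hm hx').2
        · have hx' : x ∈ s := by simpa [hx0] using hx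
          have hy' : y ∈ s := by simpa [hy0] using hy
          rw [if_neg hy0, if_neg hx0] at hxy
          exact hi hx' hy' hxy)
    (by intro x hx
        by_cases hx0 : x ∈ s₀
        · simpa [hx0] using hs₀ hx0
        · have hx' : x ∈ s := by simpa [hx0] using hx
          simpa [hx0] using (hm hx').1)
  refine ⟨g, Subgroup.mem_inf.2 ⟨hg, ?_⟩, fun x hx => ?_⟩
  · rw [mem_fixingSubgroup_iff]
    intro y hy
    rw [hgf y (Finset.mem_union_left _ hy), if_pos (by simpa using hy)]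
  · have : x ∉ s₀ := fun hh => (hsF hx).2 hh
    rw [hgf x (Finset.mem_union_right _ hx), if_neg this]

theorem MT.stab {H : Subgroup G} {F : Set α} {k : ℕ} (h : MT H F (k + 1)) {a : α} (ha : a ∈ F) :
    MT (H ⊓ stabilizer G a) (F \ {a}) k := by
  have := MT.fixing (m := 1) (k := k) (by rwa [add_comm]) {a} (by simpa using ha) (by simp)
  simp only [Finset.coe_singleton] at this
  refine this.mono_le ?_
  rintro g ⟨hg, hga⟩
  exact ⟨hg, (mem_fixingSubgroup_iff G).1 hga a rfl⟩

/-- Gluing: `m`-transitive with a pointwise stabiliser of `m` points `k`-transitive on the rest. -/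
theorem MT.add {H : Subgroup G} {F : Set α} {k m : ℕ} (h : MT H F m) (hP : Pres H F)
    (s₀ : Finset α) (hs₀ : (s₀ : Set α) ⊆ F) (hc₀ : s₀.card = m)
    (hk : MT (H ⊓ fixingSubgroup G (s₀ : Set α)) (F \ s₀) k) : MT H F (m + k) := by
  classical
  induction k with
  | zero => exact h
  | succ k ih =>
    have ih' := ih (hk.mono (Nat.le_succ k))
    by_cases hex : ∃ t : Finset α, (t : Set α) ⊆ F \ s₀ ∧ t.card = k
    · obtain ⟨t, ht, htc⟩ := hex
      have hdisj : Disjoint s₀ t := by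
        rw [Finset.disjoint_right]; intro x hx hx0; exact (ht hx).2 hx0
      refine ih'.succ' hP (s₀ ∪ t) ?_ (by rw [Finset.card_union_of_disjoint hdisj, hc₀, htc]) ?_
      · intro x hx
        rcases Finset.mem_union.1 hx with hx | hx
        · exact hs₀ hx
        · exact (ht hx).1
      · intro a ha b hb has hbs
        simp only [Finset.mem_union, not_or] at has hbs
        have h1 := MT.fixing (m := k) (k := 1) hk t ht htc.le
        obtain ⟨g, ⟨⟨hg, hg0⟩, hgt⟩, hga⟩ := h1.one le_rfl (a := a) (b := b)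
          ⟨⟨ha, has.1⟩, has.2⟩ ⟨⟨hb, hbs.1⟩, hbs.2⟩
        refine ⟨g, hg, fun x hx => ?_, hga⟩
        rcases Finset.mem_union.1 hx with hx | hx
        · exact (mem_fixingSubgroup_iff G).1 hg0 x hx
        · exact (mem_fixingSubgroup_iff G).1 hgt x hx
    · refine ih'.succ hP fun s hsF hc a _ b _ _ _ => ?_
      exfalso
      apply hex
      have : k ≤ (s \ s₀).card := by
        have := Finset.le_card_sdiff s₀ s
        omega
      obtain ⟨t, ht, htc⟩ := Finset.exists_subset_card_eq this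
      refine ⟨t, fun x hx => ?_, htc⟩
      have := Finset.mem_sdiff.1 (ht hx)
      exact ⟨hsF this.1, this.2⟩

theorem MT.of_stab {H : Subgroup G} {F : Set α} {k : ℕ} (h : MT H F 1) (hP : Pres H F)
    {a : α} (ha : a ∈ F) (hk : MT (H ⊓ stabilizer G a) (F \ {a}) k) : MT H F (k + 1) := by
  rw [add_comm]
  refine h.add hP {a} (by simpa using ha) (by simp) ?_
  simp only [Finset.coe_singleton]
  refine hk.mono_le ?_
  rintro g ⟨hg, hga⟩
  refine Subgroup.mem_inf.2 ⟨hg, ?_⟩
  rw [mem_fixingSubgroup_iff]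
  rintro y rfl
  exact hga

theorem MT.isMultiplyPretransitive {H : Subgroup G} {k : ℕ} (h : MT H (Set.univ : Set α) k) :
    IsMultiplyPretransitive H α k := by
  rw [isMultiplyPretransitive_iff]
  intro x y
  obtain ⟨g, hg, hxy⟩ := h.tuple (ι := Fin k) (by simp) x y x.injective y.injective
    (fun _ => Set.mem_univ _) (fun _ => Set.mem_univ _)
  exact ⟨⟨g, hg⟩, Function.Embedding.ext fun i => hxy i⟩

theorem MT.isMultiplyPretransitive_top {k : ℕ} (h : MT (⊤ : Subgroup G) (Set.univ : Set α) k) :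
    IsMultiplyPretransitive G α k := by
  rw [isMultiplyPretransitive_iff]
  intro x y
  obtain ⟨g, -, hxy⟩ := h.tuple (ι := Fin k) (by simp) x y x.injective y.injective
    (fun _ => Set.mem_univ _) (fun _ => Set.mem_univ _)
  exact ⟨g, Function.Embedding.ext fun i => hxy i⟩

theorem MT_top_of_isMultiplyPretransitive' {k : ℕ} (hk : (k : ℕ∞) ≤ ENat.card α)
    (h : IsMultiplyPretransitive G α k) : MT (⊤ : Subgroup G) (Set.univ : Set α) k := by
  intro s f _ hc hi _
  have h' : IsMultiplyPretransitive G α s.card := isMultiplyPretransitive_of_le' hc hk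
  let e : Fin s.card ≃ s := s.equivFin.symm
  obtain ⟨g, hg⟩ := isMultiplyPretransitive_iff.1 h'
    ⟨fun i => e i, Subtype.val_injective.comp e.injective⟩
    ⟨fun i => f (e i), fun i j hij => e.injective (Subtype.ext (hi (e i).2 (e j).2 hij))⟩
  refine ⟨g, Subgroup.mem_top g, fun a ha => ?_⟩
  have := congrArg (fun z : Fin s.card ↪ α => z (e.symm ⟨a, ha⟩)) hg
  have h2 : g • ((e (e.symm ⟨a, ha⟩) : s) : α) = f (e (e.symm ⟨a, ha⟩) : s) := this
  simpa using h2

theorem MT_top_of_isMultiplyPretransitive [Finite α] {k : ℕ} (hk : k ≤ Nat.card α)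
    (h : IsMultiplyPretransitive G α k) : MT (⊤ : Subgroup G) (Set.univ : Set α) k := by
  refine MT_top_of_isMultiplyPretransitive' ?_ h
  rw [ENat.card_eq_coe_natCard]
  exact_mod_cast hk

theorem MT_of_top {H : Subgroup G} {F : Set α} {k : ℕ} (h : MT (⊤ : Subgroup H) F k) :
    MT H F k := by
  intro s f hs hc hi hm
  obtain ⟨g, -, hg⟩ := h s f hs hc hi hm
  exact ⟨g, g.2, hg⟩

theorem MT.top {H : Subgroup G} {F : Set α} {k : ℕ} (h : MT H F k) :
    MT (⊤ : Subgroup H) F k := by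
  intro s f hs hc hi hm
  obtain ⟨g, hg, hgf⟩ := h s f hs hc hi hm
  exact ⟨⟨g, hg⟩, Subgroup.mem_top _, hgf⟩

theorem MT_of_isMultiplyPretransitive [Finite α] {H : Subgroup G} {k : ℕ} (hk : k ≤ Nat.card α)
    (h : IsMultiplyPretransitive H α k) : MT H (Set.univ : Set α) k :=
  MT_of_top (MT_top_of_isMultiplyPretransitive hk h)

theorem MT.map_subtype {K : Subgroup G} {H : Subgroup K} {F : Set α} {k : ℕ} (h : MT H F k) :
    MT (H.map K.subtype) F k := by
  intro s f hs hc hi hm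
  obtain ⟨g, hg, hgf⟩ := h s f hs hc hi hm
  exact ⟨g, ⟨g, hg, rfl⟩, hgf⟩

theorem MT.of_map_subtype {K : Subgroup G} {H : Subgroup K} {F : Set α} {k : ℕ}
    (h : MT (H.map K.subtype) F k) : MT H F k := by
  intro s f hs hc hi hm
  obtain ⟨g, ⟨g', hg', rfl⟩, hgf⟩ := h s f hs hc hi hm
  exact ⟨g', hg', hgf⟩

end H14
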