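import Mathlib
import Cfsg.Agent.H14.MT
import Cfsg.Agent.H22.SylIn

/-! Fixed points of `p`-subgroups, Gleason's lemma, Witt's normaliser lemma. -/

set_option autoImplicit false

namespace H14

open MulAction Subgroup H22

variable {G : Type*} [Group G] {α : Type*} [MulAction G α]

theorem mem_fix {P : Subgroup G} {a : α} : a ∈ fixedPoints P α ↔ ∀ g ∈ P, g • a = a :=
  ⟨fun h g hg => h ⟨g, hg⟩, fun h g => h g g.2⟩

theorem mem_orb {H : Subgroup G} {a b : α} : b ∈ orbit H a ↔ ∃ g ∈ H, g • a = b :=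
  ⟨fun ⟨g, hg⟩ => ⟨g, g.2, hg⟩, fun ⟨g, hg, h⟩ => ⟨⟨g, hg⟩, h⟩⟩

theorem mem_fixing {s : Set α} {g : G} : g ∈ fixingSubgroup G s ↔ ∀ y ∈ s, g • y = y :=
  mem_fixingSubgroup_iff G

theorem pres_orbit (H : Subgroup G) (a : α) : Pres H (orbit H a) := by
  intro g hg b hb
  obtain ⟨u, hu, rfl⟩ := mem_orb.1 hb
  exact mem_orb.2 ⟨g * u, H.mul_mem hg hu, mul_smul _ _ _⟩

theorem Pres.orbit_subset {H : Subgroup G} {F : Set α} (h : Pres H F) {a : α} (ha : a ∈ F) :
    orbit H a ⊆ F := by
  intro b hb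
  obtain ⟨u, hu, rfl⟩ := mem_orb.1 hb
  exact h u hu a ha

theorem pres_fix_of_le_normalizer {N P : Subgroup G} (h : N ≤ normalizer (P : Set G)) :
    Pres N (fixedPoints P α) := by
  intro n hn a ha
  rw [mem_fix] at ha ⊢
  intro g hg
  have := ha _ (conj_mem_of_mem_normalizer' (h hn) hg)
  rw [mul_smul, mul_smul, inv_smul_eq_iff] at this
  exact this

theorem Pres.inter {H : Subgroup G} {F E : Set α} (h : Pres H F) (h' : Pres H E) :
    Pres H (F ∩ E) := fun g hg a ha => ⟨h g hg a ha.1, h' g hg a ha.2⟩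

theorem Pres.diff {H : Subgroup G} {F E : Set α} (h : Pres H F) (h' : Pres H E) :
    Pres H (F \ E) := fun g hg a ha => ⟨h g hg a ha.1, fun hh => ha.2 ((h'.smul_mem_iff hg).1 hh)⟩

theorem ncard_orbit_mul (H : Subgroup G) (a : α) :
    (orbit H a).ncard * Nat.card ↥(H ⊓ stabilizer G a) = Nat.card H := by
  have h1 : Nat.card (orbit H a) * Nat.card (stabilizer H a) = Nat.card H := by
    rw [← Nat.card_prod]
    exact Nat.card_congr (orbitProdStabilizerEquivGroup H a)
  rw [← h1, Nat.card_coe_set_eq]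
  congr 1
  have : stabilizer H a = (H ⊓ stabilizer G a).subgroupOf H := by
    ext g; simp [mem_subgroupOf, mem_stabilizer_iff]; rfl
  rw [this]
  exact (Nat.card_congr (subgroupOfEquivOfLe inf_le_left).toEquiv).symm

theorem ncard_orbit_eq_relIndex (H : Subgroup G) (a : α) :
    (orbit H a).ncard = (stabilizer G a).relIndex H := by
  rw [← index_stabilizer]; rfl

theorem ncard_modEq_fixed {p : ℕ} [Fact p.Prime] {P : Subgroup G} (hP : IsPGroup p P)
    {F : Set α} (hF : F.Finite) (h : Pres P F) :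
    F.ncard ≡ (F ∩ fixedPoints P α).ncard [MOD p] := by
  let S : SubMulAction P α := ⟨F, fun g _ hx => h g g.2 _ hx⟩
  have : Finite S := hF
  have h1 := hP.card_modEq_card_fixedPoints S
  have e1 : Nat.card S = F.ncard := Nat.card_coe_set_eq F
  have e2 : Nat.card (fixedPoints P S) = (F ∩ fixedPoints P α).ncard := by
    rw [← Nat.card_coe_set_eq]
    refine Nat.card_congr ⟨fun x => ⟨x.1.1, x.1.2, fun g => congrArg Subtype.val (x.2 g)⟩,
      fun x => ⟨⟨x.1, x.2.1⟩, fun g => Subtype.ext (x.2.2 g)⟩, fun _ => rfl, fun _ => rfl⟩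
  rwa [e1, e2] at h1

theorem exists_fixed_of_not_dvd {p : ℕ} [Fact p.Prime] {P : Subgroup G} (hP : IsPGroup p P)
    {F : Set α} (hF : F.Finite) (h : Pres P F) (hp : ¬ p ∣ F.ncard) :
    ∃ a ∈ F, ∀ g ∈ P, g • a = a := by
  by_contra hne
  have : F ∩ fixedPoints P α = ∅ := by
    rw [Set.eq_empty_iff_forall_notMem]
    rintro a ⟨ha, ha'⟩
    exact hne ⟨a, ha, mem_fix.1 ha'⟩
  have h1 := ncard_modEq_fixed hP hF h
  rw [this, Set.ncard_empty] at h1
  exact hp (Nat.modEq_zero_iff_dvd.1 h1)

/-- A `p`-group fixes every point of an invariant set with fewer than `p` points. -/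
theorem fixed_of_ncard_lt {p : ℕ} [Fact p.Prime] {P : Subgroup G} (hP : IsPGroup p P)
    {F : Set α} (hF : F.Finite) (h : Pres P F) (hp : F.ncard < p) {a : α} (ha : a ∈ F) :
    ∀ g ∈ P, g • a = a := by
  have hsub := h.orbit_subset ha
  have hfin : (orbit P a).Finite := hF.subset hsub
  have : Finite (orbit P a) := hfin
  obtain ⟨n, hn⟩ := hP.card_orbit a
  rw [Nat.card_coe_set_eq] at hn
  have hle := Set.ncard_le_ncard hsub hF
  have hn0 : n = 0 := by
    by_contra h0
    have : p ≤ p ^ n := Nat.le_self_pow h0 p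
    omega
  rw [hn0, pow_zero, Set.ncard_eq_one] at hn
  obtain ⟨b, hb⟩ := hn
  intro g hg
  have h1 : g • a ∈ orbit P a := mem_orb.2 ⟨g, hg, rfl⟩
  have h2 : a ∈ orbit P a := mem_orbit_self a
  rw [hb] at h1 h2
  exact h1.trans h2.symm

theorem gleason_one {p : ℕ} [Fact p.Prime] {H : Subgroup G} {F : Set α} (hF : F.Finite)
    (h : Pres H F) (hP : ∀ a ∈ F, ∃ P : Subgroup G, P ≤ H ∧ IsPGroup p P ∧
      F ∩ fixedPoints P α = {a}) {a b : α} (ha : a ∈ F) (hb : b ∈ F) : ∃ g ∈ H, g • a = b := by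
  by_contra hne
  rw [← mem_orb] at hne
  have hsub := h.orbit_subset ha
  have hfin : (orbit H a).Finite := hF.subset hsub
  obtain ⟨P, hPH, hPp, hPa⟩ := hP a ha
  obtain ⟨Q, hQH, hQp, hQb⟩ := hP b hb
  have h1 := ncard_modEq_fixed hPp hfin ((pres_orbit H a).mono hPH)
  have h2 := ncard_modEq_fixed hQp hfin ((pres_orbit H a).mono hQH)
  have e1 : orbit H a ∩ fixedPoints P α = {a} := by
    apply Set.Subset.antisymm
    · rw [← hPa]; exact Set.inter_subset_inter_left _ hsub
    · rintro _ rfl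
      exact ⟨mem_orbit_self _, (hPa.ge rfl).2⟩
  have e2 : orbit H a ∩ fixedPoints Q α = ∅ := by
    rw [Set.eq_empty_iff_forall_notMem]
    rintro x ⟨hx, hx'⟩
    have : x = b := hQb.le ⟨hsub hx, hx'⟩
    exact hne (this ▸ hx)
  rw [e1, Set.ncard_singleton] at h1
  rw [e2, Set.ncard_empty] at h2
  have := (Nat.modEq_zero_iff_dvd.1 (h1.symm.trans h2))
  exact (Fact.out : p.Prime).one_lt.ne' (Nat.dvd_one.1 this)

/-- If pointwise stabilisers of all `k`-subsets are transitive on the rest, the group is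
`(k+1)`-transitive (given room). -/
theorem MT_of_fixing_trans {H : Subgroup G} {F : Set α} (hF : F.Finite) (h : Pres H F) {k : ℕ}
    (hk : k + 2 ≤ F.ncard)
    (hs : ∀ s : Finset α, (s : Set α) ⊆ F → s.card = k → ∀ a ∈ F, ∀ b ∈ F, a ∉ s → b ∉ s →
      ∃ g ∈ H, (∀ x ∈ s, g • x = x) ∧ g • a = b) : MT H F (k + 1) := by
  classical
  have : ∀ j, j ≤ k + 1 → MT H F j := by
    intro j
    induction j with
    | zero => exact fun _ => MT.zero H F
    | succ j ih =>
      intro hj
      refine (ih (by omega)).succ h fun s hsF hc a ha b hb has hbs => ?_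
      have hsub : s ⊆ hF.toFinset \ {a, b} := by
        intro x hx
        simp only [Finset.mem_sdiff, Set.Finite.mem_toFinset, Finset.mem_insert,
          Finset.mem_singleton, not_or]
        exact ⟨hsF hx, fun hh => has (hh ▸ hx), fun hh => hbs (hh ▸ hx)⟩
      have hcard : k ≤ (hF.toFinset \ {a, b}).card := by
        have h1 := Finset.le_card_sdiff {a, b} hF.toFinset
        have h2 : ({a, b} : Finset α).card ≤ 2 := Finset.card_le_two
        rw [← Set.ncard_eq_toFinset_card F hF] at h1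
        omega
      obtain ⟨t, hst, ht, htc⟩ := Finset.exists_subsuperset_card_eq hsub (by omega : s.card ≤ k)
        hcard
      have ht' : ∀ x ∈ t, x ∈ F ∧ x ≠ a ∧ x ≠ b := by
        intro x hx
        simpa [not_or] using ht hx
      obtain ⟨g, hg, hgt, hga⟩ := hs t (fun x hx => (ht' x hx).1) htc a ha b hb
        (fun hh => (ht' a hh).2.1 rfl) (fun hh => (ht' b hh).2.2 rfl)
      exact ⟨g, hg, fun x hx => hgt x (hst hx), hga⟩
  exact this _ le_rfl

/-- Gleason's lemma. -/
theorem gleason {p : ℕ} [Fact p.Prime] {H : Subgroup G} {F : Set α} (hF : F.Finite)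
    (h : Pres H F) {k : ℕ} (hk : k < F.ncard)
    (hP : ∀ s : Finset α, (s : Set α) ⊆ F → s.card = k → ∃ P : Subgroup G, P ≤ H ∧
      IsPGroup p P ∧ F ∩ fixedPoints P α = s) : MT H F k := by
  classical
  rcases k with _ | k
  · exact MT.zero H F
  refine MT_of_fixing_trans hF h (by omega) fun s hsF hc a ha b hb has hbs => ?_
  obtain ⟨g, hg, hga⟩ := gleason_one (p := p) (H := H ⊓ fixingSubgroup G (s : Set α))
    (F := F \ s) hF.sdiff (h.fixing _) (by
      rintro c ⟨hc1, hc2⟩
      obtain ⟨P, hPH, hPp, hPf⟩ := hP (insert c s)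
        (by intro x hx
            rcases Finset.mem_insert.1 hx with rfl | hx
            · exact hc1
            · exact hsF hx)
        (by rw [Finset.card_insert_of_notMem hc2, hc])
      refine ⟨P, fun g hg => Subgroup.mem_inf.2 ⟨hPH hg, mem_fixing.2 fun y hy => ?_⟩, hPp, ?_⟩
      · have : y ∈ F ∩ fixedPoints P α := by rw [hPf]; exact Finset.mem_insert_of_mem hy
        exact mem_fix.1 this.2 g hg
      · ext x
        constructor
        · rintro ⟨⟨hx1, hx2⟩, hx3⟩
          have : x ∈ ((insert c s : Finset α) : Set α) := by rw [← hPf]; exact ⟨hx1, hx3⟩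
          rcases Finset.mem_insert.1 this with rfl | hx
          · rfl
          · exact absurd hx hx2
        · rintro rfl
          have : x ∈ F ∩ fixedPoints P α := by rw [hPf]; exact Finset.mem_insert_self _ _
          exact ⟨⟨hc1, hc2⟩, this.2⟩) (a := a) (b := b) ⟨ha, has⟩ ⟨hb, hbs⟩
  exact ⟨g, hg.1, fun x hx => mem_fixing.1 hg.2 x hx, hga⟩

/-- To prove `k`-transitivity it is enough to treat subsets of exactly `k` points. -/
theorem MT_of_exact {H : Subgroup G} {F : Set α} {k : ℕ} (hk : (k : ℕ∞) ≤ F.encard)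
    (h : ∀ (s : Finset α) (f : α → α), (s : Set α) ⊆ F → s.card = k → Set.InjOn f s →
      Set.MapsTo f s F → ∃ g ∈ H, ∀ a ∈ s, g • a = f a) : MT H F k := by
  classical
  have hex : ∀ s : Finset α, s.card < k → ∃ a ∈ F, a ∉ s := by
    intro s hs
    by_contra hne
    push Not at hne
    have h1 : F.encard ≤ (s : Set α).encard := Set.encard_le_encard hne
    rw [Set.encard_coe_eq_coe_finsetCard] at h1
    have := hk.trans h1
    exact absurd (by exact_mod_cast this) (not_le.2 hs)
  have : ∀ j, ∀ (s : Finset α) (f : α → α), (s : Set α) ⊆ F → s.card + j = k → Set.InjOn f s →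
      Set.MapsTo f s F → ∃ g ∈ H, ∀ a ∈ s, g • a = f a := by
    intro j
    induction j with
    | zero => exact h
    | succ j ih =>
      intro s f hsF hc hi hm
      obtain ⟨a, ha, has⟩ := hex s (by omega)
      obtain ⟨b, hb, hbs⟩ := hex (s.image f) (Finset.card_image_le.trans_lt (by omega))
      have hne : ∀ {x}, x ∈ s → x ≠ a := fun hx hh => has (hh ▸ hx)
      obtain ⟨g, hg, hgf⟩ := ih (insert a s) (Function.update f a b)
        (by intro x hx
            rcases Finset.mem_insert.1 hx with rfl | hx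
            · exact ha
            · exact hsF hx)
        (by rw [Finset.card_insert_of_notMem has]; omega)
        (by intro x hx y hy hxy
            rcases Finset.mem_insert.1 hx with hx' | hx' <;>
              rcases Finset.mem_insert.1 hy with hy' | hy'
            · rw [hx', hy']
            · rw [hx', Function.update_self, Function.update_of_ne (hne hy')] at hxy
              exact absurd (hxy ▸ Finset.mem_image_of_mem f hy') hbs
            · rw [hy', Function.update_self, Function.update_of_ne (hne hx')] at hxy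
              exact absurd (hxy ▸ Finset.mem_image_of_mem f hx') hbs
            · rw [Function.update_of_ne (hne hx'),
                Function.update_of_ne (hne hy')] at hxy
              exact hi hx' hy' hxy)
        (by intro x hx
            rcases Finset.mem_insert.1 hx with rfl | hx
            · rw [Function.update_self]; exact hb
            · rw [Function.update_of_ne (hne hx)]; exact hm hx)
      refine ⟨g, hg, fun x hx => ?_⟩
      rw [hgf x (Finset.mem_insert_of_mem hx), Function.update_of_ne (hne hx)]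
  intro s f hsF hc
  exact this (k - s.card) s f hsF (by omega)

theorem MT_of_exact' {H : Subgroup G} {F : Set α} {k : ℕ} (hk : k ≤ F.ncard)
    (h : ∀ (s : Finset α) (f : α → α), (s : Set α) ⊆ F → s.card = k → Set.InjOn f s →
      Set.MapsTo f s F → ∃ g ∈ H, ∀ a ∈ s, g • a = f a) : MT H F k :=
  MT_of_exact (le_trans (by exact_mod_cast hk) (Set.ncard_le_encard F)) h

theorem MT.exists_image {H : Subgroup G} {F : Set α} {k : ℕ} (h : MT H F k) [DecidableEq α]
    {s t : Finset α} (hs : (s : Set α) ⊆ F) (ht : (t : Set α) ⊆ F) (hc : s.card ≤ k)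
    (hst : s.card = t.card) : ∃ g ∈ H, s.image (fun x => g • x) = t := by
  have e : s ≃ t := Finset.equivOfCardEq hst
  obtain ⟨g, hg, hgf⟩ := h.tuple (ι := s) (by simpa using hc) (fun x => x) (fun x => e x)
    Subtype.val_injective (Subtype.val_injective.comp e.injective) (fun x => hs x.2)
    (fun x => ht (e x).2)
  refine ⟨g, hg, Finset.eq_of_subset_of_card_le ?_ ?_⟩
  · intro x hx
    obtain ⟨y, hy, rfl⟩ := Finset.mem_image.1 hx
    rw [hgf ⟨y, hy⟩]; exact (e _).2
  · rw [Finset.card_image_of_injective _ (MulAction.injective g), hst]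

theorem cj_fixing [DecidableEq α] {H : Subgroup G} {g : G} (hg : g ∈ H) (s : Finset α) :
    cj g (H ⊓ fixingSubgroup G (s : Set α)) =
      H ⊓ fixingSubgroup G ((s.image fun x => g • x : Finset α) : Set α) := by
  ext x
  simp only [mem_cj, Subgroup.mem_inf, mem_fixing, Finset.coe_image, Set.mem_image,
    forall_exists_index, and_imp, forall_apply_eq_imp_iff₂, Finset.mem_coe]
  refine and_congr ?_ (forall₂_congr fun y _ => ?_)
  · constructor
    · intro h
      have := H.mul_mem (H.mul_mem hg h) (H.inv_mem hg)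
      simpa [mul_assoc] using this
    · intro h
      exact H.mul_mem (H.mul_mem (H.inv_mem hg) h) hg
  · rw [mul_smul, mul_smul, inv_smul_eq_iff]

theorem MT.card_fixing_eq {H : Subgroup G} {F : Set α} {k : ℕ} (h : MT H F k)
    {s t : Finset α} (hs : (s : Set α) ⊆ F) (ht : (t : Set α) ⊆ F) (hc : s.card ≤ k)
    (hst : s.card = t.card) : Nat.card ↥(H ⊓ fixingSubgroup G (s : Set α)) =
      Nat.card ↥(H ⊓ fixingSubgroup G (t : Set α)) := by
  classical
  obtain ⟨g, hg, rfl⟩ := h.exists_image hs ht hc hst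
  rw [← cj_fixing hg, card_cj]

theorem MT.sylIn_fixing [Finite G] {p : ℕ} [Fact p.Prime] {H : Subgroup G} {F : Set α} {k : ℕ}
    (h : MT H F k) {s t : Finset α} (hs : (s : Set α) ⊆ F) (ht : (t : Set α) ⊆ F)
    (hc : s.card ≤ k) (hst : s.card = t.card) {P Q : Subgroup G}
    (hP : SylIn p P (H ⊓ fixingSubgroup G (s : Set α)))
    (hQ : Q ≤ H ⊓ fixingSubgroup G (t : Set α)) (hQp : IsPGroup p Q)
    (hPQ : Nat.card P ≤ Nat.card Q) : SylIn p Q (H ⊓ fixingSubgroup G (t : Set α)) := by
  classical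
  obtain ⟨g, hg, rfl⟩ := h.exists_image hs ht hc hst
  have := hP.cj g
  rw [cj_fixing hg] at this
  exact this.of_card_ge hQ hQp (by rwa [card_cj])

/-- Witt's lemma: the normaliser of a Sylow subgroup of the pointwise stabiliser of `k` points is
`k`-transitive on its fixed points. -/
theorem MT.witt [Finite G] {p : ℕ} [Fact p.Prime] {H : Subgroup G} {F : Set α} {k : ℕ}
    (h : MT H F k) {s : Finset α} (hs : (s : Set α) ⊆ F) (hc : s.card = k) {P : Subgroup G}
    (hP : SylIn p P (H ⊓ fixingSubgroup G (s : Set α))) :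
    MT (H ⊓ normalizer (P : Set G)) (F ∩ fixedPoints P α) k := by
  classical
  have hsub : (s : Set α) ⊆ F ∩ fixedPoints P α := fun x hx =>
    ⟨hs hx, mem_fix.2 fun g hg => mem_fixing.1 (hP.1 hg).2 x hx⟩
  refine MT_of_exact ?_ fun t f ht htc hi hm => ?_
  · rw [← hc, ← Set.encard_coe_eq_coe_finsetCard]
    exact Set.encard_le_encard hsub
  obtain ⟨g, hg, hgf⟩ := h t f (fun x hx => (ht hx).1) htc.le hi (fun x hx => (hm hx).1)
  have hPt : SylIn p P (H ⊓ fixingSubgroup G (t : Set α)) :=
    h.sylIn_fixing hs (fun x hx => (ht hx).1) hc.le (hc.trans htc.symm) hP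
      (fun x hx => ⟨(hP.1 hx).1, mem_fixing.2 fun y hy => mem_fix.1 (ht hy).2 x hx⟩) hP.2.1 le_rfl
  have h1 := hPt.cj g
  rw [cj_fixing hg] at h1
  have h2 : SylIn p P (H ⊓ fixingSubgroup G ((t.image fun x => g • x : Finset α) : Set α)) := by
    refine h1.of_card_ge ?_ hP.2.1 (card_cj g P).le
    intro x hx
    refine ⟨(hP.1 hx).1, mem_fixing.2 fun y hy => ?_⟩
    obtain ⟨z, hz, rfl⟩ := Finset.mem_image.1 hy
    rw [hgf z hz]
    exact mem_fix.1 (hm hz).2 x hx
  obtain ⟨u, hu, huP⟩ := h2.exists_cj_eq h1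
  refine ⟨u * g, ⟨H.mul_mem hu.1 hg, cj_eq_iff.1 (by rw [cj_mul, huP])⟩, fun x hx => ?_⟩
  rw [mul_smul, mem_fixing.1 hu.2 _ (Finset.mem_image_of_mem _ hx), hgf x hx]

end H14
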