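import Mathlib
import Cfsg.Agent.H14.Fix

/-! Setwise stabilisers, generous transitivity. -/

set_option autoImplicit false

namespace H14

open MulAction Subgroup H22

variable {G : Type*} [Group G] {α : Type*} [MulAction G α]

variable (G) in
/-- The setwise stabiliser. -/
def setStab (s : Set α) : Subgroup G where
  carrier := {g | ∀ x, g • x ∈ s ↔ x ∈ s}
  one_mem' := by simp
  mul_mem' := fun {a b} ha hb x => by rw [mul_smul, ha, hb]
  inv_mem' := fun {a} ha x => by rw [← ha (a⁻¹ • x), smul_inv_smul]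

theorem mem_setStab {s : Set α} {g : G} : g ∈ setStab G s ↔ ∀ x, g • x ∈ s ↔ x ∈ s := Iff.rfl

theorem mem_setStab_of_mapsTo {s : Set α} (hs : s.Finite) {g : G} (h : ∀ x ∈ s, g • x ∈ s) :
    g ∈ setStab G s := by
  intro x
  refine ⟨fun hx => ?_, h x⟩
  have hm : Set.MapsTo (fun x => g • x) s s := h
  have hb := (hs.injOn_iff_bijOn_of_mapsTo hm).1 (MulAction.injective g).injOn
  obtain ⟨y, hy, hyx⟩ := hb.surjOn hx
  rwa [← MulAction.injective g hyx]

theorem pres_setStab (s : Set α) : Pres (setStab G s) s := fun _ hg x hx => (hg x).2 hx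

theorem fixing_le_setStab (s : Set α) : fixingSubgroup G s ≤ setStab G s := by
  intro g hg x
  refine ⟨fun hx => ?_, fun hx => by rwa [mem_fixing.1 hg x hx]⟩
  have := mem_fixing.1 hg _ hx
  rwa [MulAction.injective g this] at hx

theorem setStab_le_normalizer (H : Subgroup G) (s : Set α) :
    H ⊓ setStab G s ≤ normalizer ((H ⊓ fixingSubgroup G s : Subgroup G) : Set G) := by
  have key : ∀ g ∈ H ⊓ setStab G s, ∀ x ∈ H ⊓ fixingSubgroup G s,
      g * x * g⁻¹ ∈ H ⊓ fixingSubgroup G s := by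
    intro g hg x hx
    refine ⟨H.mul_mem (H.mul_mem hg.1 hx.1) (H.inv_mem hg.1), mem_fixing.2 fun y hy => ?_⟩
    rw [mul_smul, mul_smul, mem_fixing.1 hx.2 _ (((setStab G s).inv_mem hg.2 y).2 hy),
      smul_inv_smul]
  intro g hg
  rw [mem_normalizer_iff]
  intro x
  refine ⟨key g hg x, fun hx => ?_⟩
  simpa [mul_assoc] using key g⁻¹ (inv_mem hg) _ hx

theorem ncard_orbit_smul {T : Subgroup G} {g : G} (hg : g ∈ normalizer (T : Set G)) (a : α) :
    (orbit T (g • a)).ncard = (orbit T a).ncard := by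
  have : orbit T (g • a) = (fun x => g • x) '' orbit T a := by
    ext x
    constructor
    · intro hx
      obtain ⟨u, hu, rfl⟩ := mem_orb.1 hx
      exact ⟨(g⁻¹ * u * g) • a, mem_orb.2 ⟨_, conj_mem_of_mem_normalizer' hg hu, rfl⟩,
        by simp [mul_smul]⟩
    · rintro ⟨y, hy, rfl⟩
      obtain ⟨u, hu, rfl⟩ := mem_orb.1 hy
      exact mem_orb.2 ⟨_, conj_mem_of_mem_normalizer hg hu, by simp [mul_smul]⟩
  rw [this, Set.ncard_image_of_injective _ (MulAction.injective g)]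

theorem not_dvd_orbit_of_sylIn [Finite G] {p : ℕ} [Fact p.Prime] {P H : Subgroup G}
    (hP : SylIn p P H) {a : α} (ha : ∀ g ∈ P, g • a = a) : ¬ p ∣ (orbit H a).ncard := by
  rw [ncard_orbit_eq_relIndex]
  exact fun h => hP.not_dvd (h.trans (relIndex_dvd_of_le_left H ha))

theorem generous_orbits [Finite G] [Finite α] {H : Subgroup G} {k : ℕ}
    (hH : MT H (Set.univ : Set α) k) (Γ : Finset α) (hΓ : Γ.card = k)
    (hS : ∀ g ∈ H ⊓ setStab G (Γ : Set α), ∀ a ∉ Γ,
      ∃ u ∈ H ⊓ fixingSubgroup G (Γ : Set α), u • a = g • a)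
    {p : ℕ} (hp : p.Prime) (hpk : p ≤ k) (f : Fin p → α) (hf : ∀ i, f i ∉ Γ)
    (hdist : ∀ i j, i ≠ j → f j ∉ orbit ↥(H ⊓ fixingSubgroup G (Γ : Set α)) (f i)) :
    ∃ i, p ∣ (orbit ↥(H ⊓ fixingSubgroup G (Γ : Set α)) (f i)).ncard := by
  classical
  have : Fact p.Prime := ⟨hp⟩
  by_contra hne
  push Not at hne
  obtain ⟨Γ₁, hΓ₁, hc₁⟩ := Finset.exists_subset_card_eq (hΓ ▸ hpk : p ≤ Γ.card)
  set T := H ⊓ fixingSubgroup G (Γ : Set α) with hT
  set L := H ⊓ setStab G (Γ : Set α) ⊓ fixingSubgroup G ((Γ \ Γ₁ : Finset α) : Set α) with hL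
  have hTL : T ≤ L := fun g hg => ⟨⟨hg.1, fixing_le_setStab _ hg.2⟩,
    mem_fixing.2 fun y hy => mem_fixing.1 hg.2 y (Finset.mem_sdiff.1 hy).1⟩
  obtain ⟨P, hP, -⟩ := exists_sylIn (p := p) (R := ⊥) (H := L) bot_le IsPGroup.of_bot
  have hpres : ∀ i, Pres L (orbit T (f i)) := by
    intro i g hg b hb
    have hb' : b ∉ Γ := by
      obtain ⟨u, hu, rfl⟩ := mem_orb.1 hb
      exact fun hh => hf i ((fixing_le_setStab _ hu.2 _).1 hh)
    obtain ⟨u, hu, hub⟩ := hS g hg.1 b hb'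
    rw [← hub]
    exact pres_orbit T _ u hu b hb
  have hδ : ∀ i, ∃ a ∈ orbit T (f i), ∀ g ∈ P, g • a = a := fun i =>
    exists_fixed_of_not_dvd hP.2.1 (Set.toFinite _) ((hpres i).mono hP.1) (hne i)
  choose δ hδ₁ hδ₂ using hδ
  have hδΓ : ∀ i, δ i ∉ Γ := by
    intro i
    obtain ⟨u, hu, h⟩ := mem_orb.1 (hδ₁ i)
    rw [← h]
    exact fun hh => hf i ((fixing_le_setStab _ hu.2 _).1 hh)
  have hδinj : Function.Injective δ := by
    intro i j hij
    by_contra hne'
    apply hdist i j hne'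
    have h1 := orbit_eq_iff.2 (hδ₁ i)
    have h2 := orbit_eq_iff.2 (hδ₁ j)
    rw [← h1, hij, h2]
    exact mem_orbit_self _
  let Γ' : Finset α := (Γ \ Γ₁) ∪ Finset.univ.image δ
  have hΓ' : Γ'.card = k := by
    rw [Finset.card_union_of_disjoint, Finset.card_sdiff_of_subset hΓ₁,
      Finset.card_image_of_injective _ hδinj, Finset.card_univ, Fintype.card_fin]
    · omega
    · rw [Finset.disjoint_right]
      intro x hx hx'
      obtain ⟨i, -, rfl⟩ := Finset.mem_image.1 hx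
      exact hδΓ i (Finset.mem_sdiff.1 hx').1
  have hPT : SylIn p (P ⊓ T) T := hP.inf_normal hTL
    (le_trans (fun g hg => hg.1) (setStab_le_normalizer H _))
  have hPle : P ≤ H ⊓ fixingSubgroup G (Γ' : Set α) := by
    intro g hg
    refine ⟨(hP.1 hg).1.1, mem_fixing.2 fun y hy => ?_⟩
    rcases Finset.mem_union.1 hy with hy | hy
    · exact mem_fixing.1 (hP.1 hg).2 y hy
    · obtain ⟨i, -, rfl⟩ := Finset.mem_image.1 hy
      exact hδ₂ i g hg
  obtain ⟨w, hw, hwΓ⟩ := hH.exists_image (s := Γ') (t := Γ) (Set.subset_univ _)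
    (Set.subset_univ _) hΓ'.le (hΓ'.trans hΓ.symm)
  have h1 : Nat.card P ≤ Nat.card ↥(P ⊓ T) := by
    rw [← card_cj w P]
    refine hPT.card_le ?_ (isPGroup_cj hP.2.1 w)
    rw [hT, ← hwΓ, ← cj_fixing hw]
    exact cj_mono hPle
  have h2 : P ⊓ T = P := eq_of_le_of_card_ge inf_le_left h1
  obtain ⟨γ, hγ⟩ : Γ₁.Nonempty := Finset.card_pos.1 (hc₁ ▸ hp.pos)
  have h3 := not_dvd_orbit_of_sylIn hP (a := γ)
    (fun g hg => mem_fixing.1 (h2.ge hg).2.2 γ (hΓ₁ hγ))
  apply h3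
  have : orbit L γ = (Γ₁ : Set α) := by
    ext x
    constructor
    · intro hx
      obtain ⟨u, hu, rfl⟩ := mem_orb.1 hx
      by_contra hh
      have h4 : u • γ ∈ Γ \ Γ₁ := Finset.mem_sdiff.2 ⟨(hu.1.2 γ).2 (hΓ₁ hγ), hh⟩
      have h5 : u • γ = γ := MulAction.injective u (mem_fixing.1 hu.2 _ h4)
      rw [h5] at hh
      exact hh hγ
    · intro hx
      have hsw : ∀ y ∈ Γ, Equiv.swap γ x y ∈ Γ := by
        intro y hy
        rw [Equiv.swap_apply_def]
        split_ifs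
        · exact hΓ₁ hx
        · exact hΓ₁ hγ
        · exact hy
      obtain ⟨g, hg, hgf⟩ := hH Γ (Equiv.swap γ x) (Set.subset_univ _) hΓ.le
        (Equiv.injective _).injOn (Set.mapsTo_univ _ _)
      refine mem_orb.2 ⟨g, ⟨⟨hg, mem_setStab_of_mapsTo Γ.finite_toSet fun y hy => ?_⟩,
        mem_fixing.2 fun y hy => ?_⟩, ?_⟩
      · rw [hgf y hy]; exact hsw y hy
      · have := Finset.mem_sdiff.1 hy
        rw [hgf y this.1, Equiv.swap_apply_of_ne_of_ne]
        · rintro rfl; exact this.2 hγ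
        · rintro rfl; exact this.2 hx
      · rw [hgf γ (hΓ₁ hγ), Equiv.swap_apply_left]
  rw [this, Set.ncard_coe_finset, hc₁]

theorem generous_aux [Fintype α] [DecidableEq α] (G : Subgroup (Equiv.Perm α)) {k : ℕ}
    (hk : k < Fintype.card α)
    (hgen : ∀ s : Finset α, s.card = k + 1 → ∀ σ : Equiv.Perm ↥s, ∃ g ∈ G,
      ∀ x : ↥s, g (x : α) = σ x) :
    MT (⊤ : Subgroup G) (Set.univ : Set α) k ∧ ∀ s : Finset α, s.card = k → ∀ a ∉ s,
      ∀ g ∈ G, (∀ x, g x ∈ s ↔ x ∈ s) → ∃ u ∈ G, (∀ x ∈ s, u x = x) ∧ u a = g a := by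
  have hgen' : ∀ s : Finset α, s.card = k + 1 → ∀ τ : Equiv.Perm α, (∀ x ∈ s, τ x ∈ s) →
      ∃ g ∈ G, ∀ x ∈ s, g x = τ x := by
    intro s hs τ hτ
    have := mem_setStab_of_mapsTo (G := Equiv.Perm α) s.finite_toSet (g := τ) hτ
    obtain ⟨g, hg, hgs⟩ := hgen s hs (τ.subtypePerm (p := fun x => x ∈ s) this)
    exact ⟨g, hg, fun x hx => hgs ⟨x, hx⟩⟩
  constructor
  · rcases k with _ | k
    · exact MT.zero _ _
    refine MT_of_fixing_trans Set.finite_univ (Pres.univ _)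
      (by rw [Set.ncard_univ, Nat.card_eq_fintype_card]; omega) fun s _ hc a _ b _ has hbs => ?_
    by_cases hab : a = b
    · exact ⟨1, trivial, by simp, by simp [hab]⟩
    obtain ⟨g, hg, hgs⟩ := hgen' (insert a (insert b s))
      (by rw [Finset.card_insert_of_notMem (by simp [hab, has]),
        Finset.card_insert_of_notMem hbs, hc]) (Equiv.swap a b) (by
        intro y hy
        rw [Equiv.swap_apply_def]
        split_ifs
        · simp
        · simp
        · exact hy)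
    refine ⟨⟨g, hg⟩, trivial, fun x hx => ?_, ?_⟩
    · show g x = x
      rw [hgs x (by simp [hx]), Equiv.swap_apply_of_ne_of_ne]
      · rintro rfl; exact has hx
      · rintro rfl; exact hbs hx
    · show g a = b
      rw [hgs a (by simp), Equiv.swap_apply_left]
  · intro s hs a ha g hg hgs
    have hb : g a ∉ s := fun hh => ha ((hgs a).1 hh)
    have hinv : ∀ x ∈ s, Equiv.swap a (g a) (g⁻¹ x) = g⁻¹ x ∧ g⁻¹ x ∈ s := by
      intro x hx
      have h1 : g⁻¹ x ∈ s := by rw [← hgs]; simpa using hx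
      refine ⟨Equiv.swap_apply_of_ne_of_ne ?_ ?_, h1⟩
      · intro hh; exact ha (hh ▸ h1)
      · intro hh; exact hb (hh ▸ h1)
    obtain ⟨u, hu, hus⟩ := hgen' (insert (g a) s) (by rw [Finset.card_insert_of_notMem hb, hs])
      (Equiv.swap a (g a) * g⁻¹) (by
        intro x hx
        rcases Finset.mem_insert.1 hx with rfl | hx
        · simp
        · rw [Equiv.Perm.mul_apply, (hinv x hx).1]
          exact Finset.mem_insert_of_mem (hinv x hx).2)
    refine ⟨u * g, G.mul_mem hu hg, fun x hx => ?_, ?_⟩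
    · have h1 := (hgs x).2 hx
      rw [Equiv.Perm.mul_apply, hus _ (Finset.mem_insert_of_mem h1), Equiv.Perm.mul_apply,
        (hinv _ h1).1]
      simp
    · rw [Equiv.Perm.mul_apply, hus _ (Finset.mem_insert_self _ _)]
      simp

end H14
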