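import Mathlib
import Cfsg.Agent.H14.Gener

/-! Homogeneous permutation groups: basic facts. -/

set_option autoImplicit false
set_option linter.unusedSectionVars false

namespace H14

open MulAction Subgroup H22
open scoped Pointwise

variable {G : Type*} [Group G] {α : Type*} [MulAction G α] [DecidableEq α]

variable (G α) in
/-- `G` is transitive on `k`-subsets. -/
def Hom (k : ℕ) : Prop :=
  ∀ s t : Finset α, s.card = k → t.card = k → ∃ g : G, g • s = t

theorem hom_iff {k : ℕ} : Hom G α k ↔ IsPretransitive G (Set.powersetCard α k) := by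
  constructor
  · intro h
    refine ⟨fun s t => ?_⟩
    obtain ⟨g, hg⟩ := h s.1 t.1 s.2 t.2
    exact ⟨g, Subtype.ext hg⟩
  · intro h s t hs ht
    obtain ⟨g, hg⟩ := exists_smul_eq G (⟨s, hs⟩ : Set.powersetCard α k) ⟨t, ht⟩
    exact ⟨g, congrArg Subtype.val hg⟩

theorem not_dvd_choose {p : ℕ} (hp : p.Prime) (a k : ℕ) :
    ¬ p ∣ (p ^ a * k + (p ^ a - 1)).choose (p ^ a - 1) := by
  have : Fact p.Prime := ⟨hp⟩
  induction a with
  | zero => simpa using hp.one_lt.ne'
  | succ a ih =>
    have hp1 := hp.one_lt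
    have hpos : 0 < p ^ a := pow_pos hp.pos a
    have e1 : p ^ (a + 1) - 1 = (p - 1) + p * (p ^ a - 1) := by
      obtain ⟨q, hq⟩ : ∃ q, p ^ a = q + 1 := ⟨p ^ a - 1, by omega⟩
      obtain ⟨r, hr⟩ : ∃ r, p = r + 1 := ⟨p - 1, by omega⟩
      rw [pow_succ, hq]
      rw [hr]
      simp only [Nat.add_sub_cancel]
      apply Nat.sub_eq_of_eq_add
      ring
    have e2 : p ^ (a + 1) * k + (p ^ (a + 1) - 1) = (p - 1) + p * (p ^ a * k + (p ^ a - 1)) := by
      rw [e1]; ring
    have h := Choose.choose_modEq_choose_mod_mul_choose_div_nat (p := p)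
      (n := p ^ (a + 1) * k + (p ^ (a + 1) - 1)) (k := p ^ (a + 1) - 1)
    rw [e2] at h ⊢
    rw [e1] at h ⊢
    have hlt : p - 1 < p := by omega
    rw [Nat.add_mul_mod_self_left, Nat.add_mul_mod_self_left, Nat.add_mul_div_left _ _ hp.pos,
      Nat.add_mul_div_left _ _ hp.pos, Nat.mod_eq_of_lt hlt, Nat.div_eq_of_lt hlt,
      Nat.choose_self, one_mul, zero_add, zero_add] at h
    intro hd
    exact ih ((h.dvd_iff (dvd_refl p)).1 hd)

theorem Hom.pred [Fintype α] {k : ℕ} (hG : Hom G α (k + 1)) (hkn : k + 1 ≤ Fintype.card α)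
    (hq : ∀ q : ℕ, IsPrimePow q → q ∣ k + 1 → k + q ≤ Fintype.card α) : Hom G α k := by
  classical
  intro s₀ t₀ hs₀ ht₀
  let O : Finset α → Prop := fun s => ∃ g : G, g • s₀ = s
  have hO : ∀ (g : G) (s : Finset α), O (g • s) ↔ O s := by
    intro g s
    constructor
    · rintro ⟨u, hu⟩; exact ⟨g⁻¹ * u, by rw [mul_smul, hu, inv_smul_smul]⟩
    · rintro ⟨u, hu⟩; exact ⟨g * u, by rw [mul_smul, hu]⟩
  let m : Finset α → ℕ := fun S => ((S.powersetCard k).filter O).card
  have hm : ∀ (g : G) (S : Finset α), m (g • S) = m S := by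
    intro g S
    symm
    refine Finset.card_bij (fun s _ => g • s) ?_ ?_ ?_
    · intro s hs
      simp only [Finset.mem_filter, Finset.mem_powersetCard] at hs ⊢
      exact ⟨⟨Finset.smul_finset_subset_smul_finset hs.1.1, by
        rw [Finset.card_smul_finset, hs.1.2]⟩, (hO g s).2 hs.2⟩
    · intro s _ t _ h
      exact MulAction.injective g h
    · intro s hs
      simp only [Finset.mem_filter, Finset.mem_powersetCard] at hs
      refine ⟨g⁻¹ • s, ?_, smul_inv_smul g s⟩
      simp only [Finset.mem_filter, Finset.mem_powersetCard]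
      refine ⟨⟨?_, by rw [Finset.card_smul_finset, hs.1.2]⟩, (hO _ s).2 hs.2⟩
      have := Finset.smul_finset_subset_smul_finset (a := g⁻¹) hs.1.1
      rwa [inv_smul_smul] at this
  have hext : ∀ s : Finset α, s.card = k → ∃ S : Finset α, s ⊆ S ∧ S.card = k + 1 := by
    intro s hs
    obtain ⟨S, h1, -, h2⟩ := Finset.exists_subsuperset_card_eq (Finset.subset_univ s)
      (by omega : s.card ≤ k + 1) (by rwa [Finset.card_univ])
    exact ⟨S, h1, h2⟩
  obtain ⟨S₀, hS₀, hS₀c⟩ := hext s₀ hs₀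
  have hconst : ∀ S : Finset α, S.card = k + 1 → m S = m S₀ := by
    intro S hS
    obtain ⟨g, rfl⟩ := hG S₀ S hS₀c hS
    exact hm g S₀
  have hdvd : k + 1 ∣ m S₀ := by
    rw [Nat.dvd_iff_prime_pow_dvd_dvd]
    intro p a hp hpa
    rcases Nat.eq_zero_or_pos a with rfl | ha
    · simp
    obtain ⟨T, -, hT⟩ := Finset.exists_subset_card_eq (s := (Finset.univ : Finset α))
      (n := k + p ^ a) (by rw [Finset.card_univ]; exact hq _ ⟨p, a, hp.prime, ha, rfl⟩ hpa)
    have hcount := Finset.sum_card_bipartiteAbove_eq_sum_card_bipartiteBelow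
      (s := (T.powersetCard k).filter O) (t := T.powersetCard (k + 1)) (fun s S => s ⊆ S)
    rw [Finset.sum_congr rfl (g := fun _ => p ^ a), Finset.sum_congr rfl
      (s₁ := T.powersetCard (k + 1)) (g := fun _ => m S₀)] at hcount
    · simp only [Finset.sum_const, smul_eq_mul, Finset.card_powersetCard, hT] at hcount
      obtain ⟨c, hc⟩ := hpa
      have hpos : 0 < p ^ a := pow_pos hp.pos a
      have e1 : (k + p ^ a).choose (k + 1) = (p ^ a * c + (p ^ a - 1)).choose (p ^ a - 1) := by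
        rw [← hc, show k + p ^ a = k + 1 + (p ^ a - 1) by omega, Nat.choose_symm_add]
      have hcop : Nat.Coprime (p ^ a) ((k + p ^ a).choose (k + 1)) := by
        rw [e1]
        exact Nat.Coprime.pow_left _ ((Nat.Prime.coprime_iff_not_dvd hp).2 (not_dvd_choose hp a c))
      exact hcop.dvd_of_dvd_mul_left ⟨_, by rw [← hcount, mul_comm]⟩
    · intro S hS
      rw [Finset.mem_powersetCard] at hS
      rw [← hconst S hS.2]
      congr 1
      ext s
      simp only [Finset.bipartiteBelow, Finset.mem_filter, Finset.mem_powersetCard]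
      exact ⟨fun h => ⟨⟨h.2, h.1.1.2⟩, h.1.2⟩, fun h => ⟨⟨⟨h.1.1.trans hS.1, h.1.2⟩, h.2⟩, h.1.1⟩⟩
    · intro s hs
      simp only [Finset.mem_filter, Finset.mem_powersetCard] at hs
      have : (T \ s).card = p ^ a := by
        rw [Finset.card_sdiff_of_subset hs.1.1, hT, hs.1.2]; omega
      rw [← this]
      symm
      refine Finset.card_bij (fun x _ => insert x s) ?_ ?_ ?_
      · intro x hx
        have := Finset.mem_sdiff.1 hx
        simp only [Finset.bipartiteAbove, Finset.mem_filter, Finset.mem_powersetCard]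
        exact ⟨⟨Finset.insert_subset this.1 hs.1.1, by
          rw [Finset.card_insert_of_notMem this.2, hs.1.2]⟩, Finset.subset_insert _ _⟩
      · intro x hx y hy h
        have h1 : x ∈ insert y s := h ▸ Finset.mem_insert_self x s
        exact (Finset.mem_insert.1 h1).resolve_right (Finset.mem_sdiff.1 hx).2
      · intro S hS
        simp only [Finset.bipartiteAbove, Finset.mem_filter, Finset.mem_powersetCard] at hS
        obtain ⟨x, hx, rfl⟩ := Finset.exists_eq_insert_iff.2 ⟨hS.2, by rw [hS.1.2, hs.1.2]⟩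
        exact ⟨x, Finset.mem_sdiff.2 ⟨hS.1.1 (Finset.mem_insert_self _ _), hx⟩, rfl⟩
  have hpos : 0 < m S₀ := Finset.card_pos.2
    ⟨s₀, Finset.mem_filter.2 ⟨Finset.mem_powersetCard.2 ⟨hS₀, hs₀⟩, 1, one_smul _ _⟩⟩
  obtain ⟨T₀, hT₀, hT₀c⟩ := hext t₀ ht₀
  have hle : (T₀.powersetCard k).card ≤ m T₀ := by
    rw [hconst T₀ hT₀c, Finset.card_powersetCard, hT₀c, Nat.choose_succ_self_right]
    exact Nat.le_of_dvd hpos hdvd
  have := Finset.eq_of_subset_of_card_le (Finset.filter_subset O _) hle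
  have h2 : t₀ ∈ (T₀.powersetCard k).filter O := by
    rw [this]; exact Finset.mem_powersetCard.2 ⟨hT₀, ht₀⟩
  exact (Finset.mem_filter.1 h2).2

theorem Hom.pair (h : Hom G α 2) {a b c d : α} (hab : a ≠ b) (hcd : c ≠ d) :
    ∃ g : G, (g • a = c ∧ g • b = d) ∨ (g • a = d ∧ g • b = c) := by
  obtain ⟨g, hg⟩ := h {a, b} {c, d} (Finset.card_pair hab) (Finset.card_pair hcd)
  refine ⟨g, ?_⟩
  have ha : g • a ∈ ({c, d} : Finset α) := hg ▸ Finset.smul_mem_smul_finset (by simp)
  have hb : g • b ∈ ({c, d} : Finset α) := hg ▸ Finset.smul_mem_smul_finset (by simp)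
  have hne : g • a ≠ g • b := fun hh => hab (MulAction.injective g hh)
  simp only [Finset.mem_insert, Finset.mem_singleton] at ha hb
  rcases ha with ha | ha <;> rcases hb with hb | hb
  · exact absurd (ha.trans hb.symm) hne
  · exact Or.inl ⟨ha, hb⟩
  · exact Or.inr ⟨ha, hb⟩
  · exact absurd (ha.trans hb.symm) hne

theorem Hom.two_trans_of_swap (h : Hom G α 2) {t : G} {x : α} (hx : t • x ≠ x)
    (ht : t • t • x = x) : IsMultiplyPretransitive G α 2 := by
  rw [is_two_pretransitive_iff]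
  have key : ∀ {c d : α}, c ≠ d → ∃ g : G, g • x = c ∧ g • t • x = d := by
    intro c d hcd
    obtain ⟨g, hg | hg⟩ := h.pair hx.symm hcd
    · exact ⟨g, hg⟩
    · exact ⟨g * t, by rw [mul_smul, hg.2], by rw [mul_smul, ht, hg.1]⟩
  intro a b c d hab hcd
  obtain ⟨g, h1, h2⟩ := key hab
  obtain ⟨u, h3, h4⟩ := key hcd
  exact ⟨u * g⁻¹, by rw [mul_smul, ← h1, inv_smul_smul, h3],
    by rw [mul_smul, ← h2, inv_smul_smul, h4]⟩

theorem Hom.isPreprimitive (h : Hom G α 2) {t : G} {x : α} (hx : t • x ≠ x) :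
    IsPreprimitive G α := by
  refine IsPreprimitive.mk' (fun hh => hx ((hh.ge (Set.mem_univ x)) t)) fun {B} hB => ?_
  rcases B.subsingleton_or_nontrivial with h1 | ⟨a, ha, b, hb, hab⟩
  · exact Or.inl h1
  right
  rw [Set.eq_univ_iff_forall]
  intro z
  by_cases hz : a = z
  · exact hz ▸ ha
  obtain ⟨g, hg | hg⟩ := h.pair hab hz
  · have := isBlock_iff_smul_eq_of_mem.1 hB (g := g) ha (by rw [hg.1]; exact ha)
    rw [← this, ← hg.2]; exact Set.smul_mem_smul_set hb
  · have := isBlock_iff_smul_eq_of_mem.1 hB (g := g) hb (by rw [hg.2]; exact ha)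
    rw [← this, ← hg.1]; exact Set.smul_mem_smul_set ha

theorem exists_smul_ne [FaithfulSMul G α] {g : G} (hg : g ≠ 1) : ∃ x : α, g • x ≠ x := by
  by_contra h
  push Not at h
  exact hg (eq_of_smul_eq_smul (α := α) fun x => by rw [h, one_smul])

end H14
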