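import Mathlib
import Cfsg.Prelude.Def_Perm
import Cfsg.Agent.H14.Homog

/-! Permutation modules. -/

set_option autoImplicit false
set_option linter.unusedSectionVars false

namespace H14

open MulAction Subgroup H22 Cfsg

section Basic

variable {K : Type*} [Field K] {G : Type*} [Group G] {Ω : Type*} [MulAction G Ω]

theorem permRep_apply (g : G) (f : Ω → K) (x : Ω) : permRep K G Ω g f x = f (g⁻¹ • x) := rfl

theorem mem_permConstants {f : Ω → K} :
    f ∈ (permConstants K G Ω).toSubmodule ↔ ∃ c : K, ∀ x, f x = c := by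
  show f ∈ Submodule.span K {fun _ => 1} ↔ _
  rw [Submodule.mem_span_singleton]
  constructor
  · rintro ⟨c, rfl⟩; exact ⟨c, fun x => by simp⟩
  · rintro ⟨c, hc⟩; exact ⟨c, funext fun x => by simp [hc]⟩

theorem mem_permSumZero [Fintype Ω] {f : Ω → K} :
    f ∈ (permSumZero K G Ω).toSubmodule ↔ ∑ x, f x = 0 := Iff.rfl

theorem permRep_single [DecidableEq Ω] (g : G) (a : Ω) (c : K) :
    permRep K G Ω g (Pi.single a c) = Pi.single (g • a) c := by
  funext x
  rw [permRep_apply, Pi.single_apply, Pi.single_apply]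
  simp only [inv_smul_eq_iff]

theorem sum_permRep [Fintype Ω] (g : G) (f : Ω → K) : ∑ x, permRep K G Ω g f x = ∑ x, f x :=
  Fintype.sum_equiv (MulAction.toPerm g⁻¹) _ _ (fun _ => rfl)

/-- The orthogonal complement for the standard bilinear form. -/
def perp [Fintype Ω] (W : Submodule K (Ω → K)) : Submodule K (Ω → K) where
  carrier := {f | ∀ w ∈ W, ∑ x, f x * w x = 0}
  zero_mem' := by simp
  add_mem' := fun {f g} hf hg w hw => by
    simp only [Pi.add_apply, add_mul, Finset.sum_add_distrib, hf w hw, hg w hw, add_zero]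
  smul_mem' := fun c f hf w hw => by
    simp only [Pi.smul_apply, smul_eq_mul, mul_assoc, ← Finset.mul_sum, hf w hw, mul_zero]

theorem mem_perp [Fintype Ω] {W : Submodule K (Ω → K)} {f : Ω → K} :
    f ∈ perp W ↔ ∀ w ∈ W, ∑ x, f x * w x = 0 := Iff.rfl

theorem finrank_perp [Fintype Ω] (W : Submodule K (Ω → K)) :
    Module.finrank K W + Module.finrank K (perp W) = Fintype.card Ω := by
  classical
  have h1 := Subspace.finrank_add_finrank_dualAnnihilator_eq W
  have h2 : perp W = W.dualAnnihilator.comap (dotProductEquiv K Ω : (Ω → K) →ₗ[K] _) := by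
    ext f
    simp only [mem_perp, Submodule.mem_comap, Submodule.mem_dualAnnihilator]
    rfl
  rw [h2, Submodule.comap_equiv_eq_map_symm, LinearEquiv.finrank_map_eq, h1,
    Module.finrank_fintype_fun_eq_card]

theorem perp_invariant [Fintype Ω] {W : Submodule K (Ω → K)} {σ : Equiv.Perm Ω}
    (h : ∀ w ∈ W, (fun x => w (σ⁻¹ x)) ∈ W) : ∀ f ∈ perp W, (fun x => f (σ x)) ∈ perp W := by
  intro f hf w hw
  rw [← hf _ (h w hw)]
  exact Fintype.sum_equiv σ _ _ (fun x => by simp)

/-- The orthogonal complement of a subrepresentation. -/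
noncomputable def perpRep [Fintype Ω] (W : Subrepresentation (permRep K G Ω)) :
    Subrepresentation (permRep K G Ω) where
  toSubmodule := perp W.toSubmodule
  apply_mem_toSubmodule g v hv :=
    perp_invariant (σ := MulAction.toPerm g⁻¹) (fun w hw => by
      have := W.apply_mem_toSubmodule g⁻¹ hw
      convert this using 1
      funext x
      rw [permRep_apply, inv_inv, ← MulAction.toPermHom_apply, ← map_inv, inv_inv]
      rfl) v hv

theorem sumZero_le_of_single [Fintype Ω] [DecidableEq Ω] {W : Submodule K (Ω → K)} (a : Ω)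
    (h : ∀ i, (Pi.single i 1 - Pi.single a 1 : Ω → K) ∈ W) {f : Ω → K} (hf : ∑ x, f x = 0) :
    f ∈ W := by
  have : f = ∑ i, f i • (Pi.single i 1 - Pi.single a 1 : Ω → K) := by
    simp only [smul_sub, Finset.sum_sub_distrib, ← Finset.sum_smul, hf, zero_smul, sub_zero]
    exact (pi_eq_sum_univ' f)
  rw [this]
  exact W.sum_mem fun i _ => W.smul_mem _ (h i)

theorem eq_top_of_sumZero_le [Fintype Ω] {W : Submodule K (Ω → K)}
    (h : ∀ f : Ω → K, ∑ x, f x = 0 → f ∈ W) {v : Ω → K} (hv : v ∈ W) (hs : ∑ x, v x ≠ 0) :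
    W = ⊤ := by
  rw [eq_top_iff]
  intro f _
  have := W.add_mem (h (f - ((∑ x, f x) / ∑ x, v x) • v) (by
    simp only [Pi.sub_apply, Pi.smul_apply, smul_eq_mul, Finset.sum_sub_distrib, ← Finset.mul_sum]
    field_simp
    simp)) (W.smul_mem ((∑ x, f x) / ∑ x, v x) hv)
  simpa using this

/-- The linear map given by a kernel function. -/
def kerMap {Ω' : Type*} [Fintype Ω] (c : Ω' → Ω → K) : (Ω → K) →ₗ[K] (Ω' → K) where
  toFun f y := ∑ x, c y x * f x
  map_add' f g := by funext y; simp [mul_add, Finset.sum_add_distrib]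
  map_smul' a f := by funext y; simp [Finset.mul_sum, mul_left_comm]

theorem kerMap_apply {Ω' : Type*} [Fintype Ω] (c : Ω' → Ω → K) (f : Ω → K) (y : Ω') :
    kerMap c f y = ∑ x, c y x * f x := rfl

theorem kerMap_single {Ω' : Type*} [Fintype Ω] [DecidableEq Ω] (c : Ω' → Ω → K) (a : Ω)
    (y : Ω') : kerMap c (Pi.single a 1) y = c y a := by
  simp [kerMap_apply, Pi.single_apply]

theorem kerMap_equivariant {Ω' : Type*} [MulAction G Ω'] [Fintype Ω] {c : Ω' → Ω → K}
    (hc : ∀ (g : G) y x, c (g • y) (g • x) = c y x) (g : G) (f : Ω → K) :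
    kerMap c (permRep K G Ω g f) = permRep K G Ω' g (kerMap c f) := by
  funext y
  rw [permRep_apply, kerMap_apply, kerMap_apply]
  refine Fintype.sum_equiv (MulAction.toPerm g⁻¹) _ _ (fun x => ?_)
  rw [permRep_apply, MulAction.toPerm_apply, hc]

theorem finrank_intertwiners {Ω₁ Ω₂ : Type*} [Fintype Ω₁] [Fintype Ω₂] [MulAction G Ω₁]
    [MulAction G Ω₂] : Module.finrank K ((permRep K G Ω₁).linHom (permRep K G Ω₂)).invariants =
      Nat.card (orbitRel.Quotient G (Ω₁ × Ω₂)) := by
  classical
  let Φ : (orbitRel.Quotient G (Ω₁ × Ω₂) → K) →ₗ[K] ((Ω₁ → K) →ₗ[K] (Ω₂ → K)) :=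
    { toFun := fun c => kerMap fun y x => c (Quotient.mk _ (x, y))
      map_add' := fun c d => by
        refine LinearMap.ext fun f => funext fun y => ?_
        simp [kerMap_apply, add_mul, Finset.sum_add_distrib]
      map_smul' := fun a c => by
        refine LinearMap.ext fun f => funext fun y => ?_
        simp [kerMap_apply, Finset.mul_sum, mul_assoc] }
  have hinj : Function.Injective Φ := by
    intro c d h
    funext q
    induction q using Quotient.inductionOn with | _ q => ?_
    have := congrArg (fun φ : (Ω₁ → K) →ₗ[K] (Ω₂ → K) => φ (Pi.single q.1 1) q.2) h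
    simpa only [Φ, LinearMap.coe_mk, AddHom.coe_mk, kerMap_single] using this
  have hrange : LinearMap.range Φ = ((permRep K G Ω₁).linHom (permRep K G Ω₂)).invariants := by
    ext φ
    rw [Representation.mem_invariants]
    refine Iff.trans ?_ ((Representation.mem_linHom_invariants_iff_isIntertwining φ).trans
      (Representation.isIntertwiningMap_iff _ _ _)).symm
    constructor
    · rintro ⟨c, rfl⟩ g v
      refine kerMap_equivariant (fun g y x => ?_) g v
      congr 1
      exact Quotient.sound ⟨g, rfl⟩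
    · intro h
      refine ⟨Quotient.lift (fun q => φ (Pi.single q.1 1) q.2) ?_, ?_⟩
      · rintro q r ⟨g, rfl⟩
        show φ (Pi.single (g • r.1) 1) (g • r.2) = _
        rw [← permRep_single, h, permRep_apply, inv_smul_smul]
      · refine LinearMap.pi_ext' fun a => LinearMap.ext_ring ?_
        funext y
        simp only [LinearMap.coe_comp, Function.comp_apply, LinearMap.coe_single]
        exact kerMap_single _ a y
  have := Fintype.ofFinite (orbitRel.Quotient G (Ω₁ × Ω₂))
  rw [← hrange, LinearMap.finrank_range_of_inj hinj, Module.finrank_fintype_fun_eq_card,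
    Nat.card_eq_fintype_card]

end Basic

theorem sylow_isPretransitive {G : Type*} [Group G] [Finite G] {Ω : Type*} [MulAction G Ω]
    [IsPretransitive G Ω] {p f : ℕ} [Fact p.Prime] (hc : Nat.card Ω = p ^ f) (P : Sylow p G) :
    IsPretransitive (P : Subgroup G) Ω := by
  have hp : p.Prime := Fact.out
  have hne : Nat.card Ω ≠ 0 := by rw [hc]; exact (pow_pos hp.pos f).ne'
  obtain ⟨⟨a⟩, hfin⟩ := Nat.card_ne_zero.1 hne
  rw [isPretransitive_iff_orbit_eq_univ a, Set.eq_univ_iff_ncard]
  refine le_antisymm (Set.ncard_le_card _) (Nat.le_of_dvd ((Set.ncard_pos).2 (nonempty_orbit a)) ?_)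
  rw [ncard_orbit_eq_relIndex]
  have h1 : (stabilizer G a).index ∣ (stabilizer G a ⊓ P).index := index_dvd_of_le inf_le_left
  rw [index_stabilizer_of_transitive, ← relIndex_mul_index (inf_le_right : _ ≤ (P : Subgroup G)),
    inf_relIndex_right] at h1
  refine Nat.Coprime.dvd_of_dvd_mul_right ?_ h1
  rw [hc]
  exact Nat.Coprime.pow_left _ ((Nat.Prime.coprime_iff_not_dvd hp).2 P.not_dvd_index)

/-- A finite `p`-group acting linearly in characteristic `p` fixes a non-zero vector of every
non-zero invariant subspace. -/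
theorem exists_fixed_vector {K : Type*} [Field K] {p : ℕ} [Fact p.Prime] [CharP K p]
    {G : Type*} [Group G] {V : Type*} [AddCommGroup V] [Module K V] (ρ : Representation K G V)
    (P : Subgroup G) [Finite P] (hP : IsPGroup p P) (W : Submodule K V)
    (hW : ∀ g ∈ P, ∀ v ∈ W, ρ g v ∈ W) (hne : W ≠ ⊥) :
    ∃ v ∈ W, v ≠ 0 ∧ ∀ g ∈ P, ρ g v = v := by
  obtain ⟨v, hv, hv0⟩ := Submodule.exists_mem_ne_zero_of_ne_bot hne
  let _ : Algebra (ZMod p) K := ZMod.algebra K p
  let _ : Module (ZMod p) V := Module.compHom V (algebraMap (ZMod p) K)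
  have hsm : ∀ (c : ZMod p) (x : V), c • x = algebraMap (ZMod p) K c • x := fun _ _ => rfl
  let _ : MulAction G V := MulAction.compHom V (ρ : G →* Module.End K V)
  have hact : ∀ (g : G) (x : V), g • x = ρ g x := fun _ _ => rfl
  let S : Submodule (ZMod p) V := Submodule.span (ZMod p) (Set.range fun g : P => ρ g v)
  have hfin : Module.Finite (ZMod p) S := Module.Finite.span_of_finite _ (Set.finite_range _)
  have hfin' : Finite S := Module.finite_of_finite (ZMod p)
  have hSW : ∀ x ∈ S, x ∈ W := by
    intro x hx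
    induction hx using Submodule.span_induction with
    | mem x hx => obtain ⟨g, rfl⟩ := hx; exact hW g g.2 v hv
    | zero => exact W.zero_mem
    | add x y _ _ hx hy => exact W.add_mem hx hy
    | smul c x _ hx => rw [hsm]; exact W.smul_mem _ hx
  have hpres : Pres P (S : Set V) := by
    intro g hg x hx
    rw [hact]
    induction hx using Submodule.span_induction with
    | mem x hx =>
      obtain ⟨u, rfl⟩ := hx
      exact Submodule.subset_span ⟨⟨g, hg⟩ * u, by simp⟩
    | zero => rw [map_zero]; exact S.zero_mem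
    | add x y _ _ hx hy => rw [map_add]; exact S.add_mem hx hy
    | smul c x _ hx => rw [hsm, map_smul, ← hsm]; exact S.smul_mem _ hx
  have hvS : v ∈ S := Submodule.subset_span ⟨1, by simp⟩
  have hpres' : Pres P ((S : Set V) \ {0}) := by
    rintro g hg x ⟨hx, hx0⟩
    refine ⟨hpres g hg x hx, fun h => hx0 ?_⟩
    have h' : g • x = g • (0 : V) := by rw [hact g 0, map_zero]; exact h
    exact MulAction.injective g h'
  have hSfin : (S : Set V).Finite := hfin'
  obtain ⟨w, ⟨hw, hw0⟩, hfix⟩ := exists_fixed_of_not_dvd hP hSfin.sdiff hpres' (by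
    rw [Set.ncard_sdiff_singleton_of_mem S.zero_mem, ← Nat.card_coe_set_eq]
    have h1 : Nat.card (S : Set V) = p ^ Module.finrank (ZMod p) S := by
      have := Module.natCard_eq_pow_finrank (K := ZMod p) (V := S)
      rwa [Nat.card_zmod] at this
    have h2 : Module.finrank (ZMod p) S ≠ 0 := by
      rw [Ne, Submodule.finrank_eq_zero]
      intro h; rw [h] at hvS; exact hv0 hvS
    rw [h1]
    intro hd
    have h3 : p ∣ p ^ Module.finrank (ZMod p) S := dvd_pow_self p h2
    have h4 := Nat.dvd_sub h3 hd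
    rw [Nat.sub_sub_self (Nat.one_le_pow _ _ (Fact.out : p.Prime).pos)] at h4
    exact (Fact.out : p.Prime).one_lt.ne' (Nat.dvd_one.1 h4))
  exact ⟨w, hSW w hw, hw0, hfix⟩

section PrimePower

variable {G : Type*} [Group G] [Finite G] {K : Type*} [Field K] {p f : ℕ} [Fact p.Prime]
  [CharP K p] {Ω : Type*} [Fintype Ω] [MulAction G Ω] [IsPretransitive G Ω]

theorem constants_le (hcard : Fintype.card Ω = p ^ f) (W : Subrepresentation (permRep K G Ω))
    (hW : W.toSubmodule ≠ ⊥) : (permConstants K G Ω).toSubmodule ≤ W.toSubmodule := by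
  obtain ⟨P⟩ : Nonempty (Sylow p G) := inferInstance
  have := sylow_isPretransitive (Nat.card_eq_fintype_card.trans hcard) P
  obtain ⟨v, hv, hv0, hfix⟩ := exists_fixed_vector (permRep K G Ω) P P.isPGroup' W.toSubmodule
    (fun g _ v hv => W.apply_mem_toSubmodule g hv) hW
  obtain ⟨a, ha⟩ := Function.ne_iff.1 hv0
  have hc : ∀ x, v x = v a := by
    intro x
    obtain ⟨g, rfl⟩ := exists_smul_eq (P : Subgroup G) a x
    conv_lhs => rw [← hfix g g.2, permRep_apply]
    exact congrArg v (inv_smul_smul (g : G) a)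
  intro u hu
  obtain ⟨c, hc'⟩ := mem_permConstants.1 hu
  have : u = (c / v a) • v := by
    funext x
    have ha' : v a ≠ 0 := ha
    simp only [hc', Pi.smul_apply, hc x, smul_eq_mul]
    field_simp
  rw [this]
  exact W.toSubmodule.smul_mem _ hv

theorem le_sumZero (hcard : Fintype.card Ω = p ^ f) (W : Subrepresentation (permRep K G Ω))
    (hW : W.toSubmodule ≠ ⊤) : W.toSubmodule ≤ (permSumZero K G Ω).toSubmodule := by
  have h1 : (perpRep W).toSubmodule ≠ ⊥ := by
    intro h
    have := finrank_perp W.toSubmodule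
    rw [show perp W.toSubmodule = ⊥ from h, finrank_bot, add_zero,
      ← Module.finrank_fintype_fun_eq_card K] at this
    exact hW (Submodule.eq_top_of_finrank_eq this)
  intro w hw
  have := constants_le hcard _ h1 (mem_permConstants.2 ⟨1, fun _ => rfl⟩) w hw
  simpa [mem_permSumZero] using this

theorem two_trans_of_heart (hcard : Fintype.card Ω = p ^ f)
    (h : ∀ W W' : Subrepresentation (permRep K G Ω),
      (permConstants K G Ω).toSubmodule ≤ W.toSubmodule → W.toSubmodule < W'.toSubmodule →
      W'.toSubmodule ≤ (permSumZero K G Ω).toSubmodule →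
      ∃ g : G, ∃ v ∈ W'.toSubmodule, permRep K G Ω g v - v ∉ W.toSubmodule) :
    IsMultiplyPretransitive G Ω 2 := by
  classical
  by_contra h2
  obtain ⟨a, b, c, hab, hac, hbc⟩ : ∃ a b c : Ω, a ≠ b ∧ a ≠ c ∧
      ¬ ∃ g : G, g • a = a ∧ g • b = c := by
    by_contra hh
    push Not at hh
    apply h2
    rw [is_two_pretransitive_iff]
    intro a b c d hab hcd
    obtain ⟨g, rfl⟩ := exists_smul_eq G a c
    obtain ⟨u, h1, h2⟩ := hh (g • a) (g • b) d (fun h => hab (MulAction.injective g h)) hcd
    exact ⟨u * g, by rw [mul_smul, h1], by rw [mul_smul, h2]⟩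
  let O : Ω → Ω → Prop := fun x y => ∃ g : G, g • a = x ∧ g • b = y
  have hO : ∀ (g : G) x y, O (g • x) (g • y) ↔ O x y := by
    intro g x y
    constructor
    · rintro ⟨u, h1, h2⟩
      exact ⟨g⁻¹ * u, by rw [mul_smul, h1, inv_smul_smul], by rw [mul_smul, h2, inv_smul_smul]⟩
    · rintro ⟨u, rfl, rfl⟩
      exact ⟨g * u, mul_smul _ _ _, mul_smul _ _ _⟩
  let A : Ω → Ω → K := fun x y => if O x y then 1 else 0
  have hA : ∀ (g : G) x y, A (g • x) (g • y) = A x y := fun g x y => by simp only [A, hO]
  let C : Ω → Ω → K := fun x y => A x y - if y = x then ∑ z, A x z else 0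
  have hC : ∀ (g : G) x y, C (g • x) (g • y) = C x y := by
    intro g x y
    simp only [C, hA, smul_left_cancel_iff]
    rw [Fintype.sum_equiv (MulAction.toPerm g).symm (fun z => A (g • x) z) (fun z => A x z)
      (fun z => by rw [← hA g x]; simp)]
  let φ := kerMap C
  have hφ := kerMap_equivariant hC
  have hφ1 : φ (fun _ => 1) = 0 := by
    funext x
    simp [φ, kerMap_apply, C]
  have hz : (Pi.single b 1 - Pi.single c 1 : Ω → K) ∈ (permSumZero K G Ω).toSubmodule := by
    simp [mem_permSumZero]
  have hφz : φ (Pi.single b 1 - Pi.single c 1) ≠ 0 := by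
    intro h0
    have := congrFun h0 a
    rw [map_sub, Pi.sub_apply, kerMap_single, kerMap_single] at this
    have h1 : O a b := ⟨1, one_smul _ _, one_smul _ _⟩
    have h2 : ¬ O a c := hbc
    simp [C, A, h1, h2, hab.symm, hac.symm] at this
  let W : Subrepresentation (permRep K G Ω) :=
    ⟨(permSumZero K G Ω).toSubmodule.map φ, by
      rintro g _ ⟨v, hv, rfl⟩
      exact ⟨_, (permSumZero K G Ω).apply_mem_toSubmodule g hv, hφ g v⟩⟩
  let W' : Subrepresentation (permRep K G Ω) :=
    ⟨LinearMap.range φ, by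
      rintro g _ ⟨v, rfl⟩
      exact ⟨_, hφ g v⟩⟩
  let N : Subrepresentation (permRep K G Ω) :=
    ⟨LinearMap.ker φ, by
      intro g v hv
      rw [LinearMap.mem_ker] at hv ⊢
      rw [hφ g v, show kerMap C v = 0 from hv, map_zero]⟩
  have hN : LinearMap.ker φ ≤ (permSumZero K G Ω).toSubmodule := le_sumZero hcard N (by
    intro h
    apply hφz
    rw [← LinearMap.mem_ker, show LinearMap.ker φ = ⊤ from h]; trivial)
  have hW' : LinearMap.range φ ≠ ⊤ := by
    intro h
    have := LinearMap.ker_eq_bot.1 (LinearMap.ker_eq_bot_iff_range_eq_top.2 h)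
    have h1 := this (hφ1.trans (map_zero φ).symm)
    exact one_ne_zero (congrFun h1 a)
  obtain ⟨g, _, ⟨v, rfl⟩, hg⟩ := h W W' (constants_le hcard W (by
      intro h0
      apply hφz
      rw [← Submodule.mem_bot K, ← h0]
      exact ⟨_, hz, rfl⟩))
    (lt_of_le_of_ne LinearMap.map_le_range (by
      intro h0
      have : φ (Pi.single a 1) ∈ W.toSubmodule := by rw [h0]; exact ⟨_, rfl⟩
      obtain ⟨z, hz, hza⟩ := this
      have h1 := hN (x := Pi.single a 1 - z) (by rw [LinearMap.mem_ker, map_sub, hza, sub_self])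
      have h2 : ∑ x, z x = 0 := hz
      simp [mem_permSumZero, h2] at h1))
    (le_sumZero hcard W' hW')
  apply hg
  refine ⟨permRep K G Ω g v - v, ?_, by rw [map_sub, hφ]⟩
  simp [mem_permSumZero, sum_permRep]

end PrimePower

theorem three_trans_of_heart {G : Type*} [Group G] [Finite G] {K : Type*} [Field K]
    {Ω : Type*} [Fintype Ω] [DecidableEq Ω] [MulAction G Ω] [FaithfulSMul G Ω]
    (h2 : IsMultiplyPretransitive G Ω 2) (heven : ∀ a : Ω, Even (Nat.card (stabilizer G a)))
    (h : ∀ f : Representation.IntertwiningMap (permSumZero K G Ω).toRepresentation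
      (permRep K G (Set.powersetCard Ω 2)), (∀ v : (permSumZero K G Ω).toSubmodule,
        (v : Ω → K) ∈ (permConstants K G Ω).toSubmodule → f v = 0) → f = 0) :
    IsMultiplyPretransitive G Ω 3 := by
  classical
  have key : ∀ c : Set.powersetCard Ω 2 → Ω → K, (∀ (g : G) s x, c (g • s) (g • x) = c s x) →
      (∀ s, ∑ x, c s x = 0) → ∀ s x y, c s x = c s y := by
    intro c hc hsum s x y
    have := h ⟨(kerMap c).comp (permSumZero K G Ω).toSubmodule.subtype, fun g =>
      LinearMap.ext fun v => kerMap_equivariant hc g v⟩ (by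
        rintro ⟨v, hv⟩ hv'
        obtain ⟨d, hd⟩ := mem_permConstants.1 hv'
        funext s
        show ∑ x, c s x * v x = 0
        simp only at hd
        simp [hd, ← Finset.sum_mul, hsum])
    have hz : (Pi.single x 1 - Pi.single y 1 : Ω → K) ∈ (permSumZero K G Ω).toSubmodule := by
      simp [mem_permSumZero]
    have h1 : kerMap c (Pi.single x 1 - Pi.single y 1) s = 0 :=
      congrFun (congrArg (fun f : Representation.IntertwiningMap
        (permSumZero K G Ω).toRepresentation (permRep K G (Set.powersetCard Ω 2)) => f ⟨_, hz⟩)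
        this) s
    rwa [map_sub, Pi.sub_apply, kerMap_single, kerMap_single, sub_eq_zero] at h1
  have hmem : ∀ (g : G) (s : Set.powersetCard Ω 2) (x : Ω), g • x ∈ (g • s).1 ↔ x ∈ s.1 :=
    fun g s x => Finset.smul_mem_smul_finset_iff g
  rcases Nat.lt_or_ge (Fintype.card Ω) 3 with hn | hn
  · refine ⟨fun x => absurd (Fintype.card_le_of_embedding x) (by simpa using hn)⟩
  have hMT := MT_top_of_isMultiplyPretransitive (by rw [Nat.card_eq_fintype_card]; omega) h2
  obtain ⟨a⟩ : Nonempty Ω := Fintype.card_pos_iff.1 (by omega)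
  obtain ⟨t, ht⟩ := exists_prime_orderOf_dvd_card' (G := stabilizer G a) 2 (heven a).two_dvd
  obtain ⟨b, hb⟩ := exists_smul_ne (α := Ω) (g := (t : G)) (by
    intro h0
    rw [show t = 1 from Subtype.ext h0] at ht
    simp at ht)
  have htt : (t : G) • (t : G) • b = b := by
    rw [← mul_smul, ← pow_two, ← ht, ← Subgroup.coe_pow, pow_orderOf_eq_one]; simp
  have hta : (t : G) • a = a := t.2
  have hab : a ≠ b := by rintro rfl; exact hb hta
  have hac : a ≠ (t : G) • b := by
    intro h0; exact hab (MulAction.injective _ (hta.trans h0))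
  let s : Set.powersetCard Ω 2 := ⟨{b, (t : G) • b}, Finset.card_pair hb.symm⟩
  have has : a ∉ s.1 := by simp [s, hab, hac]
  have h20 : (2 : K) ≠ 0 := by
    intro h20
    have := key (fun s x => if x ∈ s.1 then 1 else 0) (fun g s x => by simp only [hmem])
      (fun s => by
        rw [Finset.sum_ite_mem, Finset.univ_inter, Finset.sum_const, s.2]
        simpa using h20) s a b
    simp [s, hab, hac] at this
  let O : Set.powersetCard Ω 2 → Ω → Prop := fun r x => ∃ g : G, g • s = r ∧ g • a = x
  have hO : ∀ (g : G) r x, O (g • r) (g • x) ↔ O r x := by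
    intro g x y
    constructor
    · rintro ⟨u, h1, h2⟩
      exact ⟨g⁻¹ * u, by rw [mul_smul, h1, inv_smul_smul], by rw [mul_smul, h2, inv_smul_smul]⟩
    · rintro ⟨u, rfl, rfl⟩
      exact ⟨g * u, mul_smul _ _ _, mul_smul _ _ _⟩
  let A : Set.powersetCard Ω 2 → Ω → K := fun r x => if O r x then 1 else 0
  have hA : ∀ (g : G) x y, A (g • x) (g • y) = A x y := fun g x y => by simp only [A, hO]
  have hall := key (fun r x => (if x ∈ r.1 then ∑ z, A r z else 0) - 2 * A r x) (by
      intro g r x
      simp only [hA, hmem]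
      rw [Fintype.sum_equiv (MulAction.toPerm g).symm (fun z => A (g • r) z) (fun z => A r z)
        (fun z => by rw [← hA g r]; simp)]) (by
      intro r
      rw [Finset.sum_sub_distrib, Finset.sum_ite_mem, Finset.univ_inter, Finset.sum_const, r.2,
        ← Finset.mul_sum]
      simp) s a
  apply MT.isMultiplyPretransitive_top
  refine hMT.succ' (Pres.univ _) s.1 (Set.subset_univ _) s.2 ?_
  have hfrom : ∀ x ∉ s.1, ∃ g : G, (∀ y ∈ s.1, g • y = y) ∧ g • a = x := by
    intro x hx
    have h1 := hall x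
    have h3 : O s a := ⟨1, one_smul _ _, one_smul _ _⟩
    simp only [has, hx, if_false, zero_sub, neg_inj, mul_right_inj' h20, A, h3, if_true] at h1
    have h4 : O s x := by
      by_contra hh
      simp [hh] at h1
    obtain ⟨g, hgs, hga⟩ := h4
    have hb1 : g • b ∈ s.1 := by rw [← hgs, hmem]; simp [s]
    have hb2 : g • (t : G) • b ∈ s.1 := by rw [← hgs, hmem]; simp [s]
    have hne : g • b ≠ g • (t : G) • b := fun hh => hb (MulAction.injective g hh).symm
    simp only [s, Finset.mem_insert, Finset.mem_singleton] at hb1 hb2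
    rcases hb1 with hb1 | hb1
    · refine ⟨g, fun y hy => ?_, hga⟩
      simp only [s, Finset.mem_insert, Finset.mem_singleton] at hy
      rcases hy with rfl | rfl
      · exact hb1
      · exact hb2.resolve_left fun hh => hne (hb1.trans hh.symm)
    · refine ⟨g * t, fun y hy => ?_, by rw [mul_smul, hta, hga]⟩
      simp only [s, Finset.mem_insert, Finset.mem_singleton] at hy
      rcases hy with rfl | rfl
      · rw [mul_smul]; exact hb2.resolve_right fun hh => hne (hb1.trans hh.symm)
      · rw [mul_smul, htt, hb1]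
  intro x _ y _ hx hy
  obtain ⟨g, hg, rfl⟩ := hfrom x hx
  obtain ⟨u, hu, rfl⟩ := hfrom y hy
  refine ⟨u * g⁻¹, trivial, fun z hz => ?_, by rw [mul_smul, inv_smul_smul]⟩
  rw [mul_smul, inv_smul_eq_iff.2 (hg z hz).symm, hu z hz]

end H14
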