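import Mathlib
import Cfsg.Agent.H14.PermMod

/-! Translation invariant spaces of functions on `ZMod p` in characteristic `p`. -/

set_option autoImplicit false
set_option linter.unusedSectionVars false

namespace H14

open Polynomial Module

variable {p : ℕ} [Fact p.Prime] {K : Type*} [Field K] [CharP K p]

variable (p K) in
/-- evaluation of a polynomial on the prime field -/
noncomputable def evalFun : K[X] →ₗ[K] (ZMod p → K) where
  toFun P j := P.eval (ZMod.cast j : K)
  map_add' P Q := by funext j; simp
  map_smul' a P := by funext j; simp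

theorem evalFun_apply (P : K[X]) (j : ZMod p) : evalFun p K P j = P.eval (ZMod.cast j : K) := rfl

theorem zcast_injective : Function.Injective (ZMod.cast : ZMod p → K) :=
  (ZMod.castHom (dvd_refl p) K).injective

theorem eq_of_evalFun_eq {P Q : K[X]} (hP : P.degree < p) (hQ : Q.degree < p)
    (h : evalFun p K P = evalFun p K Q) : P = Q := by
  classical
  refine eq_of_degrees_lt_of_eval_index_eq (Finset.univ : Finset (ZMod p))
    (v := (ZMod.cast : ZMod p → K)) zcast_injective.injOn (by simpa using hP) (by simpa using hQ)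
    fun j _ => congrFun h j

variable (p K) in
/-- polynomial functions of degree less than `r` -/
noncomputable def polyFun (r : ℕ) : Submodule K (ZMod p → K) := (degreeLT K r).map (evalFun p K)

theorem mem_polyFun {r : ℕ} {f : ZMod p → K} :
    f ∈ polyFun p K r ↔ ∃ P : K[X], P.degree < r ∧ ∀ j, f j = P.eval (ZMod.cast j : K) := by
  constructor
  · rintro ⟨P, hP, rfl⟩; exact ⟨P, mem_degreeLT.1 hP, fun _ => rfl⟩
  · rintro ⟨P, hP, h⟩; exact ⟨P, mem_degreeLT.2 hP, (funext h).symm⟩

theorem finrank_polyFun {r : ℕ} (hr : r ≤ p) : finrank K (polyFun p K r) = r := by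
  have h1 : polyFun p K r = LinearMap.range ((evalFun p K).comp (degreeLT K r).subtype) := by
    rw [LinearMap.range_comp, Submodule.range_subtype]; rfl
  rw [h1, LinearMap.finrank_range_of_inj, finrank_eq_card_basis (degreeLT.basis K r),
    Fintype.card_fin]
  intro P Q h
  have hr' : (r : WithBot ℕ) ≤ p := by exact_mod_cast hr
  exact Subtype.ext (eq_of_evalFun_eq ((mem_degreeLT.1 P.2).trans_le hr')
    ((mem_degreeLT.1 Q.2).trans_le hr') h)

theorem polyFun_invariant (r : ℕ) : ∀ f ∈ polyFun p K r, (fun j => f (j - 1)) ∈ polyFun p K r := by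
  intro f hf
  obtain ⟨P, hP, h⟩ := mem_polyFun.1 hf
  refine mem_polyFun.2 ⟨taylor (-1) P, by rwa [degree_taylor], fun j => ?_⟩
  rw [h, taylor_eval, ZMod.cast_sub (dvd_refl p), ZMod.cast_one (dvd_refl p), sub_eq_add_neg]

variable (p K) in
/-- the shift operator -/
def shiftOp : End K (ZMod p → K) := LinearMap.funLeft K K (fun j => j - 1)

theorem shiftOp_pow (n : ℕ) (f : ZMod p → K) (j : ZMod p) :
    (shiftOp p K ^ n) f j = f (j - n) := by
  induction n generalizing j with
  | zero => simp
  | succ n ih =>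
    rw [pow_succ', End.mul_apply]
    show (shiftOp p K ^ n) f (j - 1) = _
    rw [ih]; congr 1; push_cast; ring

theorem diffOp_pow : (shiftOp p K - 1) ^ p = 0 := by
  have : CharP (End K (ZMod p → K)) p := by
    refine charP_end ⟨fun _ => 1, ?_⟩
    rw [eq_bot_iff]
    intro a ha
    have := congrFun ((Ideal.mem_torsionOf_iff _ _).1 ha) 0
    simpa using this
  rw [sub_pow_char_of_commute p (Commute.one_right _), one_pow, sub_eq_zero]
  refine LinearMap.ext fun f => funext fun j => ?_
  rw [shiftOp_pow]; simp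

theorem finrank_ker_diffOp : finrank K (LinearMap.ker (shiftOp p K - 1)) ≤ 1 := by
  have h : LinearMap.ker (shiftOp p K - 1) ≤ Submodule.span K {fun _ => (1 : K)} := by
    intro f hf
    rw [LinearMap.mem_ker, LinearMap.sub_apply, sub_eq_zero] at hf
    have h1 : ∀ n : ℕ, (shiftOp p K ^ n) f = f := by
      intro n
      induction n with
      | zero => simp
      | succ n ih => rw [pow_succ', End.mul_apply, ih, hf]; rfl
    rw [Submodule.mem_span_singleton]
    refine ⟨f 0, funext fun j => ?_⟩
    have := congrFun (h1 j.val) j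
    rw [shiftOp_pow, ZMod.natCast_zmod_val, sub_self] at this
    simp [this]
  exact (Submodule.finrank_mono h).trans (finrank_span_le_card _ |>.trans (by simp))

theorem finrank_ker_pow_le {V : Type*} [AddCommGroup V] [Module K V] [FiniteDimensional K V]
    (D : End K V) (h : finrank K (LinearMap.ker D) ≤ 1) (r : ℕ) :
    finrank K (LinearMap.ker (D ^ r)) ≤ r := by
  induction r with
  | zero => simp [End.one_eq_id]
  | succ r ih =>
    have h1 := LinearMap.finrank_range_add_finrank_ker (D.domRestrict (LinearMap.ker (D ^ (r + 1))))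
    have h2 : LinearMap.range (D.domRestrict (LinearMap.ker (D ^ (r + 1)))) ≤
        LinearMap.ker (D ^ r) := by
      rintro _ ⟨⟨v, hv⟩, rfl⟩
      have := hv
      rw [LinearMap.mem_ker, pow_succ, End.mul_apply] at this
      exact this
    have h3 : finrank K (LinearMap.ker (D.domRestrict (LinearMap.ker (D ^ (r + 1))))) ≤
        finrank K (LinearMap.ker D) := by
      rw [← Submodule.finrank_map_subtype_eq]
      refine Submodule.finrank_mono ?_
      rintro _ ⟨v, hv, rfl⟩
      exact hv
    have h4 := Submodule.finrank_mono h2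
    omega

theorem le_ker_pow_of_invariant {V : Type*} [AddCommGroup V] [Module K V] [FiniteDimensional K V]
    (D : End K V) {n : ℕ} (hD : D ^ n = 0) (W : Submodule K V) (hW : ∀ f ∈ W, D f ∈ W) :
    W ≤ LinearMap.ker (D ^ finrank K W) := by
  intro f hf
  set E : End K W := D.restrict hW with hE
  have hEn : IsNilpotent E := ⟨n, by
    rw [hE, End.pow_restrict]
    ext v
    simp [LinearMap.restrict_apply, hD]⟩
  have h1 : E ^ finrank K W = 0 := by
    have := hEn.charpoly_eq_X_pow_finrank
    have h2 := LinearMap.aeval_self_charpoly E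
    rwa [this, map_pow, aeval_X] at h2
  rw [hE, End.pow_restrict] at h1
  have := congrArg (fun g : End K W => (g ⟨f, hf⟩ : V)) h1
  simpa [LinearMap.restrict_apply] using this

theorem eq_polyFun_of_invariant (W : Submodule K (ZMod p → K))
    (hW : ∀ f ∈ W, (fun j => f (j - 1)) ∈ W) :
    finrank K W ≤ p ∧ W = polyFun p K (finrank K W) := by
  have hle : finrank K W ≤ p := by
    have := Submodule.finrank_le W
    rwa [finrank_fintype_fun_eq_card, ZMod.card] at this
  refine ⟨hle, ?_⟩
  have key : ∀ U : Submodule K (ZMod p → K), (∀ f ∈ U, (fun j => f (j - 1)) ∈ U) →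
      U = LinearMap.ker ((shiftOp p K - 1) ^ finrank K U) := by
    intro U hU
    have h1 : ∀ f ∈ U, (shiftOp p K - 1 : End K (ZMod p → K)) f ∈ U := fun f hf =>
      U.sub_mem (hU f hf) hf
    have h2 := le_ker_pow_of_invariant (shiftOp p K - 1) diffOp_pow U h1
    have h3 := finrank_ker_pow_le (shiftOp p K - 1) finrank_ker_diffOp (finrank K U)
    exact Submodule.eq_of_le_of_finrank_le h2 h3
  have h1 := key _ (polyFun_invariant (p := p) (K := K) (finrank K W))
  rw [finrank_polyFun hle] at h1
  rw [h1]; exact key W hW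

theorem affine_of_polyFun_small {r : ℕ} (h2 : 2 ≤ r) (hr : 2 * r ≤ p + 1)
    (σ : ZMod p → ZMod p) (hσ : Function.Injective σ)
    (h : ∀ f ∈ polyFun p K r, (fun j => f (σ j)) ∈ polyFun p K r) :
    ∀ j, σ j = (σ 1 - σ 0) * j + σ 0 := by
  have hp : p.Prime := Fact.out
  have hX : ∀ n < r, ∃ P : K[X], P.degree < r ∧
      ∀ j, (ZMod.cast (σ j) : K) ^ n = P.eval (ZMod.cast j : K) := by
    intro n hn
    have : (fun j : ZMod p => (ZMod.cast j : K) ^ n) ∈ polyFun p K r :=
      mem_polyFun.2 ⟨X ^ n, by rw [degree_X_pow]; exact_mod_cast hn, fun j => by simp⟩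
    exact mem_polyFun.1 (h _ this)
  obtain ⟨P, hP, hPe⟩ := hX 1 (by omega)
  simp only [pow_one] at hPe
  have hPr : P.natDegree < r := by
    by_cases h0 : P = 0
    · rw [h0, natDegree_zero]; omega
    · exact (natDegree_lt_iff_degree_lt h0).2 hP
  have hle : P.natDegree ≤ 1 := by
    by_contra hcon
    push Not at hcon
    have hP0 : P ≠ 0 := by rintro rfl; simp at hcon
    classical
    have hex : ∃ n, r ≤ P.natDegree * n := ⟨r, Nat.le_mul_of_pos_left _ (by omega)⟩
    have hn := Nat.find_spec hex
    set n := Nat.find hex with hndef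
    have hn0 : n ≠ 0 := by rintro h0; rw [h0] at hn; omega
    have hn1 : ¬ r ≤ P.natDegree * (n - 1) := Nat.find_min hex (by omega)
    have hsplit : P.natDegree * n = P.natDegree * (n - 1) + P.natDegree := by
      obtain ⟨m, hm⟩ := Nat.exists_eq_succ_of_ne_zero hn0
      rw [hm]; simp [Nat.mul_succ]
    have hnr : n < r := by
      have : 2 * (n - 1) ≤ P.natDegree * (n - 1) := Nat.mul_le_mul_right _ hcon
      omega
    obtain ⟨Q, hQ, hQe⟩ := hX n hnr
    have hdeg : (P ^ n).degree = (P.natDegree * n : ℕ) := by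
      rw [degree_eq_natDegree (pow_ne_zero n hP0), natDegree_pow, mul_comm]
    have hEq : P ^ n = Q := by
      refine eq_of_evalFun_eq (p := p) ?_ (hQ.trans_le ?_) (funext fun j => ?_)
      · rw [hdeg]; exact_mod_cast (by omega : P.natDegree * n < p)
      · have := hp.two_le
        exact_mod_cast (by omega : r ≤ p)
      · rw [evalFun_apply, evalFun_apply, eval_pow, ← hPe, hQe]
    rw [← hEq, hdeg] at hQ
    have : P.natDegree * n < r := by exact_mod_cast hQ
    omega
  intro j
  apply zcast_injective (K := K)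
  have hform := eq_X_add_C_of_natDegree_le_one hle
  have hc : ∀ a b : ZMod p, (ZMod.cast (a * j + b) : K) = ZMod.cast a * ZMod.cast j + ZMod.cast b :=
    fun a b => by rw [ZMod.cast_add (dvd_refl p), ZMod.cast_mul (dvd_refl p)]
  rw [hc, ZMod.cast_sub (dvd_refl p), hPe, hPe, hPe, ZMod.cast_one (dvd_refl p), ZMod.cast_zero,
    hform]
  simp

theorem affine_of_invariant (W : Submodule K (ZMod p → K))
    (hW : ∀ f ∈ W, (fun j => f (j + 1)) ∈ W) (hW' : ∀ f ∈ W, (fun j => f (j - 1)) ∈ W)
    (h2 : 2 ≤ finrank K W) (hr : finrank K W + 2 ≤ p) (σ : Equiv.Perm (ZMod p))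
    (h : ∀ f ∈ W, (fun j => f (σ j)) ∈ W) (h' : ∀ f ∈ W, (fun j => f (σ⁻¹ j)) ∈ W) :
    ∀ j, σ j = (σ 1 - σ 0) * j + σ 0 := by
  by_cases hs : 2 * finrank K W ≤ p + 1
  · refine affine_of_polyFun_small (K := K) h2 hs σ σ.injective ?_
    rw [← (eq_polyFun_of_invariant W hW').2]; exact h
  · have h1 := finrank_perp W
    rw [ZMod.card] at h1
    have h3 : ∀ f ∈ perp W, (fun j => f (j - 1)) ∈ perp W :=
      perp_invariant (σ := Equiv.subRight 1) (fun w hw => hW w hw)
    refine affine_of_polyFun_small (K := K) (r := finrank K (perp W)) (by omega) (by omega) σ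
      σ.injective ?_
    rw [← (eq_polyFun_of_invariant _ h3).2]; exact perp_invariant h'

end H14
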