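import Mathlib
import Cfsg.Agent.H14.PolyFun
import Cfsg.Agent.H14.Fix
import Cfsg.Agent.H14.Cent

/-! Transitive permutation groups of prime degree. -/

set_option autoImplicit false
set_option linter.unusedSectionVars false

namespace H14

open MulAction Subgroup Cfsg
open scoped commutatorElement Pointwise

variable {G : Type*} [Group G] {Ω : Type*} [MulAction G Ω] {p : ℕ} [Fact p.Prime]

theorem mem_fix_zpowers {t : G} {a : Ω} : a ∈ fixedPoints (zpowers t) Ω ↔ t • a = a := by
  rw [mem_fix]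
  exact ⟨fun h => h t (mem_zpowers t), fun h u hu => (zpowers_le (H := stabilizer G a)).2 h hu⟩

theorem pres_zpowers {t : G} (ht : IsOfFinOrder t) {F : Set Ω} (h : ∀ x ∈ F, t • x ∈ F) :
    Pres (zpowers t) F := by
  intro u hu ω hω
  obtain ⟨n, rfl⟩ := (ht.mem_powers_iff_mem_zpowers).2 hu
  clear hu
  induction n with
  | zero => simpa using hω
  | succ n ih => simp only [pow_succ', mul_smul]; exact h _ ih

theorem ncard_modEq_fixed_elt {t : G} {n : ℕ} (ht : t ^ p ^ n = 1) {F : Set Ω} (hF : F.Finite)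
    (h : ∀ x ∈ F, t • x ∈ F) : F.ncard ≡ {x ∈ F | t • x = x}.ncard [MOD p] := by
  have hp : p.Prime := Fact.out
  have h2g : IsPGroup p (zpowers t) := by
    refine IsPGroup.of_card_dvd_pow (n := n) ?_
    rw [Nat.card_zpowers]
    exact orderOf_dvd_of_pow_eq_one ht
  have := ncard_modEq_fixed h2g hF
    (pres_zpowers (isOfFinOrder_iff_pow_eq_one.2 ⟨_, pow_pos hp.pos n, ht⟩) h)
  convert this using 2
  ext x
  simp only [Set.mem_setOf_eq, Set.mem_inter_iff, mem_fix_zpowers]

theorem coord_pow {τ : G} {e : ZMod p ≃ Ω} (he : ∀ j, τ • e j = e (j + 1)) (n : ℕ) (j : ZMod p) :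
    τ ^ n • e j = e (j + n) := by
  induction n with
  | zero => simp
  | succ n ih => rw [pow_succ', mul_smul, ih, he]; congr 1; push_cast; ring

theorem coord_pow_val {τ : G} {e : ZMod p ≃ Ω} (he : ∀ j, τ • e j = e (j + 1)) (n j : ZMod p) :
    τ ^ n.val • e j = e (j + n) := by
  rw [coord_pow he, ZMod.natCast_zmod_val]

theorem exists_coord (hΩ : Nat.card Ω = p) {τ : G} (hτ : τ ^ p = 1) {a : Ω} (ha : τ • a ≠ a) :
    ∃ e : ZMod p ≃ Ω, e 0 = a ∧ ∀ j, τ • e j = e (j + 1) := by
  have hp : p.Prime := Fact.out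
  have hper : period τ a = p := by
    have h1 : period τ a ∣ p := pow_smul_eq_iff_period_dvd.1 (by rw [hτ, one_smul])
    rcases (Nat.dvd_prime hp).1 h1 with h | h
    · exact absurd (by simpa using (pow_smul_eq_iff_period_dvd (n := 1)).2 (h ▸ dvd_refl _)) ha
    · exact h
  have hfin : Finite Ω := Nat.finite_of_card_ne_zero (hΩ ▸ hp.ne_zero)
  let f : ZMod p → Ω := fun j => τ ^ j.val • a
  have hinj : Function.Injective f := by
    have key : ∀ i j : ℕ, i ≤ j → j < p → τ ^ i • a = τ ^ j • a → i = j := by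
      intro i j hij hj h
      obtain ⟨k, rfl⟩ := Nat.exists_eq_add_of_le hij
      rw [pow_add, mul_smul, smul_left_cancel_iff, eq_comm, pow_smul_eq_iff_period_dvd, hper] at h
      have := Nat.eq_zero_of_dvd_of_lt h (by omega)
      omega
    intro i j h
    apply ZMod.val_injective
    rcases le_total i.val j.val with hij | hij
    · exact key _ _ hij (ZMod.val_lt j) h
    · exact (key _ _ hij (ZMod.val_lt i) h.symm).symm
  have hbij : Function.Bijective f :=
    hinj.bijective_of_nat_card_le (by rw [hΩ, Nat.card_zmod])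
  refine ⟨Equiv.ofBijective f hbij, by simp [f], fun j => ?_⟩
  show τ • τ ^ j.val • a = τ ^ (j + 1).val • a
  rw [← mul_smul, ← pow_succ', ZMod.val_add, ZMod.val_one, ← pow_eq_pow_mod _ hτ]

/-- `g` acts as an affine map in the coordinates `e`. -/
def Aff (e : ZMod p ≃ Ω) (g : G) : Prop := ∃ a b : ZMod p, ∀ j, g • e j = e (a * j + b)

theorem Aff.ne_zero {e : ZMod p ≃ Ω} {g : G} {a b : ZMod p} (h : ∀ j, g • e j = e (a * j + b)) :
    a ≠ 0 := by
  rintro rfl
  have h1 : g • e 0 = g • e 1 := by rw [h, h]; simp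
  exact zero_ne_one (e.injective (smul_left_cancel g h1))

theorem aff_of_conj {τ g : G} {e : ZMod p ≃ Ω} (he : ∀ j, τ • e j = e (j + 1)) {k : ℕ}
    (h : g * τ * g⁻¹ = τ ^ k) : ∀ j, g • e j = e (k * j + e.symm (g • e 0)) := by
  have h1 : ∀ n : ℕ, g • e n = e (k * n + e.symm (g • e 0)) := by
    intro n
    induction n with
    | zero => simp
    | succ n ih =>
      have : g * τ = τ ^ k * g := by rw [← h]; group
      rw [Nat.cast_succ, ← he, ← mul_smul, this, mul_smul, ih, coord_pow he]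
      congr 1; ring
  intro j
  have := h1 j.val
  rwa [ZMod.natCast_zmod_val] at this

variable [FaithfulSMul G Ω]

theorem eq_of_coord {e : ZMod p ≃ Ω} {g h : G} (H : ∀ j, g • e j = h • e j) : g = h :=
  eq_of_smul_eq_smul (α := Ω) fun x => by simpa using H (e.symm x)

theorem mem_zpowers_of_transl {τ g : G} {e : ZMod p ≃ Ω} (he : ∀ j, τ • e j = e (j + 1))
    {b : ZMod p} (h : ∀ j, g • e j = e (j + b)) : g ∈ zpowers τ := by
  have : g = τ ^ b.val := eq_of_coord (e := e) fun j => by rw [h, coord_pow_val he]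
  rw [this]; exact pow_mem (mem_zpowers τ) _

theorem mem_zpowers_of_commute {τ g : G} {e : ZMod p ≃ Ω} (he : ∀ j, τ • e j = e (j + 1))
    (h : g * τ = τ * g) : g ∈ zpowers τ := by
  have := aff_of_conj (g := g) he (k := 1) (by rw [h]; group)
  exact mem_zpowers_of_transl he (b := e.symm (g • e 0)) (by simpa using this)

theorem commutator_mem_zpowers {τ g h : G} {e : ZMod p ≃ Ω} (he : ∀ j, τ • e j = e (j + 1))
    (hg : Aff e g) (hh : Aff e h) : ⁅g, h⁆ ∈ zpowers τ := by
  obtain ⟨a, b, hg⟩ := hg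
  obtain ⟨c, d, hh⟩ := hh
  refine mem_zpowers_of_transl he (b := a * d + b - c * b - d) fun j => ?_
  obtain ⟨i, hi⟩ : ∃ i, (h * g) • e i = e j := ⟨e.symm ((h * g)⁻¹ • e j), by
    rw [Equiv.apply_symm_apply, smul_inv_smul]⟩
  have h1 : ⁅g, h⁆ • e j = (g * h) • e i := by
    rw [← hi, ← mul_smul, commutatorElement_def]; congr 1; group
  rw [mul_smul, hg, hh] at hi
  rw [h1, mul_smul, hh, hg, ← e.injective hi]
  congr 1; ring

theorem solvable_of_aff {τ : G} {e : ZMod p ≃ Ω} (he : ∀ j, τ • e j = e (j + 1))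
    (h : ∀ g : G, Aff e g) : Group.IsSolvable G := by
  refine ⟨⟨2, ?_⟩⟩
  have h1 : derivedSeries G 1 ≤ zpowers τ := by
    rw [derivedSeries_one, commutator_def, commutator_le]
    intro g _ g' _
    exact commutator_mem_zpowers he (h g) (h g')
  rw [derivedSeries_succ, eq_bot_iff]
  refine (commutator_mono h1 h1).trans ?_
  rw [commutator_le]
  rintro _ ⟨m, rfl⟩ _ ⟨n, rfl⟩
  rw [mem_bot, commutatorElement_eq_one_iff_commute]
  exact Commute.zpow_zpow_self τ m n

variable [IsPretransitive G Ω]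

theorem finite_of_faithful [Finite Ω] : Finite G :=
  Finite.of_injective _ (toPerm_injective (α := G) (β := Ω))

theorem card_dvd_factorial [Finite Ω] : Nat.card G ∣ (Nat.card Ω).factorial := by
  rw [← Nat.card_perm]
  exact card_dvd_of_injective (toPermHom G Ω) toPerm_injective

theorem card_sylow_prime_deg (hΩ : Nat.card Ω = p) (P : Sylow p G) :
    Nat.card (P : Subgroup G) = p := by
  have hp : p.Prime := Fact.out
  have hfin : Finite Ω := Nat.finite_of_card_ne_zero (hΩ ▸ hp.ne_zero)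
  have : Finite G := finite_of_faithful (Ω := Ω)
  obtain ⟨a⟩ : Nonempty Ω := (Nat.card_ne_zero.1 (hΩ ▸ hp.ne_zero)).1
  obtain ⟨k, hk⟩ := IsPGroup.iff_card.1 P.isPGroup'
  have h1 : p ^ k ∣ p.factorial := by
    rw [← hk]
    exact (card_subgroup_dvd_card _).trans (hΩ ▸ card_dvd_factorial (Ω := Ω))
  have h2 : p ∣ Nat.card G := by
    rw [← hΩ, ← index_stabilizer_of_transitive G a]; exact index_dvd_card _
  have h3 : k ≤ 1 := by
    by_contra hc
    have h4 : p * p ∣ p * (p - 1).factorial := by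
      rw [Nat.mul_factorial_pred hp.ne_zero, ← pow_two]
      exact (pow_dvd_pow p (by omega)).trans h1
    have := (hp.dvd_factorial).1 (Nat.dvd_of_mul_dvd_mul_left hp.pos h4)
    have := hp.pos
    omega
  have h4 : k ≠ 0 := by
    rintro rfl
    rw [← (P : Subgroup G).card_mul_index, hk, pow_zero, one_mul] at h2
    exact P.not_dvd_index h2
  rw [hk, show k = 1 by omega, pow_one]

theorem exists_coord_of_card (hΩ : Nat.card Ω = p) (P : Subgroup G) (hP : Nat.card P = p) :
    ∃ (τ : G) (e : ZMod p ≃ Ω), P = zpowers τ ∧ orderOf τ = p ∧ ∀ j, τ • e j = e (j + 1) := by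
  have hp : p.Prime := Fact.out
  have hfin : Finite P := Nat.finite_of_card_ne_zero (hP ▸ hp.ne_zero)
  obtain ⟨τ, hτ⟩ := exists_prime_orderOf_dvd_card' (G := P) p (hP ▸ dvd_refl _)
  have hτ' : orderOf (τ : G) = p := by rw [Subgroup.orderOf_coe, hτ]
  have hne : (τ : G) ≠ 1 := by
    intro h; rw [h, orderOf_one] at hτ'; exact hp.one_lt.ne hτ'
  obtain ⟨a, ha⟩ : ∃ a : Ω, (τ : G) • a ≠ a := by
    by_contra hc
    push Not at hc
    exact hne (eq_of_smul_eq_smul (α := Ω) fun x => by rw [hc, one_smul])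
  obtain ⟨e, -, he⟩ := exists_coord hΩ (hτ' ▸ pow_orderOf_eq_one (τ : G)) ha
  refine ⟨τ, e, ?_, hτ', he⟩
  symm
  exact eq_of_le_of_card_ge (by simp) (by rw [Nat.card_zpowers, hτ', hP])

theorem aff_of_mem_normalizer {τ g : G} {e : ZMod p ≃ Ω} (he : ∀ j, τ • e j = e (j + 1))
    (hτ : orderOf τ = p) (hg : g ∈ normalizer ((zpowers τ : Subgroup G) : Set G)) : Aff e g := by
  have hp : p.Prime := Fact.out
  have h1 : g * τ * g⁻¹ ∈ zpowers τ := (mem_normalizer_iff.1 hg τ).1 (mem_zpowers τ)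
  have hfo : IsOfFinOrder τ := orderOf_pos_iff.1 (hτ ▸ hp.pos)
  rw [← hfo.mem_powers_iff_mem_zpowers] at h1
  obtain ⟨k, hk⟩ := h1
  exact ⟨_, _, aff_of_conj he hk.symm⟩

theorem solvable_of_normal_card (hΩ : Nat.card Ω = p) (P : Subgroup G) [P.Normal]
    (hP : Nat.card P = p) : Group.IsSolvable G := by
  obtain ⟨τ, e, rfl, hτ, he⟩ := exists_coord_of_card hΩ P hP
  refine solvable_of_aff he fun g => aff_of_mem_normalizer he hτ ?_
  rw [normalizer_eq_top]; exact mem_top g

theorem centralizer_eq_of_card (hΩ : Nat.card Ω = p) (P : Subgroup G) (hP : Nat.card P = p) :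
    centralizer (P : Set G) = P := by
  obtain ⟨τ, e, rfl, hτ, he⟩ := exists_coord_of_card hΩ P hP
  apply le_antisymm
  · intro g hg
    exact mem_zpowers_of_commute he (hg τ (mem_zpowers τ)).symm
  · exact le_centralizer _

theorem card_normalizer_of_card (hΩ : Nat.card Ω = p) (P : Subgroup G) (hP : Nat.card P = p) :
    ∃ d, d ∣ p - 1 ∧ Nat.card (normalizer (P : Set G)) = p * d := by
  have hp : p.Prime := Fact.out
  have hfin : Finite P := Nat.finite_of_card_ne_zero (hP ▸ hp.ne_zero)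
  have hcyc : IsCyclic P := isCyclic_of_prime_card hP
  refine ⟨(normalizerMonoidHom P).ker.index, ?_, ?_⟩
  · rw [index_ker]
    refine (card_subgroup_dvd_card _).trans ?_
    rw [IsCyclic.card_mulAut, hP, Nat.totient_prime hp]
  · rw [← (normalizerMonoidHom P).ker.card_mul_index, normalizerMonoidHom_ker,
      centralizer_eq_of_card hΩ P hP, Nat.card_congr (subgroupOfEquivOfLe le_normalizer).toEquiv,
      hP]

theorem isPreprimitive_prime_deg (hΩ : Nat.card Ω = p) : IsPreprimitive G Ω :=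
  IsPreprimitive.of_prime_card (hΩ ▸ Fact.out)

/-- The Sylow normaliser count. -/
theorem card_eq_prime_deg (hΩ : Nat.card Ω = p) (P : Sylow p G) :
    ∃ d n, d ∣ p - 1 ∧ n ≡ 1 [MOD p] ∧ Nat.card (normalizer ((P : Subgroup G) : Set G)) = p * d ∧
      Nat.card G = p * d * n ∧ (d = 1 → Nat.card G = p) := by
  have hp : p.Prime := Fact.out
  have hfin : Finite Ω := Nat.finite_of_card_ne_zero (hΩ ▸ hp.ne_zero)
  have : Finite G := finite_of_faithful (Ω := Ω)
  have hP := card_sylow_prime_deg hΩ P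
  obtain ⟨d, hd, hN⟩ := card_normalizer_of_card hΩ (P : Subgroup G) hP
  refine ⟨d, Nat.card (Sylow p G), hd, card_sylow_modEq_one p G, hN, ?_, ?_⟩
  · rw [← hN, P.card_eq_index_normalizer]; exact (card_mul_index _).symm
  · rintro rfl
    have h1 : (P : Subgroup G) = normalizer ((P : Subgroup G) : Set G) :=
      eq_of_le_of_card_ge le_normalizer (by rw [hN, hP, mul_one])
    have h2 : normalizer ((P : Subgroup G) : Set G) ≤ centralizer ((P : Subgroup G) : Set G) := by
      rw [centralizer_eq_of_card hΩ _ hP, ← h1]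
    have h3 := MonoidHom.ker_transferSylow_isComplement' P h2
    have hprim := isPreprimitive_prime_deg (G := G) hΩ
    by_cases hK : (MonoidHom.transferSylow P h2).ker = ⊥
    · rw [← h3.card_mul, hK, hP]; simp
    · exfalso
      have := isPretransitive_of_normal (α := Ω) _ hK
      obtain ⟨a⟩ : Nonempty Ω := (Nat.card_ne_zero.1 (hΩ ▸ hp.ne_zero)).1
      have h4 : p ∣ Nat.card (MonoidHom.transferSylow P h2).ker := by
        have h5 := index_stabilizer_of_transitive (MonoidHom.transferSylow P h2).ker a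
        rw [hΩ] at h5
        exact h5.symm.dvd.trans (index_dvd_card _)
      exact MonoidHom.not_dvd_card_ker_transferSylow P h2 h4

theorem exists_abelian_normal_le {G : Type*} [Group G] [Finite G] (N : Subgroup G)
    (hn : N.Normal) (hN : N ≠ ⊥) (hs : Group.IsSolvable N) :
    ∃ A : Subgroup G, A.Normal ∧ A ≠ ⊥ ∧ A ≤ N ∧ ∀ x ∈ A, ∀ y ∈ A, x * y = y * x := by
  induction N using WellFoundedLT.induction with | ind N ih => ?_
  by_cases h : ⁅N, N⁆ = ⊥
  · refine ⟨N, hn, hN, le_rfl, fun x hx y hy => ?_⟩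
    have := commutator_mem_commutator hx hy
    rw [h, mem_bot, commutatorElement_eq_one_iff_commute] at this
    exact this
  · have hle : ⁅N, N⁆ ≤ N := commutator_le_left N N
    have hlt : ⁅N, N⁆ < N := by
      refine lt_of_le_of_ne hle fun heq => ?_
      have : Nontrivial N := (nontrivial_iff_ne_bot N).2 hN
      refine (Group.IsSolvable.commutator_lt_top_of_nontrivial N).ne ?_
      apply map_injective N.subtype_injective
      rw [map_subtype_commutator, heq, ← MonoidHom.range_eq_map, range_subtype]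
    obtain ⟨A, h1, h2, h3, h4⟩ := ih _ hlt inferInstance h
      (solvable_of_solvable_injective (inclusion_injective hle))
    exact ⟨A, h1, h2, h3.trans hle, h4⟩

theorem solvable_of_normal_solvable (hΩ : Nat.card Ω = p) (N : Subgroup G) [hn : N.Normal]
    (hN : N ≠ ⊥) (hs : Group.IsSolvable N) : Group.IsSolvable G := by
  have hp : p.Prime := Fact.out
  have hfin : Finite Ω := Nat.finite_of_card_ne_zero (hΩ ▸ hp.ne_zero)
  have : Finite G := finite_of_faithful (Ω := Ω)
  have hprim := isPreprimitive_prime_deg (G := G) hΩ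
  obtain ⟨A, h1, h2, -, h4⟩ := exists_abelian_normal_le N hn hN hs
  have := isPretransitive_of_normal (α := Ω) A h2
  obtain ⟨a⟩ : Nonempty Ω := (Nat.card_ne_zero.1 (hΩ ▸ hp.ne_zero)).1
  refine solvable_of_normal_card hΩ A ?_
  have h5 : stabilizer A a = ⊥ := by
    rw [eq_bot_iff]
    intro g hg
    exact Subtype.ext (eq_one_of_centralizes_of_fix A (fun m hm => h4 _ g.2 _ hm) (a := a) hg)
  rw [← hΩ, ← index_stabilizer_of_transitive A a, h5, index_bot]

/-- Either the group is affine or the heart is irreducible. -/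
theorem heart_irred_of_not_aff [Fintype Ω] {τ : G} {e : ZMod p ≃ Ω}
    (he : ∀ j, τ • e j = e (j + 1)) {g : G} (hg : ¬ Aff e g) {K : Type*} [Field K] [CharP K p]
    (W : Subrepresentation (permRep K G Ω))
    (h₁ : (permConstants K G Ω).toSubmodule ≤ W.toSubmodule)
    (h₂ : W.toSubmodule ≤ (permSumZero K G Ω).toSubmodule) :
    W = permConstants K G Ω ∨ W = permSumZero K G Ω := by
  have hp : p.Prime := Fact.out
  by_contra hcon
  rw [not_or] at hcon
  have hΩ : Fintype.card Ω = p := by rw [← Fintype.card_congr e, ZMod.card]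
  have hlt1 : (permConstants K G Ω).toSubmodule < W.toSubmodule :=
    lt_of_le_of_ne h₁ fun h => hcon.1 (Subrepresentation.toSubmodule_injective h.symm)
  have hlt2 : W.toSubmodule < (permSumZero K G Ω).toSubmodule :=
    lt_of_le_of_ne h₂ fun h => hcon.2 (Subrepresentation.toSubmodule_injective h)
  have hlt0 : (⊥ : Submodule K (Ω → K)) < (permConstants K G Ω).toSubmodule := by
    rw [bot_lt_iff_ne_bot]
    intro h
    have : (fun _ => 1 : Ω → K) ∈ (permConstants K G Ω).toSubmodule :=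
      mem_permConstants.2 ⟨1, fun _ => rfl⟩
    rw [h, Submodule.mem_bot] at this
    exact one_ne_zero (congrFun this (e 0))
  have hlt3 : (permSumZero K G Ω).toSubmodule < ⊤ := by
    classical
    rw [lt_top_iff_ne_top]
    intro h
    have : (Pi.single (e 0) 1 : Ω → K) ∈ (permSumZero K G Ω).toSubmodule := h ▸ Submodule.mem_top
    rw [mem_permSumZero] at this
    simp at this
  have f0 := Submodule.finrank_lt_finrank_of_lt hlt0
  have f1 := Submodule.finrank_lt_finrank_of_lt hlt1
  have f2 := Submodule.finrank_lt_finrank_of_lt hlt2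
  have f3 := Submodule.finrank_lt_finrank_of_lt hlt3
  rw [finrank_top, Module.finrank_fintype_fun_eq_card, hΩ] at f3
  let L : (Ω → K) ≃ₗ[K] (ZMod p → K) := LinearEquiv.funCongrLeft K K e
  let W' : Submodule K (ZMod p → K) := W.toSubmodule.map (L : (Ω → K) →ₗ[K] (ZMod p → K))
  have hW' : Module.finrank K W' = Module.finrank K W.toSubmodule := LinearEquiv.finrank_map_eq _ _
  have hinv : ∀ (x : G) (σ : ZMod p → ZMod p), (∀ j, x • e j = e (σ j)) →
      ∀ f ∈ W', (fun j => f (σ j)) ∈ W' := by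
    rintro x σ hx _ ⟨f, hf, rfl⟩
    refine ⟨_, W.apply_mem_toSubmodule x⁻¹ hf, funext fun j => ?_⟩
    show f (x⁻¹⁻¹ • e j) = f (e (σ j))
    rw [inv_inv, hx]
  let σ : Equiv.Perm (ZMod p) := e.symm.permCongr (toPerm g)
  have hσ : ∀ j, g • e j = e (σ j) := fun j => by simp [σ]
  have hσ' : ∀ j, g⁻¹ • e j = e (σ⁻¹ j) := fun j => by
    rw [inv_smul_eq_iff, hσ]; simp
  have := affine_of_invariant W' (hinv τ _ he) (hinv τ⁻¹ _ fun j => by
    rw [inv_smul_eq_iff, he]; simp) (by omega) (by omega) σ (hinv g _ hσ) (hinv g⁻¹ _ hσ')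
  exact hg ⟨_, _, fun j => by rw [hσ, this]⟩

theorem aff_two : ∀ ρ : Equiv.Perm (ZMod 2), ∃ a b : ZMod 2, ∀ j, ρ j = a * j + b := by decide

theorem aff_three : ∀ ρ : Equiv.Perm (ZMod 3), ∃ a b : ZMod 3, ∀ j, ρ j = a * j + b := by decide

theorem five_le_of_not_aff {e : ZMod p ≃ Ω} {g : G} (hg : ¬ Aff e g) : 5 ≤ p := by
  have hp : p.Prime := Fact.out
  by_contra hlt
  apply hg
  let σ : Equiv.Perm (ZMod p) := e.symm.permCongr (toPerm g)
  have hσ : ∀ j, g • e j = e (σ j) := fun j => by simp [σ]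
  suffices ∃ a b : ZMod p, ∀ j, σ j = a * j + b by
    obtain ⟨a, b, h⟩ := this
    exact ⟨a, b, fun j => by rw [hσ, h]⟩
  generalize σ = ρ
  have h2 := hp.two_le
  have h4 : p ≠ 4 := by rintro rfl; exact absurd hp (by norm_num)
  obtain rfl | rfl : p = 2 ∨ p = 3 := by omega
  · exact aff_two ρ
  · exact aff_three ρ

theorem two_trans_of_not_aff {τ : G} {e : ZMod p ≃ Ω}
    (he : ∀ j, τ • e j = e (j + 1)) {g : G} (hg : ¬ Aff e g) : IsMultiplyPretransitive G Ω 2 := by
  classical
  have hp : p.Prime := Fact.out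
  have : Finite Ω := Finite.of_equiv _ e
  have := Fintype.ofFinite Ω
  have : Finite G := finite_of_faithful (Ω := Ω)
  have hΩ : Fintype.card Ω = p := by rw [← Fintype.card_congr e, ZMod.card]
  have h5 := five_le_of_not_aff hg
  have hne : ∀ m n : ℕ, m < 5 → n < 5 → m ≠ n → e m ≠ e n := by
    intro m n hm hn hmn h
    have := (ZMod.natCast_eq_natCast_iff' m n p).1 (e.injective h)
    rw [Nat.mod_eq_of_lt (by omega), Nat.mod_eq_of_lt (by omega)] at this
    exact hmn this
  refine two_trans_of_heart (K := ZMod p) (p := p) (f := 1) (by rw [hΩ, pow_one]) ?_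
  intro W W' h1 h2 h3
  have hW := heart_irred_of_not_aff he hg W h1 (h2.le.trans h3)
  have hW' := heart_irred_of_not_aff he hg W' (h1.trans h2.le) h3
  obtain rfl : W = permConstants (ZMod p) G Ω := by
    rcases hW with h | h
    · exact h
    · rw [h] at h2; exact absurd (h2.trans_le h3) (lt_irrefl _)
  obtain rfl : W' = permSumZero (ZMod p) G Ω := by
    rcases hW' with h | h
    · rw [h] at h2; exact absurd h2 (lt_irrefl _)
    · exact h
  refine ⟨τ, Pi.single (e (0 : ℕ)) 1 - Pi.single (e (1 : ℕ)) 1, ?_, ?_⟩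
  · rw [mem_permSumZero]; simp [Finset.sum_sub_distrib]
  · rw [mem_permConstants, map_sub, permRep_single, permRep_single, he, he]
    rintro ⟨c, hc⟩
    have h0 := hc (e (0 : ℕ))
    have h3 := hc (e (3 : ℕ))
    have e1 : ((0 : ℕ) : ZMod p) + 1 = (1 : ℕ) := by push_cast; ring
    have e2 : ((1 : ℕ) : ZMod p) + 1 = (2 : ℕ) := by push_cast; ring
    rw [e1, e2] at h0 h3
    simp only [Pi.sub_apply, Pi.single_apply, hne 0 1, hne 0 2, hne 3 0, hne 3 1, hne 3 2,
      Nat.ofNat_pos, Nat.one_lt_ofNat, Nat.reduceLT, ne_eq, zero_ne_one, not_false_eq_true,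
      OfNat.zero_ne_ofNat, OfNat.ofNat_ne_zero, OfNat.ofNat_ne_one, Nat.reduceEqDiff,
      if_false, if_true] at h0 h3
    rw [← h3] at h0
    simp at h0

theorem exists_coord_sylow (hΩ : Nat.card Ω = p) (P : Sylow p G) :
    ∃ (τ : G) (e : ZMod p ≃ Ω), (P : Subgroup G) = zpowers τ ∧ orderOf τ = p ∧
      ∀ j, τ • e j = e (j + 1) :=
  exists_coord_of_card hΩ _ (card_sylow_prime_deg hΩ P)

theorem two_trans_of_not_solvable (hΩ : Nat.card Ω = p) (hG : ¬ Group.IsSolvable G) :
    IsMultiplyPretransitive G Ω 2 := by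
  obtain ⟨P⟩ : Nonempty (Sylow p G) := inferInstance
  obtain ⟨τ, e, -, -, he⟩ := exists_coord_sylow hΩ P
  obtain ⟨g, hg⟩ := not_forall.1 fun h => hG (solvable_of_aff he h)
  exact two_trans_of_not_aff he hg

theorem exists_reflection {τ : G} {e : ZMod p ≃ Ω} (he : ∀ j, τ • e j = e (j + 1))
    (hτ : orderOf τ = p) (hp2 : p ≠ 2)
    (heven : Even (Nat.card (normalizer ((zpowers τ : Subgroup G) : Set G)))) (c : ZMod p) :
    ∃ t : G, ∀ j, t • e j = e (c - j) := by
  have hp : p.Prime := Fact.out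
  have : Finite Ω := Finite.of_equiv _ e
  have : Finite G := finite_of_faithful (Ω := Ω)
  obtain ⟨t, ht⟩ := exists_prime_orderOf_dvd_card' (G := normalizer ((zpowers τ : Subgroup G) : Set G))
    2 heven.two_dvd
  have ht' : orderOf (t : G) = 2 := by rw [Subgroup.orderOf_coe, ht]
  obtain ⟨a, b, h⟩ := aff_of_mem_normalizer he hτ t.2
  have h2 : ∀ j, a * (a * j + b) + b = j := fun j => by
    apply e.injective
    rw [← h, ← h, ← mul_smul, ← pow_two, ← ht', pow_orderOf_eq_one, one_smul]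
  have h3 : a * a = 1 := by linear_combination h2 1 - h2 0
  rcases mul_self_eq_one_iff.1 h3 with rfl | rfl
  · exfalso
    have := orderOf_dvd_of_mem_zpowers (mem_zpowers_of_transl he (b := b) (by simpa using h))
    rw [ht', hτ] at this
    exact hp2 ((Nat.prime_dvd_prime_iff_eq Nat.prime_two hp).1 this).symm
  · refine ⟨τ ^ (c - b).val * t, fun j => ?_⟩
    rw [mul_smul, h, coord_pow_val he]
    congr 1; ring

theorem three_trans_of_even (hΩ : Nat.card Ω = p) (hG : ¬ Group.IsSolvable G) (P : Sylow p G)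
    (heven : Even (Nat.card (normalizer ((P : Subgroup G) : Set G)))) :
    IsMultiplyPretransitive G Ω 3 := by
  classical
  have hp : p.Prime := Fact.out
  obtain ⟨τ, e, hP, hτ, he⟩ := exists_coord_sylow hΩ P
  obtain ⟨g, hg⟩ := not_forall.1 fun h => hG (solvable_of_aff he h)
  have : Finite Ω := Finite.of_equiv _ e
  have := Fintype.ofFinite Ω
  have : Finite G := finite_of_faithful (Ω := Ω)
  have h5 := five_le_of_not_aff hg
  rw [hP] at heven
  have hr := exists_reflection he hτ (by omega) heven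
  have h2ne : (2 : ZMod p) ≠ 0 := by
    intro h
    have := (ZMod.natCast_eq_zero_iff 2 p).1 h
    have := Nat.le_of_dvd two_pos this
    omega
  refine three_trans_of_heart (K := ZMod p) (two_trans_of_not_aff he hg) (fun a => ?_) ?_
  · obtain ⟨i, rfl⟩ := e.surjective a
    obtain ⟨t, ht⟩ := hr (i + i)
    have h1 : t ∈ stabilizer G (e i) := by rw [mem_stabilizer_iff, ht]; simp
    have h2 : orderOf t = 2 := by
      refine orderOf_eq_prime (eq_of_coord (e := e) fun j => ?_) fun h => ?_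
      · rw [pow_two, mul_smul, ht, ht]; simp
      · have := ht (i + 1)
        rw [h, one_smul] at this
        apply h2ne
        linear_combination e.injective this
    rw [even_iff_two_dvd, ← h2]
    exact orderOf_dvd_natCard (⟨t, h1⟩ : stabilizer G (e i)) |> (by rwa [orderOf_mk] at ·)
  · intro f hf
    let W : Subrepresentation (permRep (ZMod p) G Ω) :=
      { toSubmodule := (LinearMap.ker f.toLinearMap).map (Submodule.subtype _)
        apply_mem_toSubmodule := by
          rintro x _ ⟨v, hv, rfl⟩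
          refine ⟨(permSumZero (ZMod p) G Ω).toRepresentation x v, ?_, rfl⟩
          have h1 := f.isIntertwining (permSumZero (ZMod p) G Ω).toRepresentation _ x v
          have h2 : f v = 0 := hv
          show f _ = 0
          rw [h1, h2, map_zero] }
    have hsum : ∀ c : ZMod p, (fun _ => c : Ω → ZMod p) ∈ (permSumZero (ZMod p) G Ω).toSubmodule :=
      fun c => by
        rw [mem_permSumZero, Finset.sum_const, Finset.card_univ, ← Nat.card_eq_fintype_card, hΩ]
        simp
    have hle1 : (permConstants (ZMod p) G Ω).toSubmodule ≤ W.toSubmodule := by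
      intro v hv
      obtain ⟨c, hc⟩ := mem_permConstants.1 hv
      have hv' : v ∈ (permSumZero (ZMod p) G Ω).toSubmodule := by
        rw [show v = fun _ => c from funext hc]; exact hsum c
      exact ⟨⟨v, hv'⟩, hf ⟨v, hv'⟩ hv, rfl⟩
    have hv : (e.symm : Ω → ZMod p) ∈ (permSumZero (ZMod p) G Ω).toSubmodule := by
      rw [mem_permSumZero, Equiv.sum_comp e.symm (fun x => x)]
      have h1 : ∑ x : ZMod p, x = ∑ x : ZMod p, -x := (Equiv.sum_comp (Equiv.neg _) _).symm
      rw [Finset.sum_neg_distrib] at h1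
      apply mul_left_cancel₀ h2ne
      linear_combination h1
    have hfv : f ⟨_, hv⟩ = 0 := by
      funext s
      obtain ⟨x, y, hxy, hs⟩ := Finset.card_eq_two.1 s.2
      obtain ⟨i, rfl⟩ := e.surjective x
      obtain ⟨j, rfl⟩ := e.surjective y
      obtain ⟨t, ht⟩ := hr (i + j)
      have h1 := congrFun (f.isIntertwining (permSumZero (ZMod p) G Ω).toRepresentation _ t⁻¹
        ⟨_, hv⟩) s
      have h2 : (permSumZero (ZMod p) G Ω).toRepresentation t⁻¹ ⟨_, hv⟩ =
          ⟨_, hsum (i + j)⟩ - ⟨_, hv⟩ := by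
        refine Subtype.ext (funext fun x => ?_)
        obtain ⟨k, rfl⟩ := e.surjective x
        show e.symm (t⁻¹⁻¹ • e k) = (i + j) - e.symm (e k)
        rw [inv_inv, ht]; simp
      have h3 : t • s = s := by
        apply Subtype.ext
        show t • (s : Finset Ω) = s
        rw [hs]
        simp [Finset.smul_finset_insert, ht, Finset.pair_comm]
      rw [h2, map_sub, hf _ (mem_permConstants.2 ⟨_, fun _ => rfl⟩), permRep_apply, inv_inv,
        h3] at h1
      apply mul_left_cancel₀ h2ne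
      simp only [Pi.sub_apply, Pi.zero_apply] at h1 ⊢
      linear_combination -h1
    rcases heart_irred_of_not_aff he hg W hle1 (Submodule.map_subtype_le _ _) with h | h
    · exfalso
      have : (e.symm : Ω → ZMod p) ∈ W.toSubmodule := ⟨⟨_, hv⟩, hfv, rfl⟩
      rw [h, mem_permConstants] at this
      obtain ⟨c, hc⟩ := this
      have h0 := hc (e 0)
      have h1 := hc (e 1)
      simp only [Equiv.symm_apply_apply] at h0 h1
      exact zero_ne_one (h0.trans h1.symm)
    · ext1
      ext1 v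
      have : (v : Ω → ZMod p) ∈ W.toSubmodule := by rw [h]; exact v.2
      obtain ⟨w, hw, hwv⟩ := this
      rw [← Subtype.ext hwv]
      exact hw

theorem fixed_unique_of_inverts {Ω' : Type*} [MulAction G Ω'] {τ t : G} {e : ZMod p ≃ Ω'}
    (he : ∀ j, τ • e j = e (j + 1)) (hτ : τ ^ p = 1) (hp2 : p ≠ 2) (ht : t * τ * t⁻¹ = τ⁻¹) :
    ∃ m : Ω', ∀ x, t • x = x ↔ x = m := by
  have hp : p.Prime := Fact.out
  have h1 : t * τ * t⁻¹ = τ ^ (p - 1) := by
    rw [ht, inv_eq_iff_mul_eq_one, ← pow_succ', Nat.sub_add_cancel hp.one_le, hτ]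
  have h2 := aff_of_conj he h1
  have h3 : ((p - 1 : ℕ) : ZMod p) = -1 := by rw [Nat.cast_sub hp.one_le]; simp
  have h2ne : (2 : ZMod p) ≠ 0 := by
    intro h
    exact hp2 ((Nat.prime_dvd_prime_iff_eq hp Nat.prime_two).1 ((ZMod.natCast_eq_zero_iff 2 p).1 h))
  rw [h3] at h2
  refine ⟨e (e.symm (t • e 0) / 2), fun x => ?_⟩
  obtain ⟨j, rfl⟩ := e.surjective x
  rw [h2, e.apply_eq_iff_eq, e.apply_eq_iff_eq, eq_div_iff h2ne]
  constructor <;> intro h <;> linear_combination -h

theorem eq_stabilizer_of_index (hΩ : Nat.card Ω = p) (P : Sylow p G)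
    (heven : Even (Nat.card (normalizer ((P : Subgroup G) : Set G)))) (H : Subgroup G)
    (hH : H.index = p) : ∃ a : Ω, H = stabilizer G a := by
  classical
  have hp : p.Prime := Fact.out
  obtain ⟨τ, e, hP, hτ, he⟩ := exists_coord_sylow hΩ P
  have : Finite Ω := Finite.of_equiv _ e
  have : Finite G := finite_of_faithful (Ω := Ω)
  have hHp : ¬ p ∣ Nat.card H := by
    intro h
    have h1 : p ^ 2 ∣ Nat.card G := by
      rw [← H.card_mul_index, hH, pow_two]; exact Nat.mul_dvd_mul_right h p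
    have h2 := P.pow_dvd_card_of_pow_dvd_card h1
    rw [card_sylow_prime_deg hΩ P, pow_two] at h2
    have := Nat.le_of_dvd hp.pos h2
    have := hp.two_le
    nlinarith
  suffices ∃ a : Ω, H ≤ stabilizer G a by
    obtain ⟨a, ha⟩ := this
    refine ⟨a, eq_of_le_of_card_ge ha ?_⟩
    have h1 := H.card_mul_index
    have h2 := (stabilizer G a).card_mul_index
    rw [index_stabilizer_of_transitive, hΩ] at h2
    rw [hH, ← h2] at h1
    exact (Nat.eq_of_mul_eq_mul_right hp.pos h1).ge
  have hHτ : ∀ h ∈ H, h ∈ zpowers τ → h = 1 := by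
    intro h h1 h2
    have h3 := orderOf_dvd_of_mem_zpowers h2
    rw [hτ, Nat.dvd_prime hp] at h3
    rcases h3 with h3 | h3
    · exact orderOf_eq_one_iff.1 h3
    · exact absurd (h3 ▸ orderOf_dvd_natCard H h1) hHp
  by_cases haff : ∀ g : G, Aff e g
  · by_cases hbot : H = ⊥
    · exact ⟨e 0, hbot ▸ bot_le⟩
    obtain ⟨⟨h, hh⟩, hne⟩ := ne_bot_iff_exists_ne_one.1 hbot
    obtain ⟨a, b, hab⟩ := haff h
    have ha : a - 1 ≠ 0 := by
      intro ha
      rw [sub_eq_zero] at ha
      subst ha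
      exact hne (Subtype.ext (hHτ h hh (mem_zpowers_of_transl he (b := b) (by simpa using hab))))
    have hfix : ∀ j, h • e j = e j ↔ j = -b / (a - 1) := fun j => by
      rw [hab, e.apply_eq_iff_eq, eq_div_iff ha]
      constructor <;> intro h <;> linear_combination h
    refine ⟨e (-b / (a - 1)), fun k hk => ?_⟩
    have hc := hHτ _ (by
      rw [commutatorElement_def]
      exact H.mul_mem (H.mul_mem (H.mul_mem hh hk) (H.inv_mem hh)) (H.inv_mem hk))
      (commutator_mem_zpowers he (haff h) (haff k))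
    rw [commutatorElement_eq_one_iff_mul_comm] at hc
    obtain ⟨j, hj⟩ := e.surjective (k • e (-b / (a - 1)))
    rw [mem_stabilizer_iff, ← hj, e.apply_eq_iff_eq, ← hfix, hj, ← mul_smul, hc, mul_smul,
      (hfix _).2 rfl]
  obtain ⟨g, hg⟩ := not_forall.1 haff
  have h2t := MT_top_of_isMultiplyPretransitive (by rw [hΩ]; exact hp.two_le)
    (two_trans_of_not_aff he hg)
  have h5 := five_le_of_not_aff hg
  rw [hP] at heven
  obtain ⟨t, ht⟩ := exists_reflection he hτ (by omega) heven 0
  have htt : t * t = 1 := eq_of_coord (e := e) fun j => by rw [mul_smul, ht, ht]; simp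
  have htτ : t * τ * t⁻¹ = τ⁻¹ := by
    rw [eq_inv_iff_mul_eq_one, ← eq_inv_of_mul_eq_one_left htt]
    refine eq_of_coord (e := e) fun j => ?_
    simp only [mul_smul, he, ht, one_smul]
    congr 1; ring
  have hτp : τ ^ p = 1 := hτ ▸ pow_orderOf_eq_one τ
  obtain ⟨m, hm⟩ := fixed_unique_of_inverts he hτp (by omega) htτ
  have hmove : τ • ((1 : G) : G ⧸ H) ≠ (1 : G) := by
    intro h
    have h1 : τ ∈ H := by
      have : τ ∈ stabilizer G ((1 : G) : G ⧸ H) := h
      rwa [stabilizer_quotient] at this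
    have := hHτ τ h1 (mem_zpowers τ)
    rw [this, orderOf_one] at hτ
    omega
  obtain ⟨e', -, he'⟩ := exists_coord (Ω := G ⧸ H) hH hτp hmove
  obtain ⟨ω₀, hω⟩ := fixed_unique_of_inverts he' hτp (by omega) htτ
  obtain ⟨g₀, rfl⟩ := QuotientGroup.mk_surjective ω₀
  -- the relation
  set D : Set Ω := orbit H (e 0) with hD
  let R : Ω → G ⧸ H → Prop := fun x ω => ∃ u : G, (u : G ⧸ H) = ω ∧ u⁻¹ • x ∈ D
  have hR : ∀ (x : Ω) (u : G), R x u ↔ u⁻¹ • x ∈ D := by
    intro x u
    refine ⟨fun ⟨v, hv, hvx⟩ => ?_, fun h => ⟨u, rfl, h⟩⟩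
    have h1 : v⁻¹ * u ∈ H := QuotientGroup.eq.1 hv
    have := pres_orbit H (e 0) _ (H.inv_mem h1) _ hvx
    simpa [mul_smul] using this
  have hRs : ∀ (u : G) x ω, R (u • x) (u • ω) ↔ R x ω := by
    intro u x ω
    obtain ⟨v, rfl⟩ := QuotientGroup.mk_surjective ω
    rw [MulAction.Quotient.smul_mk, hR, hR, smul_eq_mul, mul_inv_rev, mul_smul, inv_smul_smul]
  let S : Ω → Ω → Set (G ⧸ H) := fun x y => {ω | R x ω ∧ R y ω}
  have hS : ∀ (u : G) x y, (S (u • x) (u • y)).ncard = (S x y).ncard := by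
    intro u x y
    rw [← Set.ncard_smul_set u (S x y)]
    congr 1
    ext ω
    rw [Set.mem_smul_set_iff_inv_smul_mem]
    show _ ∧ _ ↔ _ ∧ _
    rw [← hRs u x, ← hRs u y, smul_inv_smul]
  have hpar : ∀ x, (S x (t • x)).ncard ≡ if R x g₀ then 1 else 0 [MOD 2] := by
    intro x
    have h0 : ∀ ω ∈ S x (t • x), t • ω ∈ S x (t • x) := fun ω hω =>
      ⟨by have := (hRs t _ _).2 hω.2; rwa [← mul_smul, htt, one_smul] at this,
        (hRs t _ _).2 hω.1⟩
    refine (ncard_modEq_fixed_elt (n := 1) (by rw [pow_one, pow_two, htt]) (Set.toFinite _)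
      h0).trans ?_
    have hfix : {ω ∈ S x (t • x) | t • ω = ω} = S x (t • x) ∩ {(g₀ : G ⧸ H)} := by
      ext ω
      rw [Set.mem_inter_iff, Set.mem_singleton_iff, ← hω]
      rfl
    rw [hfix]
    split_ifs with h
    · rw [Set.inter_singleton_of_mem, Set.ncard_singleton]
      refine ⟨h, ?_⟩
      have := (hRs t _ _).2 h
      rwa [(hω _).2 rfl] at this
    · rw [Set.inter_singleton_of_notMem (fun hh => h hh.1), Set.ncard_empty]
  have hsame : ∀ x y, x ≠ m → y ≠ m → (R x g₀ ↔ R y g₀) := by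
    intro x y hx hy
    obtain ⟨u, -, hu1, hu2⟩ := h2t.two le_rfl (Set.mem_univ x) (Set.mem_univ (t • x))
      (Set.mem_univ y) (Set.mem_univ (t • y)) (fun h => hx ((hm x).1 h.symm))
      (fun h => hy ((hm y).1 h.symm))
    have h1 := hS u x (t • x)
    rw [hu1, hu2] at h1
    have h2 := hpar x
    have h3 := hpar y
    rw [h1] at h3
    have h4 := h2.symm.trans h3
    by_cases hx' : R x g₀ <;> by_cases hy' : R y g₀ <;> simp_all [Nat.ModEq]
  refine ⟨g₀⁻¹ • m, fun h hh => ?_⟩
  by_contra hne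
  have hne' : (g₀ * h * g₀⁻¹) • m ≠ m := by
    intro h1
    apply hne
    rw [mem_stabilizer_iff, eq_inv_smul_iff, ← mul_smul, ← mul_smul, h1]
  have hall : ∀ x, (R x g₀ ↔ R m g₀) := by
    intro x
    by_cases hx : x = m
    · rw [hx]
    rw [hsame x _ hx hne', hR, hR, ← mul_smul, show g₀⁻¹ * (g₀ * h * g₀⁻¹) = h * g₀⁻¹ by group,
      mul_smul]
    exact (pres_orbit H (e 0)).smul_mem_iff hh
  have hDu : D = Set.univ := by
    rw [Set.eq_univ_iff_forall]
    intro x
    have h1 := (hall (g₀ • x)).trans (hall (g₀ • e 0)).symm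
    rw [hR, hR, inv_smul_smul, inv_smul_smul] at h1
    exact h1.2 (mem_orbit_self _)
  apply hHp
  have := ncard_orbit_mul H (e 0)
  rw [← hD, hDu, Set.ncard_univ, hΩ] at this
  exact Dvd.intro _ this

end H14
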