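import Mathlib
import Cfsg.Agent.H14.Gener

/-! Jordan's theorem on prime cycles, and elements of small support. -/

set_option autoImplicit false
set_option linter.unusedSectionVars false

namespace H14

open MulAction Subgroup H22 Equiv Equiv.Perm

variable {α : Type*} [Fintype α] [DecidableEq α]

theorem MT.perm {G : Subgroup (Perm α)} {F : Set α} {k : ℕ} (h : MT G F k) (s : Finset α)
    (f : α → α) (hs : (s : Set α) ⊆ F) (hc : s.card ≤ k) (hi : Set.InjOn f s)
    (hm : Set.MapsTo f s F) : ∃ g ∈ G, ∀ a ∈ s, g a = f a := h s f hs hc hi hm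

theorem MT.perm' {G : Subgroup (Perm α)} {k : ℕ} (h : MT G (Set.univ : Set α) k) (s : Finset α)
    (f : Perm α) (hc : s.card ≤ k) : ∃ g ∈ G, ∀ a ∈ s, g a = f a :=
  h s f (Set.subset_univ _) hc f.injective.injOn (Set.mapsTo_univ _ _)

theorem alt_le_of_support_le_three {G : Subgroup (Perm α)} (hG : IsPreprimitive G α)
    {h : Perm α} (hh : h ∈ G) (h1 : h ≠ 1) (h3 : h.support.card ≤ 3) : alternatingGroup α ≤ G := by
  have := two_le_card_support_of_ne_one h1
  rcases (by omega : h.support.card = 2 ∨ h.support.card = 3) with h2 | h2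
  · rw [subgroup_eq_top_of_isPreprimitive_of_isSwap_mem hG h (card_support_eq_two.1 h2) hh]
    exact le_top
  · exact alternatingGroup_le_of_isPreprimitive_of_isThreeCycle_mem hG
      (card_support_eq_three_iff.1 h2) hh

theorem conj_eq_of_eq_on_support {g t s : Perm α} (h : ∀ x ∈ g.support, t x = s x) :
    t * g * t⁻¹ = s * g * s⁻¹ := by
  have hs : (t * g * t⁻¹).support = (s * g * s⁻¹).support := by
    rw [support_conj, support_conj]
    ext y
    simp only [Finset.mem_map, Equiv.toEmbedding_apply]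
    exact exists_congr fun x => and_congr_right fun hx => by rw [h x hx]
  refine support_congr hs.le fun y hy => ?_
  rw [support_conj] at hy
  obtain ⟨x, hx, rfl⟩ := Finset.mem_map.1 hy
  simp only [Equiv.toEmbedding_apply]
  conv_lhs => rw [← h x hx]
  simp [h _ (apply_mem_support.2 hx)]

theorem card_support_inv_mul_le (g g' : Perm α) (O A : Finset α) (hO : O ⊆ g.support)
    (hO' : O ⊆ g'.support) (hA : A ⊆ O) (hAg : ∀ x ∈ A, g x = g' x) :
    (g⁻¹ * g').support.card + O.card + A.card ≤ g.support.card + g'.support.card := by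
  have h1 : (g⁻¹ * g').support ⊆ (g.support ∪ g'.support) \ A := by
    intro x hx
    refine Finset.mem_sdiff.2 ⟨?_, fun hxA => ?_⟩
    · have := support_mul_le _ _ hx
      rwa [support_inv] at this
    · rw [mem_support, Perm.mul_apply, ← hAg x hxA] at hx
      simp at hx
  have h2 := Finset.card_le_card h1
  rw [Finset.card_sdiff_of_subset (hA.trans (hO.trans Finset.subset_union_left))] at h2
  have h3 := Finset.card_union_add_card_inter g.support g'.support
  have h4 : O.card ≤ (g.support ∩ g'.support).card :=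
    Finset.card_le_card (Finset.subset_inter hO hO')
  have h5 : A.card ≤ (g.support ∪ g'.support).card :=
    Finset.card_le_card (hA.trans (hO.trans Finset.subset_union_left))
  omega

theorem exists_almost_closed (g : Perm α) (j : ℕ) (hj : j ≤ g.support.card) :
    ∃ Δ : Finset α, Δ ⊆ g.support ∧ Δ.card = j ∧
      ∀ x ∈ Δ, g x ∉ Δ → ∀ y ∈ Δ, g y ∉ Δ → x = y := by
  induction j with
  | zero => exact ⟨∅, by simp⟩
  | succ j ih =>
    obtain ⟨Δ, hΔ, hc, hu⟩ := ih (by omega)
    by_cases hex : ∃ δ ∈ Δ, g δ ∉ Δ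
    · obtain ⟨δ, hδ, hgδ⟩ := hex
      refine ⟨insert (g δ) Δ, Finset.insert_subset (apply_mem_support.2 (hΔ hδ)) hΔ,
        by rw [Finset.card_insert_of_notMem hgδ, hc], ?_⟩
      have key : ∀ x ∈ insert (g δ) Δ, g x ∉ insert (g δ) Δ → x = g δ := by
        intro x hx hgx
        rcases Finset.mem_insert.1 hx with h | h
        · exact h
        · simp only [Finset.mem_insert, not_or] at hgx
          exact absurd (by rw [hu x h hgx.2 δ hδ hgδ]) hgx.1
      intro x hx hgx y hy hgy
      rw [key x hx hgx, key y hy hgy]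
    · push Not at hex
      obtain ⟨a, ha, haΔ⟩ := Finset.exists_mem_notMem_of_card_lt_card
        (show Δ.card < g.support.card by omega)
      refine ⟨insert a Δ, Finset.insert_subset ha hΔ,
        by rw [Finset.card_insert_of_notMem haΔ, hc], ?_⟩
      have key : ∀ x ∈ insert a Δ, g x ∉ insert a Δ → x = a := by
        intro x hx hgx
        rcases Finset.mem_insert.1 hx with h | h
        · exact h
        · exact absurd (Finset.mem_insert_of_mem (hex x h)) hgx
      intro x hx hgx y hy hgy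
      rw [key x hx hgx, key y hy hgy]

theorem exists_support_le_three {G : Subgroup (Perm α)} {k : ℕ} (hk : 3 ≤ k)
    (hG : MT G (Set.univ : Set α) k) :
    ∀ (m : ℕ) (g : Perm α), g ∈ G → g ≠ 1 → g.support.card = m → m < 2 * k - 2 →
      ∃ h ∈ G, h ≠ 1 ∧ h.support.card ≤ 3 := by
  intro m
  induction m using Nat.strong_induction_on with | _ m ih => ?_
  intro g hg hg1 hm hmk
  by_cases h3 : m ≤ 3
  · exact ⟨g, hg, hg1, hm ▸ h3⟩
  have step : ∀ h ∈ G, h ≠ 1 → h.support.card < m → ∃ h ∈ G, h ≠ 1 ∧ h.support.card ≤ 3 :=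
    fun h hh h1 hlt => ih _ hlt h hh h1 rfl (by omega)
  by_cases hu : ∃ e, e ∉ g.support
  swap
  · push Not at hu
    obtain ⟨s, hs, hs3⟩ := Finset.exists_subset_card_eq (show 3 ≤ g.support.card by omega)
    obtain ⟨a, b, c, hab, hac, hbc, rfl⟩ := Finset.card_eq_three.1 hs3
    obtain ⟨t, ht, hts⟩ := hG.perm' {a, b, c} (swap b c) (by omega)
    refine step t ht (fun h => hbc ?_) ?_
    · have := hts b (by simp)
      rw [h, swap_apply_left] at this
      exact this
    · rw [← hm]
      refine Finset.card_lt_card ⟨fun x _ => hu x, fun h => ?_⟩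
      have := hts a (by simp)
      rw [swap_apply_of_ne_of_ne hab hac] at this
      exact (mem_support.1 (h (hu a))) this
  obtain ⟨e, he⟩ := hu
  have hge : g e = e := notMem_support.1 he
  rcases Nat.lt_or_ge k m with hkm | hkm
  swap
  · obtain ⟨a, ha⟩ : g.support.Nonempty := Finset.card_pos.1 (by omega)
    obtain ⟨t, ht, hts⟩ := hG.perm' g.support (swap a e) (by omega)
    have hae : a ≠ e := fun h => he (h ▸ ha)
    have h1 : g⁻¹ * (t * g * t⁻¹) = swap (g⁻¹ a) e * swap a e := by
      rw [conj_eq_of_eq_on_support hts, swap_inv, ← mul_assoc, ← mul_assoc]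
      congr 1
      have := swap_apply_apply g⁻¹ a e
      rw [show g⁻¹ e = e by rw [Perm.inv_eq_iff_eq, hge]] at this
      rw [this, inv_inv]
    have ha' : g⁻¹ a ≠ a := by
      rw [Ne, Perm.inv_eq_iff_eq, eq_comm]; exact mem_support.1 ha
    refine ⟨_, G.mul_mem (G.inv_mem hg) (G.mul_mem (G.mul_mem ht hg) (G.inv_mem ht)), ?_, ?_⟩
    · rw [h1]
      intro h
      have := congrArg (fun σ : Perm α => σ e) h
      simp only [Perm.mul_apply, swap_apply_right, Perm.one_apply] at this
      rw [swap_apply_of_ne_of_ne ha'.symm hae] at this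
      exact hae this
    · rw [h1]
      refine le_trans (Finset.card_le_card (t := {g⁻¹ a, e, a}) fun x hx => ?_) Finset.card_le_three
      by_contra hx'
      simp only [Finset.mem_insert, Finset.mem_singleton, not_or] at hx'
      rw [mem_support, Perm.mul_apply, swap_apply_of_ne_of_ne hx'.2.2 hx'.2.1,
        swap_apply_of_ne_of_ne hx'.1 hx'.2.1] at hx
      exact hx rfl
  obtain ⟨Δ, hΔ, hc, hu⟩ := exists_almost_closed g (k - 1) (by omega)
  have hmem : ∀ t : Perm α, ∀ x ∈ g.support, t x ∈ (t * g * t⁻¹).support := by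
    intro t x hx
    rw [support_conj]
    exact Finset.mem_map.2 ⟨x, hx, rfl⟩
  by_cases hex : ∃ δ ∈ Δ, g δ ∉ Δ
  · obtain ⟨δ, hδ, hgδ⟩ := hex
    obtain ⟨c, hc1, hc2⟩ := Finset.exists_mem_notMem_of_card_lt_card
      (show (insert (g δ) Δ).card < g.support.card by
        rw [Finset.card_insert_of_notMem hgδ]; omega)
    simp only [Finset.mem_insert, not_or] at hc2
    obtain ⟨t, ht, hts⟩ := hG.perm' (insert (g δ) Δ) (swap (g δ) c)
      (by rw [Finset.card_insert_of_notMem hgδ]; omega)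
    have htΔ : ∀ x ∈ Δ, t x = x := fun x hx => by
      rw [hts x (Finset.mem_insert_of_mem hx), swap_apply_of_ne_of_ne]
      · rintro rfl; exact hgδ hx
      · rintro rfl; exact hc2.2 hx
    have htΔ' : ∀ x ∈ Δ, t⁻¹ x = x := fun x hx => by rw [Perm.inv_eq_iff_eq, htΔ x hx]
    have htc : t (g δ) = c := by rw [hts _ (Finset.mem_insert_self _ _), swap_apply_left]
    have hle := card_support_inv_mul_le g (t * g * t⁻¹) (insert c Δ) (Δ.erase δ)
      (Finset.insert_subset hc1 hΔ)
      (Finset.insert_subset (htc ▸ hmem t _ (apply_mem_support.2 (hΔ hδ)))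
        fun x hx => by simpa [htΔ x hx] using hmem t x (hΔ hx))
      ((Finset.erase_subset _ _).trans (Finset.subset_insert _ _))
      (fun x hx => by
        have hx' := Finset.mem_erase.1 hx
        have : g x ∈ Δ := by
          by_contra hh
          exact hx'.1 (hu x hx'.2 hh δ hδ hgδ)
        rw [Perm.mul_apply, Perm.mul_apply, htΔ' x hx'.2, htΔ _ this])
    rw [card_support_conj, Finset.card_insert_of_notMem hc2.2, Finset.card_erase_of_mem hδ] at hle
    refine step _ (G.mul_mem (G.inv_mem hg) (G.mul_mem (G.mul_mem ht hg) (G.inv_mem ht)))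
      (fun h => hc2.1 ?_) (by omega)
    rw [inv_mul_eq_one] at h
    rw [← htc]
    conv_rhs => rw [h, Perm.mul_apply, Perm.mul_apply, htΔ' δ hδ]
  · push Not at hex
    obtain ⟨a, ha1, ha2⟩ := Finset.exists_mem_notMem_of_card_lt_card
      (show Δ.card < g.support.card by omega)
    obtain ⟨t, ht, hts⟩ := hG.perm' (insert a Δ) (swap a e)
      (by rw [Finset.card_insert_of_notMem ha2]; omega)
    have htΔ : ∀ x ∈ Δ, t x = x := fun x hx => by
      rw [hts x (Finset.mem_insert_of_mem hx), swap_apply_of_ne_of_ne]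
      · rintro rfl; exact ha2 hx
      · rintro rfl; exact he (hΔ hx)
    have htΔ' : ∀ x ∈ Δ, t⁻¹ x = x := fun x hx => by rw [Perm.inv_eq_iff_eq, htΔ x hx]
    have hta : t a = e := by rw [hts _ (Finset.mem_insert_self _ _), swap_apply_left]
    have hle := card_support_inv_mul_le g (t * g * t⁻¹) Δ Δ hΔ
      (fun x hx => by simpa [htΔ x hx] using hmem t x (hΔ hx)) le_rfl
      (fun x hx => by rw [Perm.mul_apply, Perm.mul_apply, htΔ' x hx, htΔ _ (hex x hx)])
    rw [card_support_conj] at hle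
    refine step _ (G.mul_mem (G.inv_mem hg) (G.mul_mem (G.mul_mem ht hg) (G.inv_mem ht)))
      (fun h => he ?_) (by omega)
    rw [inv_mul_eq_one] at h
    rw [h, ← hta]
    exact hmem t a ha1

/-- Jordan's theorem. -/
theorem jordan_prime_cycle {G : Subgroup (Perm α)} (hG : IsPreprimitive G α) {p : ℕ}
    (hp : p.Prime) (hpn : p + 3 ≤ Fintype.card α) {g : Perm α} (hgc : g.IsCycle)
    (hgp : g.support.card = p) (hg : g ∈ G) : alternatingGroup α ≤ G := by
  have : Fact p.Prime := ⟨hp⟩
  set Δ : Finset α := g.supportᶜ with hΔ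
  have hΔc : Δ.card + p = Fintype.card α := by rw [hΔ, Finset.card_compl, hgp]; omega
  have hmemΔ : ∀ {x}, x ∈ Δ ↔ g x = x := by simp [hΔ]
  obtain ⟨m, hm⟩ : ∃ m, Δ.card = m + 1 := ⟨Δ.card - 1, by omega⟩
  have h2 := hp.two_le
  have hMT : MT G (Set.univ : Set α) Δ.card := by
    have h1 := hG.isMultiplyPreprimitive (s := (g.supportᶜ : Set α)) (n := m)
      (by rw [← hm, hΔ, ← Finset.coe_compl, Set.ncard_coe_finset])
      (by rw [Nat.card_eq_fintype_card]; omega) (by
        classical
        have := isPretransitive_of_isCycle_mem hgc hg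
        apply IsPreprimitive.of_prime_card
        convert! hp
        rw [Nat.card_eq_fintype_card, Fintype.card_subtype, ← hgp]
        apply congr_arg
        ext x
        simp [SubMulAction.mem_ofFixingSubgroup_iff])
    exact (MT_of_isMultiplyPretransitive (by rw [Nat.card_eq_fintype_card]; omega)
      h1.isMultiplyPretransitive).mono (by omega)
  have hord : orderOf g = p := by rw [hgc.orderOf, hgp]
  have hsame : ∀ x ∈ g.support, ∀ y ∈ g.support, ∃ i : ℤ, (g ^ i) x = y := fun x hx y hy =>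
    hgc.sameCycle (mem_support.1 hx) (mem_support.1 hy)
  obtain ⟨x, hx⟩ : g.support.Nonempty := Finset.card_pos.1 (by omega)
  have hSyl : SylIn p (zpowers g) (G ⊓ fixingSubgroup (Perm α) (Δ : Set α)) := by
    refine ⟨(zpowers_le).2 ⟨hg, mem_fixing.2 fun y hy => hmemΔ.1 hy⟩,
      isPGroup_zpowers (k := 1) (by rw [pow_one, ← hord, pow_orderOf_eq_one]),
      fun R hR hRp hgR => le_antisymm (fun r hr => ?_) hgR⟩
    have hpres : Pres R (g.support : Set α) := by
      have := ((Pres.univ G).fixing (Δ : Set α)).mono hR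
      rwa [hΔ, Finset.coe_compl, ← Set.compl_eq_univ_sdiff, compl_compl] at this
    obtain ⟨i, hi⟩ := hsame x hx (r x) (hpres r hr x hx)
    have hu : (g ^ i)⁻¹ * r ∈ R ⊓ stabilizer (Perm α) x :=
      ⟨R.mul_mem (R.inv_mem (hgR (zpow_mem_zpowers g i))) hr, by
        show (g ^ i)⁻¹ (r x) = x
        rw [← hi]; simp⟩
    have hfix := fun y hy => fixed_of_ncard_lt (hRp.to_le inf_le_left)
      (g.support.finite_toSet.sdiff) (hpres.stab x) (by
        rw [Set.ncard_sdiff_singleton_of_mem hx, Set.ncard_coe_finset]; omega) (a := y) hy _ hu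
    have : (g ^ i)⁻¹ * r = 1 := by
      ext y
      by_cases hy : y ∈ Δ
      · exact mem_fixing.1 (hR hu.1).2 y hy
      · by_cases hyx : y = x
        · rw [hyx]; exact hu.2
        · exact hfix y ⟨by simpa [hΔ] using hy, hyx⟩
    rw [inv_mul_eq_one] at this
    rw [← this]; exact zpow_mem_zpowers g i
  have hW := hMT.witt (Set.subset_univ _) rfl hSyl
  have hF : Set.univ ∩ fixedPoints (zpowers g) α = Δ := by
    ext y
    simp only [Set.univ_inter, mem_fix, Finset.mem_coe, hmemΔ]
    exact ⟨fun h => h g (mem_zpowers g), by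
      rintro h _ ⟨i, rfl⟩; exact zpow_apply_eq_self_of_apply_eq_self h i⟩
  rw [hF] at hW
  obtain ⟨s, hs, hs3⟩ := Finset.exists_subset_card_eq (show 3 ≤ Δ.card by omega)
  obtain ⟨a, b, c, hab, hac, hbc, rfl⟩ := Finset.card_eq_three.1 hs3
  have hswap : ∀ {u v : α}, u ∈ Δ → v ∈ Δ → ∀ y ∈ Δ, swap u v y ∈ Δ := by
    intro u v hu hv y hy
    rw [swap_apply_def]
    split_ifs <;> assumption
  have ha : a ∈ Δ := hs (by simp)
  have hb : b ∈ Δ := hs (by simp)
  have hc : c ∈ Δ := hs (by simp)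
  obtain ⟨n₁, hn₁, e₁⟩ := hW.perm Δ (swap a b) le_rfl le_rfl (Equiv.injective _).injOn
    (hswap ha hb)
  obtain ⟨n₂, hn₂, e₂⟩ := hW.perm Δ (swap a c) le_rfl le_rfl (Equiv.injective _).injOn
    (hswap ha hc)
  obtain ⟨i, hi⟩ := conj_mem_of_mem_normalizer hn₁.2 (mem_zpowers g)
  obtain ⟨j, hj⟩ := conj_mem_of_mem_normalizer hn₂.2 (mem_zpowers g)
  simp only at hi hj
  set c₀ := (n₂ * n₁)⁻¹ * (n₁ * n₂) with hc₀
  have hcomm : c₀ * g = g * c₀ := by
    have e1 : (n₁ * n₂) * g * (n₁ * n₂)⁻¹ = g ^ (i * j) := by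
      calc (n₁ * n₂) * g * (n₁ * n₂)⁻¹ = n₁ * (n₂ * g * n₂⁻¹) * n₁⁻¹ := by group
        _ = (n₁ * g * n₁⁻¹) ^ j := by rw [← hj, conj_zpow]
        _ = g ^ (i * j) := by rw [← hi, zpow_mul]
    have e2 : (n₂ * n₁) * g * (n₂ * n₁)⁻¹ = g ^ (i * j) := by
      calc (n₂ * n₁) * g * (n₂ * n₁)⁻¹ = n₂ * (n₁ * g * n₁⁻¹) * n₂⁻¹ := by group
        _ = (n₂ * g * n₂⁻¹) ^ i := by rw [← hi, conj_zpow]
        _ = g ^ (i * j) := by rw [← hj, mul_comm, zpow_mul]
    calc c₀ * g = (n₂ * n₁)⁻¹ * ((n₁ * n₂) * g * (n₁ * n₂)⁻¹) * (n₁ * n₂) := by rw [hc₀]; group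
      _ = g * c₀ := by rw [e1, ← e2, hc₀]; group
  have hc₀G : c₀ ∈ G := G.mul_mem (G.inv_mem (G.mul_mem hn₂.1 hn₁.1)) (G.mul_mem hn₁.1 hn₂.1)
  have hc₀x : c₀ x ∈ g.support := by
    rw [mem_support, ← Perm.mul_apply, ← hcomm, Perm.mul_apply, c₀.injective.ne_iff]
    exact mem_support.1 hx
  obtain ⟨l, hl⟩ := hsame x hx _ hc₀x
  have hcomm' : Commute ((g ^ l)⁻¹ * c₀) g :=
    Commute.mul_left ((Commute.refl g).zpow_left l).inv_left hcomm
  have hT : (g ^ l)⁻¹ * c₀ = (swap a b * swap a c) * (swap a b * swap a c) := by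
    ext y
    by_cases hy : y ∈ Δ
    · have h1 : c₀ y = ((swap a b * swap a c) * (swap a b * swap a c)) y := by
        rw [hc₀, Perm.mul_apply, Perm.inv_eq_iff_eq]
        simp only [Perm.mul_apply]
        rw [e₂ y hy, e₁ _ (hswap ha hc y hy), e₁ _ (hswap ha hb _ (hswap ha hc _
          (hswap ha hb _ (hswap ha hc y hy)))), swap_apply_self,
          e₂ _ (hswap ha hc _ (hswap ha hb _ (hswap ha hc y hy))), swap_apply_self]
      rw [Perm.mul_apply, h1, Perm.inv_eq_iff_eq, zpow_apply_eq_self_of_apply_eq_self]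
      exact hmemΔ.1 (hswap ha hb _ (hswap ha hc _ (hswap ha hb _ (hswap ha hc y hy))))
    · have hya : y ≠ a := fun h => hy (h ▸ ha)
      have hyb : y ≠ b := fun h => hy (h ▸ hb)
      have hyc : y ≠ c := fun h => hy (h ▸ hc)
      simp only [Perm.mul_apply, swap_apply_of_ne_of_ne hya hyb, swap_apply_of_ne_of_ne hya hyc]
      obtain ⟨r, rfl⟩ := hsame x hx y (by simpa [hΔ] using hy)
      have h2 := congrArg (fun σ : Perm α => σ x) (hcomm'.zpow_right r).eq
      simp only [Perm.mul_apply] at h2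
      rw [h2, ← hl]
      simp
  refine alternatingGroup_le_of_isPreprimitive_of_isThreeCycle_mem hG
    (isThreeCycle_swap_mul_swap_same hab hac hbc).isThreeCycle_sq ?_
  rw [← hT]
  exact G.mul_mem (G.inv_mem (G.zpow_mem hg l)) hc₀G

end H14
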