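import Mathlib
import Cfsg.Agent.H14.Fix
import Cfsg.Agent.H14.Jordan
import Cfsg.Agent.H14.PrimeDeg

/-! Orders of multiply transitive groups; elements of prime order in permutation groups. -/

set_option autoImplicit false
set_option linter.unusedSectionVars false

namespace H14

open MulAction Subgroup Equiv Equiv.Perm

section General

variable {G : Type*} [Group G] {α : Type*} [MulAction G α]

theorem exists_mem_orderOf_eq {H : Subgroup G} [Finite H] {p : ℕ} (hp : p.Prime)
    (h : p ∣ Nat.card H) : ∃ g ∈ H, orderOf g = p := by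
  have : Fact p.Prime := ⟨hp⟩
  obtain ⟨g, hg⟩ := exists_prime_orderOf_dvd_card' (G := H) p h
  exact ⟨g, g.2, by rw [Subgroup.orderOf_coe, hg]⟩

theorem exists_pow_orderOf_prime {g : G} (hf : IsOfFinOrder g) (hg : g ≠ 1) :
    ∃ n : ℕ, (orderOf (g ^ n)).Prime ∧ orderOf (g ^ n) ∣ orderOf g := by
  have h1 : orderOf g ≠ 1 := fun h => hg (orderOf_eq_one_iff.1 h)
  obtain ⟨r, hr, hd⟩ := Nat.exists_prime_and_dvd h1
  refine ⟨orderOf g / r, ?_, ?_⟩
  · rwa [orderOf_pow_orderOf_div hf.orderOf_pos.ne' hd]
  · rwa [orderOf_pow_orderOf_div hf.orderOf_pos.ne' hd]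

theorem inf_stab_inf_fixing [DecidableEq α] (H : Subgroup G) (a : α) (s : Finset α) :
    (H ⊓ stabilizer G a) ⊓ fixingSubgroup G (s : Set α) =
      H ⊓ fixingSubgroup G ((insert a s : Finset α) : Set α) := by
  ext g
  simp only [mem_inf, mem_fixing, mem_stabilizer_iff, Finset.coe_insert, Set.mem_insert_iff,
    forall_eq_or_imp, and_assoc]

theorem ncard_diff_singleton_eq {F : Set α} {a : α} (ha : a ∈ F) :
    (F \ {a}).ncard = F.ncard - 1 := Set.ncard_diff_singleton_of_mem ha

theorem orbit_eq_of_MT {H : Subgroup G} {F : Set α} {k : ℕ} (h : MT H F k) (hk : 1 ≤ k)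
    (hP : Pres H F) {a : α} (ha : a ∈ F) : orbit H a = F :=
  Set.Subset.antisymm (hP.orbit_subset ha) fun _ hb => mem_orb.2 (h.one hk ha hb)

theorem MT.ncard_dvd {H : Subgroup G} {F : Set α} {k : ℕ} (h : MT H F k) (hk : 1 ≤ k)
    (hP : Pres H F) (hne : F.Nonempty) : F.ncard ∣ Nat.card H := by
  obtain ⟨a, ha⟩ := hne
  rw [← orbit_eq_of_MT h hk hP ha]
  exact Dvd.intro _ (ncard_orbit_mul H a)

theorem MT.card_fixing_mul {H : Subgroup G} {F : Set α} (s : Finset α) (h : MT H F s.card)
    (hP : Pres H F) (hs : (s : Set α) ⊆ F) :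
    Nat.card ↥(H ⊓ fixingSubgroup G (s : Set α)) * F.ncard.descFactorial s.card = Nat.card H := by
  classical
  induction s using Finset.induction_on generalizing H F with
  | empty => simp
  | insert a s ha ih =>
    rw [Finset.card_insert_of_notMem ha] at h ⊢
    have haF : a ∈ F := hs (by simp)
    have hsF : (s : Set α) ⊆ F \ {a} := fun x hx =>
      ⟨hs (by simp [hx]), fun hxa => ha (by rwa [← hxa])⟩
    have h1 := ih (h.stab haF) (hP.stab a) hsF
    rw [inf_stab_inf_fixing, ncard_diff_singleton_eq haF] at h1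
    have h2 := ncard_orbit_mul H a
    rw [orbit_eq_of_MT h (by omega) hP haF, ← h1] at h2
    rw [← h2]
    rcases Nat.eq_zero_or_pos F.ncard with h0 | h0
    · simp [h0]
    · obtain ⟨m, hm⟩ := Nat.exists_eq_succ_of_ne_zero h0.ne'
      rw [hm, Nat.succ_descFactorial_succ]; simp only [Nat.succ_sub_one, Nat.succ_eq_add_one]; ring

theorem MT.descFactorial_dvd {H : Subgroup G} {F : Set α} {k : ℕ} (h : MT H F k)
    (hP : Pres H F) (hk : k ≤ F.ncard) : F.ncard.descFactorial k ∣ Nat.card H := by
  obtain ⟨t, ht, htc⟩ := Set.exists_subset_card_eq hk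
  rcases Nat.eq_zero_or_pos k with rfl | hk0
  · simp
  have hf : t.Finite := Set.finite_of_ncard_pos (by omega)
  have hc : hf.toFinset.card = k := by rw [← htc, Set.ncard_eq_toFinset_card t hf]
  have := MT.card_fixing_mul hf.toFinset (hc ▸ h) hP (by simpa using ht)
  rw [hc] at this
  exact Dvd.intro_left _ this

theorem card_le_fixing_mul {H : Subgroup G} {F : Set α} (hF : F.Finite) (s : Finset α)
    (hP : Pres H F) (hs : (s : Set α) ⊆ F) :
    Nat.card H ≤ Nat.card ↥(H ⊓ fixingSubgroup G (s : Set α)) * F.ncard.descFactorial s.card := by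
  classical
  induction s using Finset.induction_on generalizing H F with
  | empty => simp
  | insert a s ha ih =>
    rw [Finset.card_insert_of_notMem ha]
    have haF : a ∈ F := hs (by simp)
    have hsF : (s : Set α) ⊆ F \ {a} := fun x hx =>
      ⟨hs (by simp [hx]), fun hxa => ha (by rwa [← hxa])⟩
    have h1 := ih (hF.subset Set.diff_subset) (hP.stab a) hsF
    rw [inf_stab_inf_fixing, ncard_diff_singleton_eq haF] at h1
    have h2 := ncard_orbit_mul H a
    have h3 := Set.ncard_le_ncard (hP.orbit_subset haF) hF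
    have h0 : 0 < F.ncard := (Set.ncard_pos hF).2 ⟨a, haF⟩
    obtain ⟨m, hm⟩ := Nat.exists_eq_succ_of_ne_zero h0.ne'
    rw [hm] at h1 h3 ⊢
    rw [Nat.succ_descFactorial_succ, ← h2]
    simp only [Nat.succ_sub_one] at h1
    calc _ ≤ m.succ * (_ * m.descFactorial s.card) := Nat.mul_le_mul h3 h1
      _ = _ := by simp only [Nat.succ_eq_add_one]; ring

theorem MT_of_card_ge [Finite G] {H : Subgroup G} {F : Set α} (hF : F.Finite) (s : Finset α)
    (hP : Pres H F) (hs : (s : Set α) ⊆ F)
    (h : Nat.card ↥(H ⊓ fixingSubgroup G (s : Set α)) * F.ncard.descFactorial s.card ≤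
      Nat.card H) : MT H F s.card := by
  classical
  induction s using Finset.induction_on generalizing H F with
  | empty => exact MT.zero _ _
  | insert a s ha ih =>
    rw [Finset.card_insert_of_notMem ha] at h ⊢
    have haF : a ∈ F := hs (by simp)
    have hsF : (s : Set α) ⊆ F \ {a} := fun x hx =>
      ⟨hs (by simp [hx]), fun hxa => ha (by rwa [← hxa])⟩
    have h1 := card_le_fixing_mul (hF.subset Set.diff_subset) s (hP.stab a) hsF
    have ih' := ih (hF.subset Set.diff_subset) (hP.stab a) hsF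
    rw [inf_stab_inf_fixing, ncard_diff_singleton_eq haF] at h1 ih'
    have h2 := ncard_orbit_mul H a
    have h3 := Set.ncard_le_ncard (hP.orbit_subset haF) hF
    have h0 : 0 < F.ncard := (Set.ncard_pos hF).2 ⟨a, haF⟩
    obtain ⟨m, hm⟩ := Nat.exists_eq_succ_of_ne_zero h0.ne'
    rw [hm] at h1 h ih'
    rw [Nat.succ_descFactorial_succ, ← h2] at h
    simp only [Nat.succ_sub_one] at h1 ih'
    set A := Nat.card ↥(H ⊓ fixingSubgroup G ((insert a s : Finset α) : Set α)) *
      m.descFactorial s.card with hA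
    have h' : (m + 1) * A ≤ (orbit H a).ncard * Nat.card ↥(H ⊓ stabilizer G a) := by
      refine le_of_eq_of_le ?_ h
      rw [hA]; ring
    have hpos : 0 < Nat.card ↥(H ⊓ stabilizer G a) := Nat.card_pos
    have h4 : F.ncard ≤ (orbit H a).ncard := by
      rw [hm]
      refine Nat.le_of_mul_le_mul_right ?_ hpos
      exact (Nat.mul_le_mul_left _ h1).trans h'
    have h5 : orbit H a = F := Set.eq_of_subset_of_ncard_le (hP.orbit_subset haF) h4 hF
    refine MT.of_stab (MT.of_one hP fun x hx y hy => ?_) hP haF (ih' ?_)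
    · rw [← h5] at hx hy
      obtain ⟨u, hu, rfl⟩ := mem_orb.1 hx
      obtain ⟨v, hv, rfl⟩ := mem_orb.1 hy
      exact ⟨v * u⁻¹, H.mul_mem hv (H.inv_mem hu), by simp [mul_smul]⟩
    · rw [h5, hm] at h'
      exact Nat.le_of_mul_le_mul_left h' (Nat.succ_pos m)

theorem card_normalizer_of_centralizer_eq {p : ℕ} (hp : p.Prime) (P : Subgroup G)
    (hP : Nat.card P = p) (hC : centralizer (P : Set G) = P) :
    ∃ d, d ∣ p - 1 ∧ Nat.card (normalizer (P : Set G)) = p * d := by
  have : Fact p.Prime := ⟨hp⟩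
  have hfin : Finite P := Nat.finite_of_card_ne_zero (hP ▸ hp.ne_zero)
  have hcyc : IsCyclic P := isCyclic_of_prime_card hP
  refine ⟨(normalizerMonoidHom P).ker.index, ?_, ?_⟩
  · rw [index_ker]
    refine (card_subgroup_dvd_card _).trans ?_
    rw [IsCyclic.card_mulAut, hP, Nat.totient_prime hp]
  · rw [← (normalizerMonoidHom P).ker.card_mul_index, normalizerMonoidHom_ker,
      hC, Nat.card_congr (subgroupOfEquivOfLe le_normalizer).toEquiv, hP]

end General

variable {α : Type*} [Fintype α] [DecidableEq α]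

theorem support_of_prime_order {g : Perm α} {r : ℕ} (hr : r.Prime) (hg : orderOf g = r) :
    ∃ c, 1 ≤ c ∧ g.support.card = r * c ∧ (c = 1 → g.IsCycle) := by
  obtain ⟨n, hn⟩ := cycleType_prime_order (σ := g) (hg ▸ hr)
  refine ⟨n + 1, by omega, ?_, fun h => ?_⟩
  · rw [← sum_cycleType, hn, Multiset.sum_replicate, hg, smul_eq_mul, mul_comm]
  · rw [← card_cycleType_eq_one, hn, Multiset.card_replicate, h]

theorem support_of_prime_order' {G : Subgroup (Perm α)} (hG : IsPreprimitive G α)
    (hA : ¬ alternatingGroup α ≤ G) {g : Perm α} (hgG : g ∈ G) {r : ℕ} (hr : r.Prime)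
    (hg : orderOf g = r) (hrn : r + 3 ≤ Fintype.card α) :
    ∃ c, 2 ≤ c ∧ g.support.card = r * c := by
  obtain ⟨c, h1, h2, h3⟩ := support_of_prime_order hr hg
  refine ⟨c, ?_, h2⟩
  by_contra hc
  obtain rfl : c = 1 := by omega
  exact hA (jordan_prime_cycle hG hr hrn (h3 rfl) (by rw [h2, mul_one]) hgG)

theorem sign_of_sq {g : Perm α} (hg : g ^ 2 = 1) : sign g = (-1) ^ (g.support.card / 2) := by
  rw [sign_of_pow_two_eq_one hg, Fintype.card_subtype, ← Finset.card_compl]
  congr 3
  ext x; simp [Function.IsFixedPt]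

theorem four_dvd_support_of_even {g : Perm α} (hg : orderOf g = 2) (h : g ∈ alternatingGroup α) :
    4 ∣ g.support.card := by
  obtain ⟨c, -, h2, -⟩ := support_of_prime_order Nat.prime_two hg
  rw [mem_alternatingGroup, sign_of_sq (hg ▸ pow_orderOf_eq_one g), h2,
    Nat.mul_div_cancel_left _ two_pos, neg_one_pow_eq_one_iff_even (by decide)] at h
  obtain ⟨k, rfl⟩ := h
  exact ⟨k, by rw [h2]; ring⟩

theorem card_support_le_of_fix {g : Perm α} (s : Finset α) (h : ∀ x ∈ s, g x = x) :
    g.support.card + s.card ≤ Fintype.card α := by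
  rw [← Finset.card_union_of_disjoint]
  · exact Finset.card_le_univ _
  · rw [Finset.disjoint_left]
    intro x hx hs
    exact mem_support.1 hx (h x hs)

theorem ncard_fixed_add_support (g : Perm α) :
    {x | g x = x}.ncard + g.support.card = Fintype.card α := by
  have : {x | g x = x} = ((g.supportᶜ : Finset α) : Set α) := by ext x; simp
  rw [this, Set.ncard_coe_finset, Finset.card_compl_add_card]

/-- the support of an element commuting with an element of prime order with at most one fixed
point -/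
theorem dvd_support_of_commute {f t : Perm α} {r : ℕ} (hr : r.Prime) (hf : f ^ r = 1)
    (h1 : ∀ x y, f x = x → f y = y → x = y) (hc : t * f = f * t) : r ∣ t.support.card := by
  have : Fact r.Prime := ⟨hr⟩
  have hc' : ∀ x, t (f x) = f (t x) := fun x => by
    rw [← Perm.mul_apply, hc, Perm.mul_apply]
  have := ncard_modEq_fixed_elt (G := Perm α) (p := r) (n := 1) (t := f) (by simpa using hf)
    (F := (t.support : Set α)) (Set.toFinite _) (fun x hx => by
      simp only [Finset.mem_coe, mem_support, Perm.smul_def] at hx ⊢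
      rw [hc']; exact fun h => hx (f.injective h))
  rw [Set.ncard_coe_finset, (Set.eq_empty_iff_forall_notMem (s := {x ∈ (t.support : Set α) |
    f • x = x})).2, Set.ncard_empty] at this
  · exact (Nat.modEq_zero_iff_dvd).1 this
  · rintro x ⟨hx, hfx⟩
    simp only [Finset.mem_coe, mem_support] at hx
    exact hx (h1 _ _ (by rw [← hc']; exact congrArg t hfx) hfx)

theorem card_inf_alternating (G : Subgroup (Perm α)) :
    G ≤ alternatingGroup α ∨ Nat.card G = 2 * Nat.card ↥(G ⊓ alternatingGroup α) := by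
  have h1 : (alternatingGroup α).relIndex G ∣ 2 := by
    refine (relIndex_dvd_index_of_normal _ _).trans ?_
    rw [alternatingGroup, index_ker]
    refine (card_subgroup_dvd_card _).trans ?_
    simp
  rcases (Nat.dvd_prime Nat.prime_two).1 h1 with h | h
  · exact Or.inl (relIndex_eq_one.1 h)
  · right
    rw [← ((alternatingGroup α).subgroupOf G).index_mul_card, ← h, inf_comm,
      ← inf_subgroupOf_right, Nat.card_congr (subgroupOfEquivOfLe inf_le_right).toEquiv]
    rw [inf_subgroupOf_right]; rfl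

end H14
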