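import Mathlib
import Cfsg.Prelude.Def_Perm
import Cfsg.Agent.H14.Count

/-! Sharply doubly transitive groups and near-fields. -/

set_option autoImplicit false
set_option linter.unusedSectionVars false

namespace H14

open MulAction Subgroup

/-- sharply doubly transitive action -/
structure Sharp2 (G : Type*) [Group G] (α : Type*) [MulAction G α] : Prop where
  ex : ∀ a b c d : α, a ≠ b → c ≠ d → ∃ g : G, g • a = c ∧ g • b = d
  eq_one : ∀ (g : G) (a b : α), a ≠ b → g • a = a → g • b = b → g = 1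

variable {G : Type*} [Group G] {α : Type*} [MulAction G α]

theorem Sharp2.eq (h : Sharp2 G α) {g k : G} {a b : α} (hab : a ≠ b) (ha : g • a = k • a)
    (hb : g • b = k • b) : g = k := by
  have := h.eq_one (k⁻¹ * g) a b hab (by rw [mul_smul, ha, inv_smul_smul])
    (by rw [mul_smul, hb, inv_smul_smul])
  exact (inv_mul_eq_one.1 this).symm

theorem sharp2_of (h2 : IsMultiplyPretransitive G α 2)
    (hsharp : ∀ x : Fin 2 ↪ α, stabilizer G x = ⊥) : Sharp2 G α := by
  refine ⟨fun a b c d hab hcd => (is_two_pretransitive_iff.1 h2) hab hcd, fun g a b hab ha hb => ?_⟩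
  let x : Fin 2 ↪ α := ⟨![a, b], by
    intro i j; fin_cases i <;> fin_cases j <;> simp [hab, hab.symm]⟩
  rw [← mem_bot, ← hsharp x, mem_stabilizer_iff]
  ext i
  fin_cases i
  · exact ha
  · exact hb

theorem Sharp2.two_trans (h : Sharp2 G α) : IsMultiplyPretransitive G α 2 :=
  is_two_pretransitive_iff.2 fun {a b c d} hab hcd => h.ex a b c d hab hcd

theorem Sharp2.stab_eq_bot (h : Sharp2 G α) (x : Fin 2 ↪ α) : stabilizer G x = ⊥ := by
  rw [eq_bot_iff]
  intro g hg
  rw [mem_stabilizer_iff] at hg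
  exact h.eq_one g (x 0) (x 1) (x.injective.ne (by decide)) (DFunLike.congr_fun hg 0)
    (DFunLike.congr_fun hg 1)

theorem Sharp2.mt (h : Sharp2 G α) [Finite α] [Nontrivial α] :
    MT (⊤ : Subgroup G) (Set.univ : Set α) 2 :=
  MT_top_of_isMultiplyPretransitive Finite.one_lt_card h.two_trans

theorem Sharp2.finite (h : Sharp2 G α) [Finite α] [Nontrivial α] : Finite G := by
  obtain ⟨a, b, hab⟩ := exists_pair_ne α
  exact Finite.of_injective (fun g : G => (g • a, g • b)) fun g k hgk =>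
    h.eq hab (congrArg Prod.fst hgk) (congrArg Prod.snd hgk)

theorem Sharp2.card (h : Sharp2 G α) [Finite α] [Nontrivial α] :
    Nat.card G = Nat.card α * (Nat.card α - 1) := by
  classical
  obtain ⟨a, b, hab⟩ := exists_pair_ne α
  have h1 := MT.card_fixing_mul {a, b} (by rw [Finset.card_pair hab]; exact h.mt) (Pres.univ ⊤)
    (Set.subset_univ _)
  have h2 : (⊤ : Subgroup G) ⊓ fixingSubgroup G (({a, b} : Finset α) : Set α) = ⊥ := by
    rw [eq_bot_iff]
    intro g hg
    exact h.eq_one g a b hab (mem_fixing.1 hg.2 a (by simp)) (mem_fixing.1 hg.2 b (by simp))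
  rw [h2, Finset.card_pair hab, card_top, Set.ncard_univ] at h1
  rw [← h1]; simp [Nat.descFactorial, mul_comm]

theorem Sharp2.fpf_unique (h : Sharp2 G α) [Finite α] {g k : G} (hg : ∀ x : α, g • x ≠ x)
    (hk : ∀ x : α, k • x ≠ x) {a : α} (ha : g • a = k • a) : g = k := by
  classical
  by_contra hne
  have hab : a ≠ g • a := (hg a).symm
  -- `u c` maps `a` to `g a` and fixes `c`
  have hu : ∀ c : α, ∃ u : G, u • a = g • a ∧ (c ≠ a → c ≠ g • a → u • c = c) ∧
      (c = a → u = g) ∧ (c = g • a → u = k) := by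
    intro c
    by_cases h1 : c = a
    · exact ⟨g, rfl, fun h => absurd h1 h, fun _ => rfl, fun h => absurd (h1.symm.trans h) hab⟩
    by_cases h2 : c = g • a
    · exact ⟨k, ha.symm, fun _ h => absurd h2 h, fun h => absurd h h1, fun _ => rfl⟩
    obtain ⟨u, hu1, hu2⟩ := h.ex a c (g • a) c (Ne.symm h1) (Ne.symm h2)
    exact ⟨u, hu1, fun _ _ => hu2, fun h => absurd h h1, fun h => absurd h h2⟩
  choose u hu1 hu2 hu3 hu4 using hu
  have hinj : Function.Injective u := by
    have key : ∀ c d, u c = u d → c ≠ d → c ≠ a → c ≠ g • a → False := by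
      intro c d hcd hne' h1 h2
      have hc := hu2 c h1 h2
      by_cases h3 : d = a
      · rw [hcd, hu3 d h3] at hc; exact hg c hc
      by_cases h4 : d = g • a
      · rw [hcd, hu4 d h4] at hc; exact hk c hc
      have := h.eq_one (u c) c d hne' hc (hcd ▸ hu2 d h3 h4)
      have h5 := hu1 c
      rw [this, one_smul] at h5
      exact hab h5
    intro c d hcd
    by_contra hne'
    by_cases h1 : c = a
    · by_cases h2 : d = g • a
      · exact hne ((hu3 c h1).symm.trans (hcd.trans (hu4 d h2)))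
      · exact key d c hcd.symm (Ne.symm hne') (fun h => hne' (h1.trans h.symm)) h2
    by_cases h2 : c = g • a
    · by_cases h3 : d = a
      · exact hne ((hu3 d h3).symm.trans (hcd.symm.trans (hu4 c h2)))
      · exact key d c hcd.symm (Ne.symm hne') h3 (fun h => hne' (h2.trans h.symm))
    exact key c d hcd hne' h1 h2
  have hinj2 : Function.Injective fun c => u c • (g • a) := fun c d hcd =>
    hinj (h.eq hab ((hu1 c).trans (hu1 d).symm) hcd)
  obtain ⟨c, hc⟩ := Finite.surjective_of_injective hinj2 (g • a)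
  exact hab (smul_left_cancel (u c) ((hu1 c).trans hc.symm))

theorem Sharp2.fpf_of_commute (h : Sharp2 G α) {t g : G} (ht : ∀ x : α, t • x ≠ x)
    (hc : g * t = t * g) (hg : g ≠ 1) (x : α) : g • x ≠ x := fun hx =>
  hg (h.eq_one g x (t • x) (ht x).symm hx (by rw [← mul_smul, hc, mul_smul, hx]))

/-- The regular normal subgroup of a finite sharply doubly transitive group. -/
theorem Sharp2.exists_kernel (h : Sharp2 G α) [Finite α] [Nontrivial α] :
    ∃ (p : ℕ) (K : Subgroup G), p.Prime ∧ K.Normal ∧ (∀ g, g ∈ K ↔ g = 1 ∨ ∀ a : α, g • a ≠ a) ∧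
      (∀ x ∈ K, x ^ p = 1) ∧ (∀ x ∈ K, ∀ y ∈ K, x * y = y * x) ∧ Nat.card K = Nat.card α ∧
      ∀ a b : α, ∃ k ∈ K, k • a = b := by
  classical
  have := h.finite
  have hn : 1 < Nat.card α := Finite.one_lt_card
  obtain ⟨p, hp, hpn⟩ := Nat.exists_prime_and_dvd hn.ne'
  have : Fact p.Prime := ⟨hp⟩
  obtain ⟨t, ht⟩ := exists_prime_orderOf_dvd_card' (G := G) p (h.card ▸ hpn.mul_right _)
  have ht1 : t ≠ 1 := by rintro rfl; rw [orderOf_one] at ht; exact hp.one_lt.ne ht
  have htp : t ^ p = 1 := ht ▸ pow_orderOf_eq_one t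
  have htf : ∀ x : α, t • x ≠ x := by
    intro x hx
    have h1 := ncard_modEq_fixed_elt (p := p) (n := 1) (t := t) (by rwa [pow_one])
      (Set.toFinite (Set.univ : Set α)) (fun _ _ => trivial)
    have h2 : {y ∈ (Set.univ : Set α) | t • y = y} = {x} := by
      ext y
      simp only [Set.mem_univ, true_and, Set.mem_setOf_eq, Set.mem_singleton_iff]
      refine ⟨fun hy => ?_, fun hy => hy ▸ hx⟩
      by_contra hne
      exact ht1 (h.eq_one t y x hne hy hx)
    rw [h2, Set.ncard_singleton, Set.ncard_univ] at h1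
    exact hp.one_lt.ne' (Nat.dvd_one.1 ((h1.dvd_iff (dvd_refl p)).1 hpn))
  obtain ⟨a₀⟩ : Nonempty α := inferInstance
  set S : Set G := {g | ∀ a : α, g • a ≠ a} with hS
  have hSle : S.ncard ≤ Nat.card α - 1 := by
    rw [← Set.ncard_univ α, ← ncard_diff_singleton_eq (Set.mem_univ a₀)]
    exact Set.ncard_le_ncard_of_injOn (fun g => g • a₀) (fun g hg => ⟨trivial, hg a₀⟩)
      (fun g hg k hk hgk => h.fpf_unique hg hk hgk)
  have h1S : (1 : G) ∉ S := fun h1 => h1 a₀ (one_smul _ _)
  have hC : ∀ s ∈ S, (centralizer {s} : Set G) = insert 1 S ∧ (∀ s' ∈ S, IsConj s s') ∧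
      S.ncard = Nat.card α - 1 := by
    intro s hs
    have hsub : (centralizer {s} : Set G) ⊆ insert 1 S := by
      intro g hg
      by_cases hg1 : g = 1
      · exact Or.inl hg1
      · exact Or.inr (h.fpf_of_commute hs (mem_centralizer_singleton_iff.1 hg) hg1)
    have hsub2 : orbit (ConjAct G) s ⊆ S := by
      rintro _ ⟨g, rfl⟩ a ha
      refine hs ((ConjAct.ofConjAct g)⁻¹ • a) ?_
      rw [eq_inv_smul_iff, ← mul_smul, ← mul_smul]
      exact ha
    have h1 : (orbit (ConjAct G) s).ncard * Nat.card (centralizer ({s} : Set G)) = Nat.card G := by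
      rw [nat_card_centralizer_nat_card_stabilizer, ← index_stabilizer, index_mul_card]
      rfl
    have h2 := Set.ncard_le_ncard hsub
    have h3 := Set.ncard_le_ncard hsub2
    rw [Set.ncard_insert_of_notMem h1S] at h2
    rw [h.card] at h1
    have h4 : (centralizer ({s} : Set G) : Set G).ncard = Nat.card (centralizer ({s} : Set G)) :=
      rfl
    rw [← h4] at h1
    set x := (orbit (ConjAct G) s).ncard with hx
    set y := (centralizer ({s} : Set G) : Set G).ncard with hy
    obtain ⟨m, hm⟩ : ∃ m, Nat.card α = m + 1 := ⟨Nat.card α - 1, by omega⟩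
    rw [hm, Nat.add_sub_cancel] at h1 hSle
    have hx' : m ≤ x := by nlinarith
    have hy' : m + 1 ≤ y := by nlinarith
    refine ⟨Set.eq_of_subset_of_ncard_le hsub (by rw [Set.ncard_insert_of_notMem h1S]; omega),
      fun s' hs' => ?_, by omega⟩
    have h5 := Set.eq_of_subset_of_ncard_le hsub2 (by omega)
    rw [← h5, ConjAct.mem_orbit_conjAct] at hs'
    exact hs'.symm
  have hmem : ∀ g, g ∈ centralizer ({t} : Set G) ↔ g = 1 ∨ ∀ a : α, g • a ≠ a := fun g => by
    rw [← SetLike.mem_coe, (hC t htf).1]; rfl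
  have hcard : Nat.card (centralizer ({t} : Set G)) = Nat.card α := by
    have : Nat.card (centralizer ({t} : Set G)) = (insert 1 S).ncard := by
      rw [← (hC t htf).1]; rfl
    rw [this, Set.ncard_insert_of_notMem h1S, (hC t htf).2.2]; omega
  refine ⟨p, centralizer {t}, hp, ⟨fun n hn g => ?_⟩, hmem, fun x hx => ?_, fun x hx y hy => ?_,
    hcard, fun a b => ?_⟩
  · rw [hmem] at hn ⊢
    rcases hn with rfl | hn
    · simp
    · refine Or.inr fun a ha => hn (g⁻¹ • a) ?_
      rw [eq_inv_smul_iff, ← mul_smul, ← mul_smul]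
      exact ha
  · rcases (hmem x).1 hx with rfl | hx
    · exact one_pow _
    · obtain ⟨c, rfl⟩ := isConj_iff.1 ((hC t htf).2.1 x hx)
      rw [conj_pow, htp]; simp
  · rcases (hmem x).1 hx with rfl | hx
    · simp
    · have : y ∈ (centralizer {x} : Set G) := by rw [(hC x hx).1, ← (hC t htf).1]; exact hy
      exact (mem_centralizer_singleton_iff.1 this).symm
  · have hinj : Function.Injective fun k : centralizer ({t} : Set G) => (k : G) • a := by
      intro k l hkl
      have h1 := (hmem _).1 (mul_mem (inv_mem l.2) k.2)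
      rcases h1 with h1 | h1
      · exact Subtype.ext (inv_mul_eq_one.1 h1).symm
      · exact absurd (by rw [mul_smul, inv_smul_eq_iff]; exact hkl) (h1 a)
    obtain ⟨k, hk⟩ := (hinj.bijective_of_nat_card_le hcard.ge).2 b
    exact ⟨k, k.2, hk⟩

theorem Sharp2.sylow (h : Sharp2 G α) [Finite α] [Nontrivial α] :
    ∃ p j : ℕ, p.Prime ∧ 1 ≤ j ∧ Nat.card α = p ^ j ∧ ∀ (_ : Fact p.Prime) (P : Sylow p G),
      (P : Subgroup G).Normal ∧ IsMulCommutative (P : Subgroup G) ∧
      (∀ x ∈ (P : Subgroup G), x ^ p = 1) ∧ IsPretransitive (P : Subgroup G) α ∧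
      (∀ a : α, stabilizer (P : Subgroup G) a = ⊥) ∧
      ∀ g : G, g ∈ (P : Subgroup G) ↔ g = 1 ∨ ∀ a : α, g • a ≠ a := by
  obtain ⟨p, K, hp, hn, hmem, hpow, hcomm, hcard, htr⟩ := h.exists_kernel
  have := h.finite
  have : Fact p.Prime := ⟨hp⟩
  have hK : IsPGroup p K := fun x => ⟨1, Subtype.ext (by simpa using hpow x x.2)⟩
  obtain ⟨j, hj⟩ := IsPGroup.iff_card.1 hK
  have h1 : 1 < Nat.card α := Finite.one_lt_card
  have hj1 : 1 ≤ j := by
    by_contra h0
    obtain rfl : j = 0 := by omega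
    rw [hcard, pow_zero] at hj; omega
  refine ⟨p, j, hp, hj1, hcard ▸ hj, fun _ P => ?_⟩
  have hidx : ¬ p ∣ K.index := by
    have h2 := K.card_mul_index
    rw [h.card, hcard] at h2
    rw [Nat.eq_of_mul_eq_mul_left (by omega) h2]
    intro h3
    have h4 : p ∣ Nat.card α := by rw [← hcard, hj]; exact dvd_pow_self p (by omega)
    have := (Nat.dvd_sub_iff_right (by omega) h4).1 h3
    exact hp.one_lt.ne' (Nat.dvd_one.1 this)
  have hPK : (P : Subgroup G) = K := by
    have := Sylow.unique_of_normal (hK.toSylow hidx) hn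
    rw [Subsingleton.elim P (hK.toSylow hidx)]; rfl
  rw [hPK]
  refine ⟨hn, ⟨⟨fun x y => Subtype.ext (hcomm _ x.2 _ y.2)⟩⟩, hpow, ⟨fun a b => ?_⟩, fun a => ?_,
    hmem⟩
  · obtain ⟨k, hk, hab⟩ := htr a b
    exact ⟨⟨k, hk⟩, hab⟩
  · rw [eq_bot_iff]
    intro g hg
    rcases (hmem g).1 g.2 with h1 | h1
    · exact Subtype.ext h1
    · exact absurd hg (h1 a)

section NF

open Cfsg

variable {F : Type*} [NearField F]

theorem nf_zero_mul (a : F) : 0 * a = 0 := by
  have := NearField.right_distrib (0 : F) 0 a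
  rw [add_zero] at this
  exact left_eq_add.1 this

theorem nf_neg_mul (a b : F) : -a * b = -(a * b) := by
  rw [eq_neg_iff_add_eq_zero, ← NearField.right_distrib, neg_add_cancel, nf_zero_mul]

theorem nf_mul_ne_zero {a b : F} (ha : a ≠ 0) (hb : b ≠ 0) : a * b ≠ 0 := by
  obtain ⟨c, hc, -⟩ := NearField.exists_inv b hb
  intro h
  apply ha
  rw [← mul_one a, ← hc, ← mul_assoc, h, nf_zero_mul]

/-- affine map of a near-field -/
def nfAff (a a' b : F) (h1 : a * a' = 1) (h2 : a' * a = 1) : Equiv.Perm F where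
  toFun x := x * a + b
  invFun y := (y + -b) * a'
  left_inv x := by simp [mul_assoc, h1]
  right_inv y := by simp [mul_assoc, h2]

variable (F) in
/-- the affine group of a near-field -/
def nfGroup : Subgroup (Equiv.Perm F) where
  carrier := {σ | ∃ a b : F, a ≠ 0 ∧ ∀ x : F, σ x = x * a + b}
  one_mem' := ⟨1, 0, NearField.zero_ne_one.symm, fun x => by simp⟩
  mul_mem' := by
    rintro σ τ ⟨a, b, ha, hσ⟩ ⟨c, d, hc, hτ⟩
    refine ⟨c * a, d * a + b, nf_mul_ne_zero hc ha, fun x => ?_⟩
    rw [Equiv.Perm.mul_apply, hσ, hτ, NearField.right_distrib, mul_assoc, add_assoc]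
  inv_mem' := by
    rintro σ ⟨a, b, ha, hσ⟩
    obtain ⟨c, h1, h2⟩ := NearField.exists_inv a ha
    refine ⟨c, -b * c, ?_, fun x => ?_⟩
    · rintro rfl
      rw [NearField.mul_zero] at h1
      exact NearField.zero_ne_one h1
    · rw [Equiv.Perm.inv_eq_iff_eq, hσ, ← NearField.right_distrib, mul_assoc, h2, mul_one]
      simp

theorem nf_sharp2 : Sharp2 (nfGroup F) F := by
  constructor
  · intro a b c d hab hcd
    have h1 : a + -b ≠ 0 := fun h => hab (add_neg_eq_zero.1 h)
    have h2 : c + -d ≠ 0 := fun h => hcd (add_neg_eq_zero.1 h)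
    obtain ⟨u, hu1, hu2⟩ := NearField.exists_inv _ h1
    have hu : u ≠ 0 := by
      rintro rfl
      rw [NearField.mul_zero] at hu1
      exact NearField.zero_ne_one hu1
    have h3 := nf_mul_ne_zero hu h2
    obtain ⟨v, hv1, hv2⟩ := NearField.exists_inv _ h3
    refine ⟨⟨nfAff _ v (-(b * (u * (c + -d))) + d) hv1 hv2, _, _, h3, fun _ => rfl⟩, ?_, ?_⟩
    · show a * (u * (c + -d)) + (-(b * (u * (c + -d))) + d) = c
      rw [← add_assoc, ← nf_neg_mul, ← NearField.right_distrib, ← mul_assoc, hu1, one_mul]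
      simp
    · show b * (u * (c + -d)) + (-(b * (u * (c + -d))) + d) = d
      simp
  · rintro ⟨σ, m, k, hm, hσ⟩ a b hab ha hb
    have ha' : a * m + k = a := (hσ a).symm.trans ha
    have hb' : b * m + k = b := (hσ b).symm.trans hb
    have h1 : a + -b ≠ 0 := fun h => hab (add_neg_eq_zero.1 h)
    obtain ⟨u, hu1, hu2⟩ := NearField.exists_inv _ h1
    have h2 : (a + -b) * m = a + -b := by
      rw [NearField.right_distrib, nf_neg_mul, eq_add_neg_of_add_eq ha', eq_add_neg_of_add_eq hb']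
      simp [add_assoc]
    have h3 : m = 1 := by rw [← one_mul m, ← hu2, mul_assoc, h2]
    subst h3
    have h4 : k = 0 := by simpa using ha'
    subst h4
    ext x
    simpa using hσ x

theorem nf_finite [Finite F] : ∃ p j : ℕ, p.Prime ∧ 1 ≤ j ∧ Nat.card F = p ^ j ∧
    (∀ x y : F, x + y = y + x) ∧ ∀ x : F, p • x = 0 := by
  have : Nontrivial F := ⟨⟨0, 1, NearField.zero_ne_one⟩⟩
  obtain ⟨p, j, hp, hj, hc, h⟩ := (nf_sharp2 (F := F)).sylow
  have : Fact p.Prime := ⟨hp⟩
  obtain ⟨P⟩ : Nonempty (Sylow p (nfGroup F)) := inferInstance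
  obtain ⟨-, h1, h2, -, -, h3⟩ := h this P
  let T : F → nfGroup F := fun b => ⟨Equiv.addRight b, 1, b, NearField.zero_ne_one.symm, fun x => by simp⟩
  have hT : ∀ b, T b ∈ (P : Subgroup (nfGroup F)) := fun b => by
    rw [h3]
    by_cases hb : b = 0
    · left; ext x; simp [T, hb]
    · right; intro a ha; exact hb (add_eq_left.1 ha)
  refine ⟨p, j, hp, hj, hc, fun x y => ?_, fun x => ?_⟩
  · have := congrArg (fun g : (P : Subgroup (nfGroup F)) => (g : nfGroup F) • (0 : F))
      (mul_comm' (⟨_, hT y⟩ : (P : Subgroup (nfGroup F))) ⟨_, hT x⟩)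
    simpa [T, Subgroup.smul_def] using this
  · have h4 : ∀ n : ℕ, (T x ^ n) • (0 : F) = n • x := fun n => by
      induction n with
      | zero => simp
      | succ n ih => rw [pow_succ', mul_smul, ih, succ_nsmul]; rfl
    rw [← h4, h2 _ (hT x), one_smul]

end NF

theorem Sharp2.exists_nearField (h : Sharp2 G α) [Finite α] [Nontrivial α] :
    ∃ _ : Cfsg.NearField α, (∀ g : G, ∃ a b : α, a ≠ 0 ∧ ∀ x : α, g • x = x * a + b) ∧
      ∀ a b : α, a ≠ 0 → ∃ g : G, ∀ x : α, g • x = x * a + b := by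
  classical
  obtain ⟨p, K, hp, hn, hmem, -, hcomm, -, htr⟩ := h.exists_kernel
  obtain ⟨z, o, hzo⟩ := exists_pair_ne α
  choose k hk hkz using htr z
  have huniq : ∀ u ∈ K, k (u • z) = u := fun u hu => by
    rcases (hmem _).1 (mul_mem (inv_mem hu) (hk (u • z))) with h1 | h1
    · exact (inv_mul_eq_one.1 h1).symm
    · exact absurd (by rw [mul_smul, hkz, inv_smul_smul]) (h1 z)
  have hm : ∀ a : α, ∃ g : G, g • z = z ∧ (a ≠ z → g • o = a) := fun a => by
    by_cases ha : a = z
    · exact ⟨1, one_smul _ _, fun h => absurd ha h⟩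
    · obtain ⟨g, h1, h2⟩ := h.ex z o z a hzo (Ne.symm ha)
      exact ⟨g, h1, fun _ => h2⟩
  choose m hmz hmo using hm
  have hne : ∀ g : G, g • z = z → ∀ a, a ≠ z → g • a ≠ z := fun g hg a ha h =>
    ha (smul_left_cancel g (h.trans hg.symm))
  have hmu : ∀ g : G, g • z = z → m (g • o) = g := fun g hg =>
    h.eq hzo ((hmz _).trans hg.symm) (hmo _ (hne g hg o hzo.symm))
  have hk1 : k z = 1 := by simpa using huniq 1 K.one_mem
  let _ : Add α := ⟨fun x y => k y • x⟩
  let _ : Zero α := ⟨z⟩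
  let _ : Neg α := ⟨fun x => (k x)⁻¹ • z⟩
  let A : AddGroup α := AddGroup.ofLeftAxioms
    (fun a b c => by
      show k c • k b • a = k (k c • b) • a
      rw [← mul_smul, ← huniq _ (mul_mem (hk c) (hk b)), mul_smul, hkz])
    (fun a => hkz a)
    (fun a => smul_inv_smul _ _)
  let mul : α → α → α := fun x a => if a = z then z else m a • x
  have mul_ne : ∀ x a, a ≠ z → mul x a = m a • x := fun x a ha => if_neg ha
  have mul_z : ∀ x, mul x z = z := fun x => if_pos rfl
  have hmm : ∀ a b, a ≠ z → b ≠ z → m (m b • a) = m b * m a := fun a b ha hb => by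
    rw [← hmu (m b * m a) (by rw [mul_smul, hmz, hmz]), mul_smul, hmo a ha]
  have hm1 : m o = 1 := by simpa using hmu 1 (one_smul _ _)
  let M : Monoid α :=
    { mul := mul
      one := o
      mul_assoc := fun x a b => by
        show mul (mul x a) b = mul x (mul a b)
        by_cases hb : b = z
        · rw [hb, mul_z, mul_z, mul_z]
        by_cases ha : a = z
        · rw [ha, mul_z, mul_ne _ _ hb, hmz, mul_z]
        rw [mul_ne _ _ hb, mul_ne _ _ hb, mul_ne _ _ ha, mul_ne _ _ (hne _ (hmz b) a ha),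
          hmm a b ha hb, mul_smul]
      one_mul := fun a => by
        show mul o a = a
        by_cases ha : a = z
        · rw [ha, mul_z]
        · rw [mul_ne _ _ ha, hmo a ha]
      mul_one := fun a => by
        show mul a o = a
        rw [mul_ne _ _ hzo.symm, hm1, one_smul] }
  have hconj : ∀ g : G, g • z = z → ∀ y, k (g • y) = g * k y * g⁻¹ := fun g hg y => by
    rw [← huniq _ (hn.conj_mem _ (hk y) g), mul_smul, mul_smul, inv_smul_eq_iff.2 hg.symm, hkz]
  refine ⟨{ A, M with
    right_distrib := fun a b c => ?_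
    mul_zero := mul_z
    zero_ne_one := hzo
    exists_inv := fun a ha => ?_ }, fun g => ?_, fun a b ha => ?_⟩
  · show mul (k b • a) c = k (mul b c) • mul a c
    by_cases hc : c = z
    · rw [hc, mul_z, mul_z, mul_z, hkz]
    · rw [mul_ne _ _ hc, mul_ne _ _ hc, mul_ne _ _ hc, hconj _ (hmz c)]
      simp [mul_smul]
  · have h1 : (m a)⁻¹ • z = z := inv_smul_eq_iff.2 (hmz a).symm
    refine ⟨(m a)⁻¹ • o, ?_, ?_⟩
    · show mul a ((m a)⁻¹ • o) = o
      rw [mul_ne _ _ (hne _ h1 o hzo.symm), hmu _ h1, inv_smul_eq_iff, hmo a ha]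
    · show mul ((m a)⁻¹ • o) a = o
      rw [mul_ne _ _ ha, smul_inv_smul]
  · have h1 : ((k (g • z))⁻¹ * g) • z = z := by rw [mul_smul, inv_smul_eq_iff, hkz]
    refine ⟨((k (g • z))⁻¹ * g) • o, g • z, hne _ h1 o hzo.symm, fun x => ?_⟩
    show g • x = k (g • z) • mul x (((k (g • z))⁻¹ * g) • o)
    rw [mul_ne _ _ (hne _ h1 o hzo.symm), hmu _ h1, mul_smul, smul_inv_smul]
  · refine ⟨k b * m a, fun x => ?_⟩
    show _ = k b • mul x a
    rw [mul_ne _ _ ha, mul_smul]

end H14
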