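import Mathlib
import Cfsg.Agent.H14.Sharp2
import Cfsg.Agent.H14.Gener

/-! Normal subgroups of multiply transitive groups. -/

set_option autoImplicit false
set_option linter.unusedSectionVars false

namespace H14

open MulAction Subgroup SubMulAction H22

variable {G : Type*} [Group G] {α : Type*} [MulAction G α]

theorem rel_trivial_or_total [h : IsPreprimitive G α] (r : α → α → Prop) (hr : Equivalence r)
    (hinv : ∀ (g : G) x y, r x y → r (g • x) (g • y)) :
    (∀ x y, r x y → x = y) ∨ ∀ x y, r x y := by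
  by_cases hall : ∀ x y, r x y → x = y
  · exact Or.inl hall
  right
  push Not at hall
  obtain ⟨a, b, hab, hne⟩ := hall
  have hB : IsBlock G {y | r a y} := by
    rw [isBlock_iff_smul_eq_of_mem]
    intro g x hx hgx
    ext y
    rw [Set.mem_smul_set_iff_inv_smul_mem]
    constructor
    · intro hy
      have := hinv g _ _ (hr.trans (hr.symm hx) hy)
      rw [smul_inv_smul] at this
      exact hr.trans hgx this
    · intro hy
      have := hinv g⁻¹ _ _ (hr.trans (hr.symm hgx) hy)
      rw [inv_smul_smul] at this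
      exact hr.trans hx this
  rcases h.isTrivialBlock_of_isBlock hB with h1 | h1
  · exact absurd (h1 (hr.refl a) hab) hne
  · intro x y
    have hx : x ∈ {y | r a y} := h1 ▸ Set.mem_univ x
    have hy : y ∈ {y | r a y} := h1 ▸ Set.mem_univ y
    exact hr.trans (hr.symm hx) hy

theorem rel_trivial_or_total_fixing (s : Set α)
    (h : IsPreprimitive (fixingSubgroup G s) (ofFixingSubgroup G s)) (r : α → α → Prop)
    (hr : Equivalence r)
    (hinv : ∀ g ∈ fixingSubgroup G s, ∀ x y, r x y → r (g • x) (g • y)) :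
    (∀ x ∉ s, ∀ y ∉ s, r x y → x = y) ∨ ∀ x ∉ s, ∀ y ∉ s, r x y := by
  rcases rel_trivial_or_total (h := h) (fun x y => r x y)
    ⟨fun x => hr.refl _, hr.symm, hr.trans⟩ (fun g x y => hinv g g.2 x y) with h1 | h1
  · exact Or.inl fun x hx y hy hxy => congrArg Subtype.val (h1 ⟨x, hx⟩ ⟨y, hy⟩ hxy)
  · exact Or.inr fun x hx y hy => h1 ⟨x, hx⟩ ⟨y, hy⟩

theorem exists_regular_coord (N : Subgroup G) [hn : N.Normal] (htrans : IsPretransitive N α)
    (hreg : ∀ x : α, stabilizer N x = ⊥) (a : α) :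
    ∃ k : α ≃ N, (∀ x, (k x : G) • a = x) ∧ k a = 1 ∧
      ∀ g : G, g • a = a → ∀ x, (k (g • x) : G) = g * k x * g⁻¹ := by
  have hb : Function.Bijective fun n : N => (n : G) • a := by
    refine ⟨fun m n hmn => ?_, fun x => exists_smul_eq N a x⟩
    have : n⁻¹ * m ∈ stabilizer N a := by
      rw [mem_stabilizer_iff, mul_smul, inv_smul_eq_iff]; exact hmn
    rw [hreg, mem_bot, inv_mul_eq_one] at this
    exact this.symm
  refine ⟨(Equiv.ofBijective _ hb).symm, fun x => (Equiv.ofBijective _ hb).apply_symm_apply x,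
    by rw [Equiv.symm_apply_eq]; simp, fun g hg x => ?_⟩
  obtain ⟨n, rfl⟩ := hb.2 x
  have h1 : (Equiv.ofBijective _ hb).symm ((n : G) • a) = n :=
    (Equiv.ofBijective _ hb).symm_apply_apply n
  have h2 : (Equiv.ofBijective _ hb).symm (g • (n : G) • a) = ⟨_, hn.conj_mem _ n.2 g⟩ := by
    rw [Equiv.symm_apply_eq]
    show _ = (g * n * g⁻¹) • a
    rw [mul_smul, mul_smul, inv_smul_eq_iff.2 hg.symm]
  simp only [h1, h2]

theorem two_primitive_regular [Finite α] (hX : 2 ≤ Nat.card α)
    (h2 : IsMultiplyPreprimitive G α 2) (N : Subgroup G) [N.Normal]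
    (htrans : IsPretransitive N α) (hreg : ∀ x : α, stabilizer N x = ⊥) :
    Nat.card α = 3 ∨ (IsMulCommutative N ∧ (∀ n ∈ N, n ^ 2 = 1) ∧ ∃ m : ℕ, Nat.card α = 2 ^ m) := by
  obtain ⟨a⟩ : Nonempty α := (Nat.card_ne_zero.1 (by omega)).1
  obtain ⟨k, hk, hk1, hkc⟩ := exists_regular_coord N htrans hreg a
  have hcard : Nat.card α = Nat.card N := Nat.card_congr k
  have : Finite N := Finite.of_equiv _ k
  have hsq : (∀ n : N, n ^ 2 = 1) → Nat.card α = 3 ∨ (IsMulCommutative N ∧
      (∀ n ∈ N, n ^ 2 = 1) ∧ ∃ m : ℕ, Nat.card α = 2 ^ m) := by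
    intro h
    have : Fact (Nat.Prime 2) := ⟨Nat.prime_two⟩
    refine Or.inr ⟨⟨⟨fun x y => (Commute.of_orderOf_dvd_two
      (fun g => orderOf_dvd_of_pow_eq_one (h g)) x y).eq⟩⟩,
      fun n hn => congrArg Subtype.val (h ⟨n, hn⟩), ?_⟩
    rw [hcard]
    exact IsPGroup.iff_card.1 fun g => ⟨1, by simpa using h g⟩
  have hne : ∀ n : N, n ≠ 1 → k.symm n ∉ ({a} : Set α) := fun n hn h =>
    hn (by rw [← hk1, ← Set.mem_singleton_iff.1 h, Equiv.apply_symm_apply])
  rcases rel_trivial_or_total_fixing {a} (h2.isPreprimitive_ofFixingSubgroup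
      (by rw [Set.encard_singleton]; rfl)) (fun x y => k y = k x ∨ k y = (k x)⁻¹)
      ⟨fun x => Or.inl rfl, fun h => h.elim (fun h => Or.inl h.symm)
        (fun h => Or.inr (by rw [h, inv_inv])), fun h h' => by
          rcases h with h | h <;> rcases h' with h' | h' <;> simp [h, h']⟩
      (fun g hg x y hxy => by
        have hg' : g • a = a := mem_fixing.1 hg a rfl
        rcases hxy with h | h
        · exact Or.inl (Subtype.ext (by rw [hkc g hg', hkc g hg', h]))
        · exact Or.inr (Subtype.ext (by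
            rw [Subgroup.coe_inv, hkc g hg', hkc g hg', h, Subgroup.coe_inv]; group))) with h | h
  · refine hsq fun n => ?_
    by_cases hn : n = 1
    · simp [hn]
    have := h _ (hne n hn) _ (hne n⁻¹ (inv_ne_one.2 hn)) (Or.inr (by simp))
    rw [pow_two]
    nth_rewrite 1 [k.symm.injective this]
    exact inv_mul_cancel n
  · have : Nontrivial N := Finite.one_lt_card_iff_nontrivial.1 (by omega)
    obtain ⟨n, hn⟩ := exists_ne (1 : N)
    have hsub : (Set.univ : Set N) ⊆ {1, n, n⁻¹} := by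
      intro m _
      by_cases hm : m = 1
      · exact Or.inl hm
      · simpa [hm] using h _ (hne n hn) _ (hne m hm)
    have h3 : Nat.card N ≤ 3 := by
      rw [← Set.ncard_univ]
      exact (Set.ncard_le_ncard hsub).trans (Set.ncard_insert_le _ _ |>.trans
        (Nat.succ_le_succ (Set.ncard_insert_le _ _ |>.trans (by simp))))
    rcases (by omega : Nat.card N = 2 ∨ Nat.card N = 3) with h4 | h4
    · exact hsq fun n => h4 ▸ pow_card_eq_one'
    · exact Or.inl (hcard.trans h4)

theorem three_primitive_regular [Finite α] (hX : 3 ≤ Nat.card α)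
    (h3 : IsMultiplyPreprimitive G α 3) (N : Subgroup G) [N.Normal]
    (htrans : IsPretransitive N α) (hreg : ∀ x : α, stabilizer N x = ⊥) : Nat.card α ≤ 4 := by
  have h2 : IsMultiplyPreprimitive G α 2 := isMultiplyPreprimitive_of_le G α h3 (by omega) (by
    rw [ENat.card_eq_coe_natCard]; exact_mod_cast hX)
  rcases two_primitive_regular (by omega) h2 N htrans hreg with h | ⟨hc, hsq, -⟩
  · omega
  obtain ⟨a⟩ : Nonempty α := (Nat.card_ne_zero.1 (by omega)).1
  obtain ⟨k, hk, hk1, hkc⟩ := exists_regular_coord N htrans hreg a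
  have hcard : Nat.card α = Nat.card N := Nat.card_congr k
  have : Finite N := Finite.of_equiv _ k
  have : Nontrivial N := Finite.one_lt_card_iff_nontrivial.1 (by omega)
  obtain ⟨n, hn⟩ := exists_ne (1 : N)
  have hnn : n * n = 1 := Subtype.ext (by rw [← pow_two]; exact hsq n n.2)
  have hab : a ≠ k.symm n := fun h => hn (by rw [← hk1, h, Equiv.apply_symm_apply])
  have hne : ∀ m : N, m ≠ 1 → m ≠ n → k.symm m ∉ ({a, k.symm n} : Set α) := by
    rintro m hm hm' (h | h)
    · exact hm (by rw [← hk1, ← h, Equiv.apply_symm_apply])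
    · exact hm' (k.symm.injective h)
  obtain ⟨m, hm1, hmn⟩ : ∃ m : N, m ≠ 1 ∧ m ≠ n := by
    by_contra hcon
    push Not at hcon
    have hsub : (Set.univ : Set N) ⊆ {1, n} := fun m _ => by
      by_cases hm : m = 1
      · exact Or.inl hm
      · exact Or.inr (hcon m hm)
    have := (Set.ncard_le_ncard hsub).trans (Set.ncard_insert_le _ _)
    rw [Set.ncard_univ, Set.ncard_singleton] at this
    omega
  rcases rel_trivial_or_total_fixing {a, k.symm n} (h3.isPreprimitive_ofFixingSubgroup
      (by rw [Set.encard_pair hab]; rfl)) (fun x y => k y = k x ∨ k y = k x * n)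
      ⟨fun x => Or.inl rfl, fun h => h.elim (fun h => Or.inl h.symm)
        (fun h => Or.inr (by rw [h, mul_assoc, hnn, mul_one])), fun h h' => by
          rcases h with h | h <;> rcases h' with h' | h' <;> simp [h, h', mul_assoc, hnn]⟩
      (fun g hg x y hxy => by
        have hg' : g • a = a := mem_fixing.1 hg a (by simp)
        have hg'' := hkc g hg' (k.symm n)
        rw [mem_fixing.1 hg (k.symm n) (by simp), Equiv.apply_symm_apply] at hg''
        rcases hxy with h | h
        · exact Or.inl (Subtype.ext (by rw [hkc g hg', hkc g hg', h]))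
        · exact Or.inr (Subtype.ext (by
            rw [Subgroup.coe_mul, hkc g hg', hkc g hg', h, Subgroup.coe_mul]
            conv_rhs => rw [hg'']
            group))) with h | h
  · exfalso
    have := h _ (hne m hm1 hmn) _ (hne (m * n) (fun h => hmn (by
      rw [← hnn] at h; exact mul_right_cancel h)) (fun h => hm1 (by simpa using h)))
      (Or.inr (by simp))
    exact hn (by simpa using k.symm.injective this)
  · have hsub : (Set.univ : Set N) ⊆ {1, n, m, m * n} := by
      intro l _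
      by_cases hl : l = 1
      · exact Or.inl hl
      by_cases hl' : l = n
      · exact Or.inr (Or.inl hl')
      simpa [hl, hl'] using h _ (hne m hm1 hmn) _ (hne l hl hl')
    rw [hcard, ← Set.ncard_univ]
    exact (Set.ncard_le_ncard hsub).trans (Set.ncard_insert_le _ _ |>.trans
      (Nat.succ_le_succ (Set.ncard_insert_le _ _ |>.trans
        (Nat.succ_le_succ (Set.ncard_insert_le _ _ |>.trans (by simp))))))

theorem faithful_ofFixing [FaithfulSMul G α] (s : Set α) :
    FaithfulSMul (fixingSubgroup G s) (ofFixingSubgroup G s) := by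
  refine ⟨fun {g h} hgh => Subtype.ext (eq_of_smul_eq_smul (α := α) fun x => ?_)⟩
  by_cases hx : x ∈ s
  · rw [mem_fixing.1 g.2 x hx, mem_fixing.1 h.2 x hx]
  · exact congrArg Subtype.val (hgh ⟨x, hx⟩)

theorem card_ofFixing [Finite α] (s : Finset α) :
    Nat.card (ofFixingSubgroup G (s : Set α)) = Nat.card α - s.card := by
  have : Nat.card (ofFixingSubgroup G (s : Set α)) = ((s : Set α)ᶜ).ncard := rfl
  rw [this, Set.ncard_compl, Set.ncard_coe_finset]

theorem sharp2_normal_card_le [Finite α] (hX : 3 ≤ Nat.card α)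
    (h3 : IsMultiplyPreprimitive G α 3) (H : Subgroup G) [hH : H.Normal] (h : Sharp2 H α) :
    Nat.card α ≤ 4 := by
  have : Nontrivial α := Finite.one_lt_card_iff_nontrivial.1 (by omega)
  obtain ⟨p, K, -, -, hmem, -, -, -, htr⟩ := h.exists_kernel
  have : (K.map H.subtype).Normal := by
    refine ⟨?_⟩
    rintro _ ⟨n, hn, rfl⟩ g
    refine ⟨⟨_, hH.conj_mem _ n.2 g⟩, ?_, rfl⟩
    rcases (hmem n).1 hn with rfl | hn
    · exact (hmem _).2 (Or.inl (Subtype.ext (by simp)))
    · refine (hmem _).2 (Or.inr fun a ha => hn (g⁻¹ • a) ?_)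
      have ha' : (g * n * g⁻¹) • a = a := ha
      show (n : G) • g⁻¹ • a = _
      rw [eq_inv_smul_iff, ← mul_smul, ← mul_smul, ha']
  refine three_primitive_regular hX h3 (K.map H.subtype) ⟨fun a b => ?_⟩ fun a => ?_
  · obtain ⟨k, hk, hab⟩ := htr a b
    exact ⟨⟨k, k, hk, rfl⟩, hab⟩
  · rw [eq_bot_iff]
    rintro ⟨_, n, hn, rfl⟩ hg
    rcases (hmem n).1 hn with rfl | hn
    · rfl
    · exact absurd hg (hn a)

theorem normal_MT [Finite α] [FaithfulSMul G α] {k : ℕ} (hG : IsMultiplyPreprimitive G α k)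
    (hk : k + 2 ≤ Nat.card α) (H : Subgroup G) [H.Normal] (hH : H ≠ ⊥)
    (hnr : ∃ a : α, stabilizer H a ≠ ⊥) : MT H (Set.univ : Set α) k := by
  classical
  have : Finite G := Finite.of_injective _ (toPerm_injective (α := G) (β := α))
  have hprim : ∀ (s : Finset α) (m : ℕ), s.card + m ≤ k → IsMultiplyPreprimitive
      (fixingSubgroup G (s : Set α)) (ofFixingSubgroup G (s : Set α)) m := by
    intro s m hm
    have : IsMultiplyPreprimitive G α (s.card + m) := isMultiplyPreprimitive_of_le G α hG hm (by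
      rw [ENat.card_eq_coe_natCard]; exact_mod_cast (by omega))
    exact ofFixingSubgroup.isMultiplyPreprimitive G α (n := s.card + m)
      (by rw [Set.ncard_coe_finset])
  have key : ∀ j, j ≤ k → MT H (Set.univ : Set α) j ∧ (j < k → ∀ s : Finset α, s.card = j →
      H ⊓ fixingSubgroup G (s : Set α) ≠ ⊥) := by
    intro j
    induction j with
    | zero =>
      refine fun _ => ⟨MT.zero _ _, fun _ s hs => ?_⟩
      rw [Finset.card_eq_zero.1 hs]; simpa using hH
    | succ j ih =>
      intro hj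
      obtain ⟨h1, h2⟩ := ih (by omega)
      have h3 : MT H (Set.univ : Set α) (j + 1) := by
        refine h1.succ (Pres.univ H) fun s _ hs a _ b _ ha hb => ?_
        have := faithful_ofFixing (G := G) (s : Set α)
        have := (is_one_preprimitive_iff _ _).1 (hprim s 1 (by omega))
        have := isPretransitive_of_normal (α := ofFixingSubgroup G (s : Set α))
          (H.subgroupOf (fixingSubgroup G (s : Set α))) (by
            rw [Ne, subgroupOf_eq_bot, disjoint_iff]; exact h2 (by omega) s hs)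
        obtain ⟨g, hg⟩ := exists_smul_eq (H.subgroupOf (fixingSubgroup G (s : Set α)))
          (⟨a, ha⟩ : ofFixingSubgroup G (s : Set α)) ⟨b, hb⟩
        exact ⟨g, g.2, mem_fixing.1 g.1.2, congrArg Subtype.val hg⟩
      refine ⟨h3, fun hjk s hs hbot => ?_⟩
      have hall : ∀ t : Finset α, t.card = j + 1 → H ⊓ fixingSubgroup G (t : Set α) = ⊥ := by
        intro t ht
        rw [← card_eq_one, h3.card_fixing_eq (Set.subset_univ _) (Set.subset_univ _) ht.le
          (ht.trans hs.symm), hbot, card_bot]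
      rcases Nat.eq_zero_or_pos j with rfl | hj0
      · obtain ⟨a, ha⟩ := hnr
        apply ha
        rw [eq_bot_iff]
        intro g hg
        have : (g : G) ∈ H ⊓ fixingSubgroup G (({a} : Finset α) : Set α) :=
          ⟨g.2, mem_fixing.2 fun y hy => by rw [Finset.mem_singleton.1 hy]; exact hg⟩
        rw [hall {a} (by simp)] at this
        exact Subtype.ext this
      obtain ⟨t, -, ht⟩ := Finset.exists_subset_card_eq (s := s) (n := j - 1) (by omega)
      have h4 := sharp2_normal_card_le (by rw [card_ofFixing]; omega) (hprim t 3 (by omega))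
        (H.subgroupOf (fixingSubgroup G (t : Set α))) ⟨fun a b c d hab hcd => ?_,
          fun g a b hab ha hb => ?_⟩
      · rw [card_ofFixing] at h4; omega
      · have h5 := MT.fixing (m := j - 1) (k := 2) (by rwa [show j - 1 + 2 = j + 1 by omega]) t
          (Set.subset_univ _) ht.le
        obtain ⟨g, hg, h6, h7⟩ := h5.two le_rfl (a := a) (b := b) (c := c) (d := d)
          ⟨trivial, a.2⟩ ⟨trivial, b.2⟩ ⟨trivial, c.2⟩
          ⟨trivial, d.2⟩ (fun h => hab (Subtype.ext h)) (fun h => hcd (Subtype.ext h))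
        exact ⟨⟨⟨g, hg.2⟩, hg.1⟩, Subtype.ext h6, Subtype.ext h7⟩
      · have h5 : ((g : fixingSubgroup G (t : Set α)) : G) ∈
            H ⊓ fixingSubgroup G ((insert a.1 (insert b.1 t) : Finset α) : Set α) := by
          refine ⟨g.2, mem_fixing.2 fun y hy => ?_⟩
          simp only [Finset.coe_insert, Set.mem_insert_iff] at hy
          rcases hy with rfl | rfl | hy
          · exact congrArg Subtype.val ha
          · exact congrArg Subtype.val hb
          · exact mem_fixing.1 g.1.2 y hy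
        rw [hall _ (by
          rw [Finset.card_insert_of_notMem, Finset.card_insert_of_notMem b.2]
          · omega
          · rw [Finset.mem_insert, not_or]
            exact ⟨fun h => hab (Subtype.ext h), a.2⟩)] at h5
        exact Subtype.ext (Subtype.ext h5)
  exact (key k le_rfl).1

theorem jordan_normal [Finite α] [FaithfulSMul G α] {k : ℕ} (hk : 1 < k) (hdeg : k < Nat.card α)
    (hG : IsMultiplyPretransitive G α k) (N : Subgroup G) [N.Normal] (hN : N ≠ ⊥) :
    MT N (Set.univ : Set α) (k - 1) ∨ (k = 3 ∧ IsMulCommutative N ∧ (∀ n ∈ N, n ^ 2 = 1) ∧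
      ∃ m : ℕ, Nat.card α = 2 ^ m) := by
  obtain ⟨l, rfl⟩ : ∃ l, k = l + 1 := ⟨k - 1, by omega⟩
  have hle : ∀ m : ℕ, m ≤ l + 1 → (m : ℕ∞) ≤ ENat.card α := fun m hm => by
    rw [ENat.card_eq_coe_natCard]; exact_mod_cast (by omega)
  have hp : IsMultiplyPreprimitive G α l :=
    isMultiplyPreprimitive_of_isMultiplyPretransitive_succ G α (hle _ le_rfl)
  by_cases hnr : ∃ a : α, stabilizer N a ≠ ⊥
  · exact Or.inl (normal_MT hp (by omega) N hN hnr)
  push Not at hnr
  have := (is_one_preprimitive_iff _ _).1 (isMultiplyPreprimitive_of_le G α hp (m := 1) (by omega)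
    (hle _ (by omega)))
  have htr := isPretransitive_of_normal (α := α) N hN
  rcases (by omega : l = 1 ∨ l = 2 ∨ 3 ≤ l) with rfl | rfl | h3
  · exact Or.inl (MT.of_one (Pres.univ N) fun a _ b _ => by
      obtain ⟨g, hg⟩ := exists_smul_eq N a b
      exact ⟨g, g.2, hg⟩)
  · rcases two_primitive_regular (by omega) hp N htr hnr with h | h
    · omega
    · exact Or.inr ⟨rfl, h⟩
  · have := three_primitive_regular (by omega) (isMultiplyPreprimitive_of_le G α hp h3
      (hle _ (by omega))) N htr hnr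
    omega

theorem ncard_orbit_dvd_of_normal {M K : Subgroup G} (hle : M ≤ K)
    (hn : K ≤ normalizer (M : Set G)) (c : α) : (orbit M c).ncard ∣ (orbit K c).ncard := by
  have h1 : M ⊔ (stabilizer G c ⊓ K) ≤ setStab G (orbit M c) := by
    refine sup_le (fun g hg x => (pres_orbit M c).smul_mem_iff hg) ?_
    have : Pres (stabilizer G c ⊓ K) (orbit M c) := by
      intro g hg x hx
      obtain ⟨m, hm, rfl⟩ := mem_orb.1 hx
      refine mem_orb.2 ⟨g * m * g⁻¹, (mem_normalizer_iff.1 (hn hg.2) m).1 hm, ?_⟩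
      rw [mul_smul, mul_smul, inv_smul_eq_iff.2 (Eq.symm hg.1)]
    exact fun g hg x => this.smul_mem_iff hg
  have h2 : orbit ↥(M ⊔ (stabilizer G c ⊓ K)) c = orbit M c := by
    refine Set.Subset.antisymm (((pres_setStab _).mono h1).orbit_subset (mem_orbit_self c)) ?_
    intro x hx
    obtain ⟨m, hm, rfl⟩ := mem_orb.1 hx
    exact mem_orb.2 ⟨m, mem_sup_left hm, rfl⟩
  have h3 : M ⊔ (stabilizer G c ⊓ K) ≤ K := sup_le hle inf_le_right
  rw [← h2, ncard_orbit_eq_relIndex, ncard_orbit_eq_relIndex, ← inf_relIndex_right _ K,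
    ← relIndex_mul_relIndex _ _ _ le_sup_right h3, ← inf_relIndex_right (stabilizer G c ⊓ K),
    inf_assoc, inf_of_le_right h3, inf_relIndex_right]
  exact Dvd.intro _ rfl

theorem wagner_normal [Finite α] [FaithfulSMul G α] (hodd : Odd (Nat.card α))
    (h5 : 5 ≤ Nat.card α) (hG : IsMultiplyPretransitive G α 3) (N : Subgroup G) [hn : N.Normal]
    (hN : N ≠ ⊥) : MT N (Set.univ : Set α) 3 := by
  classical
  have : Finite G := Finite.of_injective _ (toPerm_injective (α := G) (β := α))
  have : Fact (Nat.Prime 2) := ⟨Nat.prime_two⟩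
  have h3 := MT_top_of_isMultiplyPretransitive (by omega) hG
  have h2 : MT N (Set.univ : Set α) 2 := by
    rcases jordan_normal (by omega) (by omega) hG N hN with h | ⟨-, -, -, m, hm⟩
    · exact h
    · rcases Nat.eq_zero_or_pos m with rfl | hm0
      · omega
      · rw [hm] at hodd
        exact absurd hodd (Nat.not_odd_iff_even.2 ((Nat.even_pow' hm0.ne').2 even_two))
  have : Nontrivial α := Finite.one_lt_card_iff_nontrivial.1 (by omega)
  obtain ⟨a, b, hab⟩ := exists_pair_ne α
  set Γ : Finset α := {a, b} with hΓ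
  have hΓc : Γ.card = 2 := Finset.card_pair hab
  have hmemΓ : ∀ x, x ∈ (Γ : Set α) ↔ x = a ∨ x = b := fun x => by simp [hΓ]
  have hcompl : (Set.univ \ (Γ : Set α)).ncard = Nat.card α - 2 := by
    rw [Set.ncard_diff (Set.subset_univ _), Set.ncard_univ, Set.ncard_coe_finset, hΓc]
  have hodd' : ¬ 2 ∣ (Set.univ \ (Γ : Set α)).ncard := by
    rw [hcompl]; obtain ⟨m, hm⟩ := hodd; omega
  have hcases : ∀ g ∈ setStab G (Γ : Set α), (g • a = a ∧ g • b = b) ∨ (g • a = b ∧ g • b = a) := by
    intro g hg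
    rcases (hmemΓ _).1 ((hg a).2 (by simp [hΓ])) with h1 | h1 <;>
      rcases (hmemΓ _).1 ((hg b).2 (by simp [hΓ])) with h2 | h2
    · exact absurd (smul_left_cancel g (h1.trans h2.symm)) hab
    · exact Or.inl ⟨h1, h2⟩
    · exact Or.inr ⟨h1, h2⟩
    · exact absurd (smul_left_cancel g (h1.trans h2.symm)) hab
  have hfix : ∀ g : G, g • a = a → g • b = b → g ∈ fixingSubgroup G (Γ : Set α) :=
    fun g h1 h2 => mem_fixing.2 fun y hy => by rcases (hmemΓ y).1 hy with rfl | rfl <;> assumption
  have hPs : Pres (N ⊓ setStab G (Γ : Set α)) (Γ : Set α) := (pres_setStab _).mono inf_le_right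
  -- a swap with a fixed point
  obtain ⟨c₀, hc₀, s, hsN, hsa, hsb, hsc⟩ : ∃ c ∉ Γ, ∃ s ∈ N, s • a = b ∧ s • b = a ∧ s • c = c := by
    obtain ⟨S, hS, -⟩ := exists_sylIn (p := 2) (R := ⊥) (H := N ⊓ setStab G (Γ : Set α)) bot_le
      IsPGroup.of_bot
    obtain ⟨c, hc, hcS⟩ := exists_fixed_of_not_dvd hS.2.1 (Set.toFinite _)
      (((Pres.univ _).diff hPs).mono hS.1) hodd'
    by_cases hall : ∀ g ∈ S, g • a = a
    · exfalso
      apply not_dvd_orbit_of_sylIn hS hall
      obtain ⟨u, hu, hua, hub⟩ := h2.two le_rfl (Set.mem_univ a) (Set.mem_univ b) (Set.mem_univ b)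
        (Set.mem_univ a) hab hab.symm
      have : orbit ↥(N ⊓ setStab G (Γ : Set α)) a = Γ := by
        refine Set.Subset.antisymm (hPs.orbit_subset (by simp [hΓ])) fun y hy => ?_
        rcases (hmemΓ y).1 hy with rfl | rfl
        · exact mem_orbit_self _
        · refine mem_orb.2 ⟨u, ⟨hu, mem_setStab_of_mapsTo (Set.toFinite _) fun x hx => ?_⟩, hua⟩
          rcases (hmemΓ x).1 hx with rfl | rfl
          · rw [hua]; exact hy
          · rw [hub]; simp [hΓ]
      rw [this, Set.ncard_coe_finset, hΓc]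
    · push Not at hall
      obtain ⟨g, hg, hga⟩ := hall
      rcases hcases g (hS.1 hg).2 with h | h
      · exact absurd h.1 hga
      · exact ⟨c, hc.2, g, (hS.1 hg).1, h.1, h.2, hcS g hg⟩
  have htr : ∀ c ∉ Γ, ∀ d ∉ Γ, ∃ g ∈ fixingSubgroup G (Γ : Set α), g • c = d := by
    intro c hc d hd
    obtain ⟨g, hg, h⟩ := (MT.fixing (m := 2) (k := 1) h3 Γ (Set.subset_univ _) hΓc.le).one le_rfl
      (a := c) (b := d) ⟨trivial, hc⟩ ⟨trivial, hd⟩
    exact ⟨g, hg.2, h⟩
  have hswap : ∀ c ∉ Γ, ∃ s ∈ N, s • a = b ∧ s • b = a ∧ s • c = c := by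
    intro c hc
    obtain ⟨g, hg, hgc⟩ := htr c₀ hc₀ c hc
    have ha : g • a = a := mem_fixing.1 hg a (by simp [hΓ])
    have hb : g • b = b := mem_fixing.1 hg b (by simp [hΓ])
    refine ⟨g * s * g⁻¹, hn.conj_mem _ hsN g, ?_, ?_, ?_⟩
    · rw [mul_smul, mul_smul, inv_smul_eq_iff.2 ha.symm, hsa, hb]
    · rw [mul_smul, mul_smul, inv_smul_eq_iff.2 hb.symm, hsb, ha]
    · rw [mul_smul, mul_smul, inv_smul_eq_iff.2 hgc.symm, hsc, hgc]
  have horb : ∀ c ∉ Γ, ¬ 2 ∣ (orbit ↥(N ⊓ fixingSubgroup G (Γ : Set α)) c).ncard := by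
    intro c hc h
    apply hodd'
    rw [← orbit_eq_of_MT (MT.fixing (m := 2) (k := 1) h3 Γ (Set.subset_univ _) hΓc.le) le_rfl
      ((Pres.univ _).fixing _) (a := c) ⟨trivial, hc⟩, top_inf_eq]
    refine h.trans (ncard_orbit_dvd_of_normal inf_le_right ?_ c)
    refine le_trans ?_ inf_normalizer_le_normalizer_inf
    rw [normalizer_eq_top, top_inf_eq]
    exact le_normalizer
  refine h2.succ' (Pres.univ N) Γ (Set.subset_univ _) hΓc fun c _ d _ hc hd => ?_
  by_contra hne
  obtain ⟨i, hi⟩ := generous_orbits h2 Γ hΓc (fun g hg x hx => by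
    rcases hcases g hg.2 with h | h
    · exact ⟨g, ⟨hg.1, hfix g h.1 h.2⟩, rfl⟩
    · obtain ⟨s, hs, h1, h2, h3⟩ := hswap x hx
      exact ⟨g * s, ⟨N.mul_mem hg.1 hs, hfix _ (by rw [mul_smul, h1, h.2])
        (by rw [mul_smul, h2, h.1])⟩, by rw [mul_smul, h3]⟩) Nat.prime_two le_rfl ![c, d]
    (fun i => by fin_cases i <;> assumption) (fun i j hij h => by
      apply hne
      obtain ⟨g, hg, hgij⟩ := mem_orb.1 h
      fin_cases i <;> fin_cases j
      · exact absurd rfl hij
      · exact ⟨g, hg.1, mem_fixing.1 hg.2, hgij⟩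
      · exact ⟨g⁻¹, N.inv_mem hg.1, mem_fixing.1 (inv_mem hg.2), inv_smul_eq_iff.2 hgij.symm⟩
      · exact absurd rfl hij)
  fin_cases i
  · exact horb c hc hi
  · exact horb d hd hi

end H14
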