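import Mathlib
import Cfsg.Agent.H14.NormalMT
import Cfsg.Agent.H4.Frobenius
import Cfsg.Agent.H2.MinNormal

/-! Minimal normal subgroups; Burnside's theorem on doubly transitive groups. -/

set_option autoImplicit false
set_option linter.unusedSectionVars false

namespace H14

open MulAction Subgroup H22

variable {G : Type*} [Group G]

/-- `M` is a minimal normal subgroup of the subgroup `N`. -/
structure RelMin (M N : Subgroup G) : Prop where
  le : M ≤ N
  norm : N ≤ normalizer (M : Set G)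
  ne_bot : M ≠ ⊥
  min : ∀ L : Subgroup G, L ≤ M → N ≤ normalizer (L : Set G) → L = ⊥ ∨ L = M

theorem exists_relMin [Finite G] {N L : Subgroup G} (hle : L ≤ N) (hn : N ≤ normalizer (L : Set G))
    (hL : L ≠ ⊥) : ∃ M, RelMin M N ∧ M ≤ L := by
  obtain ⟨M, hM⟩ := exists_minimal_of_wellFoundedLT
    (fun M : Subgroup G => N ≤ normalizer (M : Set G) ∧ M ≠ ⊥ ∧ M ≤ L) ⟨L, hn, hL, le_rfl⟩
  refine ⟨M, ⟨hM.1.2.2.trans hle, hM.1.1, hM.1.2.1, fun K hK hKn => ?_⟩, hM.1.2.2⟩
  by_cases h : K = ⊥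
  · exact Or.inl h
  · exact Or.inr (le_antisymm hK (hM.2 ⟨hKn, h, hK.trans hM.1.2.2⟩ hK))

theorem RelMin.cj {M N : Subgroup G} [N.Normal] (h : RelMin M N) (g : G) : RelMin (cj g M) N := by
  refine ⟨by rw [← cj_eq_of_normal g N]; exact cj_mono h.le, ?_, fun h0 => h.ne_bot ?_,
    fun L hL hLn => ?_⟩
  · rw [← cj_normalizer, ← cj_eq_of_normal g N]; exact cj_mono h.norm
  · rw [← cj_bot g] at h0; exact cj_injective g h0
  · rcases h.min (H22.cj g⁻¹ L) (cj_le_iff_le_cj_inv.2 (by rwa [inv_inv])) (by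
      rw [← cj_normalizer, ← cj_eq_of_normal g⁻¹ N]; exact cj_mono hLn) with h1 | h1
    · left; rw [← cj_cj_inv g L, h1, cj_bot]
    · right; rw [← cj_cj_inv g L, h1]

theorem commute_of_inf_eq_bot {A B : Subgroup G} (hA : B ≤ normalizer (A : Set G))
    (hB : A ≤ normalizer (B : Set G)) (h : A ⊓ B = ⊥) : ∀ a ∈ A, ∀ b ∈ B, a * b = b * a := by
  intro a ha b hb
  have : a * b * a⁻¹ * b⁻¹ ∈ A ⊓ B := ⟨by
    rw [mul_assoc a, mul_assoc a]
    exact A.mul_mem ha (conj_mem_of_mem_normalizer (hA hb) (A.inv_mem ha)),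
    B.mul_mem (conj_mem_of_mem_normalizer (hB ha) hb) (B.inv_mem hb)⟩
  rw [h, mem_bot] at this
  rwa [mul_inv_eq_one, mul_inv_eq_iff_eq_mul] at this

theorem RelMin.inf_eq_bot {M N D : Subgroup G} (h : RelMin M N) (hD : N ≤ normalizer (D : Set G))
    (hMD : ¬ M ≤ D) : M ⊓ D = ⊥ := by
  rcases h.min (M ⊓ D) inf_le_left (fun g hg => mem_normalizer_inf (h.norm hg) (hD hg)) with h1 | h1
  · exact h1
  · exact absurd (inf_eq_left.1 h1) hMD

theorem RelMin.commute {M M' N : Subgroup G} (h : RelMin M N) (h' : RelMin M' N) (hne : M ≠ M') :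
    ∀ a ∈ M, ∀ b ∈ M', a * b = b * a := by
  refine commute_of_inf_eq_bot (h'.le.trans h.norm) (h.le.trans h'.norm)
    (h.inf_eq_bot h'.norm fun hle => ?_)
  rcases h'.min M hle h.norm with h1 | h1
  · exact h.ne_bot h1
  · exact hne h1

theorem le_of_forall_cj_le {M N D : Subgroup G} [N.Normal]
    (hmin : ∀ L : Subgroup G, L.Normal → L ≤ N → L = ⊥ ∨ L = N) (hM : M ≠ ⊥) (hMN : M ≤ N)
    (h : ∀ g, cj g M ≤ D) : N ≤ D := by
  have h1 : normalClosure (M : Set G) ≤ D := by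
    refine (closure_le _).2 fun x hx => ?_
    obtain ⟨a, ha, hax⟩ := Group.mem_conjugatesOfSet_iff.1 hx
    obtain ⟨c, rfl⟩ := isConj_iff.1 hax
    exact h c (conj_mem_cj ha)
  rcases hmin (normalClosure (M : Set G)) inferInstance (normalClosure_le_normal hMN) with h2 | h2
  · exact absurd (eq_bot_iff.2 (h2 ▸ le_normalClosure)) hM
  · exact h2 ▸ h1

theorem RelMin.isSimpleGroup {M N : Subgroup G} [N.Normal] (h : RelMin M N)
    (hmin : ∀ L : Subgroup G, L.Normal → L ≤ N → L = ⊥ ∨ L = N) : IsSimpleGroup M := by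
  have : Nontrivial M := (nontrivial_iff_ne_bot M).2 h.ne_bot
  refine ⟨fun L hL => ?_⟩
  have h1 : N ≤ normalizer ((L.map M.subtype : Subgroup G) : Set G) := by
    refine le_of_forall_cj_le hmin h.ne_bot h.le fun g => ?_
    by_cases hg : M = H22.cj g M
    · rw [← hg]
      have := le_normalizer_map (H := L) M.subtype
      rwa [normalizer_eq_top, ← MonoidHom.range_eq_map, range_subtype] at this
    · refine le_trans ?_ (centralizer_le_normalizer _)
      intro x hx y hy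
      exact h.commute (h.cj g) hg y (map_subtype_le _ hy) x hx
  rcases h.min _ (map_subtype_le L) h1 with h2 | h2
  · exact Or.inl ((map_eq_bot_iff_of_injective _ M.subtype_injective).1 h2)
  · right
    apply map_injective M.subtype_injective
    rw [h2, ← MonoidHom.range_eq_map, range_subtype]

theorem nonempty_sup_equiv_prod {A B : Subgroup G} (h : ∀ a ∈ A, ∀ b ∈ B, a * b = b * a)
    (hd : A ⊓ B = ⊥) : Nonempty (↥(A ⊔ B) ≃* A × B) := by
  let f : A × B →* G := A.subtype.noncommCoprod B.subtype fun a b => h a a.2 b b.2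
  have hf : Function.Injective f := by
    rw [injective_iff_map_eq_one]
    rintro ⟨a, b⟩ hab
    have h1 : (a : G) * b = 1 := hab
    have h2 : (a : G) ∈ A ⊓ B := ⟨a.2, by
      rw [eq_inv_of_mul_eq_one_left h1]; exact B.inv_mem b.2⟩
    rw [hd, mem_bot] at h2
    rw [h2, one_mul] at h1
    exact Prod.ext (Subtype.ext h2) (Subtype.ext h1)
  have hr : f.range = A ⊔ B := by
    refine (MonoidHom.noncommCoprod_range _ _ _).trans ?_
    rw [range_subtype, range_subtype]
  exact ⟨(MulEquiv.subgroupCongr hr.symm).trans (MonoidHom.ofInjective hf).symm⟩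

/-- splitting off the first coordinate -/
def finSuccPi (T : Type*) [Group T] (m : ℕ) : (Fin (m + 1) → T) ≃* T × (Fin m → T) :=
  { (Fin.consEquiv fun _ => T).symm with map_mul' := fun _ _ => rfl }

theorem RelMin.exists_pi [Finite G] {M N : Subgroup G} [N.Normal] (h : RelMin M N)
    (hmin : ∀ L : Subgroup G, L.Normal → L ≤ N → L = ⊥ ∨ L = N) :
    ∃ m : ℕ, 0 < m ∧ Nonempty (N ≃* (Fin m → M)) := by
  have key : ∀ D : Subgroup G, D ≤ N → N ≤ normalizer (D : Set G) →
      (∃ m : ℕ, Nonempty (D ≃* (Fin m → M))) → ∃ m : ℕ, Nonempty (N ≃* (Fin m → M)) := by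
    intro D
    induction D using WellFoundedGT.induction with | ind D ih => ?_
    rintro hle hn ⟨m, ⟨e⟩⟩
    by_cases hall : ∀ g, H22.cj g M ≤ D
    · have := le_antisymm hle (le_of_forall_cj_le hmin h.ne_bot h.le hall)
      exact ⟨m, ⟨(MulEquiv.subgroupCongr this.symm).trans e⟩⟩
    push Not at hall
    obtain ⟨g, hg⟩ := hall
    have h1 := (h.cj g).inf_eq_bot hn hg
    obtain ⟨e'⟩ := nonempty_sup_equiv_prod
      (commute_of_inf_eq_bot (hle.trans (h.cj g).norm) ((h.cj g).le.trans hn) h1) h1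
    refine ih (H22.cj g M ⊔ D) (lt_of_le_of_ne le_sup_right fun h2 => hg (h2 ▸ le_sup_left))
      (sup_le (h.cj g).le hle) (fun x hx => mem_normalizer_sup ((h.cj g).norm hx) (hn hx))
      ⟨m + 1, ⟨e'.trans (((cjEquiv g M).symm.prodCongr e).trans (finSuccPi M m).symm)⟩⟩
  obtain ⟨m, ⟨e⟩⟩ := key ⊥ bot_le le_normalizer_of_normal ⟨0, ⟨MulEquiv.ofUnique⟩⟩
  refine ⟨m, Nat.pos_of_ne_zero ?_, ⟨e⟩⟩
  rintro rfl
  have : Subsingleton N := e.toEquiv.subsingleton
  exact h.ne_bot (eq_bot_iff.2 (h.le.trans (eq_bot_of_subsingleton N).le))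

theorem exists_pi_of_minimal_normal [Finite G] (N : Subgroup G) [N.Normal] (hN : N ≠ ⊥)
    (hmin : ∀ L : Subgroup G, L.Normal → L ≤ N → L = ⊥ ∨ L = N) :
    ∃ (T : Type) (_ : Group T) (m : ℕ), IsSimpleGroup T ∧ 0 < m ∧ Nonempty (N ≃* (Fin m → T)) := by
  obtain ⟨M, hM, -⟩ := exists_relMin (le_refl N) le_normalizer hN
  obtain ⟨m, hm, ⟨e⟩⟩ := hM.exists_pi hmin
  have := hM.isSimpleGroup hmin
  exact ⟨Shrink.{0} M, inferInstance, m, (Shrink.mulEquiv.{0} (α := M)).isSimpleGroup, hm,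
    ⟨e.trans (MulEquiv.piCongrRight fun _ => (Shrink.mulEquiv.{0} (α := M)).symm)⟩⟩

variable {α : Type*} [MulAction G α]

theorem normal_of_fpf {N K : Subgroup G} [hn : N.Normal]
    (h : ∀ g, g ∈ K ↔ g ∈ N ∧ (g = 1 ∨ ∀ a : α, g • a ≠ a)) : K.Normal := by
  refine ⟨fun x hx g => ?_⟩
  rw [h] at hx ⊢
  refine ⟨hn.conj_mem _ hx.1 g, ?_⟩
  rcases hx.2 with rfl | hx
  · simp
  · refine Or.inr fun a ha => hx (g⁻¹ • a) ?_
    rw [eq_inv_smul_iff, ← mul_smul, ← mul_smul, ha]

/-- the Frobenius kernel of a transitive group with trivial two point stabilisers -/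
theorem exists_frobenius_kernel [Finite G] (N : Subgroup G) [IsPretransitive N α]
    (h : ∀ g ∈ N, ∀ a b : α, a ≠ b → g • a = a → g • b = b → g = 1) (a : α) :
    ∃ K : Subgroup G, (∀ g, g ∈ K ↔ g ∈ N ∧ (g = 1 ∨ ∀ a : α, g • a ≠ a)) ∧
      ∀ b : α, ∃ k ∈ K, k • a = b := by
  obtain ⟨K, hK, h1, -, h2, -⟩ := H4.frobenius_kernel (stabilizer N a) (fun g hg x hx hx' => by
    refine Subtype.ext (h x x.2 a (g⁻¹ • a) (fun h => hg ?_) hx ?_)
    · exact eq_inv_smul_iff.1 h
    · show x • g⁻¹ • a = _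
      rw [eq_inv_smul_iff, ← mul_smul, ← mul_smul]
      exact hx')
  refine ⟨K.map N.subtype, fun g => ⟨?_, ?_⟩, fun b => ?_⟩
  · rintro ⟨x, hx, rfl⟩
    refine ⟨x.2, ?_⟩
    rcases (h1 x).1 hx with rfl | h3
    · exact Or.inl rfl
    · refine Or.inr fun b hb => ?_
      obtain ⟨y, rfl⟩ := exists_smul_eq N a b
      refine h3 y⁻¹ ?_
      have hb' : x • y • a = y • a := hb
      rw [mem_stabilizer_iff, inv_inv, mul_smul, mul_smul, hb', inv_smul_smul]
  · rintro ⟨hg, h3⟩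
    refine ⟨⟨g, hg⟩, (h1 _).2 ?_, rfl⟩
    rcases h3 with rfl | h3
    · exact Or.inl rfl
    · refine Or.inr fun y hy => h3 (y⁻¹ • a) ?_
      rw [mem_stabilizer_iff, mul_smul, mul_smul, ← eq_inv_smul_iff] at hy
      exact hy
  · obtain ⟨y, rfl⟩ := exists_smul_eq N a b
    obtain ⟨k, hk, s, hs, rfl⟩ := (mem_sup_of_normal_left (s := K) (t := stabilizer N a)
      (x := y)).1 (h2 ▸ mem_top y)
    exact ⟨k, ⟨k, hk, rfl⟩, by rw [mul_smul, show s • a = a from hs]; rfl⟩

theorem two_point_of_imprimitive [Finite α] [FaithfulSMul G α]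
    (h2 : MT (⊤ : Subgroup G) (Set.univ : Set α) 2)
    (N : Subgroup G) [hn : N.Normal] [IsPretransitive N α] (hN : ¬ IsPreprimitive N α) :
    ∀ g ∈ N, ∀ a b : α, a ≠ b → g • a = a → g • b = b → g = 1 := by
  obtain ⟨B, hB⟩ := exists_minimal_of_wellFoundedLT
    (fun B : Set α => IsBlock N B ∧ ¬ IsTrivialBlock B) (by
      by_contra hcon
      refine hN ⟨fun {B} hB => ?_⟩
      by_contra h
      exact hcon ⟨B, hB, h⟩)
  have hBs : ¬ B.Subsingleton := fun h => hB.1.2 (Or.inl h)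
  have hBu : B ≠ Set.univ := fun h => hB.1.2 (Or.inr h)
  have hblock : ∀ g : G, IsBlock N {x | g • x ∈ B} := by
    intro g
    rw [isBlock_iff_smul_eq_of_mem]
    intro n x hx hnx
    have h1 := hB.1.1.smul_eq_of_mem (g := (⟨_, hn.conj_mem _ n.2 g⟩ : N)) hx (by
      show (g * n * g⁻¹) • g • x ∈ B
      rw [mul_smul, inv_smul_smul, mul_smul]; exact hnx)
    ext y
    rw [Set.mem_smul_set_iff_inv_smul_mem, Set.mem_setOf_eq, Set.mem_setOf_eq]
    conv_rhs => rw [← h1, Set.mem_smul_set_iff_inv_smul_mem]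
    show g • (n : G)⁻¹ • y ∈ B ↔ (g * n * g⁻¹)⁻¹ • g • y ∈ B
    simp [mul_smul]
  have hcard : ∀ g : G, {x | g • x ∈ B}.ncard = B.ncard := fun g => by
    rw [← Set.ncard_smul_set g⁻¹ B]
    congr 1; ext x; rw [Set.mem_smul_set_iff_inv_smul_mem, inv_inv]; rfl
  -- two lines with two common points agree
  have hline : ∀ (g h : G) (x y : α), x ≠ y → g • x ∈ B → g • y ∈ B → h • x ∈ B → h • y ∈ B →
      ∀ z, g • z ∈ B → h • z ∈ B := by
    intro g h x y hxy h1 h2 h3 h4 z hz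
    have h5 : B ≤ B ∩ {w | (h * g⁻¹) • w ∈ B} := by
      refine hB.2 ⟨hB.1.1.inter (hblock _), ?_⟩ Set.inter_subset_left
      rintro (h6 | h6)
      · exact hxy (smul_left_cancel g (h6 ⟨h1, by simpa [mul_smul] using h3⟩
          ⟨h2, by simpa [mul_smul] using h4⟩))
      · exact hBu (Set.eq_univ_of_univ_subset (h6 ▸ Set.inter_subset_left))
    simpa [mul_smul] using (h5 hz).2
  have hex : ∀ x y : α, x ≠ y → ∃ g : G, g • x ∈ B ∧ g • y ∈ B := by
    intro x y hxy
    obtain ⟨u, hu, v, hv, huv⟩ := Set.not_subsingleton_iff.1 hBs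
    obtain ⟨g, -, h1, h2⟩ := h2.two le_rfl (Set.mem_univ x) (Set.mem_univ y) (Set.mem_univ u)
      (Set.mem_univ v) hxy huv
    exact ⟨g, h1 ▸ hu, h2 ▸ hv⟩
  have hpres : ∀ n ∈ N, ∀ (g : G) (x z : α), n • x = x → g • x ∈ B → g • z ∈ B → g • n • z ∈ B := by
    intro n hn g x z hx h1 h2
    have := (hblock g).smul_eq_of_mem (g := (⟨n, hn⟩ : N)) h1 (by
      show g • n • x ∈ B; rwa [hx])
    have h3 : (⟨n, hn⟩ : N) • z ∈ {x | g • x ∈ B} := this ▸ Set.smul_mem_smul_set h2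
    exact h3
  have hoff : ∀ n ∈ N, ∀ (g : G) (a b c : α), a ≠ b → n • a = a → n • b = b → g • a ∈ B →
      g • b ∈ B → g • c ∉ B → n • c = c := by
    intro n hn g a b c hab ha hb h1 h2 h3
    by_contra hne
    obtain ⟨u, hu1, hu2⟩ := hex a c (by rintro rfl; exact h3 h1)
    obtain ⟨v, hv1, hv2⟩ := hex b c (by rintro rfl; exact h3 h2)
    have h4 := hline v u _ _ hne (hpres n hn v b c hb hv1 hv2) hv2 (hpres n hn u a c ha hu1 hu2)
      hu2 b hv1
    exact h3 (hline u g a b hab hu1 h4 h1 h2 c hu2)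
  intro n hn a b hab ha hb
  obtain ⟨g, h1, h2⟩ := hex a b hab
  obtain ⟨c', hc'⟩ := (Set.ne_univ_iff_exists_notMem B).1 hBu
  have hc : g • g⁻¹ • c' ∉ B := by rwa [smul_inv_smul]
  have hac : a ≠ g⁻¹ • c' := by rintro rfl; exact hc h1
  refine eq_of_smul_eq_smul (α := α) fun x => ?_
  rw [one_smul]
  by_cases hx : g • x ∈ B
  · by_cases hxa : x = a
    · rwa [hxa]
    obtain ⟨u, hu1, hu2⟩ := hex a _ hac
    refine hoff n hn u a _ x hac ha (hoff n hn g a b _ hab ha hb h1 h2 hc) hu1 hu2 fun h => ?_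
    exact hc (hline u g x a hxa h hu1 hx h1 _ hu2)
  · exact hoff n hn g a b x hab ha hb h1 h2 hx

theorem burnside_two_trans [Finite α] [FaithfulSMul G α] (hG : IsMultiplyPretransitive G α 2)
    (N : Subgroup G) [hn : N.Normal] (hN : N ≠ ⊥)
    (hmin : ∀ M : Subgroup G, M.Normal → M ≤ N → M = ⊥ ∨ M = N) :
    (IsMulCommutative N ∧ (∃ p : ℕ, p.Prime ∧ ∀ n ∈ N, n ^ p = 1) ∧
      ∀ a : α, stabilizer N a = ⊥) ∨ (IsSimpleGroup N ∧ IsPreprimitive N α) := by
  have : Finite G := Finite.of_injective _ (toPerm_injective (α := G) (β := α))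
  have hnt : Nontrivial α := by
    by_contra h
    rw [not_nontrivial_iff_subsingleton] at h
    exact hN (eq_bot_iff.2 fun g _ => eq_of_smul_eq_smul (α := α) fun x => Subsingleton.elim _ _)
  have h2 := MT_top_of_isMultiplyPretransitive Finite.one_lt_card hG
  have hprim : IsPreprimitive G α := isPreprimitive_of_is_two_pretransitive hG
  have htr := isPretransitive_of_normal (α := α) N hN
  obtain ⟨a⟩ : Nonempty α := inferInstance
  by_cases hreg : ∀ a : α, stabilizer N a = ⊥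
  · left
    obtain ⟨k, hk, hk1, hkc⟩ := exists_regular_coord N htr hreg a
    obtain ⟨x, hx, hxp⟩ := H2.exists_mem_prime_orderOf hN
    have hx1 : x ≠ 1 := by rintro rfl; simp at hxp; exact Nat.not_prime_one hxp
    have hpow : ∀ n ∈ N, n ^ orderOf x = 1 := by
      intro n hn
      by_cases hn1 : n = 1
      · simp [hn1]
      have hne : ∀ m : N, (m : G) ≠ 1 → a ≠ k.symm m := fun m hm h =>
        hm (by rw [← k.apply_symm_apply m, ← h, hk1]; rfl)
      obtain ⟨g, -, h3, h4⟩ := h2.two le_rfl (Set.mem_univ a) (Set.mem_univ (k.symm ⟨x, hx⟩))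
        (Set.mem_univ a) (Set.mem_univ (k.symm ⟨n, hn⟩)) (hne _ hx1) (hne _ hn1)
      have := hkc g h3 (k.symm ⟨x, hx⟩)
      rw [h4, k.apply_symm_apply, k.apply_symm_apply] at this
      rw [show n = g * x * g⁻¹ from this, conj_pow, pow_orderOf_eq_one]; simp
    have : Fact (orderOf x).Prime := ⟨hxp⟩
    have := (H2.isPGroup_of_forall_pow_eq_one hpow).isNilpotent
    exact ⟨H2.IsMinNormal.isMulCommutative ⟨hn, hN, hmin⟩ inferInstance, ⟨_, hxp, hpow⟩, hreg⟩
  right
  have hNprim : IsPreprimitive N α := by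
    by_contra hNp
    obtain ⟨K, hK, hKt⟩ := exists_frobenius_kernel N (two_point_of_imprimitive h2 N hNp) a
    rcases hmin K (normal_of_fpf hK) (fun g hg => ((hK g).1 hg).1) with h | h
    · obtain ⟨b, hb⟩ := exists_ne a
      obtain ⟨k, hk, hkb⟩ := hKt b
      rw [h, mem_bot] at hk
      rw [hk, one_smul] at hkb
      exact hb hkb.symm
    · refine hreg fun b => eq_bot_iff.2 fun g hg => ?_
      rcases ((hK g).1 (h ▸ g.2)).2 with h1 | h1
      · exact Subtype.ext h1
      · exact absurd hg (h1 b)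
  refine ⟨?_, hNprim⟩
  obtain ⟨M, hM, -⟩ := exists_relMin (le_refl N) le_normalizer hN
  by_cases hMN : M = N
  · exact hMN ▸ hM.isSimpleGroup hmin
  exfalso
  have htrM : ∀ L, RelMin L N → IsPretransitive L α := by
    intro L hL
    have : (L.subgroupOf N).Normal := (normal_subgroupOf_iff_le_normalizer hL.le).2 hL.norm
    have := isPretransitive_of_normal (α := α) (L.subgroupOf N) (by
      rw [Ne, subgroupOf_eq_bot, disjoint_iff, inf_of_le_left hL.le]; exact hL.ne_bot)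
    refine ⟨fun x y => ?_⟩
    obtain ⟨g, hg⟩ := exists_smul_eq (L.subgroupOf N) x y
    exact ⟨⟨g, g.2⟩, hg⟩
  obtain ⟨g, hg⟩ : ∃ g, cj g M ≠ M := by
    by_contra hcon
    push Not at hcon
    exact hMN (le_antisymm hM.le (le_of_forall_cj_le hmin hM.ne_bot hM.le fun g => (hcon g).le))
  have := htrM _ hM
  have := htrM _ (hM.cj g)
  have hc := (hM.cj g).commute hM hg
  obtain ⟨hr, -, hcent⟩ := commuting_transitive (α := α) (cj g M) M hc
  have hNle : N ≤ cj g M ⊔ M := by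
    refine le_of_forall_cj_le hmin hM.ne_bot hM.le fun u => ?_
    by_cases hu : cj u M = cj g M
    · exact hu ▸ le_sup_left
    refine le_trans (fun x hx => ?_) le_sup_right
    obtain ⟨n, hn⟩ := hcent (toPerm x) fun m y => by
      show x • (m : G) • y = (m : G) • x • y
      rw [← mul_smul, (hM.cj u).commute (hM.cj g) hu x hx m m.2, mul_smul]
    have : x = n := eq_of_smul_eq_smul (α := α) hn
    exact this ▸ n.2
  have hcard : Nat.card (cj g M) = Nat.card α := by
    rw [← index_stabilizer_of_transitive (cj g M) a, hr a, index_bot]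
  have hNc : Nat.card N = Nat.card α * Nat.card α := by
    rw [le_antisymm hNle (sup_le (hM.cj g).le hM.le)]
    obtain ⟨e⟩ := nonempty_sup_equiv_prod hc ((hM.cj g).inf_eq_bot hM.norm fun h =>
      hg (cj_eq_of_le h))
    rw [Nat.card_congr e.toEquiv, Nat.card_prod, ← card_cj g M, hcard]
  have h3 := ncard_orbit_mul N a
  rw [orbit_eq_univ, Set.ncard_univ, hNc] at h3
  have h4 := Nat.eq_of_mul_eq_mul_left Nat.card_pos h3
  have h1 : 1 < Nat.card α := Finite.one_lt_card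
  have h5 : N ⊓ stabilizer G a = ⊥ := by
    refine eq_bot_iff.2 fun x hx => eq_of_smul_eq_smul (α := α) fun b => ?_
    rw [one_smul]
    by_cases hb : b = a
    · rw [hb]; exact hx.2
    have h6 := ncard_orbit_dvd_of_normal (M := N ⊓ stabilizer G a) (K := ⊤ ⊓ stabilizer G a)
      (inf_le_inf_right _ le_top) (fun y hy => mem_normalizer_inf
        (by rw [normalizer_eq_top]; trivial) (le_normalizer hy.2)) b
    rw [orbit_eq_of_MT (h2.stab (Set.mem_univ a)) le_rfl ((Pres.univ _).stab a) ⟨trivial, hb⟩,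
      ncard_diff_singleton_eq (Set.mem_univ a), Set.ncard_univ] at h6
    have h7 : (orbit ↥(N ⊓ stabilizer G a) b).ncard ∣ Nat.card α :=
      h4 ▸ Dvd.intro _ (ncard_orbit_mul _ b)
    have h8 := Nat.dvd_one.1 ((Nat.dvd_sub_iff_right h1.le h7).1 h6)
    obtain ⟨c, hc⟩ := Set.ncard_eq_one.1 h8
    have h9 : x • b ∈ orbit ↥(N ⊓ stabilizer G a) b := mem_orb.2 ⟨x, hx, rfl⟩
    have h10 := mem_orbit_self (M := ↥(N ⊓ stabilizer G a)) b
    rw [hc] at h9 h10
    exact h9.trans h10.symm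
  rw [h5, card_bot] at h4
  omega

end H14
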