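import Mathlib
import Cfsg.Agent.H4.Misc
import Cfsg.Agent.H4.Central
import Cfsg.Agent.H1.Lift
import Cfsg.Agent.S0016
import Cfsg.Agent.S0106

/-! Groups with a fixed-point-free complex representation. -/

set_option autoImplicit false
set_option linter.unusedSectionVars false

namespace H14

open Cfsg H4 Module Subgroup
open scoped IsMulCommutative

/-- `G` has a fixed-point-free complex representation -/
def Fpf (G : Type*) [Group G] : Prop :=
  ∃ (n : ℕ) (σ : Representation ℂ G (Fin n → ℂ)), n ≠ 0 ∧ ∀ g, g ≠ 1 → ∀ v, σ g v = v → v = 0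

variable {G : Type*} [Group G]

theorem Fpf.of_injective {H : Type*} [Group H] (h : Fpf G) (f : H →* G)
    (hf : Function.Injective f) : Fpf H := by
  obtain ⟨n, σ, hn, hσ⟩ := h
  exact ⟨n, σ.comp f, hn, fun g hg => hσ (f g) fun e => hg (hf (e.trans f.map_one.symm))⟩

theorem Fpf.subgroup (h : Fpf G) (H : Subgroup G) : Fpf H := h.of_injective _ H.subtype_injective

theorem fpf_of_zmod [Finite G] {p : ℕ} [Fact p.Prime] (hG : ¬ p ∣ Nat.card G) {W : Type*}
    [AddCommGroup W] [Module (ZMod p) W] [Finite W] [Nontrivial W]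
    (ρ : Representation (ZMod p) G W) (h : ∀ g, g ≠ 1 → ∀ v, ρ g v = v → v = 0) : Fpf G := by
  obtain ⟨n, σ, hσ⟩ := H1.exists_complex_rep_of_zmod hG ρ
  have : Module.Finite (ZMod p) W := Module.Finite.of_finite
  refine ⟨n, σ, fun hn => ?_, fun g hg v hv => ?_⟩
  · have h1 := hσ ⊥
    have h2 : H1.fixSp ρ ⊥ = ⊤ := by
      ext v; simp [H1.mem_fixSp]
    subst hn
    rw [h2, finrank_top, finrank_zero_of_subsingleton] at h1
    exact finrank_pos.ne' h1.symm
  · have h1 := hσ (zpowers g)
    have h2 : H1.fixSp ρ (zpowers g) = ⊥ :=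
      eq_bot_iff.2 fun w hw => h g hg w (H1.mem_fixSp.1 hw g (mem_zpowers g))
    rw [h2, finrank_bot, Submodule.finrank_eq_zero] at h1
    refine (Submodule.eq_bot_iff _).1 h1 v (H1.mem_fixSp.2 fun a ha => ?_)
    obtain ⟨k, rfl⟩ := mem_powers_iff_mem_zpowers.2 ha
    simp only [map_pow, Module.End.pow_apply]
    exact Function.IsFixedPt.iterate hv k

variable [Finite G]

theorem Fpf.isCyclic_of_comm (h : Fpf G) (hc : ∀ a b : G, a * b = b * a) : IsCyclic G := by
  obtain ⟨n, σ, hn, hσ⟩ := h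
  have := Fintype.ofFinite G
  obtain ⟨χ, hχ, h0⟩ := (isCharacter_of_rep σ).classFun.exists_irr_inner_ne_zero (fun h => by
    have := congrFun h 1
    rw [Representation.char_one] at this
    simp [hn] at this)
  obtain ⟨lam, rfl⟩ := hχ.isCharacter.exists_linear (hχ.apply_one_of_comm hc)
  obtain ⟨f, hf⟩ := exists_injective_intertwining (linRep ((Units.coeHom ℂ).comp lam)) _ σ
    (by rw [linRep_character]; exact (isCharacter_of_rep σ).sub_irr hχ h0)
  refine isCyclic_of_injective_ringHom ((Units.coeHom ℂ).comp lam)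
    ((injective_iff_map_eq_one _).2 fun g hg => by_contra fun hne => ?_)
  have h1 := DFunLike.congr_fun (f.isIntertwining' g) 1
  have h2 : linRep ((Units.coeHom ℂ).comp lam) g 1 = 1 := by
    show ((Units.coeHom ℂ).comp lam) g • (1 : ℂ) = 1
    rw [hg, one_smul]
  rw [LinearMap.comp_apply, LinearMap.comp_apply, h2] at h1
  exact one_ne_zero (hf ((hσ g hne _ h1.symm).trans (map_zero f).symm))

theorem Fpf.isCyclic_sub (h : Fpf G) (A : Subgroup G) [hA : IsMulCommutative A] : IsCyclic A :=
  (h.subgroup A).isCyclic_of_comm hA.1.1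

theorem eq_of_card_eq_of_isCyclic [IsCyclic G] {H K : Subgroup G} (h : Nat.card H = Nat.card K) :
    H = K := by
  classical
  have := Fintype.ofFinite G
  have key : ∀ H : Subgroup G, (H : Set G).toFinset =
      Finset.univ.filter (fun a : G => a ^ Nat.card H = 1) := fun H => by
    refine Finset.eq_of_subset_of_card_le (fun a ha => ?_) ?_
    · simp only [Set.mem_toFinset, SetLike.mem_coe] at ha
      exact Finset.mem_filter.2 ⟨Finset.mem_univ _,
        congrArg Subtype.val (pow_card_eq_one' (x := (⟨a, ha⟩ : H)))⟩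
    · refine (IsCyclic.card_pow_eq_one_le Nat.card_pos).trans (le_of_eq ?_)
      rw [Set.toFinset_card, Nat.card_eq_fintype_card]; rfl
  apply SetLike.coe_injective
  rw [← Set.toFinset_inj, key, key, h]

theorem Fpf.zpowers_eq (h : Fpf G) {x y : G} (hxy : Commute x y) (ho : orderOf x = orderOf y) :
    zpowers x = zpowers y := by
  have : IsMulCommutative (closure {x, y}) := isMulCommutative_closure (by
    rintro a (rfl | rfl) b (rfl | rfl)
    exacts [rfl, hxy, hxy.symm, rfl])
  have := h.isCyclic_sub (closure {x, y})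
  have hx : x ∈ closure {x, y} := subset_closure (by simp)
  have hy : y ∈ closure {x, y} := subset_closure (by simp)
  have h1 : zpowers (⟨x, hx⟩ : closure {x, y}) = zpowers ⟨y, hy⟩ := eq_of_card_eq_of_isCyclic (by
    rw [Nat.card_zpowers, Nat.card_zpowers, ← Subgroup.orderOf_coe, ← Subgroup.orderOf_coe, ho])
  simpa using congrArg (Subgroup.map (closure {x, y}).subtype) h1

theorem Fpf.cyclic_or_quaternion (h : Fpf G) {p : ℕ} [hp : Fact p.Prime] (hG : IsPGroup p G) :
    IsCyclic G ∨ (p = 2 ∧ ∃ n : ℕ, 1 ≤ n ∧ Nonempty (G ≃* QuaternionGroup (2 ^ n))) := by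
  have key : ∀ H K : Subgroup G, Nat.card H = p → Nat.card K = p → H = K := by
    intro H K hH hK
    have : Nontrivial G := by
      rw [← Finite.one_lt_card_iff_nontrivial]
      exact hp.1.one_lt.trans_le (hH ▸ H.card_le_card_group)
    obtain ⟨z, hz, hzo⟩ : ∃ z ∈ center G, orderOf z = p := by
      have := hG.center_nontrivial
      obtain ⟨k, hk⟩ := IsPGroup.iff_card.1 (hG.to_subgroup (center G))
      obtain ⟨z, hz⟩ := exists_prime_orderOf_dvd_card' (G := center G) p (hk ▸ dvd_pow_self p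
        (fun h0 => by rw [h0, pow_zero] at hk; exact Finite.one_lt_card.ne' hk))
      exact ⟨z, z.2, by rw [Subgroup.orderOf_coe, hz]⟩
    have : ∀ H : Subgroup G, Nat.card H = p → H = zpowers z := fun H hH => by
      obtain ⟨x, hx⟩ := exists_prime_orderOf_dvd_card' (G := H) p (hH ▸ dvd_rfl)
      rw [← Subgroup.orderOf_coe] at hx
      rw [← h.zpowers_eq (mem_center_iff.1 hz x) (hx.trans hzo.symm)]
      exact (eq_of_le_of_card_ge (zpowers_le.2 x.2) (by rw [Nat.card_zpowers, hx, hH])).symm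
    rw [this H hH, this K hK]
  rcases Cfsg.Agent.S0016.result p hG key with h1 | ⟨rfl, n, ⟨e⟩⟩
  · exact Or.inl h1
  rcases Nat.eq_zero_or_pos n with rfl | hn
  · have := QuaternionGroup.quaternionGroup_one_isCyclic
    exact Or.inl (isCyclic_of_surjective e.symm e.symm.surjective)
  · exact Or.inr ⟨rfl, n, hn, ⟨e⟩⟩

theorem Fpf.isZGroup (h : Fpf G) (h2 : ∀ P : Sylow 2 G, IsCyclic P) : IsZGroup G :=
  ⟨fun p hp P => by
    have := Fact.mk hp
    rcases (h.subgroup P).cyclic_or_quaternion P.isPGroup' with h1 | ⟨rfl, -⟩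
    exacts [h1, h2 P]⟩

theorem Fpf.isZGroup_of_no_four (h : Fpf G) (h4 : ∀ x : G, orderOf x ≠ 4) : IsZGroup G :=
  h.isZGroup fun P => by
    rcases (h.subgroup P).cyclic_or_quaternion P.isPGroup' with h1 | ⟨-, n, -, ⟨e⟩⟩
    · exact h1
    · exact absurd (by rw [Subgroup.orderOf_coe, MulEquiv.orderOf_eq, QuaternionGroup.orderOf_xa])
        (h4 (e.symm (QuaternionGroup.xa 0)))

theorem Fpf.solvable_of_not_three (h : Fpf G) (h3 : ¬ 3 ∣ Nat.card G) : Group.IsSolvable G := by
  obtain ⟨T⟩ : Nonempty (Sylow 2 G) := inferInstance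
  rcases (h.subgroup T).cyclic_or_quaternion T.isPGroup' with h1 | ⟨-, n, hn, he⟩
  · have := h.isZGroup fun P => isCyclic_of_surjective _ (T.equiv P).surjective
    infer_instance
  rcases Cfsg.Agent.S0106.result T n hn he with ⟨P, N, hN, hc⟩ | ⟨H, K, hK, ⟨e⟩⟩
  · have : IsZGroup N := (h.subgroup N).isZGroup fun Q => by
      have : Nat.card Q = 1 := by
        rw [Q.card_eq_multiplicity, Nat.factorization_eq_zero_of_not_dvd, pow_zero]
        rw [← hc.index_eq_card]; exact P.not_dvd_index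
      have := (Nat.card_eq_one_iff_unique.1 this).1
      infer_instance
    have := P.isPGroup'.isNilpotent
    have : Group.IsSolvable (G ⧸ N) :=
      Group.isSolvable_of_surjective (f := hc.symm.QuotientMulEquiv.symm.toMonoidHom)
        hc.symm.QuotientMulEquiv.symm.surjective
    exact (Group.isSolvable_iff_subgroup_quotient N).2 ⟨inferInstance, this⟩
  · refine absurd (dvd_trans ?_ ((card_quotient_dvd_card (K.subgroupOf H)).trans
      H.card_subgroup_dvd_card)) h3
    rw [Nat.card_congr e.toEquiv]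
    let u : Matrix.SpecialLinearGroup (Fin 2) (ZMod 3) := ⟨!![1, 1; 0, 1], by simp⟩
    have : Fact (Nat.Prime 3) := ⟨Nat.prime_three⟩
    have : orderOf u = 3 := orderOf_eq_prime (by decide)
      (fun h => absurd (congrArg (fun m : Matrix.SpecialLinearGroup (Fin 2) (ZMod 3) => m 0 1) h)
        (by decide))
    exact (dvd_of_eq this.symm).trans (orderOf_dvd_natCard _)

theorem Fpf.solvable_of_central_three (h : Fpf G) (h3 : ∀ x : G, x ^ 3 = 1 → x ∈ center G) :
    Group.IsSolvable G := by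
  have : Fact (Nat.Prime 3) := ⟨Nat.prime_three⟩
  have : Group.IsSolvable (commutator G) := (h.subgroup _).solvable_of_not_three fun hd => by
    obtain ⟨⟨x, hx⟩, hxo⟩ := exists_prime_orderOf_dvd_card' 3 hd
    replace hxo : orderOf x = 3 := by rw [← hxo, ← Subgroup.orderOf_coe]
    obtain ⟨P⟩ : Nonempty (Sylow 3 G) := inferInstance
    have hP : IsCyclic P := ((h.subgroup P).cyclic_or_quaternion P.isPGroup').resolve_right
      fun h => absurd h.1 (by norm_num)
    have hz := h3 x (hxo ▸ pow_orderOf_eq_one x)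
    have h1 := MonoidHom.transfer_eq_pow (MonoidHom.id P) x (fun k g _ => by
      rw [mul_assoc, ← mem_center_iff.1 (pow_mem hz k), inv_mul_cancel_left])
    rw [Abelianization.commutator_subset_ker _ hx] at h1
    have h2 : x ^ (P : Subgroup G).index = 1 := (congrArg Subtype.val h1).symm
    exact P.not_dvd_index ((dvd_of_eq hxo.symm).trans (orderOf_dvd_of_pow_eq_one h2))
  exact (Group.isSolvable_iff_subgroup_quotient (commutator G)).2
    ⟨this, inferInstanceAs (Group.IsSolvable (Abelianization G))⟩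

theorem eq_or_eq_inv_of_mem_zpowers {x y : G} (hx : x ^ 3 = 1) (hy : y ∈ zpowers x) :
    y = 1 ∨ y = x ∨ y = x⁻¹ := by
  obtain ⟨k, rfl⟩ := hy
  have h1 : x ^ k = x ^ (k % 3) := by
    conv_lhs => rw [← Int.emod_add_mul_ediv k 3, zpow_add, zpow_mul]
    rw [show x ^ (3 : ℤ) = 1 from by exact_mod_cast hx]; simp
  rcases (by omega : k % 3 = 0 ∨ k % 3 = 1 ∨ k % 3 = 2) with h | h | h <;> simp only [h1, h]
  · simp
  · simp
  · right; right
    rw [eq_inv_iff_mul_eq_one, ← hx]; norm_cast; rw [← pow_succ]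

theorem Fpf.eq_or_inv (h : Fpf G) {x y : G} (hx : x ^ 3 = 1) (hx1 : x ≠ 1) (hy : y ^ 3 = 1)
    (hy1 : y ≠ 1) (hxy : Commute x y) : y = x ∨ y = x⁻¹ := by
  have : Fact (Nat.Prime 3) := ⟨Nat.prime_three⟩
  exact (eq_or_eq_inv_of_mem_zpowers hx (h.zpowers_eq hxy (by
    rw [orderOf_eq_prime hx hx1, orderOf_eq_prime hy hy1]) ▸ mem_zpowers y)).resolve_left hy1

theorem Fpf.solvable_of_normal_three (h : Fpf G) {x : G} (hx : x ^ 3 = 1) (hx1 : x ≠ 1)
    (hn : ∀ g, g * x * g⁻¹ ∈ zpowers x) : Group.IsSolvable G := by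
  have hN : (zpowers x).Normal := ⟨by
    rintro _ ⟨k, rfl⟩ g
    rw [← conj_zpow]; exact zpow_mem (hn g) k⟩
  let φ : G →* MulAut (zpowers x) := MulAut.conjNormal
  have hc : ∀ g ∈ φ.ker, Commute x g := fun g hg => by
    have := congrArg Subtype.val (DFunLike.congr_fun (MonoidHom.mem_ker.1 hg) ⟨x, mem_zpowers x⟩)
    exact (mul_inv_eq_iff_eq_mul.1 this).symm
  have : Group.IsSolvable φ.ker := (h.subgroup _).solvable_of_central_three fun y hy => by
    by_cases hy1 : y = 1
    · rw [hy1]; exact one_mem _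
    refine mem_center_iff.2 fun g => Subtype.ext ?_
    rcases h.eq_or_inv hx hx1 (congrArg Subtype.val hy) (fun e => hy1 (Subtype.ext e))
      (hc y y.2) with e | e
    · rw [coe_mul, coe_mul, e, (hc g g.2).eq]
    · rw [coe_mul, coe_mul, e, (hc g g.2).inv_left.eq]
  have : Group.IsSolvable (MulAut (zpowers x)) :=
    Group.isSolvable_of_isSolvable_injective (f := (IsCyclic.mulAutMulEquiv (zpowers x)).toMonoidHom)
      (IsCyclic.mulAutMulEquiv (zpowers x)).injective
  exact Group.isSolvable_of_ker_le_range φ.ker.subtype φ (by simp)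

theorem Fpf.solvable_normalizer (h : Fpf G) {x : G} (hx : x ^ 3 = 1) (hx1 : x ≠ 1) :
    Group.IsSolvable (normalizer (zpowers x : Set G)) :=
  (h.subgroup _).solvable_of_normal_three (x := ⟨x, le_normalizer (mem_zpowers x)⟩)
    (Subtype.ext hx) (fun e => hx1 (congrArg Subtype.val e)) fun g => by
      obtain ⟨k, hk⟩ := (mem_normalizer_iff.1 g.2 x).1 (mem_zpowers x)
      exact ⟨k, Subtype.ext (by simpa using hk)⟩

end H14
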