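import Mathlib
import Cfsg.Agent.H14.Fpf

/-! Pairs of elements of order three in a fixed-point-free group. -/

set_option autoImplicit false
set_option linter.unusedSectionVars false

namespace H14

open Cfsg H4 Module Subgroup

theorem cos_pair {ζ η : ℂ} {n : ℕ} (hn : n ≠ 0) (hζ : ζ ^ n = 1) (hη : η ^ n = 1)
    (h : η + η⁻¹ = 1 - (ζ + ζ⁻¹)) {s : ℂ} (hs : s = (ζ + ζ⁻¹) ^ 2 - (ζ + ζ⁻¹)) :
    s * (s - 1) * (s - 2) = 0 := by
  let K := IntermediateField.adjoin ℚ ({ζ, η} : Set ℂ)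
  have hint : ∀ x ∈ ({ζ, η} : Set ℂ), IsIntegral ℚ x := by
    rintro _ (rfl | rfl)
    · exact IsIntegral.of_pow (Nat.pos_of_ne_zero hn) (by rw [hζ]; exact isIntegral_one)
    · exact IsIntegral.of_pow (Nat.pos_of_ne_zero hn) (by rw [hη]; exact isIntegral_one)
  have hfd : FiniteDimensional ℚ K := IntermediateField.finiteDimensional_adjoin hint
  have hK : NumberField K := ⟨⟩
  let z : K := ⟨ζ, IntermediateField.subset_adjoin _ _ (by simp)⟩
  let e : K := ⟨η, IntermediateField.subset_adjoin _ _ (by simp)⟩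
  have hz : z ^ n = 1 := Subtype.ext (by simp [z, hζ])
  have he : e ^ n = 1 := Subtype.ext (by simp [e, hη])
  have h' : e + e⁻¹ = 1 - (z + z⁻¹) := Subtype.ext (by simp [z, e, h])
  let t : K := (z + z⁻¹) ^ 2 - (z + z⁻¹)
  let α : K := t * (t - 1) * (t - 2)
  have hα : (α : ℂ) = s * (s - 1) * (s - 2) := by
    simp only [α, t, z, hs]; push_cast; rfl
  have hu : IsIntegral ℤ (z + z⁻¹) := by
    refine (IsIntegral.of_pow (Nat.pos_of_ne_zero hn) (by rw [hz]; exact isIntegral_one)).add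
      (IsIntegral.of_pow (Nat.pos_of_ne_zero hn) (by rw [inv_pow, hz, inv_one]; exact isIntegral_one))
  have ht : IsIntegral ℤ t := (hu.pow 2).sub hu
  have hαi : IsIntegral ℤ α := (ht.mul (ht.sub isIntegral_one)).mul (ht.sub (isIntegral_natCast 2))
  have hlt : ∀ φ : K →+* ℂ, ‖φ α‖ < 1 := fun φ => by
    have h1 : ∀ w : K, w ^ n = 1 → ∃ r : ℝ, |r| ≤ 2 ∧ φ (w + w⁻¹) = r := fun w hw => by
      have hw' : φ w ^ n = 1 := by rw [← map_pow, hw, map_one]
      refine ⟨2 * (φ w).re, ?_, by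
        rw [map_add, map_inv₀, ← conj_eq_inv_of_pow_eq_one hn hw', Complex.add_conj]⟩
      have := Complex.abs_re_le_norm (φ w)
      rw [norm_eq_one_of_pow_eq_one hn hw'] at this
      rw [abs_mul, abs_two]; linarith
    obtain ⟨r, hr, hr'⟩ := h1 z hz
    obtain ⟨q, hq, hq'⟩ := h1 e he
    rw [h', map_sub, map_one, hr'] at hq'
    obtain rfl : q = 1 - r := by exact_mod_cast hq'.symm
    have h2 : φ α = ((r ^ 2 - r) * (r ^ 2 - r - 1) * (r ^ 2 - r - 2) : ℝ) := by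
      simp only [α, t, map_mul, map_sub, map_pow, hr', map_one, map_ofNat]; push_cast; rfl
    rw [h2, Complex.norm_real, Real.norm_eq_abs, abs_lt]
    rw [abs_le] at hr hq
    have h3 : r ^ 2 - r ≤ 2 := by nlinarith
    have h4 : -1 / 4 ≤ r ^ 2 - r := by nlinarith [sq_nonneg (r - 1 / 2)]
    generalize r ^ 2 - r = u at *
    constructor
    · rcases le_total u 0 with h5 | h5
      · nlinarith [mul_nonneg (sub_nonneg.2 h4) (sub_nonneg.2 h5)]
      · nlinarith [mul_nonneg h5 (sq_nonneg (u - 3 / 2))]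
    · nlinarith [mul_nonneg (sub_nonneg.2 h3) (sq_nonneg (u - 1 / 2))]
  by_contra h0
  obtain ⟨k, hk, hk'⟩ := NumberField.Embeddings.pow_eq_one_of_norm_le_one K ℂ
    (x := α) (fun e => h0 (by rw [← hα, e]; rfl)) hαi (fun φ => (hlt φ).le)
  exact (hlt (algebraMap K ℂ)).ne (norm_eq_one_of_pow_eq_one hk.ne'
    (by rw [← map_pow, hk', map_one]))

variable {G : Type*} [Group G] {A : Type*} [Ring A] [Algebra ℂ A]

/-- abstract fixed-point-free representations -/
structure FA (σ : G →* A) : Prop where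
  unit : ∀ g, g ≠ 1 → IsUnit (σ g - 1)
  cubic : ∀ (g h : G) (S : A), σ h + σ h⁻¹ = 1 - (σ g + σ g⁻¹) →
    S = (σ g + σ g⁻¹) ^ 2 - (σ g + σ g⁻¹) → S * (S - 1) * (S - 2) = 0

theorem Fpf.exists_FA [Finite G] (h : Fpf G) :
    ∃ (n : ℕ) (σ : G →* End ℂ (Fin n → ℂ)), Nontrivial (End ℂ (Fin n → ℂ)) ∧ FA σ := by
  obtain ⟨n, σ, hn, hσ⟩ := h
  have : NeZero n := ⟨hn⟩
  refine ⟨n, σ, inferInstance, fun g hg => ?_, fun g h S hh hS => ?_⟩
  · rw [LinearMap.isUnit_iff_ker_eq_bot, eq_bot_iff]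
    exact fun v hv => hσ g hg v (sub_eq_zero.1 hv)
  have hN : Nat.card G ≠ 0 := Nat.card_pos.ne'
  have key : ∀ (g : G) (v : Fin n → ℂ) (ω : ℂ), ω ^ Nat.card G = 1 → σ g v = ω • v →
      (σ g + σ g⁻¹) v = (ω + ω⁻¹) • v := fun g v ω hω hv => by
    have h0 : ω ≠ 0 := fun h => by simp [h, hN] at hω
    rw [LinearMap.add_apply, hv, add_smul]
    congr 1
    conv_lhs => rw [← inv_smul_smul₀ h0 v, map_smul, ← hv, ← End.mul_apply, ← map_mul,
      inv_mul_cancel, map_one, End.one_apply]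
  obtain ⟨b, ω, hω, hb, -⟩ := rep_eigenbasis' σ g hN pow_card_eq_one'
  obtain ⟨c, η, hη, hc, -⟩ := rep_eigenbasis' σ h hN pow_card_eq_one'
  refine b.ext fun i => ?_
  have h1 := key g _ _ (hω i) (hb i)
  have h2 : S (b i) = ((ω i + (ω i)⁻¹) ^ 2 - (ω i + (ω i)⁻¹)) • b i := by
    rw [hS, LinearMap.sub_apply, sq, End.mul_apply, h1, map_smul, h1, smul_smul, sub_smul, sq]
  obtain ⟨j, hj⟩ : ∃ j, c.repr (b i) j ≠ 0 := by
    by_contra hcon
    push Not at hcon
    exact b.ne_zero i (c.repr.injective (Finsupp.ext fun j => by simpa using hcon j))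
  have h3 : c.coord j ∘ₗ (σ h + σ h⁻¹) = (η j + (η j)⁻¹) • c.coord j := c.ext fun k => by
    rw [LinearMap.comp_apply, key h _ _ (hη k) (hc k)]
    by_cases hk : k = j
    · simp [hk]
    · simp [hk]
  have h4 := DFunLike.congr_fun h3 (b i)
  rw [hh, LinearMap.comp_apply, LinearMap.sub_apply, h1, End.one_apply, map_sub, map_smul,
    LinearMap.smul_apply, Basis.coord_apply, smul_eq_mul, smul_eq_mul] at h4
  have h5 := cos_pair hN (hω i) (hη j) (mul_right_cancel₀ hj (by rw [← h4]; ring)) rfl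
  generalize (ω i + (ω i)⁻¹) ^ 2 - (ω i + (ω i)⁻¹) = s at h2 h5
  have h6 : (2 : End ℂ (Fin n → ℂ)) (b i) = (2 : ℂ) • b i := by
    rw [two_smul, ← one_add_one_eq_two]; rfl
  simp only [End.mul_apply, LinearMap.sub_apply, h2, h6, End.one_apply, map_sub, map_smul,
    LinearMap.zero_apply]
  rw [← zero_smul ℂ (b i), ← h5]
  module

/-- the pure part of an element of order three -/
def pu (σ : G →* A) (x : G) : A := (2 : ℂ) • σ x + 1

theorem sigma_eq (σ : G →* A) (x : G) : σ x = (2⁻¹ : ℂ) • (pu σ x - 1) := by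
  simp [pu, smul_smul]

variable [Nontrivial A] {σ : G →* A}

theorem smul_one_inj {a b : ℂ} (h : a • (1 : A) = b • 1) : a = b := by
  rw [← Algebra.algebraMap_eq_smul_one, ← Algebra.algebraMap_eq_smul_one] at h
  exact (algebraMap ℂ A).injective h

theorem isUnit_smul_one {a : ℂ} (h : a ≠ 0) : IsUnit (a • (1 : A)) := by
  rw [← Algebra.algebraMap_eq_smul_one]; exact (IsUnit.mk0 a h).map _

namespace FA

theorem injective (h : FA σ) : Function.Injective σ :=
  (injective_iff_map_eq_one _).2 fun g hg => by_contra fun hne => by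
    simpa [hg] using h.unit g hne

theorem eq_of_mul_eq_zero (h : FA σ) {g k : G} {B : A} (hB : B ≠ 0) (h0 : (σ g - σ k) * B = 0) :
    g = k := by
  by_contra hne
  refine hB ((h.unit (k⁻¹ * g) (by rwa [Ne, inv_mul_eq_one, eq_comm])).mul_right_eq_zero.1 ?_)
  rw [← mul_zero (σ k⁻¹), ← h0, ← mul_assoc, mul_sub, ← map_mul, ← map_mul, inv_mul_cancel,
    map_one]

theorem neg_one (h : FA σ) {z : G} (hz : z * z = 1) (hz1 : z ≠ 1) : σ z = -1 := by
  rw [← add_eq_zero_iff_eq_neg, ← (h.unit z hz1).mul_right_eq_zero, sub_mul, mul_add, ← map_mul,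
    hz, map_one]
  simp [add_comm]

theorem dich (h : FA σ) (g : G) : IsUnit (σ g + σ g⁻¹) ∨ σ g + σ g⁻¹ = 0 := by
  have h1 : σ g + σ g⁻¹ = σ g⁻¹ * (σ (g * g) + 1) := by
    rw [mul_add, ← map_mul, inv_mul_cancel_left, mul_one]
  rw [h1]
  by_cases h4 : g * g * (g * g) = 1
  · by_cases h2 : g * g = 1
    · left
      refine ((Group.isUnit _).map σ).mul ?_
      rw [h2, map_one, ← two_smul ℂ]; exact isUnit_smul_one two_ne_zero
    · right; rw [h.neg_one h4 h2]; simp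
  · left
    refine ((Group.isUnit _).map σ).mul ?_
    have := h.unit _ h4
    rw [map_mul σ (g * g)] at this
    generalize σ (g * g) = u at *
    rw [show u * u - 1 = (u - 1) * (u + 1) by noncomm_ring] at this
    exact ((show Commute (u - 1) (u + 1) by rw [Commute, SemiconjBy]; noncomm_ring).isUnit_mul_iff.1
      this).2

theorem inv_three (h : FA σ) {x : G} (hx : x ^ 3 = 1) (hx1 : x ≠ 1) : σ x⁻¹ = -1 - σ x := by
  have h1 : x⁻¹ = x * x := by rw [inv_eq_iff_mul_eq_one, ← hx, pow_three]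
  have h2 : σ x * (σ x * σ x) = 1 := by rw [← map_mul, ← map_mul, ← pow_three, hx, map_one]
  rw [h1, map_mul, ← sub_eq_zero, ← (h.unit x hx1).mul_right_eq_zero]
  simp only [sub_mul, mul_sub, h2]
  noncomm_ring

theorem pu_inv (h : FA σ) {x : G} (hx : x ^ 3 = 1) (hx1 : x ≠ 1) : pu σ x⁻¹ = -pu σ x := by
  rw [pu, pu, h.inv_three hx hx1]; module

theorem pu_sq (h : FA σ) {x : G} (hx : x ^ 3 = 1) (hx1 : x ≠ 1) :
    pu σ x * pu σ x = (-3 : ℂ) • 1 := by
  have h1 : σ x * σ x = -1 - σ x := by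
    rw [← h.inv_three hx hx1, ← map_mul]; congr 1
    rw [eq_inv_iff_mul_eq_one, ← hx, pow_three']
  simp only [pu, mul_add, add_mul, smul_mul_assoc, mul_smul_comm, h1, mul_one, one_mul]
  module

theorem pu_inj (h : FA σ) {x y : G} (e : pu σ x = pu σ y) : x = y :=
  h.injective (by rw [sigma_eq, e, ← sigma_eq])

theorem tau_mul (h : FA σ) {x y : G} (hx : x ^ 3 = 1) (hx1 : x ≠ 1) (hy : y ^ 3 = 1)
    (hy1 : y ≠ 1) : σ (x * y) + σ (x * y)⁻¹ =
      (4⁻¹ : ℂ) • (pu σ x * pu σ y + pu σ y * pu σ x + (2 : ℂ) • 1) := by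
  rw [mul_inv_rev, map_mul, map_mul, h.inv_three hx hx1, h.inv_three hy hy1]
  simp only [pu, mul_add, add_mul, smul_mul_assoc, mul_smul_comm, mul_one, one_mul, sub_mul,
    mul_sub, neg_mul, mul_neg]
  module

theorem tri (h : FA σ) {x y : G} (hx : x ^ 3 = 1) (hx1 : x ≠ 1) (hy : y ^ 3 = 1) (hy1 : y ≠ 1)
    {B : A} (hB : B = pu σ x * pu σ y + pu σ y * pu σ x) :
    y = x ∨ y = x⁻¹ ∨ B = (2 : ℂ) • 1 ∨ B = (-2 : ℂ) • 1 ∨ B * B = (20 : ℂ) • 1 := by
  by_contra hc
  push Not at hc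
  obtain ⟨c1, c2, c3, c4, c5⟩ := hc
  have t1 := h.tau_mul hx hx1 hy hy1
  have t2 := h.tau_mul hx hx1 (y := y⁻¹) (by rw [inv_pow, hy, inv_one]) (inv_ne_one.2 hy1)
  rw [h.pu_inv hy hy1, mul_neg, neg_mul, ← neg_add, ← hB] at t2
  rw [← hB] at t1
  have h1 := h.cubic (x * y) (x * y⁻¹) _ (by rw [t1, t2]; module) rfl
  have u : ∀ g, g ≠ 1 → IsUnit (σ g + σ g⁻¹ - 2) := fun g hg => by
    have : σ g + σ g⁻¹ - 2 = σ g⁻¹ * ((σ g - 1) * (σ g - 1)) := by
      simp only [mul_sub, sub_mul, ← mul_assoc, ← map_mul, inv_mul_cancel, map_one, one_mul,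
        mul_one, ← one_add_one_eq_two]
      abel
    rw [this]
    exact ((Group.isUnit _).map σ).mul ((h.unit g hg).mul (h.unit g hg))
  have u1 := u (x * y) (fun e => c2 (eq_inv_of_mul_eq_one_right e))
  have u2 := u (x * y⁻¹) (fun e => c1 (mul_inv_eq_one.1 e).symm)
  have u3 := (h.dich (x * y)).resolve_right fun e => c4 (by
    rw [t1] at e; linear_combination (norm := module) (4 : ℂ) • e)
  have u4 := (h.dich (x * y⁻¹)).resolve_right fun e => c3 (by
    rw [t2] at e; linear_combination (norm := module) (-4 : ℂ) • e)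
  have e2 : σ (x * y⁻¹) + σ (x * y⁻¹)⁻¹ = 1 - (σ (x * y) + σ (x * y)⁻¹) := by rw [t1, t2]; module
  rw [e2] at u2 u4
  generalize σ (x * y) + σ (x * y)⁻¹ = T at *
  have e3 : T ^ 2 - T = -(T * (1 - T)) := by noncomm_ring
  have e4 : T ^ 2 - T - 2 = -((T - 2) * (1 - T - 2)) := by
    rw [← one_add_one_eq_two]; noncomm_ring
  rw [e4, (u1.mul u2).neg.mul_left_eq_zero] at h1
  nth_rewrite 1 [e3] at h1
  rw [(u3.mul u4).neg.mul_right_eq_zero, t1, sq] at h1
  simp only [mul_add, add_mul, smul_mul_assoc, mul_smul_comm, mul_one, one_mul] at h1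
  exact c5 (by linear_combination (norm := module) (16 : ℂ) • h1)

end FA

end H14
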