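import Mathlib
import Cfsg.Agent.H14.Order3

/-! Elements of order three relative to a subgroup `SL(2,3)` of a fixed-point-free group. -/

set_option autoImplicit false
set_option linter.unusedSectionVars false
set_option linter.unusedSimpArgs false

namespace H14

variable {G : Type*} [Group G] {A : Type*} [Ring A] [Algebra ℂ A]

theorem nf : (∀ a b c : A, a * (b + c) = a * b + a * c) ∧ (∀ a b c : A, (a + b) * c = a * c + b * c)
    ∧ (∀ a b c : A, a * (b - c) = a * b - a * c) ∧ (∀ a b c : A, (a - b) * c = a * c - b * c) ∧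
    (∀ a b c : A, a * b * c = a * (b * c)) ∧ (∀ (r : ℂ) (a b : A), r • a * b = r • (a * b)) ∧
    (∀ (r : ℂ) (a b : A), a * r • b = r • (a * b)) ∧ (∀ a b : A, a * -b = -(a * b)) ∧
    (∀ a b : A, -a * b = -(a * b)) ∧ (∀ a : A, a * 1 = a) ∧ (∀ a : A, 1 * a = a) ∧
    (∀ a : A, a * 0 = 0) ∧ (∀ a : A, 0 * a = 0) :=
  ⟨mul_add, add_mul, mul_sub, sub_mul, mul_assoc, smul_mul_assoc, mul_smul_comm, mul_neg, neg_mul,
    mul_one, one_mul, mul_zero, zero_mul⟩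

theorem rule {a b c : A} (h : a * b = c) : a * b = c ∧ ∀ x, a * (b * x) = c * x :=
  ⟨h, fun x => by rw [← mul_assoc, h]⟩

/-- quaternion relations -/
structure Qt (I J : A) : Prop where
  hI : I * I = -1
  hJ : J * J = -1
  hJI : J * I = -(I * J)

/-- commutes with the quaternion units -/
structure Cm (I J b : A) : Prop where
  hI : b * I = I * b
  hJ : b * J = J * b

variable {I J : A}

theorem Qt.nf (q : Qt I J) : (I * I = -1 ∧ ∀ x, I * (I * x) = -1 * x) ∧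
    (J * J = -1 ∧ ∀ x, J * (J * x) = -1 * x) ∧
    (J * I = -(I * J) ∧ ∀ x, J * (I * x) = -(I * J) * x) := ⟨rule q.hI, rule q.hJ, rule q.hJI⟩

theorem Cm.nf {b : A} (h : Cm I J b) : (b * I = I * b ∧ ∀ x, b * (I * x) = I * b * x) ∧
    (b * J = J * b ∧ ∀ x, b * (J * x) = J * b * x) := ⟨rule h.hI, rule h.hJ⟩

theorem Qt.rot (q : Qt I J) : Qt J (I * J) :=
  ⟨q.hJ, by simp only [H14.nf, q.nf]; module, by simp only [H14.nf, q.nf]; module⟩

theorem Qt.jk (q : Qt I J) : J * (I * J) = I := by simp only [H14.nf, q.nf]; module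

theorem Cm.rot {b : A} (h : Cm I J b) : Cm J (I * J) b := ⟨h.hJ, by simp only [H14.nf, h.nf]⟩

theorem Cm.add {a b : A} (ha : Cm I J a) (hb : Cm I J b) : Cm I J (a + b) :=
  ⟨by simp only [H14.nf, ha.nf, hb.nf], by simp only [H14.nf, ha.nf, hb.nf]⟩

theorem Cm.sub {a b : A} (ha : Cm I J a) (hb : Cm I J b) : Cm I J (a - b) :=
  ⟨by simp only [H14.nf, ha.nf, hb.nf], by simp only [H14.nf, ha.nf, hb.nf]⟩

theorem Cm.mul {a b : A} (ha : Cm I J a) (hb : Cm I J b) : Cm I J (a * b) :=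
  ⟨by simp only [H14.nf, ha.nf, hb.nf], by simp only [H14.nf, ha.nf, hb.nf]⟩

theorem Cm.smul {a : A} (r : ℂ) (ha : Cm I J a) : Cm I J (r • a) :=
  ⟨by simp only [H14.nf, ha.nf], by simp only [H14.nf, ha.nf]⟩

theorem Cm.neg {a : A} (ha : Cm I J a) : Cm I J (-a) :=
  ⟨by simp only [H14.nf, ha.nf], by simp only [H14.nf, ha.nf]⟩

theorem Cm.one : Cm I J 1 := ⟨by simp, by simp⟩

theorem Cm.zero : Cm I J 0 := ⟨by simp, by simp⟩

theorem Qt.decomp (q : Qt I J) (c : A) : ∃ c0 c1 c2 c3, Cm I J c0 ∧ Cm I J c1 ∧ Cm I J c2 ∧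
    Cm I J c3 ∧ c = c0 + I * c1 + J * c2 + I * J * c3 := by
  let π : A → A := fun b => (4⁻¹ : ℂ) • (b - I * b * I - J * b * J - I * J * b * (I * J))
  have h : ∀ b, Cm I J (π b) := fun b =>
    ⟨by simp only [π, H14.nf, q.nf]; module, by simp only [π, H14.nf, q.nf]; module⟩
  exact ⟨π c, π (-I * c), π (-J * c), π (-(I * J) * c), h _, h _, h _, h _, by
    simp only [π, H14.nf, q.nf]; module⟩

theorem Qt.indep0 (q : Qt I J) {b0 b1 b2 b3 : A} (h0 : Cm I J b0) (h1 : Cm I J b1)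
    (h2 : Cm I J b2) (h3 : Cm I J b3) (h : b0 + I * b1 + J * b2 + I * J * b3 = 0) : b0 = 0 := by
  have : ∀ X, X = b0 + I * b1 + J * b2 + I * J * b3 →
      b0 = (4⁻¹ : ℂ) • (X - I * X * I - J * X * J - I * J * X * (I * J)) := by
    rintro _ rfl
    simp only [H14.nf, q.nf, h0.nf, h1.nf, h2.nf, h3.nf]; module
  rw [this 0 h.symm]; simp

theorem Qt.indep (q : Qt I J) {b0 b1 b2 b3 : A} (h0 : Cm I J b0) (h1 : Cm I J b1)
    (h2 : Cm I J b2) (h3 : Cm I J b3) (h : b0 + I * b1 + J * b2 + I * J * b3 = 0) :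
    b0 = 0 ∧ b1 = 0 ∧ b2 = 0 ∧ b3 = 0 := by
  refine ⟨q.indep0 h0 h1 h2 h3 h, q.indep0 h1 h0.neg h3 h2.neg ?_,
    q.indep0 h2 h3.neg h0.neg h1 ?_, q.indep0 h3 h2 h1.neg h0.neg ?_⟩
  · rw [← mul_zero (-I), ← h]; simp only [H14.nf, q.nf]; module
  · rw [← mul_zero (-J), ← h]; simp only [H14.nf, q.nf]; module
  · rw [← mul_zero (-(I * J)), ← h]; simp only [H14.nf, q.nf]; module

theorem Qt.key (q : Qt I J) {c0 c1 c2 c3 : A} (h0 : Cm I J c0) (h1 : Cm I J c1) (h2 : Cm I J c2)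
    (h3 : Cm I J c3) {e1 e2 e3 l : ℂ} (he1 : e1 ^ 2 = 1) (he2 : e2 ^ 2 = 1) (he3 : e3 ^ 2 = 1)
    {a c g : A} (ha : a = e1 • I + e2 • J + e3 • (I * J))
    (hc : c = c0 + I * c1 + J * c2 + I * J * c3) (hg : g = e1 • c1 + e2 • c2 + e3 • c3)
    (h : (a * c + c * a) * (a * c + c * a) = (4 * l) • 1) :
    c0 * g + g * c0 = 0 ∧ g * g - (3 : ℂ) • (c0 * c0) = l • 1 := by
  have hgc : Cm I J g := hg ▸ ((h1.smul _).add (h2.smul _)).add (h3.smul _)
  have e : a * c + c * a = (2 : ℂ) • (a * c0 - g) := by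
    simp only [ha, hc, hg, H14.nf, q.nf, h0.nf, h1.nf, h2.nf, h3.nf]; module
  have haa : a * a = (-3 : ℂ) • 1 := by
    simp only [ha, H14.nf, q.nf]; match_scalars <;> first | ring1 | linear_combination -he1 - he2 - he3
  have hca : c0 * a = a * c0 := by simp only [ha, H14.nf, h0.nf]
  have hga : g * a = a * g := by simp only [ha, H14.nf, hgc.nf]
  rw [e] at h
  simp only [H14.nf, rule haa, rule hca, rule hga] at h
  have hs := (h0.mul hgc).add (hgc.mul h0)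
  obtain ⟨r0, r1, -⟩ := q.indep (((hgc.mul hgc).sub ((h0.mul h0).smul 3)).sub (Cm.one.smul l))
    (hs.smul (-e1)) (hs.smul (-e2)) (hs.smul (-e3)) (by
      simp only [ha, H14.nf] at h ⊢
      linear_combination (norm := module) (4⁻¹ : ℂ) • h)
  refine ⟨?_, sub_eq_zero.1 r0⟩
  have : e1 ≠ 0 := fun h => by simp [h] at he1
  exact (smul_eq_zero.1 r1).resolve_left (neg_ne_zero.2 this)

/-- pure parts of elements of order three -/
def Pu (σ : G →* A) (c : A) : Prop := ∃ w : G, w ^ 3 = 1 ∧ w ≠ 1 ∧ pu σ w = c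

variable [Nontrivial A] {σ : G →* A}

theorem Pu.neg (h : FA σ) {c : A} (hc : Pu σ c) : Pu σ (-c) := by
  obtain ⟨w, h1, h2, rfl⟩ := hc
  exact ⟨w⁻¹, by rw [inv_pow, h1, inv_one], inv_ne_one.2 h2, h.pu_inv h1 h2⟩

theorem pu_conj (g w : G) : pu σ (g * w * g⁻¹) = σ g * pu σ w * σ g⁻¹ := by
  have : σ g * σ g⁻¹ = 1 := by rw [← map_mul, mul_inv_cancel, map_one]
  simp only [pu, map_mul, H14.nf, this]

theorem Pu.conj {c : A} (hc : Pu σ c) (g : G) : Pu σ (σ g * c * σ g⁻¹) := by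
  obtain ⟨w, h1, h2, rfl⟩ := hc
  exact ⟨g * w * g⁻¹, by rw [conj_pow, h1, mul_one, mul_inv_cancel], by simpa using h2, pu_conj g w⟩

theorem Pu.sq (h : FA σ) {c : A} (hc : Pu σ c) : c * c = (-3 : ℂ) • 1 := by
  obtain ⟨w, h1, h2, rfl⟩ := hc
  exact h.pu_sq h1 h2

theorem Pu.tri (h : FA σ) {a c : A} (ha : Pu σ a) (hc : Pu σ c) : c = a ∨ c = -a ∨
    a * c + c * a = (2 : ℂ) • 1 ∨ a * c + c * a = (-2 : ℂ) • 1 ∨
    (a * c + c * a) * (a * c + c * a) = (20 : ℂ) • 1 := by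
  obtain ⟨x, h1, h2, rfl⟩ := ha
  obtain ⟨y, h3, h4, rfl⟩ := hc
  rcases h.tri h1 h2 h3 h4 rfl with e | e | e
  · exact Or.inl (by rw [e])
  · exact Or.inr (Or.inl (by rw [e, h.pu_inv h1 h2]))
  · exact Or.inr (Or.inr e)

theorem Pu.tri' (h : FA σ) {a c : A} (ha : Pu σ a) (hc : Pu σ c) : (c = a ∨ c = -a) ∨
    ∃ l : ℂ, (l = 1 ∨ l = 5) ∧ (a * c + c * a) * (a * c + c * a) = (4 * l) • 1 := by
  rcases ha.tri h hc with e | e | e | e | e
  · exact Or.inl (Or.inl e)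
  · exact Or.inl (Or.inr e)
  · exact Or.inr ⟨1, Or.inl rfl, by rw [e]; simp only [H14.nf]; module⟩
  · exact Or.inr ⟨1, Or.inl rfl, by rw [e]; simp only [H14.nf]; module⟩
  · exact Or.inr ⟨5, Or.inr rfl, by rw [e]; module⟩

theorem map_inv_of_sq {i : G} (hi : σ i * σ i = -1) : σ i⁻¹ = -σ i := by
  rw [← mul_one (σ i⁻¹), ← neg_neg (1 : A), ← hi, mul_neg, ← mul_assoc, ← map_mul,
    inv_mul_cancel, map_one, one_mul]

/-- a subgroup `SL(2,3)` -/
structure Cfg (σ : G →* A) (i j : G) : Prop where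
  q : Qt (σ i) (σ j)
  pu : Pu σ (σ i + σ j + σ i * σ j)

variable {i j : G}

theorem Cfg.rot (h : Cfg σ i j) : Cfg σ j (i * j) :=
  ⟨by rw [map_mul]; exact h.q.rot, by
    rw [map_mul, h.q.jk]; convert h.pu using 1; abel⟩

theorem Pu.conj_i (q : σ i * σ i = -1) {c : A} (hc : Pu σ c) : Pu σ (-(σ i * c * σ i)) := by
  simpa [map_inv_of_sq q] using hc.conj i

theorem Cfg.no_zero_four (h : FA σ) (hq : Cfg σ i j) {c c0 c1 c2 c3 : A} (hc : Pu σ c)
    (h0 : Cm (σ i) (σ j) c0) (h1 : Cm (σ i) (σ j) c1) (h2 : Cm (σ i) (σ j) c2)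
    (h3 : Cm (σ i) (σ j) c3) (hd : c = c0 + σ i * c1 + σ j * c2 + σ i * σ j * c3) {e : ℂ}
    (he : e = 1 ∨ e = -1) (h00 : c0 * c0 = e • 1) (h21 : c2 * c1 = 0) (h31 : c3 * c1 = 0)
    (h10 : c1 * c0 = -(c0 * c1)) (hN : c1 * c1 + c2 * c2 + c3 * c3 = (3 + e) • 1) : c1 = 0 := by
  by_contra hne
  have q := hq.q
  obtain ⟨w, hw, hw1, hwc⟩ := id hc
  have hσw : σ w = (2⁻¹ : ℂ) • (c - 1) := by rw [sigma_eq, hwc]
  have e1 : i * w = w * i := h.eq_of_mul_eq_zero hne (by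
    simp only [map_mul, hσw, hd, H14.nf, q.nf, h0.nf, h1.nf, h2.nf, h3.nf, h21, h31]; module)
  have e2 := congrArg σ e1
  obtain ⟨-, -, r3, r2⟩ := q.indep Cm.zero Cm.zero h3.neg h2 (by
    simp only [map_mul, hσw, hd, H14.nf, q.nf, h0.nf, h1.nf, h2.nf, h3.nf] at e2 ⊢
    linear_combination (norm := module) e2)
  rw [neg_eq_zero] at r3
  subst r2 r3
  simp only [H14.nf, add_zero] at hN hd
  have hc' : Pu σ (c0 - σ i * c1) := by
    convert hc.conj_i q.hJ using 1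
    simp only [hd, H14.nf, q.nf, h0.nf, h1.nf]; module
  have hB : c * (c0 - σ i * c1) + (c0 - σ i * c1) * c = (2 * (3 + 2 * e)) • 1 := by
    simp only [hd, H14.nf, q.nf, h0.nf, h1.nf, h00, hN]; module
  have hc0 : c0 ≠ 0 := fun h => by
    rw [h, mul_zero, ← zero_smul ℂ (1 : A)] at h00
    rcases he with rfl | rfl <;> simpa using smul_one_inj h00
  rcases he with rfl | rfl
  · rcases hc.tri h hc' with e | e | e | e | e
    · exact hne (q.indep Cm.zero h1 Cm.zero Cm.zero (by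
        rw [hd] at e; simp only [H14.nf]
        linear_combination (norm := module) (-2⁻¹ : ℂ) • e)).2.1
    · exact hc0 (by rw [hd] at e; linear_combination (norm := module) (2⁻¹ : ℂ) • e)
    · rw [hB] at e; have := smul_one_inj e; norm_num at this
    · rw [hB] at e; have := smul_one_inj e; norm_num at this
    · rw [hB] at e; simp only [H14.nf, smul_smul] at e
      have := smul_one_inj e; norm_num at this
  · obtain ⟨w', hw', hw1', hwc'⟩ := hc'.neg h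
    have hσw' : σ w' = (2⁻¹ : ℂ) • (-(c0 - σ i * c1) - 1) := by rw [sigma_eq, hwc']
    have hu : σ (i⁻¹ * w * w') = (2⁻¹ : ℂ) • ((c0 - 1) * c1) := by
      simp only [map_mul, map_inv_of_sq q.hI, hσw, hσw', hd, H14.nf, q.nf, h0.nf, h1.nf,
        rule h00, rule hN, rule h10]; module
    have hu2 : i⁻¹ * w * w' * (i⁻¹ * w * w') = 1 := h.injective (by
      rw [map_mul, hu, map_one]
      simp only [H14.nf, rule h00, rule hN, rule h10]; module)
    have hu3 : c0 * σ (i⁻¹ * w * w') + σ (i⁻¹ * w * w') * c0 = 0 := by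
      rw [hu]; simp only [H14.nf, rule h00, rule hN, rule h10]; module
    by_cases hu1 : i⁻¹ * w * w' = 1
    · rw [hu1, map_one] at hu3
      exact hc0 (by simp only [H14.nf] at hu3; linear_combination (norm := module) (2⁻¹ : ℂ) • hu3)
    · rw [h.neg_one hu2 hu1] at hu3
      exact hc0 (by simp only [H14.nf] at hu3; linear_combination (norm := module) (-2⁻¹ : ℂ) • hu3)

/-- golden ratio elements -/
structure Gold (I J ψ : A) : Prop where
  cm : Cm I J ψ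
  sq : ψ * ψ = ψ + 1

theorem Cfg.pu_signs (h : FA σ) (hq : Cfg σ i j) {e1 e2 e3 : ℂ} (h1 : e1 = 1 ∨ e1 = -1)
    (h2 : e2 = 1 ∨ e2 = -1) (h3 : e3 = 1 ∨ e3 = -1) :
    Pu σ (e1 • σ i + e2 • σ j + e3 • (σ i * σ j)) := by
  have q := hq.q
  have p0 := hq.pu
  have p1 := p0.conj_i q.hI
  have p2 := p0.conj_i q.hJ
  have p3 := p1.conj_i q.hJ
  simp only [H14.nf, q.nf] at p1 p2 p3
  rcases h1 with rfl | rfl <;> rcases h2 with rfl | rfl <;> rcases h3 with rfl | rfl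
  · convert p0 using 1; module
  · convert p3.neg h using 1; module
  · convert p2.neg h using 1; module
  · convert p1 using 1; module
  · convert p1.neg h using 1; module
  · convert p2 using 1; module
  · convert p3 using 1; module
  · convert p0.neg h using 1; module

theorem Cfg.two (h : FA σ) (hq : Cfg σ i j) {c c0 c1 c2 c3 : A} (hc : Pu σ c)
    (h0 : Cm (σ i) (σ j) c0) (h2 : Cm (σ i) (σ j) c2)
    (h3 : Cm (σ i) (σ j) c3) (hd : c = c0 + σ i * c1 + σ j * c2 + σ i * σ j * c3) {s : ℂ}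
    (hs : s = 1 ∨ s = -1) (h00 : c0 * c0 = 0) (h12 : c1 * c2 = 0) (h23 : c2 * c3 = s • 1)
    (h32 : c3 * c2 = s • 1) (hN : c1 * c1 + c2 * c2 + c3 * c3 = (3 : ℂ) • 1) :
    ∃ (ψ : A) (η : ℂ), Gold (σ i) (σ j) ψ ∧ (η = 1 ∨ η = -1) ∧
      c = η • (σ j * ψ + s • (σ i * σ j * (ψ - 1))) := by
  have q := hq.q
  have hss : s * s = 1 := by rcases hs with rfl | rfl <;> norm_num
  have e1 : c1 = 0 := by
    have := congrArg (fun t => s • (t * c3)) h12
    simpa only [H14.nf, h23, smul_smul, hss, one_smul, smul_zero] using this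
  subst e1
  obtain ⟨w, hw, hw1, hwc⟩ := id hc
  have hσw : σ w = (2⁻¹ : ℂ) • (c - 1) := by rw [sigma_eq, hwc]
  have hT : σ (i * w) + σ (i * w)⁻¹ = σ i * c0 := by
    simp only [mul_inv_rev, map_mul, map_inv_of_sq q.hI, h.inv_three hw hw1, hσw, hd, H14.nf, q.nf,
      h0.nf, h2.nf, h3.nf]; module
  have e0 : c0 = 0 := by
    have : σ i * c0 = 0 := by
      rw [← hT]
      refine (h.dich _).resolve_left fun hu => ?_
      have := hu.mul hu
      rw [hT] at this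
      simp only [H14.nf, q.nf, h0.nf, h00] at this
      exact not_isUnit_zero this
    exact ((Group.isUnit i).map σ).mul_right_eq_zero.1 this
  subst e0
  simp only [H14.nf, zero_add] at hN hd
  have ha := hq.pu_signs h (e1 := 1) (e2 := 1) (e3 := -s) (Or.inl rfl) (Or.inl rfl)
    (by rcases hs with rfl | rfl <;> simp)
  have hB : ((1 : ℂ) • σ i + (1 : ℂ) • σ j + -s • (σ i * σ j)) * c +
      c * ((1 : ℂ) • σ i + (1 : ℂ) • σ j + -s • (σ i * σ j)) = (-2 : ℂ) • (c2 - s • c3) := by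
    simp only [hd, H14.nf, q.nf, h2.nf, h3.nf]; module
  have hne : ∀ t : ℂ, t ≠ 0 → c ≠ t • ((1 : ℂ) • σ i + (1 : ℂ) • σ j + -s • (σ i * σ j)) :=
    fun t ht e => by
      have := (q.indep Cm.zero (Cm.one.smul t) ((Cm.one.smul t).sub h2)
        ((Cm.one.smul (-s * t)).sub h3) (by
          rw [hd] at e; simp only [H14.nf]; linear_combination (norm := module) -e)).2.1
      exact ht (smul_one_inj (this.trans (zero_smul _ _).symm))
  obtain ⟨η, hη, he⟩ : ∃ η : ℂ, (η = 1 ∨ η = -1) ∧ c2 - s • c3 = η • 1 := by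
    rcases ha.tri h hc with e | e | e | e | e
    · exact absurd (by rw [one_smul]; exact e) (hne 1 one_ne_zero)
    · exact absurd (by rw [neg_one_smul]; exact e) (hne (-1) (by norm_num))
    · exact ⟨-1, Or.inr rfl, by rw [hB] at e; linear_combination (norm := module) (-2⁻¹ : ℂ) • e⟩
    · exact ⟨1, Or.inl rfl, by rw [hB] at e; linear_combination (norm := module) (-2⁻¹ : ℂ) • e⟩
    · rw [hB] at e
      simp only [H14.nf, h23, h32] at e
      have : (4 : ℂ) • (1 : A) = (20 : ℂ) • 1 := by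
        rcases hs with rfl | rfl <;> linear_combination (norm := module) e - (4 : ℂ) • hN
      have := smul_one_inj this
      norm_num at this
  have e3 : c3 = s • (c2 - η • 1) := by
    rcases hs with rfl | rfl
    · linear_combination (norm := module) -he
    · linear_combination (norm := module) he
  refine ⟨η • c2, η, ⟨h2.smul _, ?_⟩, hη, ?_⟩
  · rw [e3] at h23
    simp only [H14.nf] at h23 ⊢
    rcases hs with rfl | rfl <;> rcases hη with rfl | rfl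
    · linear_combination (norm := module) h23
    · linear_combination (norm := module) h23
    · linear_combination (norm := module) -h23
    · linear_combination (norm := module) -h23
  · rw [hd, e3]
    simp only [H14.nf]
    rcases hη with rfl | rfl <;> module

theorem scalar_cases {l0 l1 l2 l3 r12 r13 r23 e : ℂ} (h0 : l0 = 1 ∨ l0 = 5) (h1 : l1 = 1 ∨ l1 = 5)
    (h2 : l2 = 1 ∨ l2 = 5) (h3 : l3 = 1 ∨ l3 = 5) (e12 : r12 = (l0 - l1 - l2 + l3) / 8)
    (e13 : r13 = (l0 - l1 + l2 - l3) / 8) (e23 : r23 = (l0 + l1 - l2 - l3) / 8)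
    (ee : e = (12 - (l0 + l1 + l2 + l3)) / 8)
    (h : (3 + e) * (r12 * r13 * r23) = (r12 * r13) ^ 2 + (r12 * r23) ^ 2 + (r13 * r23) ^ 2) :
    (r12 = 0 ∧ r13 = 0 ∧ r23 = 0 ∧ (e = 1 ∨ e = -1)) ∨ (e = 0 ∧
      ((r12 = 0 ∧ (r23 = 1 ∨ r23 = -1)) ∨ (r23 = 0 ∧ (r13 = 1 ∨ r13 = -1)) ∨
        (r13 = 0 ∧ (r12 = 1 ∨ r12 = -1)))) := by
  subst e12 e13 e23 ee
  rcases h0 with rfl | rfl <;> rcases h1 with rfl | rfl <;> rcases h2 with rfl | rfl <;>
    rcases h3 with rfl | rfl <;> revert h <;> norm_num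

theorem Cfg.classify (h : FA σ) (hq : Cfg σ i j) {c : A} (hc : Pu σ c) :
    (∃ e1 e2 e3 : ℂ, (e1 = 1 ∨ e1 = -1) ∧ (e2 = 1 ∨ e2 = -1) ∧ (e3 = 1 ∨ e3 = -1) ∧
      c = e1 • σ i + e2 • σ j + e3 • (σ i * σ j)) ∨
    ∃ (ψ : A) (η s : ℂ), Gold (σ i) (σ j) ψ ∧ (η = 1 ∨ η = -1) ∧ (s = 1 ∨ s = -1) ∧
      (c = η • (σ j * ψ + s • (σ i * σ j * (ψ - 1))) ∨
       c = η • (σ i * σ j * ψ + s • (σ i * (ψ - 1))) ∨
       c = η • (σ i * ψ + s • (σ j * (ψ - 1)))) := by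
  have q := hq.q
  by_contra hcon
  rw [not_or] at hcon
  obtain ⟨hc1, hc2⟩ := hcon
  obtain ⟨c0, c1, c2, c3, h0, h1, h2, h3, hd⟩ := q.decomp c
  have key : ∀ e1 e2 e3 : ℂ, (e1 = 1 ∨ e1 = -1) → (e2 = 1 ∨ e2 = -1) → (e3 = 1 ∨ e3 = -1) →
      ∃ l : ℂ, (l = 1 ∨ l = 5) ∧ ∀ g, g = e1 • c1 + e2 • c2 + e3 • c3 →
        c0 * g + g * c0 = 0 ∧ g * g - (3 : ℂ) • (c0 * c0) = l • 1 := fun e1 e2 e3 s1 s2 s3 => by
    rcases (hq.pu_signs h s1 s2 s3).tri' h hc with (e | e) | ⟨l, hl, e⟩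
    · exact absurd ⟨e1, e2, e3, s1, s2, s3, e⟩ hc1
    · exact absurd ⟨-e1, -e2, -e3, by rcases s1 with rfl | rfl <;> simp,
        by rcases s2 with rfl | rfl <;> simp, by rcases s3 with rfl | rfl <;> simp,
        by rw [e]; module⟩ hc1
    · exact ⟨l, hl, fun g hg => q.key h0 h1 h2 h3 (by rcases s1 with rfl | rfl <;> simp)
        (by rcases s2 with rfl | rfl <;> simp) (by rcases s3 with rfl | rfl <;> simp) rfl hd hg e⟩
  obtain ⟨l0, hl0, k0⟩ := key 1 1 1 (Or.inl rfl) (Or.inl rfl) (Or.inl rfl)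
  obtain ⟨l1, hl1, k1⟩ := key 1 (-1) (-1) (Or.inl rfl) (Or.inr rfl) (Or.inr rfl)
  obtain ⟨l2, hl2, k2⟩ := key (-1) 1 (-1) (Or.inr rfl) (Or.inl rfl) (Or.inr rfl)
  obtain ⟨l3, hl3, k3⟩ := key (-1) (-1) 1 (Or.inr rfl) (Or.inr rfl) (Or.inl rfl)
  obtain ⟨a0, b0⟩ := k0 _ rfl
  obtain ⟨a1, b1⟩ := k1 _ rfl
  obtain ⟨a2, b2⟩ := k2 _ rfl
  obtain ⟨a3, b3⟩ := k3 _ rfl
  simp only [H14.nf] at a0 a1 a2 a3
  have h10 : c1 * c0 = -(c0 * c1) := by linear_combination (norm := module) (2⁻¹ : ℂ) • (a0 + a1)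
  have h20 : c2 * c0 = -(c0 * c2) := by linear_combination (norm := module) (2⁻¹ : ℂ) • (a0 + a2)
  have h30 : c3 * c0 = -(c0 * c3) := by linear_combination (norm := module) (2⁻¹ : ℂ) • (a0 + a3)
  have hcc := hc.sq h
  obtain ⟨hN, h32, h13, h21⟩ := q.indep
    (((((h0.mul h0).sub (h1.mul h1)).sub (h2.mul h2)).sub (h3.mul h3)).add (Cm.one.smul 3))
    ((h2.mul h3).sub (h3.mul h2)) ((h3.mul h1).sub (h1.mul h3)) ((h1.mul h2).sub (h2.mul h1)) (by
      simp only [hd, H14.nf, q.nf, h0.nf, h1.nf, h2.nf, h3.nf, h10, h20, h30] at hcc ⊢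
      linear_combination (norm := module) hcc)
  rw [sub_eq_zero] at h32 h13 h21
  simp only [H14.nf, ← h32, h13, ← h21] at b0 b1 b2 b3
  obtain ⟨r12, e12⟩ : ∃ r, r = (l0 - l1 - l2 + l3) / 8 := ⟨_, rfl⟩
  obtain ⟨r13, e13⟩ : ∃ r, r = (l0 - l1 + l2 - l3) / 8 := ⟨_, rfl⟩
  obtain ⟨r23, e23⟩ : ∃ r, r = (l0 + l1 - l2 - l3) / 8 := ⟨_, rfl⟩
  obtain ⟨e, ee⟩ : ∃ r, r = (12 - (l0 + l1 + l2 + l3)) / 8 := ⟨_, rfl⟩
  have p12 : c1 * c2 = r12 • 1 := by
    rw [e12]; linear_combination (norm := module) (8⁻¹ : ℂ) • (b0 - b1 - b2 + b3)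
  have p13 : c1 * c3 = r13 • 1 := by
    rw [e13]; linear_combination (norm := module) (8⁻¹ : ℂ) • (b0 - b1 + b2 - b3)
  have p23 : c2 * c3 = r23 • 1 := by
    rw [e23]; linear_combination (norm := module) (8⁻¹ : ℂ) • (b0 + b1 - b2 - b3)
  have p00 : c0 * c0 = e • 1 := by
    rw [ee]
    linear_combination (norm := module) (-8⁻¹ : ℂ) • (b0 + b1 + b2 + b3) - (2⁻¹ : ℂ) • hN
  have p21 := h21.symm.trans p12
  have p31 := h13.trans p13
  have p32 := h32.symm.trans p23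
  have hN' : c1 * c1 + c2 * c2 + c3 * c3 = (3 + e) • 1 := by
    linear_combination (norm := module) p00 - hN
  have q1 : r23 • (c1 * c1) = (r12 * r13) • 1 := by
    have : c1 * (c2 * c3) * c1 = (c1 * c2) * (c3 * c1) := by simp only [mul_assoc]
    rw [p23, p12, p31] at this
    simpa only [H14.nf, smul_smul, mul_comm r13] using this
  have q2 : r13 • (c2 * c2) = (r12 * r23) • 1 := by
    have : c2 * (c1 * c3) * c2 = (c2 * c1) * (c3 * c2) := by simp only [mul_assoc]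
    rw [p13, p21, p32] at this
    simpa only [H14.nf, smul_smul, mul_comm r23] using this
  have q3 : r12 • (c3 * c3) = (r13 * r23) • 1 := by
    have : c3 * (c1 * c2) * c3 = (c3 * c1) * (c2 * c3) := by simp only [mul_assoc]
    rw [p12, p31, p23] at this
    simpa only [H14.nf, smul_smul, mul_comm r23] using this
  have hd1 : c = c0 + σ j * c2 + σ (i * j) * c3 + σ j * σ (i * j) * c1 := by
    rw [map_mul, q.jk, hd]; abel
  have hd2 : c = c0 + σ (i * j) * c3 + σ (j * (i * j)) * c1 +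
      σ (i * j) * σ (j * (i * j)) * c2 := by
    simp only [map_mul, hd, H14.nf, q.nf]; module
  have r1 : ∀ {b}, Cm (σ i) (σ j) b → Cm (σ j) (σ (i * j)) b := fun h => by
    rw [map_mul]; exact h.rot
  have r2 : ∀ {b}, Cm (σ i) (σ j) b → Cm (σ (i * j)) (σ (j * (i * j))) b := fun h => by
    rw [map_mul σ j]; exact (r1 h).rot
  rcases scalar_cases hl0 hl1 hl2 hl3 e12 e13 e23 ee (smul_one_inj (A := A) (by
    linear_combination (norm := module) (r12 * r13) • q1 + (r12 * r23) • q2 + (r13 * r23) • q3 -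
      (r12 * r13 * r23) • hN')) with ⟨rfl, rfl, rfl, he⟩ | ⟨rfl, ⟨rfl, hs⟩ | ⟨rfl, hs⟩ | ⟨rfl, hs⟩⟩
  · rw [zero_smul] at p12 p13 p23 p21 p31 p32
    have z1 := hq.no_zero_four h hc h0 h1 h2 h3 hd he p00 p21 p31 h10 hN'
    have z2 := hq.rot.no_zero_four h hc (r1 h0) (r1 h2) (r1 h3) (r1 h1) hd1 he p00 p32 p12 h20
      (by rw [← hN']; abel)
    have z3 := hq.rot.rot.no_zero_four h hc (r2 h0) (r2 h3) (r2 h1) (r2 h2) hd2 he p00 p13 p23 h30
      (by rw [← hN']; abel)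
    rw [z1, z2, z3, mul_zero, add_zero, add_zero, ← zero_smul ℂ (1 : A)] at hN'
    have := smul_one_inj hN'
    rcases he with rfl | rfl <;> norm_num at this
  · rw [zero_smul] at p00 p12
    obtain ⟨ψ, η, hψ, hη, e⟩ := hq.two h hc h0 h2 h3 hd hs p00 p12 p23 p32 (by simpa using hN')
    exact hc2 ⟨ψ, η, _, hψ, hη, hs, Or.inl e⟩
  · rw [zero_smul] at p00 p23
    obtain ⟨ψ, η, hψ, hη, e⟩ := hq.rot.two h hc (r1 h0) (r1 h3) (r1 h1) hd1 hs p00 p23 p31 p13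
      (by rw [add_zero] at hN'; rw [← hN']; abel)
    rw [map_mul, q.jk] at e
    rw [map_mul] at hψ
    exact hc2 ⟨ψ, η, _, ⟨⟨q.jk ▸ hψ.cm.rot.hJ, hψ.cm.hI⟩, hψ.sq⟩, hη, hs, Or.inr (Or.inl e)⟩
  · rw [zero_smul] at p00 p31
    obtain ⟨ψ, η, hψ, hη, e⟩ := hq.rot.rot.two h hc (r2 h0) (r2 h1) (r2 h2) hd2 hs p00 p31 p12 p21
      (by rw [add_zero] at hN'; rw [← hN']; abel)
    have e' : σ i * σ j * σ i = σ j := by simp only [H14.nf, q.nf]; module
    simp only [map_mul, q.jk, e'] at e hψ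
    exact hc2 ⟨ψ, η, _, ⟨⟨hψ.cm.hJ, e' ▸ hψ.cm.rot.hJ⟩, hψ.sq⟩, hη, hs, Or.inr (Or.inr e)⟩

end H14
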