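import Mathlib
import Cfsg.Agent.H14.Icos

/-! Uniqueness of the icosian overgroup; existence of a subgroup `SL(2,3)`. -/

set_option autoImplicit false
set_option linter.unusedSectionVars false
set_option linter.unusedSimpArgs false

namespace H14

variable {G : Type*} [Group G] {A : Type*} [Ring A] [Algebra ℂ A] [Nontrivial A] {σ : G →* A}
  {i j : G}

theorem Cfg.cyc (h : FA σ) (hq : Cfg σ i j) {b1 b2 b3 : A} (h1 : Cm (σ i) (σ j) b1)
    (h2 : Cm (σ i) (σ j) b2) (h3 : Cm (σ i) (σ j) b3)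
    (hc : Pu σ (σ i * b1 + σ j * b2 + σ i * σ j * b3)) :
    Pu σ (σ j * b1 + σ i * σ j * b2 + σ i * b3) := by
  obtain ⟨x, hx, hx1, hxa⟩ := hq.pu
  convert hc.conj x⁻¹ using 1
  rw [inv_inv, h.inv_three hx hx1, sigma_eq σ x, hxa]
  simp only [H14.nf, hq.q.nf, h1.nf, h2.nf, h3.nf]; module

theorem Cfg.base (h : FA σ) (hq : Cfg σ i j) {ψ c : A} {η s : ℂ} (hψ : Gold (σ i) (σ j) ψ)
    (hη : η = 1 ∨ η = -1) (hs : s = 1 ∨ s = -1) (hc : Pu σ c)
    (e : c = η • (σ j * ψ + s • (σ i * σ j * (ψ - 1))) ∨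
       c = η • (σ i * σ j * ψ + s • (σ i * (ψ - 1))) ∨
       c = η • (σ i * ψ + s • (σ j * (ψ - 1)))) : Pu σ (σ i * ψ + σ j * (ψ - 1)) := by
  have q := hq.q
  have c1 := hψ.cm.smul η
  have c2 := (hψ.cm.sub Cm.one).smul (η * s)
  have k3 : Pu σ (η • (σ i * ψ + s • (σ j * (ψ - 1)))) → Pu σ (σ i * ψ + σ j * (ψ - 1)) := by
    intro p0
    have p1 := p0.conj_i q.hI
    simp only [H14.nf, q.nf, hψ.cm.nf, smul_add, smul_sub] at p0 p1 ⊢
    rcases hη with rfl | rfl <;> rcases hs with rfl | rfl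
    · convert p0 using 1; module
    · convert p1 using 1; module
    · convert p0.neg h using 1; module
    · convert p1.neg h using 1; module
  have k2 : Pu σ (η • (σ i * σ j * ψ + s • (σ i * (ψ - 1)))) →
      Pu σ (η • (σ i * ψ + s • (σ j * (ψ - 1)))) := fun p => by
    convert hq.cyc h c2 Cm.zero c1 (by convert p using 1; simp only [H14.nf]; module) using 1
    simp only [H14.nf]; module
  rcases e with rfl | rfl | rfl
  · refine k3 (k2 ?_)
    convert hq.cyc h Cm.zero c1 c2 (by convert hc using 1; simp only [H14.nf]; module) using 1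
    simp only [H14.nf]; module
  · exact k3 (k2 hc)
  · exact k3 hc

theorem Cfg.gold_unique (h : FA σ) (hq : Cfg σ i j) {ψ φ : A} (hψ : Gold (σ i) (σ j) ψ)
    (hφ : Gold (σ i) (σ j) φ) (pψ : Pu σ (σ i * ψ + σ j * (ψ - 1)))
    (pφ : Pu σ (σ i * φ + σ j * (φ - 1))) : ψ = φ := by
  have q := hq.q
  have sc : ∀ {a b : ℂ}, a • (1 : A) = b • 1 → a ≠ b → False := fun e h => h (smul_one_inj e)
  have p2 : Pu σ (σ i * φ - σ j * (φ - 1)) := by
    convert pφ.conj_i q.hI using 1
    simp only [H14.nf, q.nf, hφ.cm.nf]; module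
  have p3 : Pu σ (σ j * φ + σ i * σ j * (φ - 1)) := by
    simpa using hq.cyc h hφ.cm (hφ.cm.sub Cm.one) Cm.zero (by simpa using pφ)
  have cψ := hψ.cm
  have cφ := hφ.cm
  have sψ := rule hψ.sq
  have sφ := rule hφ.sq
  have one := Cm.one (I := σ i) (J := σ j)
  have z := Cm.zero (I := σ i) (J := σ j)
  obtain ⟨η, hη⟩ : ∃ η, η = (2 : ℂ) • (ψ * φ + φ * ψ - ψ - φ) + 1 := ⟨_, rfl⟩
  have hψ0 : ψ ≠ 0 := fun e => by simpa [e] using hψ.sq
  have hψ1 : ψ ≠ 1 := fun e => by simpa [e] using hψ.sq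
  have B1 : (σ i * ψ + σ j * (ψ - 1)) * (σ i * φ + σ j * (φ - 1)) +
      (σ i * φ + σ j * (φ - 1)) * (σ i * ψ + σ j * (ψ - 1)) = -(1 + η) := by
    simp only [hη, H14.nf, q.nf, cψ.nf, cφ.nf]; module
  have B2 : ∀ B, B = (σ i * ψ + σ j * (ψ - 1)) * (σ i * φ - σ j * (φ - 1)) +
      (σ i * φ - σ j * (φ - 1)) * (σ i * ψ + σ j * (ψ - 1)) →
      B * B = (36 : ℂ) • 1 - (η - 1) * (η - 1) := by
    rintro _ rfl
    simp only [hη, H14.nf, q.nf, cψ.nf, cφ.nf, sψ, sφ, smul_add, smul_sub]; module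
  have H2 : (η - 1) * (η - 1) = (32 : ℂ) • 1 ∨ (η - 1) * (η - 1) = (16 : ℂ) • 1 := by
    rcases pψ.tri' h p2 with (e | e) | ⟨l, hl, e⟩
    · obtain ⟨-, r1, r2, -⟩ := q.indep z (cψ.sub cφ) ((cψ.add cφ).sub (one.smul 2)) z (by
        simp only [H14.nf] at e ⊢; linear_combination (norm := module) -e)
      exact absurd (by linear_combination (norm := module) (2⁻¹ : ℂ) • (r1 + r2)) hψ1
    · obtain ⟨-, r1, r2, -⟩ := q.indep z (cψ.add cφ) (cψ.sub cφ) z (by
        simp only [H14.nf] at e ⊢; linear_combination (norm := module) e)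
      exact absurd (by linear_combination (norm := module) (2⁻¹ : ℂ) • (r1 + r2)) hψ0
    · rw [B2 _ rfl] at e
      rcases hl with rfl | rfl
      · left; linear_combination (norm := module) -e
      · right; linear_combination (norm := module) -e
  have n1 : η ≠ 1 := fun e => by
    rw [e, sub_self, mul_zero, ← zero_smul ℂ (1 : A)] at H2
    exact H2.elim (fun e => sc e (by norm_num)) fun e => sc e (by norm_num)
  have n3 : η ≠ (-3 : ℂ) • 1 := fun e => by
    have hφψ : φ * ψ = ψ + φ - ψ * φ - (2 : ℂ) • 1 := by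
      rw [hη] at e; linear_combination (norm := module) (2⁻¹ : ℂ) • e
    have hD : ψ * φ - φ * ψ = 0 := by
      rcases pψ.tri' h p3 with (e | e) | ⟨l, hl, e⟩
      · exact absurd (q.indep z cψ ((cψ.sub one).sub cφ) (one.sub cφ) (by
          simp only [H14.nf] at e ⊢; linear_combination (norm := module) -e)).2.1 hψ0
      · exact absurd (q.indep z cψ ((cψ.sub one).add cφ) (cφ.sub one) (by
          simp only [H14.nf] at e ⊢; linear_combination (norm := module) e)).2.1 hψ0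
      · have cD := (cψ.mul cφ).sub (cφ.mul cψ)
        have := (q.indep ((one.smul (20 - 4 * l)).sub ((cψ.sub cφ).smul 4)) (cD.smul 4)
          (cD.smul (-4)) (cD.smul 4) (by
          simp only [H14.nf, q.nf, cψ.nf, cφ.nf, sψ, sφ, rule hφψ] at e ⊢
          linear_combination (norm := module) e)).2.1
        exact (smul_eq_zero.1 this).resolve_left (by norm_num)
    have h1 : ((2 : ℂ) • ψ - 1) * ((2 : ℂ) • φ - 1) = (-3 : ℂ) • 1 := by
      simp only [H14.nf]; linear_combination (norm := module) (2 : ℂ) • (hD + hφψ)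
    have h2 : ((2 : ℂ) • φ - 1) * ((2 : ℂ) • ψ - 1) = (-3 : ℂ) • 1 := by
      simp only [H14.nf]; linear_combination (norm := module) (2 : ℂ) • (-hD + hφψ)
    have h3 : ((2 : ℂ) • ψ - 1) * ((2 : ℂ) • φ - 1) * (((2 : ℂ) • φ - 1) * ((2 : ℂ) • ψ - 1)) =
        (25 : ℂ) • 1 := by simp only [H14.nf, sψ, sφ]; module
    rw [h1, h2] at h3
    simp only [H14.nf, smul_smul] at h3
    exact sc h3 (by norm_num)
  rcases pψ.tri h pφ with e | e | e | e | e
  · exact (sub_eq_zero.1 (q.indep z (cφ.sub cψ) (cφ.sub cψ) z (by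
      simp only [H14.nf] at e ⊢; linear_combination (norm := module) e)).2.1).symm
  · obtain ⟨-, r1, r2, -⟩ := q.indep z (cψ.add cφ) ((cψ.add cφ).sub (one.smul 2)) z (by
      simp only [H14.nf] at e ⊢; linear_combination (norm := module) e)
    exact (sc (a := 2) (b := 0) (by linear_combination (norm := module) r1 - r2) two_ne_zero).elim
  · exact absurd (by rw [B1] at e; linear_combination (norm := module) -e) n3
  · exact absurd (by rw [B1] at e; linear_combination (norm := module) -e) n1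
  · rw [B1] at e
    simp only [H14.nf] at e H2
    rcases H2 with H2 | H2
    · exact absurd (by linear_combination (norm := module) (4⁻¹ : ℂ) • (e - H2)) n3
    · exact absurd (by linear_combination (norm := module) (4⁻¹ : ℂ) • (e - H2)) n1

theorem FA.exists_cfg_of (h : FA σ) {a c : A} (ha : Pu σ a) (hc : Pu σ c)
    (e : a * c + c * a = (-2 : ℂ) • 1) : ∃ i j, Cfg σ i j := by
  have haa := rule (ha.sq h)
  have hcc := rule (hc.sq h)
  have hca := rule (show c * a = (-2 : ℂ) • 1 - a * c by rw [← e]; abel)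
  obtain ⟨x, hx, hx1, hxa⟩ := id ha
  obtain ⟨y, hy, hy1, hyc⟩ := id hc
  have e1 : σ x⁻¹ = (-2⁻¹ : ℂ) • (a + 1) := by
    rw [h.inv_three hx hx1, sigma_eq σ x, hxa]; module
  have e2 : σ y⁻¹ = (-2⁻¹ : ℂ) • (c + 1) := by
    rw [h.inv_three hy hy1, sigma_eq σ y, hyc]; module
  refine ⟨y⁻¹ * x⁻¹, x⁻¹ * y⁻¹, ⟨?_, ?_, ?_⟩, ?_⟩
  · simp only [map_mul, e1, e2, H14.nf, haa, hcc, hca]; module
  · simp only [map_mul, e1, e2, H14.nf, haa, hcc, hca]; module
  · simp only [map_mul, e1, e2, H14.nf, haa, hcc, hca]; module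
  · convert ha using 1
    simp only [map_mul, e1, e2, H14.nf, haa, hcc, hca]; module

theorem FA.exists_cfg (h : FA σ) {x y : G} (hx : x ^ 3 = 1) (hx1 : x ≠ 1) (hy : y ^ 3 = 1)
    (hy1 : y ≠ 1) (h1 : y ≠ x) (h2 : y ≠ x⁻¹) : ∃ i j, Cfg σ i j := by
  have ha : Pu σ (pu σ x) := ⟨x, hx, hx1, rfl⟩
  have hc : Pu σ (pu σ y) := ⟨y, hy, hy1, rfl⟩
  rcases h.tri hx hx1 hy hy1 rfl with e | e | e | e | e
  · exact absurd e h1
  · exact absurd e h2
  · exact h.exists_cfg_of ha (hc.neg h) (by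
      simp only [H14.nf]; linear_combination (norm := module) -e)
  · exact h.exists_cfg_of ha hc e
  · refine h.exists_cfg_of ha (ha.conj y) ?_
    have haa := rule (ha.sq h)
    have hcc := rule (hc.sq h)
    rw [h.inv_three hy hy1, sigma_eq σ y]
    generalize pu σ x = a at *
    generalize pu σ y = c at *
    simp only [H14.nf, haa, hcc] at e ⊢
    linear_combination (norm := module) (-4⁻¹ : ℂ) • e

end H14
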