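import Mathlib
import Cfsg.Agent.H14.Icos2

/-! The icosian model of `SL(2,5)`. -/

set_option autoImplicit false
set_option linter.unusedSectionVars false
set_option linter.unusedSimpArgs false

namespace H14

open Subgroup

/-- icosians with doubled coordinates -/
structure Ico where
  (a0 b0 a1 b1 a2 b2 a3 b3 : ℤ)
  deriving DecidableEq

namespace Ico

/-- product -/
def mul (p q : Ico) : Ico :=
  ⟨p.a0 * q.a0 + p.b0 * q.b0 - (p.a1 * q.a1 + p.b1 * q.b1) - (p.a2 * q.a2 + p.b2 * q.b2) -
      (p.a3 * q.a3 + p.b3 * q.b3),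
   p.a0 * q.b0 + p.b0 * (q.a0 + q.b0) - (p.a1 * q.b1 + p.b1 * (q.a1 + q.b1)) -
      (p.a2 * q.b2 + p.b2 * (q.a2 + q.b2)) - (p.a3 * q.b3 + p.b3 * (q.a3 + q.b3)),
   p.a0 * q.a1 + p.b0 * q.b1 + (p.a1 * q.a0 + p.b1 * q.b0) + (p.a2 * q.a3 + p.b2 * q.b3) -
      (p.a3 * q.a2 + p.b3 * q.b2),
   p.a0 * q.b1 + p.b0 * (q.a1 + q.b1) + (p.a1 * q.b0 + p.b1 * (q.a0 + q.b0)) +
      (p.a2 * q.b3 + p.b2 * (q.a3 + q.b3)) - (p.a3 * q.b2 + p.b3 * (q.a2 + q.b2)),
   p.a0 * q.a2 + p.b0 * q.b2 - (p.a1 * q.a3 + p.b1 * q.b3) + (p.a2 * q.a0 + p.b2 * q.b0) +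
      (p.a3 * q.a1 + p.b3 * q.b1),
   p.a0 * q.b2 + p.b0 * (q.a2 + q.b2) - (p.a1 * q.b3 + p.b1 * (q.a3 + q.b3)) +
      (p.a2 * q.b0 + p.b2 * (q.a0 + q.b0)) + (p.a3 * q.b1 + p.b3 * (q.a1 + q.b1)),
   p.a0 * q.a3 + p.b0 * q.b3 + (p.a1 * q.a2 + p.b1 * q.b2) - (p.a2 * q.a1 + p.b2 * q.b1) +
      (p.a3 * q.a0 + p.b3 * q.b0),
   p.a0 * q.b3 + p.b0 * (q.a3 + q.b3) + (p.a1 * q.b2 + p.b1 * (q.a2 + q.b2)) -
      (p.a2 * q.b1 + p.b2 * (q.a1 + q.b1)) + (p.a3 * q.b0 + p.b3 * (q.a0 + q.b0))⟩

/-- doubling -/
def dbl (p : Ico) : Ico :=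
  ⟨2 * p.a0, 2 * p.b0, 2 * p.a1, 2 * p.b1, 2 * p.a2, 2 * p.b2, 2 * p.a3, 2 * p.b3⟩

variable {A : Type*} [Ring A] [Algebra ℂ A]

/-- evaluation -/
def ev (I J ψ : A) (p : Ico) : A :=
  ((p.a0 : ℂ) • 1 + (p.b0 : ℂ) • ψ) + I * ((p.a1 : ℂ) • 1 + (p.b1 : ℂ) • ψ) +
    J * ((p.a2 : ℂ) • 1 + (p.b2 : ℂ) • ψ) + I * J * ((p.a3 : ℂ) • 1 + (p.b3 : ℂ) • ψ)

theorem ev_mul {I J ψ : A} (q : Qt I J) (h : Gold I J ψ) (p r : Ico) :
    ev I J ψ (mul p r) = ev I J ψ p * ev I J ψ r := by
  simp only [ev, mul, H14.nf, q.nf, h.cm.nf, rule h.sq]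
  push_cast
  module

theorem ev_dbl (I J ψ : A) (p : Ico) : ev I J ψ (dbl p) = (2 : ℂ) • ev I J ψ p := by
  simp only [ev, dbl, H14.nf]
  push_cast
  module

end Ico

/-- table of icosians -/
def icoTT : ℕ := 0x4522990000000000000000000000000000004d145300000000000000000000000000000068b4d200000000000000000000000000000049969129348b0000000000000000000000000000000000004d34530000000000000000000000000000000000006922d100000049164a00000000000000000000000000000000000028b4d200000045949a0000000000000000000000000000000000000000006994d200000000000049364a0000000000000000000000000000000000000000002922d10000000000004514530000000000004cb49a00000000000000000000000000000000000000000000000048b6910000000000000000002994d20000000000000000004534530000000000000000004d229900000000000000000069148b00000000000000000000000029148b00000000000000000000000044b49a0000000000000000000000004d949a00000000000000000000000069348b0000000000000000000000004924900000000000000000000000004526990000000000000000000000000000000000000000004d145100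00000000002da49300000000000000000000000000000000000000000048a4cb0000000000006532920000000000000000000000000000004d34510000000000000000000000000000002d24da4912ca00000000000000000000000000000065a49300000000000000000000000000000044a6520000000000000000002ca4930000000000000000004932ca0000000000000000000000000000000000000000000000006524da0000000000000000004514510000000000000000004da65200000000000000000000000000000000000049a4cb00000064a4930000000000000000000000000000000000004534510000004d26990000000000000000000000000000000000002d129200000000000000000000000065129200000000000000000000000045a6520000000000000000000000004ca6520000000000000000000000002d329200000000000000000000000049251200000000000000000000000000000045228b0000004d14d30000000000000000000000000000000000002da49100000000000000000000000000000000000048a4590000006536920000000000000000004d34d30000000000000000000000000000000000000000000000002d244a00000000000000000049165a00000000000000000065a49100000000000000000044a2d20000000000000000000000000000002ca4910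0000000000000000000000000000049365a00000000000000000000000000000065244a4514d30000000000000000000000000000004da2d200000000000000000000000000000000000000000049a45900000000000064a4910000000000004534d30000000000000000000000000000000000000000004d228b0000000000002d169200000000000000000000000065169200000000000000000000000045a2d20000000000000000000000004ca2d20000000000000000000000002d369200000000000000000000000049241200000000000000000000000000000045268b0000000000000000004d14d100000000000000000068b4520000000000000000000000000000000000000000000000004992930000000000000000002934990000000000004d34d10000000000000000000000000000000000000000006926530000000000004912da00000000000028b45200000000000000000000000000000000000000000045948a0000006994520000000000000000000000000000000000004932da0000000000000000000000000000000000002926530000004514d10000000000000000000000000000000000004cb48a00000000000000000000000000000048b2932994520000000000000000000000000000004534d10000000000000000000000000000004d268b000000000000000000000000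00000069149900000000000000000000000029149900000000000000000000000044b48a0000000000000000000000004d948a00000000000000000000000069349900000000000000000000000049249400000000000000000000000000000000000000000000000000000000000000000000000000000000000000000000000049929148a44b48a4d94996934944920000000000000000000000000000000000000000000000000000000000006926512d245a2d24ca6922d341249200000000000000000000000000000000000000000000000000000000000000000000000000000000000000000000000000000000000000000000000000000000000000000000000000000029265165245a6524ca2922d351249200000000000000000000000000000000000000000000000000000000000048b29149a44b49a4d948b693490492000000000000000000000000000000000000000000000000000000000000000000000000000000000000000000000000000000000000000000000000000000000000000000000000000000000000000000000000000000000000000000000000000000000000000000000000000000000000000000000000000000000000000000000000000000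

/-- table of ranks -/
def icoRR : ℕ := 0x90000060000050000027000000600000070700000070300000005008000000040090030000000050008000600060007000040000300006000050000a00008000000040060000000700700000700000640000080000070006000700000000900010005000000206000000708000000a000070000500008000070000500000406000000800000090500080000000040003000500070000040000090000076000008000000060070080000000400800005000080000700005000070000050008000700000000600060020000000800600700000007070000003000000607000000700000970000050000020000060000600007000080000800000000000000000000044685000000000056867000000000000000000000000073868000000000017887000000000000000000000000000000000000000000000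

/-- index of a matrix -/
def icoIx (a b c d : ZMod 5) : ℕ := a.val + 5 * b.val + 25 * c.val + 125 * d.val

/-- digit of the table -/
def icoD (n e : ℕ) : ℤ := ((icoTT >>> (24 * n + 3 * e)) % 8 : ℕ) - 2

/-- icosian attached to a matrix -/
def icoT (a b c d : ZMod 5) : Ico :=
  let n := icoIx a b c d
  ⟨icoD n 0, icoD n 1, icoD n 2, icoD n 3, icoD n 4, icoD n 5, icoD n 6, icoD n 7⟩

/-- rank of a matrix -/
def icoR (a b c d : ZMod 5) : ℕ := (icoRR >>> (4 * icoIx a b c d)) % 16

theorem ico_mul : ∀ a b c d : ZMod 5, a * d - b * c = 1 →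
    (icoT a b c d).mul ⟨-1, 0, 1, 0, 1, 0, 1, 0⟩ =
      (icoT (a * 3 + b * 3) (a * 4 + b * 1) (c * 3 + d * 3) (c * 4 + d * 1)).dbl ∧
    (icoT a b c d).mul ⟨-1, 0, 0, 1, -1, 1, 0, 0⟩ =
      (icoT (a * 0 + b * 4) (a * 1 + b * 4) (c * 0 + d * 4) (c * 1 + d * 4)).dbl := by
  decide +kernel

theorem ico_rk : ∀ a b c d : ZMod 5, a * d - b * c = 1 → (a = 1 ∧ b = 0 ∧ c = 0 ∧ d = 1) ∨
    icoR (a * 3 + b * 3) (a * 4 + b * 1) (c * 3 + d * 3) (c * 4 + d * 1) < icoR a b c d ∨
    icoR (a * 0 + b * 4) (a * 1 + b * 4) (c * 0 + d * 4) (c * 1 + d * 4) < icoR a b c d := by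
  decide +kernel

theorem ico_inj : ∀ a b c d : ZMod 5, a * d - b * c = 1 →
    ((icoT a b c d).a0 - 2) ^ 2 + ((icoT a b c d).a0 - 2) * (icoT a b c d).b0 -
      (icoT a b c d).b0 ^ 2 = 0 → a = 1 ∧ b = 0 ∧ c = 0 ∧ d = 1 := by
  decide +kernel

theorem ico_one : icoT 1 0 0 1 = ⟨2, 0, 0, 0, 0, 0, 0, 0⟩ := by decide +kernel

theorem ico_surj : ∀ e ∈ [(1 : ℤ), -1], ∀ s ∈ [(1 : ℤ), -1],
    (∀ t ∈ [(1 : ℤ), -1], ∃ a b c d : ZMod 5, a * d - b * c = 1 ∧
      icoT a b c d = ⟨-1, 0, e, 0, s, 0, t, 0⟩) ∧
    (∃ a b c d : ZMod 5, a * d - b * c = 1 ∧ icoT a b c d = ⟨-1, 0, 0, 0, 0, e, -(e * s), e * s⟩) ∧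
    (∃ a b c d : ZMod 5, a * d - b * c = 1 ∧ icoT a b c d = ⟨-1, 0, -(e * s), e * s, 0, 0, 0, e⟩) ∧
    (∃ a b c d : ZMod 5, a * d - b * c = 1 ∧
      icoT a b c d = ⟨-1, 0, 0, e, -(e * s), e * s, 0, 0⟩) := by
  decide +kernel

/-- `SL(2,5)` -/
abbrev SL25 := Matrix.SpecialLinearGroup (Fin 2) (ZMod 5)

/-- first generator -/
def slS : SL25 := ⟨!![3, 4; 3, 1], by rw [Matrix.det_fin_two_of]; decide⟩

/-- second generator -/
def slT : SL25 := ⟨!![0, 1; 4, 4], by rw [Matrix.det_fin_two_of]; decide⟩

theorem sl_det (g : SL25) : g 0 0 * g 1 1 - g 0 1 * g 1 0 = 1 := by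
  rw [← Matrix.det_fin_two]; exact g.2

theorem sl_mul (g h : SL25) (i j : Fin 2) : (g * h) i j = g i 0 * h 0 j + g i 1 * h 1 j := by
  simp [Matrix.mul_apply]

theorem sl_eq_one {g : SL25} (h : g 0 0 = 1 ∧ g 0 1 = 0 ∧ g 1 0 = 0 ∧ g 1 1 = 1) : g = 1 := by
  ext i j; fin_cases i <;> fin_cases j <;> simp [h]

theorem sl_ind {P : SL25 → Prop} (h1 : P 1) (hS : ∀ g, P (g * slS) → P g)
    (hT : ∀ g, P (g * slT) → P g) (g : SL25) : P g := by
  induction hn : icoR (g 0 0) (g 0 1) (g 1 0) (g 1 1) using Nat.strong_induction_on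
    generalizing g with | _ n ih => ?_
  rcases ico_rk _ _ _ _ (sl_det g) with h | h | h
  · rw [sl_eq_one h]; exact h1
  · exact hS g (ih _ (hn ▸ h) _ (by simp only [sl_mul]; rfl))
  · exact hT g (ih _ (hn ▸ h) _ (by simp only [sl_mul]; rfl))

theorem sl_closure : Subgroup.closure {slS, slT} = ⊤ :=
  eq_top_iff.2 fun g _ => sl_ind (P := (· ∈ Subgroup.closure {slS, slT})) (one_mem _)
    (fun _ h => (mul_mem_cancel_right (Subgroup.subset_closure (by simp))).1 h)
    (fun _ h => (mul_mem_cancel_right (Subgroup.subset_closure (by simp))).1 h) g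

variable {G : Type*} [Group G] {A : Type*} [Ring A] [Algebra ℂ A] [Nontrivial A] {σ : G →* A}
  {i j : G}

theorem Cfg.exists_hom (h : FA σ) (hq : Cfg σ i j) {ψ : A} (hψ : Gold (σ i) (σ j) ψ)
    (pψ : Pu σ (σ i * ψ + σ j * (ψ - 1))) : ∃ f : SL25 →* G, Function.Injective f ∧
      (∀ w, w ^ 3 = 1 → w ∈ f.range) ∧ f slS ^ 3 = 1 ∧ f slT ^ 3 = 1 := by
  have q := hq.q
  obtain ⟨x, hx, hx1, hxa⟩ := hq.pu
  obtain ⟨w, hw, hw1, hwa⟩ := id pψ
  let F : SL25 → A := fun g =>
    (2⁻¹ : ℂ) • Ico.ev (σ i) (σ j) ψ (icoT (g 0 0) (g 0 1) (g 1 0) (g 1 1))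
  have F1 : F 1 = 1 := by
    have : F 1 = (2⁻¹ : ℂ) • Ico.ev (σ i) (σ j) ψ (icoT 1 0 0 1) := rfl
    rw [this, ico_one]; simp [Ico.ev, smul_smul]
  have FS : ∀ g, F (g * slS) = F g * σ x := fun g => by
    have h1 := congrArg (Ico.ev (σ i) (σ j) ψ) (ico_mul _ _ _ _ (sl_det g)).1
    rw [Ico.ev_mul q hψ, Ico.ev_dbl] at h1
    have h2 : σ x = (2⁻¹ : ℂ) • Ico.ev (σ i) (σ j) ψ ⟨-1, 0, 1, 0, 1, 0, 1, 0⟩ := by
      rw [sigma_eq, hxa]; simp only [Ico.ev, H14.nf]; push_cast; module
    simp only [F, h2, H14.nf, h1, sl_mul, smul_smul]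
    congr 1
    norm_num
  have FT : ∀ g, F (g * slT) = F g * σ w := fun g => by
    have h1 := congrArg (Ico.ev (σ i) (σ j) ψ) (ico_mul _ _ _ _ (sl_det g)).2
    rw [Ico.ev_mul q hψ, Ico.ev_dbl] at h1
    have h2 : σ w = (2⁻¹ : ℂ) • Ico.ev (σ i) (σ j) ψ ⟨-1, 0, 0, 1, -1, 1, 0, 0⟩ := by
      rw [sigma_eq, hwa]; simp only [Ico.ev, H14.nf]; push_cast; module
    simp only [F, h2, H14.nf, h1, sl_mul, smul_smul]
    congr 1
    norm_num
  have inv : ∀ {a b : A} {u : G}, a = b * σ u → b = a * σ u⁻¹ := fun e => by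
    rw [e, mul_assoc, ← map_mul, mul_inv_cancel, map_one, mul_one]
  have hF : ∀ k, ∃ u, σ u = F k ∧ ∀ g, F (g * k) = F g * σ u := sl_ind
    ⟨1, by rw [map_one, F1], fun g => by simp⟩
    (fun k ⟨u, h1, h2⟩ => ⟨u * x⁻¹, by rw [map_mul, h1, ← inv (FS k)], fun g => by
      rw [inv (FS (g * k)), mul_assoc g, h2, map_mul, mul_assoc]⟩)
    (fun k ⟨u, h1, h2⟩ => ⟨u * w⁻¹, by rw [map_mul, h1, ← inv (FT k)], fun g => by
      rw [inv (FT (g * k)), mul_assoc g, h2, map_mul, mul_assoc]⟩)
  choose f hf hf' using hF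
  let φ : SL25 →* G := MonoidHom.mk' f fun g k => h.injective (by rw [map_mul, hf, hf', hf g])
  have hr : ∀ (y : G) (p : Ico), (∃ a b c d : ZMod 5, a * d - b * c = 1 ∧ icoT a b c d = p) →
      H14.pu σ y = Ico.ev (σ i) (σ j) ψ p + 1 → y ∈ φ.range := fun y p ⟨a, b, c, d, h1, h2⟩ h3 =>
    ⟨⟨!![a, b; c, d], by rw [Matrix.det_fin_two_of, h1]⟩, h.injective (by
      rw [sigma_eq σ y, h3, add_sub_cancel_right, ← h2]; exact hf _)⟩
  have sg : ∀ {e : ℂ}, e = 1 ∨ e = -1 → ∃ n ∈ [(1 : ℤ), -1], e = n := fun h =>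
    h.elim (fun h => ⟨1, by simp, by simp [h]⟩) fun h => ⟨-1, by simp, by simp [h]⟩
  refine ⟨φ, (injective_iff_map_eq_one _).2 fun g hg => sl_eq_one (ico_inj _ _ _ _ (sl_det g) ?_),
    fun y hy => ?_, ?_, ?_⟩
  · have h1 : F g = 1 := by rw [← hf, show f g = 1 from hg, map_one]
    simp only [F] at h1
    generalize icoT (g 0 0) (g 0 1) (g 1 0) (g 1 1) = p at h1 ⊢
    have c : ∀ a b : ℂ, Cm (σ i) (σ j) (a • 1 + b • ψ) := fun a b =>
      (Cm.one.smul a).add (hψ.cm.smul b)
    have h2 := q.indep0 (c (p.a0 - 2) p.b0) (c p.a1 p.b1) (c p.a2 p.b2) (c p.a3 p.b3) (by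
      simp only [Ico.ev] at h1
      linear_combination (norm := module) (2 : ℂ) • h1)
    have h3 := congrArg (· * (((p.a0 : ℂ) - 2 + p.b0) • (1 : A) - (p.b0 : ℂ) • ψ)) h2
    simp only [H14.nf, hψ.sq] at h3
    have h4 : (((p.a0 : ℂ) - 2) ^ 2 + (p.a0 - 2) * p.b0 - p.b0 ^ 2) • (1 : A) = (0 : ℂ) • 1 := by
      linear_combination (norm := module) h3
    exact_mod_cast smul_one_inj h4
  · by_cases hy1 : y = 1
    · rw [hy1]; exact one_mem _
    have hp : Pu σ (H14.pu σ y) := ⟨y, hy, hy1, rfl⟩
    rcases hq.classify h hp with ⟨e1, e2, e3, s1, s2, s3, e⟩ | ⟨χ, η, s, hχ, hη, hs, e⟩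
    · obtain ⟨n1, m1, rfl⟩ := sg s1
      obtain ⟨n2, m2, rfl⟩ := sg s2
      obtain ⟨n3, m3, rfl⟩ := sg s3
      exact hr y _ ((ico_surj n1 m1 n2 m2).1 n3 m3) (by
        rw [e]; simp only [Ico.ev, H14.nf]; push_cast; module)
    · obtain rfl := hq.gold_unique h hψ hχ pψ (hq.base h hχ hη hs hp e)
      obtain ⟨n1, m1, rfl⟩ := sg hη
      obtain ⟨n2, m2, rfl⟩ := sg hs
      rcases e with e | e | e
      · exact hr y _ (ico_surj n1 m1 n2 m2).2.1 (by
          rw [e]; simp only [Ico.ev, H14.nf]; push_cast; module)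
      · exact hr y _ (ico_surj n1 m1 n2 m2).2.2.1 (by
          rw [e]; simp only [Ico.ev, H14.nf]; push_cast; module)
      · exact hr y _ (ico_surj n1 m1 n2 m2).2.2.2 (by
          rw [e]; simp only [Ico.ev, H14.nf]; push_cast; module)
  · rw [show φ slS = x from h.injective (by
      rw [show φ slS = f slS from rfl, hf, ← one_mul slS, FS, F1, one_mul]), hx]
  · rw [show φ slT = w from h.injective (by
      rw [show φ slT = f slT from rfl, hf, ← one_mul slT, FT, F1, one_mul]), hw]

end H14
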