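import Mathlib
import Cfsg.Agent.H14.IcosTab
import Cfsg.Agent.S0033

/-! The structure of fixed-point-free groups (Zassenhaus). -/

set_option autoImplicit false
set_option linter.unusedSectionVars false

namespace H14

open Subgroup

variable {G : Type*} [Group G] [Finite G]

theorem solvable_of_index_le_four {M : Subgroup G} [Group.IsSolvable M] (h : M.index ≤ 4) :
    Group.IsSolvable G := by
  classical
  have : Group.IsSolvable M.normalCore := Group.isSolvable_of_isSolvable_injective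
    (f := inclusion M.normalCore_le) (inclusion_injective _)
  refine (Group.isSolvable_iff_subgroup_quotient M.normalCore).2
    ⟨this, H4.isSolvable_of_primes Nat.prime_two Nat.prime_three fun r hr hd => ?_⟩
  have := Fintype.ofFinite (G ⧸ M)
  have h1 : Nat.card (G ⧸ M.normalCore) ∣ Nat.factorial 4 := by
    rw [← index_eq_card, normalCore_eq_ker, index_ker]
    refine (card_subgroup_dvd_card _).trans ?_
    rw [Nat.card_perm]
    exact Nat.factorial_dvd_factorial h
  have h2 := (hr.dvd_factorial).1 (hd.trans h1)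
  interval_cases r <;> simp_all (config := {decide := true})

theorem Fpf.solvable_quotient (h : Fpf G) (N : Subgroup G) [N.Normal] (h3 : 3 ∣ Nat.card N) :
    Group.IsSolvable (G ⧸ N) := by
  have : Fact (Nat.Prime 3) := ⟨Nat.prime_three⟩
  obtain ⟨P⟩ : Nonempty (Sylow 3 N) := inferInstance
  obtain ⟨x, hx⟩ := exists_prime_orderOf_dvd_card' (G := P) 3 (P.dvd_card_of_dvd_card h3)
  have hP : IsCyclic P := (((h.subgroup N).subgroup P).cyclic_or_quaternion
    P.isPGroup').resolve_right fun h => absurd h.1 (by norm_num)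
  have hxo : orderOf ((x : N) : G) = 3 := by rw [Subgroup.orderOf_coe, Subgroup.orderOf_coe, hx]
  have hx3 : ((x : N) : G) ^ 3 = 1 := by rw [← orderOf_dvd_iff_pow_eq_one, hxo]
  have hx1 : ((x : N) : G) ≠ 1 := fun e => by simp [e] at hxo
  have := h.solvable_normalizer hx3 hx1
  have hle : normalizer ((P : Subgroup N).map N.subtype : Set G) ≤
      normalizer (zpowers ((x : N) : G) : Set G) := fun g hg => by
    obtain ⟨y, hy, hyx⟩ := (mem_normalizer_iff.1 hg ((x : N) : G)).1 ⟨x, x.2, rfl⟩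
    have hc : Commute ((x : N) : G) (g * x * g⁻¹) := by
      rw [← hyx]
      exact congrArg (fun t : P => ((t : N) : G)) (hP.isMulCommutative.1.1 x ⟨y, hy⟩)
    have e := h.zpowers_eq hc ((MulAut.conj g).orderOf_eq _).symm
    rw [mem_normalizer_iff_map_conj_eq, MonoidHom.map_zpowers]
    exact e.symm
  have htop := eq_top_iff.2 (P.normalizer_sup_eq_top.ge.trans (sup_le_sup_right hle N))
  refine Group.isSolvable_of_surjective
    (f := (QuotientGroup.mk' N).comp (normalizer (zpowers ((x : N) : G) : Set G)).subtype)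
    fun q => ?_
  obtain ⟨g, rfl⟩ := QuotientGroup.mk'_surjective N q
  obtain ⟨a, ha, n, hn, rfl⟩ := mem_sup_of_normal_right.1 (htop ▸ mem_top g)
  exact ⟨⟨a, ha⟩, by simp [(QuotientGroup.eq_one_iff n).2 hn]⟩

theorem Fpf.structure (h : Fpf G) : Group.IsSolvable G ∨
    ∃ N : Subgroup G, N.Normal ∧ Nonempty (N ≃* SL25) ∧ 3 ∣ Nat.card N := by
  have : Fact (Nat.Prime 3) := ⟨Nat.prime_three⟩
  by_cases h3 : 3 ∣ Nat.card G
  swap
  · exact Or.inl (h.solvable_of_not_three h3)
  obtain ⟨x, hxo⟩ := exists_prime_orderOf_dvd_card' 3 h3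
  have hx : x ^ 3 = 1 := hxo ▸ pow_orderOf_eq_one x
  have hx1 : x ≠ 1 := fun e => by simp [e] at hxo
  by_cases hn : ∀ g, g * x * g⁻¹ ∈ zpowers x
  · exact Or.inl (h.solvable_of_normal_three hx hx1 hn)
  push Not at hn
  obtain ⟨g, hg⟩ := hn
  have hc3 : ∀ g : G, (g * x * g⁻¹) ^ 3 = 1 := fun g => by
    rw [conj_pow, hx, mul_one, mul_inv_cancel]
  have hc1 : ∀ g : G, g * x * g⁻¹ ≠ 1 := fun g => by simpa using hx1
  obtain ⟨n, σ, hA, hσ⟩ := h.exists_FA
  obtain ⟨i, j, hq⟩ := hσ.exists_cfg hx hx1 (hc3 g) (hc1 g)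
    (fun e => hg (by rw [e]; exact mem_zpowers x))
    (fun e => hg (by rw [e]; exact inv_mem (mem_zpowers x)))
  by_cases hψ : ∃ ψ, Gold (σ i) (σ j) ψ ∧ Pu σ (σ i * ψ + σ j * (ψ - 1))
  · obtain ⟨ψ, h1, h2⟩ := hψ
    obtain ⟨f, hf, hr, hs, ht⟩ := hq.exists_hom hσ h1 h2
    refine Or.inr ⟨f.range, ⟨?_⟩, ⟨(MonoidHom.ofInjective hf).symm⟩,
      hxo ▸ orderOf_dvd_natCard _ (hr x hx)⟩
    rintro _ ⟨u, rfl⟩ g
    have hu : u ∈ Subgroup.closure {slS, slT} := sl_closure ▸ mem_top u
    induction hu using Subgroup.closure_induction with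
    | mem u hu =>
      refine hr _ ?_
      rcases hu with rfl | rfl
      · rw [conj_pow, hs, mul_one, mul_inv_cancel]
      · rw [conj_pow, ht, mul_one, mul_inv_cancel]
    | one => simp
    | mul u v _ _ hu hv => rw [map_mul, ← conj_mul]; exact mul_mem hu hv
    | inv u _ hu => rw [map_inv, ← conj_inv]; exact inv_mem hu
  left
  have key : ∀ g : G, ∃ c : Bool × Bool, ∃ e : ℂ, (e = 1 ∨ e = -1) ∧ pu σ (g * x * g⁻¹) = e •
      (σ i + (if c.1 then 1 else -1 : ℂ) • σ j + (if c.2 then 1 else -1 : ℂ) • (σ i * σ j)) := by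
    intro g
    have hp : Pu σ (pu σ (g * x * g⁻¹)) := ⟨_, hc3 g, hc1 g, rfl⟩
    rcases hq.classify hσ hp with ⟨e1, e2, e3, s1, s2, s3, e⟩ | ⟨χ, η, s, hχ, hη, hs, e⟩
    · classical
      refine ⟨(decide (e1 = e2), decide (e1 = e3)), e1, s1, e.trans ?_⟩
      rcases s1 with rfl | rfl <;> rcases s2 with rfl | rfl <;> rcases s3 with rfl | rfl <;>
        norm_num <;> module
    · exact absurd ⟨χ, hχ, hq.base hσ hχ hη hs hp e⟩ hψ
  choose c e he hce using key
  have := h.solvable_normalizer hx hx1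
  refine solvable_of_index_le_four (M := normalizer (zpowers x : Set G)) ?_
  refine (Nat.card_le_card_of_injective (fun q : G ⧸ normalizer (zpowers x : Set G) => c q.out)
    fun q r hqr => ?_).trans (by simp)
  rw [← q.out_eq', ← r.out_eq', QuotientGroup.eq]
  beta_reduce at hqr
  generalize q.out = a at *
  generalize r.out = b at *
  have h1 : b * x * b⁻¹ = a * x * a⁻¹ ∨ b * x * b⁻¹ = (a * x * a⁻¹)⁻¹ := by
    have ha := hce a
    have hb := hce b
    rw [← hqr] at hb
    by_cases hab : e a = e b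
    · exact Or.inl (hσ.pu_inj (by rw [ha, hb, hab]))
    · refine Or.inr (hσ.pu_inj ?_)
      have : e b = -e a := by
        rcases he a with h1 | h1 <;> rcases he b with h2 | h2 <;> simp_all
      rw [hσ.pu_inv (hc3 a) (hc1 a), ha, hb, this]
      module
  rw [mem_normalizer_iff_map_conj_eq, MonoidHom.map_zpowers]
  have h2 : (MulAut.conj (a⁻¹ * b)).toMonoidHom x = a⁻¹ * (b * x * b⁻¹) * a := by
    simp [mul_assoc]
  rcases h1 with h1 | h1
  · exact congrArg zpowers (h2.trans (by rw [h1]; group))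
  · exact (congrArg zpowers (h2.trans (by rw [h1]; group))).trans zpowers_inv

theorem Fpf.perfect (h : Fpf G) (hp : commutator G = ⊤) [Nontrivial G] : Nonempty (G ≃* SL25) := by
  rcases h.structure with h1 | ⟨N, hN, ⟨e⟩, h3⟩
  · exact absurd hp (Group.IsSolvable.commutator_lt_top_of_nontrivial G).ne
  have := h.solvable_quotient N h3
  have hN : N = ⊤ := by
    by_contra hne
    have : Nontrivial (G ⧸ N) := QuotientGroup.nontrivial_iff.2 hne
    refine (Group.IsSolvable.commutator_lt_top_of_nontrivial (G ⧸ N)).ne ?_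
    have := map_commutator ⊤ ⊤ (QuotientGroup.mk' N)
    rw [← commutator_def, hp, map_top_of_surjective _ (QuotientGroup.mk'_surjective N)] at this
    exact this.symm
  subst hN
  exact ⟨topEquiv.symm.trans e⟩

theorem fpf_of_mulAut {K : Type*} [Group K] [Finite K] (G : Subgroup (MulAut K))
    (hfpf : ∀ φ ∈ G, φ ≠ 1 → ∀ k : K, φ k = k → k = 1) (hne : G ≠ ⊥) : Fpf G := by
  have : Nontrivial G := (nontrivial_iff_ne_bot G).2 hne
  have hK : Nontrivial K := by
    by_contra hK
    rw [not_nontrivial_iff_subsingleton] at hK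
    exact hne (eq_bot_iff.2 fun φ _ => MulEquiv.ext fun k => Subsingleton.elim _ _)
  obtain ⟨r, hr, hrd⟩ := Nat.exists_prime_and_dvd (Finite.one_lt_card (α := G)).ne'
  have := Fact.mk hr
  obtain ⟨φ, hφ⟩ := exists_prime_orderOf_dvd_card' r hrd
  have hnil : Group.IsNilpotent K := Cfsg.Agent.S0033.result (φ : MulAut K)
    (fun k hk => hfpf φ φ.2 (fun e => hr.ne_one (by
      rw [← hφ, show φ = 1 from Subtype.ext e, orderOf_one])) k hk) r hr
    (by rw [← hφ, Subgroup.orderOf_coe])
  have : Nontrivial (center K) := (nontrivial_iff_ne_bot _).2 (Group.IsNilpotent.center_ne_bot K)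
  obtain ⟨p, hp, hpd⟩ := Nat.exists_prime_and_dvd (Finite.one_lt_card (α := center K)).ne'
  have := Fact.mk hp
  obtain ⟨z, hz⟩ := exists_prime_orderOf_dvd_card' p hpd
  let T : Subgroup K :=
    { carrier := {k | k ∈ center K ∧ k ^ p = 1}
      mul_mem' := fun {a b} ha hb => ⟨mul_mem ha.1 hb.1, by
        rw [Commute.mul_pow (mem_center_iff.1 hb.1 a), ha.2, hb.2, mul_one]⟩
      one_mem' := ⟨one_mem _, one_pow _⟩
      inv_mem' := fun {a} ha => ⟨inv_mem ha.1, by rw [inv_pow, ha.2, inv_one]⟩ }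
  have hT : T.Characteristic := characteristic_iff_le_comap.2 fun ψ k hk =>
    ⟨characteristic_iff_le_comap.1 inferInstance ψ hk.1, by
      show ψ k ^ p = 1
      rw [← map_pow, hk.2, map_one]⟩
  let : CommGroup T := { (inferInstance : Group T) with
    mul_comm := fun a b => Subtype.ext (mem_center_iff.1 b.2.1 a) }
  have hG : ¬ p ∣ Nat.card G := fun hd => by
    obtain ⟨ψ, hψ⟩ := exists_prime_orderOf_dvd_card' p hd
    rw [← Subgroup.orderOf_coe] at hψ
    have h1 : IsPGroup p (zpowers (ψ : MulAut K)) :=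
      IsPGroup.of_card (n := 1) (by rw [Nat.card_zpowers, hψ, pow_one])
    obtain ⟨b, hb, hb1⟩ := h1.exists_fixed_point_of_prime_dvd_card_of_fixed_point K
      (hpd.trans (card_subgroup_dvd_card _)) (a := 1) (fun g => map_one (g : MulAut K))
    exact hb1 (hfpf ψ ψ.2 (fun e => hp.ne_one (by rw [← hψ, e, orderOf_one])) b
      (hb ⟨ψ, mem_zpowers _⟩)).symm
  obtain ⟨n, σ, hσ⟩ := H1.exists_complex_rep_of_action hp hG (T := T)
    (fun t => Subtype.ext t.2.2) ((MulAut.characteristic T).comp G.subtype)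
  refine ⟨n, σ, fun hn => ?_, fun g hg v hv => ?_⟩
  · have h1 := hσ ⊥
    subst hn
    rw [Module.finrank_zero_of_subsingleton, pow_zero, Nat.card_eq_one_iff_unique] at h1
    have h2 := congrArg (fun t => (t.1.1 : K)) (h1.1.elim
      ⟨⟨z, z.2, by rw [← Subgroup.coe_pow, ← hz, pow_orderOf_eq_one]; rfl⟩, by simp⟩ ⟨1, by simp⟩)
    exact hp.ne_one (by rw [← hz, show z = 1 from Subtype.ext h2, orderOf_one])
  · have h1 := hσ (zpowers g)
    have h2 : ∀ a : {t : T // ∀ a ∈ zpowers g, ((MulAut.characteristic T).comp G.subtype) a t = t},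
        ((a : T) : K) = 1 := fun a => hfpf g g.2 (fun e => hg (Subtype.ext e)) _
      (congrArg Subtype.val (a.2 g (mem_zpowers g)))
    have h3 : Nat.card
        {t : T // ∀ a ∈ zpowers g, ((MulAut.characteristic T).comp G.subtype) a t = t} = 1 :=
      Nat.card_eq_one_iff_unique.2
        ⟨⟨fun a b => Subtype.ext (Subtype.ext (by rw [h2, h2]))⟩, ⟨⟨1, by simp⟩⟩⟩
    rw [h3, eq_comm, Nat.pow_eq_one, or_iff_right hp.ne_one, Submodule.finrank_eq_zero] at h1
    refine (Submodule.eq_bot_iff _).1 h1 v (H1.mem_fixSp.2 fun a ha => ?_)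
    obtain ⟨k, rfl⟩ := mem_powers_iff_mem_zpowers.2 ha
    simp only [map_pow, Module.End.pow_apply]
    exact Function.IsFixedPt.iterate hv k

end H14
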