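import Mathlib
import Cfsg.Agent.H7.SL
import Cfsg.Agent.H14.FpfStruct

/-! Automorphisms of `Q₈` and `SL(2,5)`; minimal non-abelian normal subgroups of
fixed-point-free groups. -/

set_option autoImplicit false
set_option linter.unusedSectionVars false

namespace H14

open Subgroup
open scoped commutatorElement IsMulCommutative

instance instFactFive : Fact (Nat.Prime 5) := ⟨by norm_num⟩

theorem sl25_card : Nat.card SL25 = 120 := H7.card_sl_two (F := ZMod 5) (q := 5) (by simp)

theorem sl25_perfect : commutator SL25 = ⊤ :=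
  Matrix.SL2.commutator_eq_top (a := (2 : ZMod 5)) (by decide) (by decide)

theorem sl25_nontrivial : Nontrivial SL25 := by
  rw [← Finite.one_lt_card_iff_nontrivial, sl25_card]; norm_num

theorem sl25_not_solvable : ¬ Group.IsSolvable SL25 := fun _ =>
  have := sl25_nontrivial
  (Group.IsSolvable.commutator_lt_top_of_nontrivial SL25).ne sl25_perfect

/-- entries -/
def tp (g : SL25) : ZMod 5 × ZMod 5 × ZMod 5 × ZMod 5 := (g 0 0, g 0 1, g 1 0, g 1 1)

/-- product of entries -/
def m4 (x y : ZMod 5 × ZMod 5 × ZMod 5 × ZMod 5) : ZMod 5 × ZMod 5 × ZMod 5 × ZMod 5 :=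
  (x.1 * y.1 + x.2.1 * y.2.2.1, x.1 * y.2.1 + x.2.1 * y.2.2.2,
    x.2.2.1 * y.1 + x.2.2.2 * y.2.2.1, x.2.2.1 * y.2.1 + x.2.2.2 * y.2.2.2)

theorem tp_mul (g h : SL25) : tp (g * h) = m4 (tp g) (tp h) := by simp only [tp, m4, sl_mul]

theorem tp_inj : Function.Injective tp := fun g h e => by
  simp only [tp, Prod.mk.injEq] at e
  ext i j; fin_cases i <;> fin_cases j <;> simp [e]

theorem tp_eq_one {g : SL25} : g = 1 ↔ tp g = (1, 0, 0, 1) := tp_inj.eq_iff.symm

/-- elements of order dividing three -/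
def l3 : List (ZMod 5 × ZMod 5 × ZMod 5 × ZMod 5) := [(1, 2, 1, 3), (2, 3, 1, 2), (4, 2, 2, 0), (3, 3, 4, 1), (2, 2, 4, 2), (4, 4, 1, 0), (2, 1, 3, 2), (0, 3, 3, 4), (1, 4, 3, 3), (0, 4, 1, 4), (1, 3, 4, 3), (4, 1, 4, 0), (3, 2, 1, 1), (3, 1, 2, 1), (4, 3, 3, 0), (0, 2, 2, 4), (1, 0, 0, 1), (1, 1, 2, 3), (0, 1, 4, 4), (2, 4, 2, 2), (3, 4, 3, 1)]

theorem mem_l3 : ∀ a b c d : ZMod 5, a * d - b * c = 1 →
    m4 (a, b, c, d) (m4 (a, b, c, d) (a, b, c, d)) = (1, 0, 0, 1) → (a, b, c, d) ∈ l3 := by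
  decide +kernel

/-- order ten -/
def ord10 (g : ZMod 5 × ZMod 5 × ZMod 5 × ZMod 5) : Prop :=
  let g2 := m4 g g
  let g5 := m4 g (m4 g2 g2)
  g2 ≠ (1, 0, 0, 1) ∧ g5 ≠ (1, 0, 0, 1) ∧ m4 g5 g5 = (1, 0, 0, 1)

instance instDecOrd10 : DecidablePred ord10 := fun _ => by unfold ord10; infer_instance

theorem lp_length : ((l3 ×ˢ l3).filter fun x => ord10 (m4 x.1 x.2)).length = 120 := by
  decide +kernel

theorem sl25_card_aut : Nat.card (MulAut SL25) ≤ 120 := by
  let f : MulAut SL25 → _ := fun φ => (tp (φ slS), tp (φ slT))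
  have hf : Function.Injective f := fun φ ψ e => by
    simp only [f, Prod.mk.injEq, tp_inj.eq_iff] at e
    refine MulEquiv.toMonoidHom_injective (MonoidHom.eq_of_eqOn_dense sl_closure ?_)
    rintro _ (rfl | rfl)
    exacts [e.1, e.2]
  have h3 : ∀ g : SL25, g * (g * g) = 1 → tp g ∈ l3 := fun g h =>
    mem_l3 _ _ _ _ (sl_det g) (by rw [← tp_eq_one.1 h, tp_mul, tp_mul]; rfl)
  have h10 : ∀ g : SL25, ord10 (tp g) ↔ g * g ≠ 1 ∧ g * (g * g * (g * g)) ≠ 1 ∧
      g * (g * g * (g * g)) * (g * (g * g * (g * g))) = 1 := fun g => by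
    simp only [ord10, ne_eq, tp_eq_one, tp_mul]
  rw [← Nat.card_range_of_injective hf, Nat.card_coe_set_eq, ← lp_length]
  refine le_trans ?_ (List.toFinset_card_le _)
  rw [← Set.ncard_coe_finset]
  refine Set.ncard_le_ncard ?_ (Finset.finite_toSet _)
  rintro _ ⟨φ, rfl⟩
  simp only [List.coe_toFinset, List.mem_filter, Set.mem_setOf_eq, f, decide_eq_true_eq]
  refine ⟨List.pair_mem_product.2 ⟨h3 _ ?_, h3 _ ?_⟩, ?_⟩
  · simp only [← map_mul, map_eq_one_iff _ φ.injective]; decide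
  · simp only [← map_mul, map_eq_one_iff _ φ.injective]; decide
  · rw [← tp_mul, h10]
    simp only [← map_mul, ne_eq, map_eq_one_iff _ φ.injective, tp_eq_one]; decide

theorem sl25_center : (center SL25).index = 60 := by
  have h1 : orderOf (-1 : SL25) = 2 := orderOf_eq_prime (by decide) (by rw [Ne, tp_eq_one]; decide)
  have h2 : center SL25 = zpowers (-1) := by
    refine le_antisymm (fun g hg => ?_) (zpowers_le.2 (mem_center_iff.2 fun g => by simp))
    have e1 := congrArg tp (mem_center_iff.1 hg slS)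
    have e2 := congrArg tp (mem_center_iff.1 hg slT)
    have key : ∀ a b c d : ZMod 5, a * d - b * c = 1 →
        m4 (3, 4, 3, 1) (a, b, c, d) = m4 (a, b, c, d) (3, 4, 3, 1) ∧
        m4 (0, 1, 4, 4) (a, b, c, d) = m4 (a, b, c, d) (0, 1, 4, 4) →
        (a, b, c, d) ∈ [(1, 0, 0, 1), (4, 0, 0, 4)] := by decide +kernel
    rw [tp_mul, tp_mul] at e1 e2
    rcases List.mem_pair.1 (key _ _ _ _ (sl_det g) ⟨e1, e2⟩) with h | h
    · rw [tp_eq_one.2 h]; exact one_mem _
    · rw [show g = -1 from tp_inj (h.trans (by decide))]; exact mem_zpowers _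
  have := (center SL25).card_mul_index
  rw [sl25_card, h2, Nat.card_zpowers, h1, ← h2] at this
  omega

theorem sl25_three : ∃ x y : SL25, orderOf x = 3 ∧ orderOf y = 3 ∧ ¬ Commute x y :=
  have : Fact (Nat.Prime 3) := ⟨Nat.prime_three⟩
  ⟨slS, slT, orderOf_eq_prime (by decide) (by rw [Ne, tp_eq_one]; decide),
    orderOf_eq_prime (by decide) (by rw [Ne, tp_eq_one]; decide),
    fun h => absurd (congrArg tp h.eq) (by decide)⟩

theorem sl25_four : ∃ x y : SL25, orderOf x = 4 ∧ orderOf y = 4 ∧ ¬ Commute x y :=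
  ⟨⟨!![2, 0; 0, 3], by rw [Matrix.det_fin_two_of]; decide⟩,
    ⟨!![0, 1; 4, 0], by rw [Matrix.det_fin_two_of]; decide⟩,
    orderOf_eq_prime_pow (p := 2) (n := 1) (by rw [tp_eq_one]; decide) (by rw [tp_eq_one]; decide),
    orderOf_eq_prime_pow (p := 2) (n := 1) (by rw [tp_eq_one]; decide) (by rw [tp_eq_one]; decide),
    fun h => absurd (congrArg tp h.eq) (by decide)⟩

theorem q8_four : ∃ x y : QuaternionGroup 2, orderOf x = 4 ∧ orderOf y = 4 ∧ ¬ Commute x y :=
  ⟨.xa 0, .xa 1, QuaternionGroup.orderOf_xa _, QuaternionGroup.orderOf_xa _,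
    fun h => absurd h.eq (by decide)⟩

theorem q8_card_aut : Nat.card (MulAut (QuaternionGroup 2)) ∣ 24 := by
  let X := {x : QuaternionGroup 2 × QuaternionGroup 2 // x.1 * x.2 ≠ x.2 * x.1}
  let : MulAction (MulAut (QuaternionGroup 2)) X :=
    { smul := fun φ x => ⟨(φ x.1.1, φ x.1.2), fun h => x.2 (φ.injective (by simpa using h))⟩
      one_smul := fun _ => rfl
      mul_smul := fun _ _ _ => rfl }
  have hX : Nat.card X = 24 := by rw [Nat.card_eq_fintype_card]; decide
  have key : ∀ x y : QuaternionGroup 2, x * y ≠ y * x → ∀ z, z = x ∨ z = x * x ∨ z = x * x * x ∨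
    z = x * x * x * x ∨ z = y ∨ z = x * y ∨ z = x * x * y ∨ z = x * x * x * y := by decide
  rw [← hX]
  refine H4.dvd_card_of_forall_index_stabilizer (G := MulAut (QuaternionGroup 2)) fun x => ?_
  rw [show MulAction.stabilizer (MulAut (QuaternionGroup 2)) x = ⊥ from eq_bot_iff.2 fun φ h => ?_,
    index_bot]
  have h1 : φ x.1.1 = x.1.1 := congrArg (fun t : X => t.1.1) h
  have h2 : φ x.1.2 = x.1.2 := congrArg (fun t : X => t.1.2) h
  refine MulEquiv.ext fun z => ?_
  rcases key _ _ x.2 z with h | h | h | h | h | h | h | h <;> simp [h, h1, h2]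

variable {H : Type*} [Group H] [Finite H]

theorem index_centralizer_dvd {N : Subgroup H} [N.Normal] {Q : Type*} [Group Q] (e : N ≃* Q) :
    (centralizer (N : Set H)).index ∣ Nat.card (MulAut Q) := by
  have : (MulAut.conjNormal : H →* MulAut N).ker = centralizer (N : Set H) := by
    ext g
    rw [MonoidHom.mem_ker, mem_centralizer_iff, MulEquiv.ext_iff]
    simp only [MulAut.one_apply, Subtype.ext_iff, MulAut.conjNormal_apply, Subtype.forall,
      mul_inv_eq_iff_eq_mul, SetLike.mem_coe]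
    exact forall₂_congr fun _ _ => eq_comm
  rw [← this, index_ker, ← Nat.card_congr (MulAut.congr e).toEquiv]
  exact card_subgroup_dvd_card _

theorem Fpf.not_centralizer (h : Fpf H) {N : Subgroup H} {Q : Type*} [Group Q] (e : N ≃* Q) {n : ℕ}
    (hn : ∃ x y : Q, orderOf x = n ∧ orderOf y = n ∧ ¬ Commute x y) {c : H}
    (hc : c ∈ centralizer (N : Set H)) : orderOf c ≠ n := fun hcn => by
  obtain ⟨x, y, hx, hy, hxy⟩ := hn
  have key : ∀ x : Q, orderOf x = n → (e.symm x : H) ∈ zpowers c := fun x hx => by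
    rw [← h.zpowers_eq (hc _ (e.symm x).2) (by
      rw [Subgroup.orderOf_coe, MulEquiv.orderOf_eq, hx, hcn])]
    exact mem_zpowers _
  have : e.symm x * e.symm y = e.symm y * e.symm x :=
    Subtype.ext (setLike_mul_comm (key x hx) (key y hy))
  exact hxy (e.symm.injective (by simpa using this))

theorem Fpf.invol_central (h : Fpf H) {z : H} (hz : z * z = 1) : z ∈ center H := by
  by_cases h1 : z = 1
  · rw [h1]; exact one_mem _
  obtain ⟨n, σ, _, hσ⟩ := h.exists_FA
  exact mem_center_iff.2 fun g => hσ.injective (by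
    rw [map_mul, map_mul, hσ.neg_one hz h1]; ext; simp)

theorem Fpf.minimal_nonabelian (h : Fpf H) {N : Subgroup H} [N.Normal] (hN : ¬ IsMulCommutative N)
    (hmin : ∀ B : Subgroup H, B.Normal → B < N → B ≤ centralizer (N : Set H)) :
    Nonempty (N ≃* QuaternionGroup 2) ∨ Nonempty (N ≃* SL25) := by
  have : Nontrivial N := by
    by_contra hn
    rw [not_nontrivial_iff_subsingleton] at hn
    exact hN ⟨⟨fun a b => Subsingleton.elim _ _⟩⟩
  by_cases hp : commutator N = ⊤
  · exact Or.inr ((h.subgroup N).perfect hp)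
  have key : ∀ B : Subgroup N, B.Characteristic → B ≠ ⊤ → B ≤ center N := fun B _ hB b hb => by
    have := hmin (B.map N.subtype) inferInstance (lt_of_le_of_ne (map_subtype_le B) fun e =>
      hB (map_injective N.subtype_injective (e.trans (by simp [← MonoidHom.range_eq_map])))) ⟨b, hb, rfl⟩
    exact mem_center_iff.2 fun g => Subtype.ext (this g g.2)
  have hc := key _ inferInstance hp
  have hnil : Group.IsNilpotent N := Subgroup.isNilpotent_of_ker_le_center Abelianization.of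
    (by rwa [Abelianization.ker_of])
  left
  by_contra hcon
  refine hN ⟨⟨fun a b => (mem_center_iff.1 (?_ : b ∈ center N) a)⟩⟩
  suffices (center N).index = 1 by rw [index_eq_one.1 this]; exact mem_top b
  by_contra h1
  obtain ⟨p, hp, hd⟩ := Nat.exists_prime_and_dvd h1
  have := Fact.mk hp
  obtain ⟨P⟩ : Nonempty (Sylow p N) := inferInstance
  by_cases hP : (P : Subgroup N) = ⊤
  swap
  · exact P.not_dvd_index (hd.trans (index_dvd_of_le
      (key P (P.characteristic_of_normal inferInstance) hP)))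
  have hpN : IsPGroup p N := (hP ▸ P.isPGroup').of_equiv topEquiv
  rcases (h.subgroup N).cyclic_or_quaternion hpN with h2 | ⟨-, n, hn, ⟨e⟩⟩
  · exact hN inferInstance
  have h3 := congrArg e (mem_center_iff.1 (hc (commutator_mem_commutator
    (mem_top (e.symm (.a 1))) (mem_top (e.symm (.xa 0))))) (e.symm (.xa 0)))
  have hinv : (QuaternionGroup.xa 0 : QuaternionGroup (2 ^ n))⁻¹ = .xa ((2 ^ n : ℕ) + 0) := rfl
  have hinv' : (QuaternionGroup.a 1 : QuaternionGroup (2 ^ n))⁻¹ = .a (-1) := rfl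
  simp only [map_mul, MulEquiv.apply_symm_apply, commutatorElement_def,
    map_inv, hinv, hinv', QuaternionGroup.a_mul_xa, QuaternionGroup.xa_mul_a,
    QuaternionGroup.xa_mul_xa, QuaternionGroup.xa.injEq] at h3
  have h4 : ((2 * 2 ^ n : ℕ) : ZMod (2 * 2 ^ n)) = 0 := ZMod.natCast_self _
  have h5 : ((4 : ℕ) : ZMod (2 * 2 ^ n)) = 0 := by
    push_cast at h3 h4 ⊢
    linear_combination h3 - 2 * h4
  have h6 := Nat.le_of_dvd (by norm_num) ((ZMod.natCast_eq_zero_iff _ _).1 h5)
  obtain rfl : n = 1 := by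
    by_contra hne
    have := Nat.pow_le_pow_right (show 0 < 2 by norm_num) (show 2 ≤ n by omega)
    omega
  exact hcon ⟨e⟩

end H14
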