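import Mathlib
import Cfsg.Agent.H2.CDefs
import Cfsg.Agent.H2.CG2

/-!
# The geometry of type `Sp₄(q)`: paths and octagons
-/

set_option autoImplicit false
set_option linter.unusedVariables false
set_option linter.unusedSectionVars false

namespace H14.G4

open Cfsg H24 H26 H26.Gold Subgroup H2.C2
open scoped commutatorElement

universe u

variable {G : Type u} [Group G] [Finite G]
  {M a a' b b' c d v v0 v1 v2 v3 v4 v5 v6 v7 u1 u2 : Subgroup G}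
  {g k m t x y z : G} {q : ℕ} {w : ℤ → Subgroup G}

/-- same type -/
def Sm (a b : Subgroup G) : Prop := ∃ g, cj g a = b

theorem Sm.refl (a : Subgroup G) : Sm a a := ⟨1, cj_one a⟩
theorem Sm.symm (h : Sm a b) : Sm b a := by
  obtain ⟨g, rfl⟩ := h
  exact ⟨g⁻¹, cj_inv_cj g a⟩
theorem Sm.trans (h : Sm a b) (h' : Sm b c) : Sm a c := by
  obtain ⟨g, rfl⟩ := h
  obtain ⟨k, rfl⟩ := h'
  exact ⟨k * g, cj_mul k g a⟩

theorem sm2 (h : Geo q a b) (h' : Geo q b c) : Sm a c := by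
  obtain ⟨k, -, e⟩ := h.symm.trans h'
  exact ⟨k, e⟩

theorem nsm (h : Geo q a b) : ¬ Sm a b := fun ⟨g, e⟩ => h.not_conj g e

theorem sm_or (h : Geo q a b) (h' : Geo q c d) : Sm a c ∨ Sm b c := by
  obtain ⟨g, e | e⟩ := h.flag h'
  · exact Or.inl ⟨g, e.1⟩
  · exact Or.inr ⟨g, e.2⟩

theorem Rt_ne (h : Geo q a b) (hR : Rt a ≠ ⊥) (h' : Geo q c d) : Rt c ≠ ⊥ := by
  rcases sm_or h h' with ⟨g, rfl⟩ | ⟨g, rfl⟩
  · rwa [← cj_Rt, Ne, cj_eq_bot]
  · rw [← cj_Rt, Ne, cj_eq_bot, ← h.typ_adj]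
    exact hR

theorem Rt_le_left (a : Subgroup G) : Rt a ≤ a := inf_le_left

theorem Rt_le (h : Geo q a b) : Rt a ≤ b := h.Rt_le.trans inf_le_right

/-- root elements fix everything within distance two -/
theorem Rt_fix2 (h : Geo q a b) (h' : Geo q b c) : Rt a ≤ N[c] := (Rt_le h).trans h'.le_norm
theorem Rt_fix1 (h : Geo q a b) : Rt a ≤ N[b] := (Rt_le h).trans (norm_self b)
theorem Rt_fix0 (a : Subgroup G) : Rt a ≤ N[a] := (Rt_le_left a).trans (norm_self a)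

/-- a vertex of the other type fixed by a root element is a neighbour -/
theorem fixR (h : Geo q c d) (hz : z ∈ Rt c) (h1 : z ≠ 1) (hv : Geo q v a) (hn : z ∈ N[v])
    (hs : ¬ Sm c v) : Geo q c v := by
  rcases hv.inv_fix (h.ea.sq (Rt_le_left c hz)) hn with e | ⟨b, hb, e⟩
  · exact (h.memR hz h1 hv e).resolve_left fun e => hs (e ▸ Sm.refl _)
  · rcases h.memR hz h1 hb.symm e with rfl | e
    · exact hb.symm
    · exact absurd (sm2 e hb.symm) hs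

theorem fix0 (h : Geo q c d) (hz : z ∈ c ⊓ d) (h1 : z ∉ Rt c) (h2 : z ∉ Rt d) (hv : Geo q v a)
    (hn : z ∈ N[v]) : Geo q c v ∨ Geo q d v := by
  rcases hv.inv_fix (h.ea.sq hz.1) hn with e | ⟨b, hb, e⟩
  · rcases h.mem0 hz h1 h2 hv e with rfl | rfl
    · exact Or.inr h.symm
    · exact Or.inl h
  · rcases h.mem0 hz h1 h2 hb.symm e with rfl | rfl
    · exact Or.inl hb.symm
    · exact Or.inr hb.symm

/-- the ends of a path of length four have no common neighbour -/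
theorem path4 (hR : Rt v0 ≠ ⊥) (h01 : Geo q v0 v1) (h12 : Geo q v1 v2) (h23 : Geo q v2 v3)
    (h34 : Geo q v3 v4) (n02 : v0 ≠ v2) (n13 : v1 ≠ v3) (n24 : v2 ≠ v4)
    (h0 : Geo q c v0) (h4 : Geo q c v4) : False := by
  obtain ⟨z, hz, z1⟩ := exists_ne_one hR
  have e := (h23.nb (Rt_fix2 h01 h12 hz)).symm.digon (h34.symm.nb (Rt_fix2 h0.symm h4 hz)).symm
    h23.symm h34 n24
  have h03 := fixR h01 hz z1 h34 (mem_N_iff_cj.2 e)
    fun hs => nsm h23 ((sm2 h01 h12).symm.trans hs)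
  exact n02 (h01.digon h03 h12.symm h23 n13)

/-- paths of length three are determined by their ends -/
theorem path3 (hR : Rt v0 ≠ ⊥) (h01 : Geo q v0 v1) (h12 : Geo q v1 v2) (h23 : Geo q v2 v3)
    (n02 : v0 ≠ v2) (n13 : v1 ≠ v3) (k01 : Geo q v0 u1) (k12 : Geo q u1 u2) (k23 : Geo q u2 v3) :
    u1 = v1 ∧ u2 = v2 := by
  have e : u1 = v1 := by
    by_contra hne
    exact path4 (Rt_ne h01 hR k12) k01.symm h01 h12 h23 hne n02 n13 k12.symm k23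
  subst e
  exact ⟨rfl, k12.symm.digon k23 h12.symm h23 n13⟩

/-- an element mapping the ends of a path of length three to those of another one -/
theorem map3 (hR : Rt v0 ≠ ⊥) (h01 : Geo q v0 v1) (h12 : Geo q v1 v2) (h23 : Geo q v2 v3)
    (n02 : v0 ≠ v2) (n13 : v1 ≠ v3) (k01 : Geo q a u1) (k12 : Geo q u1 u2) (k23 : Geo q u2 b)
    (e0 : cj g a = v0) (e3 : cj g b = v3) : cj g u1 = v1 ∧ cj g u2 = v2 :=
  path3 hR h01 h12 h23 n02 n13 (e0 ▸ k01.conj g) (k12.conj g) (e3 ▸ k23.conj g)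

theorem common (hR : Rt v0 ≠ ⊥) (h01 : Geo q v0 v1) (h45 : Geo q v4 v5) (hs : Sm v0 v4)
    (ht : t * t = 1) (t1 : t ≠ 1) (f0 : t ∈ N[v0]) (f1 : t ∈ N[v1]) (f4 : t ∈ N[v4])
    (f5 : t ∈ N[v5]) : (∃ c, Geo q c v0 ∧ Geo q c v4) ∨ ∃ c, Geo q c v1 ∧ Geo q c v5 := by
  have hs' : Sm v1 v5 := ((sm_or h01 h45.symm).resolve_left
    fun e => nsm h45 (hs.symm.trans e))
  have key : ∀ {c d : Subgroup G}, Geo q c d → t ∈ Rt c →
      (∃ c, Geo q c v0 ∧ Geo q c v4) ∨ ∃ c, Geo q c v1 ∧ Geo q c v5 := fun {c d} h hc => by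
    rcases sm_or h01 h with e | e
    · exact Or.inr ⟨c, fixR h hc t1 h01.symm f1 fun e' => nsm h01 (e.trans e'),
        fixR h hc t1 h45.symm f5 fun e' => nsm h45 (hs.symm.trans (e.trans e'))⟩
    · exact Or.inl ⟨c, fixR h hc t1 h01 f0 fun e' => nsm h01.symm (e.trans e'),
        fixR h hc t1 h45 f4 fun e' => nsm h45.symm (hs'.symm.trans (e.trans e'))⟩
  obtain ⟨c, d, h, hcd⟩ := h01.exists_edge ht
  by_cases h1 : t ∈ Rt c
  · exact key h h1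
  by_cases h2 : t ∈ Rt d
  · exact key h.symm h2
  rcases fix0 h hcd h1 h2 h01 f0 with e | e <;> rcases fix0 h hcd h1 h2 h45 f4 with e' | e'
  · exact Or.inl ⟨c, e, e'⟩
  · exact absurd ((sm2 h.symm e).trans hs) (nsm e')
  · exact absurd ((sm2 h e).trans hs) (nsm e')
  · exact Or.inl ⟨d, e, e'⟩

theorem mk8 (h01 : Geo q v0 v1) (h12 : Geo q v1 v2) (h23 : Geo q v2 v3) (h34 : Geo q v3 v4)
    (h45 : Geo q v4 v5) (h56 : Geo q v5 v6) (h67 : Geo q v6 v7) (h70 : Geo q v7 v0)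
    (n0 : v2 ≠ v0) (n1 : v3 ≠ v1) (n2 : v4 ≠ v2) (n3 : v5 ≠ v3) (n4 : v6 ≠ v4) (n5 : v7 ≠ v5)
    (n6 : v0 ≠ v6) (n7 : v1 ≠ v7) : ∃ w, Pg 8 q w ∧ w 0 = v0 ∧ w 1 = v1 := by
  let f : ℤ → Subgroup G := fun j => if j = 0 then v0 else if j = 1 then v1 else if j = 2 then v2
    else if j = 3 then v3 else if j = 4 then v4 else if j = 5 then v5 else if j = 6 then v6 else v7
  refine ⟨fun i => f (i % 8), ⟨fun i => by simp, fun i => ?_, fun i => ?_⟩, by simp [f], by simp [f]⟩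
  · have : i % 8 = 0 ∨ i % 8 = 1 ∨ i % 8 = 2 ∨ i % 8 = 3 ∨ i % 8 = 4 ∨ i % 8 = 5 ∨ i % 8 = 6 ∨
      i % 8 = 7 := by omega
    have e : (i + 1) % 8 = (i % 8 + 1) % 8 := by omega
    simp only [e]
    rcases this with h | h | h | h | h | h | h | h <;> rw [h] <;> norm_num [f] <;> assumption
  · have : i % 8 = 0 ∨ i % 8 = 1 ∨ i % 8 = 2 ∨ i % 8 = 3 ∨ i % 8 = 4 ∨ i % 8 = 5 ∨ i % 8 = 6 ∨
      i % 8 = 7 := by omega
    have e : (i + 2) % 8 = (i % 8 + 2) % 8 := by omega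
    simp only [e]
    rcases this with h | h | h | h | h | h | h | h <;> rw [h] <;> norm_num [f] <;> assumption

theorem exists_oct (h : Geo q a b) (hR : Rt a ≠ ⊥) : ∃ w, Pg 8 q w ∧ w 0 = a ∧ w 1 = b := by
  obtain ⟨v2, h12, n0⟩ := h.symm.exists_nb
  obtain ⟨v3, h23, n1⟩ := h12.symm.exists_nb
  obtain ⟨v4, h34, n2⟩ := h23.symm.exists_nb
  obtain ⟨v5, h45, n3⟩ := h34.symm.exists_nb
  have hs : Sm a v4 := (sm2 h h12).trans (sm2 h23 h34)
  have hf : (a ⊔ b) ⊓ (v4 ⊔ v5) = ⊥ := by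
    by_contra hne
    obtain ⟨t, ht, t1, t2⟩ := TwoG.exists_inv (h.am.h.two.inf_left (v4 ⊔ v5)) hne
    rcases common hR h h45 hs t2 t1 (h.am.h.normW ht.1) (h.am.h.normX ht.1) (h45.am.h.normW ht.2)
      (h45.am.h.normX ht.2) with ⟨c, c1, c2⟩ | ⟨c, c1, c2⟩
    · exact path4 hR h h12 h23 h34 n0.symm n1.symm n2.symm c1 c2
    · exact path4 (Rt_ne h hR h12) h12 h23 h34 h45 n1.symm n2.symm n3.symm c1 c2
  obtain ⟨z, hz, -, -, -, z1, z2, -⟩ := h.exists_gen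
  obtain ⟨z', hz', -, -, -, z1', z2', -⟩ := h45.exists_gen
  obtain ⟨t, ht, -, e0, e1⟩ := h.far h45 hs hf hz z1 z2 hz' z1' z2'
  have e4 : cj t v4 = a := by rw [← e0, ← cj_mul, ht, cj_one]
  have e5 : cj t v5 = b := by rw [← e1, ← cj_mul, ht, cj_one]
  refine mk8 (v6 := cj t v2) (v7 := cj t v3) h h12 h23 h34 h45 (e1 ▸ h12.conj t) (h23.conj t)
    (e4 ▸ h34.conj t) n0 n1 n2 n3 ?_ ?_ ?_ ?_
  · rw [← e0, Ne, cj_inj]; exact n0
  · rw [← e1, Ne, cj_inj]; exact n1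
  · rw [← e4, Ne, cj_inj]; exact n2
  · rw [← e5, Ne, cj_inj]; exact n3

end H14.G4
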