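import Mathlib
import Cfsg.Agent.H2.CDefs
import Cfsg.Agent.H2.CG2
import Cfsg.Agent.H14.G4a

/-!
# The geometry of type `Sp₄(q)`: the root groups of an octagon
-/

set_option autoImplicit false
set_option linter.unusedVariables false
set_option linter.unusedSectionVars false

namespace H14.G4

open Cfsg H24 H26 H26.Gold Subgroup H2.C2
open scoped commutatorElement

universe u

variable {G : Type u} [Group G] [Finite G]
  {M a a' b b' c d v v0 v1 v2 v3 v4 v5 v6 v7 u1 u2 : Subgroup G}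
  {g k m t x y z : G} {q : ℕ} {w : ℤ → Subgroup G} {n : ℤ}

theorem shift (h : Pg n q w) (i : ℤ) : Pg n q fun j => w (j + i) :=
  ⟨fun j => by rw [show j + n + i = j + i + n by ring, h.per],
    fun j => by rw [show j + 1 + i = j + i + 1 by ring]; exact h.adj _,
    fun j => by rw [show j + 2 + i = j + i + 2 by ring]; exact h.nb _⟩

theorem adj' (h : Pg n q w) (i j : ℤ) (e : j = i + 1 := by omega) : Geo q (w i) (w j) :=
  e ▸ h.adj i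

theorem nb' (h : Pg n q w) (i j : ℤ) (e : j = i + 2 := by omega) : w i ≠ w j :=
  e ▸ (h.nb i).symm

theorem per' (h : Pg 8 q w) (i j : ℤ) (e : i % 8 = j % 8 := by omega) : w i = w j := by
  have key : ∀ k : ℤ, ∀ i, w (i + 8 * k) = w i := fun k => by
    induction k using Int.induction_on with
    | zero => simp
    | succ k ih => intro i; rw [show i + 8 * ((k : ℤ) + 1) = i + 8 * k + 8 by ring, h.per, ih]
    | pred k ih =>
      intro i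
      rw [← h.per, show i + 8 * (-(k : ℤ) - 1) + 8 = i + 8 * -k by ring, ih]
  rw [← key (-(i / 8)) i, ← key (-(j / 8)) j]
  congr 1
  omega

theorem Rne (h : Pg n q w) (hR : Rt (w 0) ≠ ⊥) (i : ℤ) : Rt (w i) ≠ ⊥ :=
  Rt_ne (h.adj 0) hR (h.adj i)

theorem cases8 {P : ℤ → Prop} (hP : ∀ i j, i % 8 = j % 8 → P i → P j) (h0 : P 0) (h1 : P 1)
    (h2 : P 2) (h3 : P 3) (h4 : P 4) (h5 : P 5) (h6 : P 6) (h7 : P 7) (j : ℤ) : P j := by
  have : j % 8 = 0 ∨ j % 8 = 1 ∨ j % 8 = 2 ∨ j % 8 = 3 ∨ j % 8 = 4 ∨ j % 8 = 5 ∨ j % 8 = 6 ∨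
    j % 8 = 7 := by omega
  rcases this with h | h | h | h | h | h | h | h
  exacts [hP 0 j (by omega) h0, hP 1 j (by omega) h1, hP 2 j (by omega) h2, hP 3 j (by omega) h3,
    hP 4 j (by omega) h4, hP 5 j (by omega) h5, hP 6 j (by omega) h6, hP 7 j (by omega) h7]

/-- a vertex is generated by an edge group and the opposite root group -/
theorem le_sup (hR : Rt a ≠ ⊥) (h : Geo q a b) (h' : Geo q b c) (hne : a ≠ c) :
    b ≤ Rt c ⊔ (a ⊓ b) := by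
  have h1 := h.symm.sup_eq h' hne
  have h2 := (h'.card_Rt (Rt_ne h hR h')).2
  refine h1.ge.trans (sup_le (le_sup_right.trans' fun x hx => ⟨hx.2, hx.1⟩) (h2.ge.trans
    (sup_le (le_sup_right.trans' fun x hx => ⟨Rt_le h.symm hx, Rt_le_left b hx⟩) le_sup_left)))

/-- the root group at distance two is transitive on the other neighbours -/
theorem reg (hR : Rt a ≠ ⊥) (h : Geo q a b) (h' : Geo q b c) (hne : a ≠ c) (h1 : Geo q a u1)
    (h2 : Geo q a u2) (n1 : u1 ≠ b) (n2 : u2 ≠ b) : ∃ x ∈ Rt c, cj x u1 = u2 :=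
  h.reg h1 h2 n1 n2 (le_sup hR h h' hne) (Rt_le h'.symm)

theorem Rt_inf (h : Geo q a b) (hx : x ∈ Rt a) (hx' : x ∈ Rt b) : x = 1 :=
  mem_bot.1 (h.am.RR.le ⟨hx, hx'⟩)

/-- a root element lying in a vertex at distance two is trivial -/
theorem Rt_two (h : Geo q a b) (h' : Geo q b c) (hne : a ≠ c) (hx : x ∈ Rt a) (hc : x ∈ c) :
    x = 1 :=
  Rt_inf h hx ((h.symm.inf_eq h' hne).le ⟨Rt_le_left a hx, hc⟩)

theorem mem_Y (hR : Rt a ≠ ⊥) (h : Geo q a b) (hx : x ∈ a ⊓ b) :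
    ∃ y ∈ Rt a, ∃ z ∈ Rt b, x = y * z :=
  (mem_sup_of_norm (h.ea.abl.norm (Rt_le h.symm) (Rt_le_left a))).1 ((h.card_Rt hR).2.ge hx)

theorem vert_le (h : Pg 8 q w) (hR : Rt (w 0) ≠ ⊥) (hM : ∀ i, Rt (w i) ≤ M) (i : ℤ) :
    w i ≤ M := by
  have h1 := adj' h (i - 1) i
  refine (le_sup (Rne h hR _) h1 (h.adj i) (nb' h _ _)).trans (sup_le (hM _) ?_)
  exact (h1.card_Rt (Rne h hR _)).2.ge.trans (sup_le (hM _) (hM _))

theorem refl_of (h : Pg 8 q w) (hR : Rt (w 0) ≠ ⊥) (e1 : cj m (w 1) = w 3) (e3 : cj m (w 3) = w 1)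
    (e2 : cj m (w 2) = w 2) (e6 : cj m (w 6) = w 6) (j : ℤ) : cj m (w j) = w (4 - j) := by
  have a1 := map3 (Rne h hR 1) (adj' h 0 1).symm (adj' h (-1) 0).symm (adj' h (-2) (-1)).symm
    (nb' h (-1) 1).symm (nb' h (-2) 0).symm (adj' h 3 4) (adj' h 4 5) (adj' h 5 6) e3
    (e6.trans (per' h 6 (-2)))
  have a2 := map3 (Rne h hR 3) (adj' h 3 4) (adj' h 4 5) (adj' h 5 6) (nb' h 3 5) (nb' h 4 6)
    (adj' h 0 1).symm (adj' h (-1) 0).symm (adj' h (-2) (-1)).symm e1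
    (by rw [per' h (-2) 6, e6])
  refine cases8 (P := fun j => cj m (w j) = w (4 - j)) (fun i j e hi => ?_) a2.1 e1 e2 e3 a1.1 a1.2
    ?_ ?_ j
  · rw [← per' h i j e, hi, per' h (4 - i) (4 - j)]
  · exact e6.trans (per' h _ _)
  · show cj m (w 7) = w (4 - 7)
    rw [per' h 7 (-1), a2.2, per' h 5 (4 - 7)]

theorem fix_of (h : Pg 8 q w) (hR : Rt (w 0) ≠ ⊥) (e0 : k ∈ N[w 0]) (e3 : k ∈ N[w 3])
    (e6 : k ∈ N[w 6]) (e7 : k ∈ N[w 7]) (j : ℤ) : cj k (w j) = w j := by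
  rw [mem_N_iff_cj] at e0 e3 e6 e7
  have a1 := map3 (Rne h hR 0) (adj' h 0 1) (adj' h 1 2) (adj' h 2 3) (nb' h 0 2) (nb' h 1 3)
    (adj' h 0 1) (adj' h 1 2) (adj' h 2 3) e0 e3
  have a2 := map3 (Rne h hR 3) (adj' h 3 4) (adj' h 4 5) (adj' h 5 6) (nb' h 3 5) (nb' h 4 6)
    (adj' h 3 4) (adj' h 4 5) (adj' h 5 6) e3 e6
  exact cases8 (P := fun j => cj k (w j) = w j) (fun i j e hi => by rw [← per' h i j e, hi])
    e0 a1.1 a1.2 e3 a2.1 a2.2 e6 e7 j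

theorem mu0 (h : Pg 8 q w) (hR : Rt (w 0) ≠ ⊥) (hx : x ∈ Rt (w 0)) (h1 : x ≠ 1) :
    ∃ κ ∈ Rt (w 4), ∃ l ∈ Rt (w 4), ∀ j, cj (κ * x * l) (w j) = w (4 - j) := by
  have h01 := adj' h 0 1
  have h12 := adj' h 1 2
  have h23 := adj' h 2 3
  have h34 := adj' h 3 4
  have x2 : x ∈ N[w 2] := Rt_fix2 h01 h12 hx
  have x3 : x ∉ N[w 3] := fun e => h1 (Rt_two h01 h12 (nb' h 0 2) hx
    (h12.symm.free h23 (nb' h 1 3).symm (mem_sup_right (Rt_le h01 hx)) e))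
  obtain ⟨l, hl, el⟩ := reg (Rne h hR 2) h23 h34 (nb' h 2 4) h12.symm (h23.nb (inv_mem x2))
    (nb' h 1 3) fun e => x3 (by simpa using inv_mem (mem_N_iff_cj.2 e))
  obtain ⟨κ, hκ, eκ⟩ := reg (Rne h hR 2) h23 h34 (nb' h 2 4) (h23.nb x2) h12.symm
    (fun e => x3 (mem_N_iff_cj.2 e)) (nb' h 1 3)
  have f3 : Rt (w 4) ≤ N[w 3] := Rt_fix1 h34.symm
  have f2 : Rt (w 4) ≤ N[w 2] := Rt_fix2 h34.symm h23.symm
  have f6 : Rt (w 4) ≤ N[w 6] := Rt_fix2 (adj' h 4 5) (adj' h 5 6)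
  have x6 : x ∈ N[w 6] := by
    rw [per' h 6 (-2)]
    exact Rt_fix2 (adj' h (-1) 0).symm (adj' h (-2) (-1)).symm hx
  refine ⟨κ, hκ, l, hl, refl_of h hR ?_ ?_ ?_ ?_⟩
  · rw [cj_mul, cj_mul, el, cj_cj_inv, cj_of_mem_N (f3 hκ)]
  · rw [cj_mul, cj_mul, cj_of_mem_N (f3 hl), eκ]
  · exact cj_of_mem_N (mul_mem (mul_mem (f2 hκ) x2) (f2 hl))
  · exact cj_of_mem_N (mul_mem (mul_mem (f6 hκ) x6) (f6 hl))

theorem mu (h : Pg 8 q w) (hR : Rt (w 0) ≠ ⊥) (i : ℤ) (hx : x ∈ Rt (w i)) (h1 : x ≠ 1) :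
    ∃ m, H20.TB.Mu 4 (fun i => Rt (w i)) i x m := by
  obtain ⟨κ, hκ, l, hl, e⟩ := mu0 (shift h i) (Rne h hR _) (by simpa using hx) h1
  refine ⟨κ * x * l, ⟨κ, by rwa [add_comm], l, by rwa [add_comm], rfl⟩, fun j g => ?_⟩
  have e1 := e (j - i)
  simp only [sub_add_cancel] at e1
  rw [show 4 - (j - i) + i = 2 * i + 4 - j by ring] at e1
  show g ∈ Rt (w j) ↔ _ ∈ Rt (w (2 * i + 4 - j))
  rw [← e1, ← cj_Rt, conj_mem_cj_iff]

theorem norm_le (h : Pg 8 q w) (hR : Rt (w 0) ≠ ⊥) (hM : ∀ i, Rt (w i) ≤ M) (hg : g ∈ N[w 1]) :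
    ∃ m ∈ M, ∀ j, cj (m * g) (w j) = w j := by
  have h01 := adj' h 0 1
  have h12 := adj' h 1 2
  have h23 := adj' h 2 3
  have h34 := adj' h 3 4
  have h45 := adj' h 4 5
  have V := vert_le h hR hM
  have r0 : ∀ {u1 u2}, Geo q (w 1) u1 → Geo q (w 1) u2 → u1 ≠ w 0 → u2 ≠ w 0 →
      ∃ x ∈ w 0, cj x u1 = u2 := fun a b c d => h01.symm.reg a b c d le_sup_left le_rfl
  have r2 : ∀ {u1 u2}, Geo q (w 1) u1 → Geo q (w 1) u2 → u1 ≠ w 2 → u2 ≠ w 2 →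
      ∃ x ∈ w 2, cj x u1 = u2 := fun a b c d => h12.reg a b c d le_sup_left le_rfl
  have s1 : ∃ m ∈ M, m * g ∈ N[w 1] ∧ m * g ∈ N[w 2] := by
    by_cases e : cj g (w 2) = w 0
    · obtain ⟨c, hc, c0, c2, -⟩ := h01.symm.other (w 2) (w 2)
      obtain ⟨x, hx, ex⟩ := r2 h01.symm hc (nb' h 0 2) c2
      obtain ⟨y, hy, ey⟩ := r0 hc h12 c0 (nb' h 0 2).symm
      refine ⟨y * x, mul_mem (V 0 hy) (V 2 hx), mul_mem (mul_mem (h01.le_norm hy)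
        (h12.symm.le_norm hx)) hg, mem_N_iff_cj.2 ?_⟩
      rw [cj_mul, cj_mul, e, ex, ey]
    · obtain ⟨y, hy, ey⟩ := r0 (h12.nb hg) h12 e (nb' h 0 2).symm
      exact ⟨y, V 0 hy, mul_mem (h01.le_norm hy) hg, mem_N_iff_cj.2 (by rw [cj_mul, ey])⟩
  obtain ⟨m1, hm1, g1, g2⟩ := s1
  have nf : ∀ {k : G} {a b : Subgroup G}, k ∈ N[b] → a ≠ b → cj k a ≠ b := fun hk hne e =>
    hne (cj_inj.1 (e.trans (cj_of_mem_N hk).symm))
  obtain ⟨m2, hm2, e2⟩ := r2 (h01.symm.nb g1) h01.symm (nf g2 (nb' h 0 2)) (nb' h 0 2)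
  have i0 : m2 * (m1 * g) ∈ N[w 0] := mem_N_iff_cj.2 (by rw [cj_mul, e2])
  have i1 : m2 * (m1 * g) ∈ N[w 1] := mul_mem (h12.symm.le_norm hm2) g1
  have i2 : m2 * (m1 * g) ∈ N[w 2] := mul_mem (norm_self _ hm2) g2
  obtain ⟨m3, hm3, e3⟩ := reg (Rne h hR 2) h12.symm h01.symm (nb' h 0 2).symm (h23.nb i2) h23
    (nf i1 (nb' h 1 3).symm) (nb' h 1 3).symm
  have j0 := mul_mem (Rt_fix0 _ hm3) i0
  have j2 := mul_mem (Rt_fix2 h01 h12 hm3) i2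
  have j3 : m3 * (m2 * (m1 * g)) ∈ N[w 3] := mem_N_iff_cj.2 (by rw [cj_mul, e3])
  obtain ⟨m4, hm4, e4⟩ := reg (Rne h hR 3) h23.symm h12.symm (nb' h 1 3).symm (h34.nb j3) h34
    (nf j2 (nb' h 2 4).symm) (nb' h 2 4).symm
  have k0 := mul_mem (Rt_fix1 h01.symm hm4) j0
  have k3 := mul_mem (Rt_fix2 h12 h23 hm4) j3
  have k4 : m4 * (m3 * (m2 * (m1 * g))) ∈ N[w 4] := mem_N_iff_cj.2 (by rw [cj_mul, e4])
  obtain ⟨m5, hm5, e5⟩ := reg (Rne h hR 4) h34.symm h23.symm (nb' h 2 4).symm (h45.nb k4) h45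
    (nf k3 (nb' h 3 5).symm) (nb' h 3 5).symm
  have l0 := mul_mem (Rt_fix2 h12.symm h01.symm hm5) k0
  have l3 := mul_mem (Rt_fix1 h23 hm5) k3
  have l5 : cj (m5 * (m4 * (m3 * (m2 * (m1 * g))))) (w 5) = w 5 := by rw [cj_mul, e5]
  have a1 := map3 (Rne h hR 5) (adj' h 5 6) (adj' h 6 7) (adj' h 7 8) (nb' h 5 7) (nb' h 6 8)
    (adj' h 5 6) (adj' h 6 7) (adj' h 7 8) l5 (by rw [per' h 8 0]; exact cj_of_mem_N l0)
  refine ⟨m5 * m4 * m3 * m2 * m1, mul_mem (mul_mem (mul_mem (mul_mem (hM _ hm5) (hM _ hm4))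
    (hM _ hm3)) (V 2 hm2)) hm1, fun j => ?_⟩
  simp only [mul_assoc]
  exact fix_of h hR l0 l3 (mem_N_iff_cj.2 a1.1) (mem_N_iff_cj.2 a1.2) j

theorem gen [IsSimpleGroup G] (h : Pg 8 q w) (hR : Rt (w 0) ≠ ⊥) : (⨆ i, Rt (w i)) = ⊤ := by
  have key : ∀ m g : G, m ∈ (⨆ i, Rt (w i)) → (∀ j, cj (m * g) (w j) = w j) →
      g ∈ N[⨆ i, Rt (w i)] := fun m g hm e => by
    have h1 : zpowers (m * g) ≤ N[⨆ i, Rt (w i)] := norm_iSup fun i =>
      zpowers_le.2 (mem_N_iff_cj.2 (by rw [cj_Rt, e]))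
    exact (mul_mem_cancel_left (norm_self _ hm)).1 (h1 (mem_zpowers _))
  have h1 : N[w 1] ≤ N[⨆ i, Rt (w i)] := fun g hg => by
    obtain ⟨m, hm, e⟩ := norm_le h hR (le_iSup fun i => Rt (w i)) hg
    exact key m g hm e
  have h2 : N[w 2] ≤ N[⨆ i, Rt (w i)] := fun g hg => by
    obtain ⟨m, hm, e⟩ := norm_le (shift h 1) (Rne h hR _)
      (fun i => le_iSup (fun i => Rt (w i)) (i + 1)) hg
    exact key m g hm fun j => by simpa using e (j - 1)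
  have h3 : (⨆ i, Rt (w i)).Normal := normalizer_eq_top_iff.1
    (top_le_iff.1 ((adj' h 1 2).gen.ge.trans (sup_le h1 h2)))
  refine (h3.eq_bot_or_eq_top).resolve_left fun e => hR ?_
  exact le_bot_iff.1 (e ▸ le_iSup (fun i => Rt (w i)) 0)

theorem ab (h : Pg 8 q w) (i : ℤ) (hx : x ∈ Rt (w i)) (hy : y ∈ Rt (w (i + 2))) :
    x * y = y * x :=
  (h.adj i).ea'.comm (Rt_le (h.adj i) hx) (Rt_le (adj' h (i + 1) (i + 2)).symm hy)

/-- the root groups of an octagon -/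
def oct (h : Pg 8 q w) (hR : Rt (w 0) ≠ ⊥) : H20.TB.Oct G where
  U i := Rt (w i)
  per i := by rw [h.per]
  fin i := inferInstance
  c1 i x hx y hy := (h.adj i).ea'.comm (Rt_le (h.adj i) hx) (Rt_le_left _ hy)
  c2 i x hx y hy := by
    rw [commutatorElement_eq_one_iff_mul_comm.2 (ab h i hx hy)]
    exact one_mem _
  c3 i x hx y hy := by
    have h1 := adj' h (i + 1) (i + 2)
    exact mem_Y (Rne h hR _) h1 (h1.am.h.comm.le (commutator_mem_commutator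
      (Rt_le (h.adj i) hx) (Rt_le (adj' h (i + 2) (i + 3)).symm hy)))
  ind i a ha b hb c hc d hd e := by
    have h01 := h.adj i
    have h12 := adj' h (i + 1) (i + 2)
    have h23 := adj' h (i + 2) (i + 3)
    have ea : a = 1 := Rt_two h01 h12 (nb' h _ _) ha (by
      rw [show a = (b * c * d)⁻¹ from eq_inv_of_mul_eq_one_left (by rw [← e]; group)]
      exact inv_mem (mul_mem (mul_mem (Rt_le h12 hb) (Rt_le_left _ hc)) (Rt_le h23.symm hd)))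
    rw [ea, one_mul] at e
    have eb : b = 1 := Rt_two h12 h23 (nb' h _ _) hb (by
      rw [show b = (c * d)⁻¹ from eq_inv_of_mul_eq_one_left (by rw [← e]; group)]
      exact inv_mem (mul_mem (Rt_le h23 hc) (Rt_le_left _ hd)))
    rw [eb, one_mul] at e
    have ec : c = 1 := Rt_inf h23 hc (by
      rw [eq_inv_of_mul_eq_one_left e]
      exact inv_mem hd)
    rw [ec, one_mul] at e
    exact ⟨ea, eb, ec, e⟩
  mu i x hx h1 := mu h hR i hx h1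
  ne i := Rne h hR i

end H14.G4
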