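import Mathlib
import Cfsg.Agent.H2.CDefs
import Cfsg.Agent.H2.CG2
import Cfsg.Agent.H2.CHC
import Cfsg.Agent.H14.G4b

/-!
# The geometry of type `Sp₄(q)`: coordinates of an octagon
-/

set_option autoImplicit false
set_option linter.unusedVariables false
set_option linter.unusedSectionVars false

namespace H14.G4

open Cfsg H24 H26 H26.Gold Subgroup H2.C2
open scoped commutatorElement

universe u

variable {G : Type u} [Group G] [Finite G]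
  {W X X' R : Subgroup G} {g k m x y z v : G} {q : ℕ} {w : ℤ → Subgroup G}
  {F : Type} [Field F] {θ : G → F × F} {α β : G → F}

section Crd

variable (c : Crd W X X' R F θ α β)
include c

theorem th_one : θ 1 = 0 := (c.ker 1 (one_mem _)).2 (one_mem _)

theorem th_comm (hW : X ≤ N[W]) (hx : x ∈ X) (hv : v ∈ W) :
    θ ⁅x, v⁆ = (α x * (θ v).2, 0) := by
  have h1 : x * v * x⁻¹ ∈ W := (mem_normalizer_iff.1 (hW hx) v).1 hv
  have h2 := c.add _ (mul_mem h1 (inv_mem hv)) _ hv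
  rw [inv_mul_cancel_right, c.act x hx v hv] at h2
  rw [commutatorElement_def]
  ext
  · have := congrArg Prod.fst h2
    simp only [Prod.fst_add] at this ⊢
    linear_combination -this
  · have := congrArg Prod.snd h2
    simp only [Prod.snd_add] at this ⊢
    linear_combination -this

theorem th_comm' (hW : X' ≤ N[W]) (hx : x ∈ X') (hv : v ∈ W) :
    θ ⁅x, v⁆ = (0, β x * (θ v).1) := by
  have h1 : x * v * x⁻¹ ∈ W := (mem_normalizer_iff.1 (hW hx) v).1 hv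
  have h2 := c.add _ (mul_mem h1 (inv_mem hv)) _ hv
  rw [inv_mul_cancel_right, c.act' x hx v hv] at h2
  rw [commutatorElement_def]
  ext
  · have := congrArg Prod.fst h2
    simp only [Prod.fst_add] at this ⊢
    linear_combination -this
  · have := congrArg Prod.snd h2
    simp only [Prod.snd_add] at this ⊢
    linear_combination -this

theorem al_mul (hW : X ≤ N[W]) (hx : x ∈ X) (hy : y ∈ X) : α (x * y) = α x + α y := by
  obtain ⟨v, hv, e⟩ := c.surj (0, 1)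
  have h1 : y * v * y⁻¹ ∈ W := (mem_normalizer_iff.1 (hW hy) v).1 hv
  have h2 := c.act _ (mul_mem hx hy) v hv
  rw [show x * y * v * (x * y)⁻¹ = x * (y * v * y⁻¹) * x⁻¹ by group, c.act x hx _ h1,
    c.act y hy v hv, e] at h2
  have := congrArg Prod.fst h2
  simp only at this
  linear_combination -this

theorem al_zero (hx : x ∈ X) (h : ∀ v ∈ W, x * v = v * x) : α x = 0 := by
  obtain ⟨v, hv, e⟩ := c.surj (0, 1)
  have h2 := c.act _ hx v hv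
  rw [h v hv, mul_inv_cancel_right, e] at h2
  simpa using (congrArg Prod.fst h2).symm

theorem snd_zero (hv : v ∈ W) (h : ∀ x ∈ X, x * v = v * x) : (θ v).2 = 0 := by
  obtain ⟨x, hx, e⟩ := c.sα 1
  have h2 := c.act _ hx v hv
  rw [h x hx, mul_inv_cancel_right, e] at h2
  simpa using congrArg Prod.fst h2

theorem fst_zero (hv : v ∈ W) (h : ∀ x ∈ X', x * v = v * x) : (θ v).1 = 0 := by
  obtain ⟨x, hx, e⟩ := c.sβ 1
  have h2 := c.act' _ hx v hv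
  rw [h x hx, mul_inv_cancel_right, e] at h2
  simpa using congrArg Prod.snd h2

end Crd

theorem nd' {a b : Subgroup G} (h : Geo q a b) (hv : v ∈ a) (hx : x ∈ b) (e : ⁅x, v⁆ ∈ Rt a) :
    v ∈ b ∨ x ∈ a :=
  h.am.h.nd v hv x hx (by rw [← commutatorElement_inv]; exact inv_mem e)

section Oct

variable (h : Pg 8 q w) (hR : Rt (w 0) ≠ ⊥) (c : Crd (w 2) (w 1) (w 3) (Rt (w 2)) F θ α β)
include h hR c

theorem al_inj (hx : x ∈ Rt (w 0)) (e : α x = 0) : x = 1 := by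
  have h12 := adj' h 1 2
  obtain ⟨v, hv, hv1⟩ := SetLike.not_le_iff_exists.1 h12.symm.am.h.not_le
  have h1 := Rt_le (adj' h 0 1) hx
  refine Rt_two (adj' h 0 1) h12 (nb' h 0 2) hx ((nd' h12.symm hv h1 ?_).resolve_left hv1)
  rw [← c.ker _ (comm_le_right h12.le_norm (commutator_mem_commutator h1 hv)),
    th_comm c h12.le_norm h1 hv, e, zero_mul]
  rfl

theorem al_surj (t : F) : ∃ x ∈ Rt (w 0), α x = t := by
  have h12 := adj' h 1 2
  obtain ⟨x, hx, e⟩ := c.sα t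
  obtain ⟨u, hu, y, hy, rfl⟩ := (mem_sup_of_norm (h12.ea.abl.norm inf_le_right
    (Rt_le (adj' h 0 1)))).1 (le_sup (Rne h hR 2) h12.symm (adj' h 0 1).symm (nb' h 0 2).symm hx)
  refine ⟨u, hu, ?_⟩
  rw [← e, al_mul c h12.le_norm (Rt_le (adj' h 0 1) hu) hy.2,
    al_zero c hy.2 fun v hv => h12.ea'.comm hy.1 hv, add_zero]

theorem ex1 (a : F) : ∃ u ∈ Rt (w 1), θ u = (a, 0) := by
  have h12 := adj' h 1 2
  obtain ⟨v, hv, e⟩ := c.surj (a, 0)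
  obtain ⟨x, hx, hx2⟩ := SetLike.not_le_iff_exists.1 h12.am.h.not_le
  have h1 : v ∈ w 1 := (nd' h12.symm hv hx (by
    rw [← c.ker _ (comm_le_right h12.le_norm (commutator_mem_commutator hx hv)),
      th_comm c h12.le_norm hx hv, e, mul_zero]
    rfl)).resolve_right hx2
  obtain ⟨u, hu, y, hy, rfl⟩ := mem_Y (Rne h hR 1) h12 ⟨h1, hv⟩
  refine ⟨u, hu, ?_⟩
  rw [← e, c.add _ (Rt_le h12 hu) _ (Rt_le_left _ hy), (c.ker _ (Rt_le_left _ hy)).2 hy, add_zero]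

theorem ex3 (a : F) : ∃ u ∈ Rt (w 3), θ u = (0, a) := by
  have h23 := adj' h 2 3
  obtain ⟨v, hv, e⟩ := c.surj (0, a)
  obtain ⟨x, hx, hx2⟩ := SetLike.not_le_iff_exists.1 h23.symm.am.h.not_le
  have h1 : v ∈ w 3 := (nd' h23 hv hx (by
    rw [← c.ker _ (comm_le_right h23.symm.le_norm (commutator_mem_commutator hx hv)),
      th_comm' c h23.symm.le_norm hx hv, e, mul_zero]
    rfl)).resolve_right hx2
  obtain ⟨u, hu, y, hy, rfl⟩ := mem_Y (Rne h hR 3) h23.symm ⟨h1, hv⟩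
  refine ⟨u, hu, ?_⟩
  rw [← e, c.add _ (Rt_le h23.symm hu) _ (Rt_le_left _ hy), (c.ker _ (Rt_le_left _ hy)).2 hy,
    add_zero]

/-- the action of a `μ`-element on the natural module -/
theorem mu_act [CharP F 2] (hx : x ∈ Rt (w 0)) (h0 : α x ≠ 0)
    (hm : H20.TB.Mu 4 (fun i => Rt (w i)) 0 x m) :
    m ∈ N[w 2] ∧ ∀ v ∈ w 2, θ (m * v * m⁻¹) = (α x * (θ v).2, (α x)⁻¹ * (θ v).1) := by
  have h12 := adj' h 1 2
  have h23 := adj' h 2 3
  have h34 := adj' h 3 4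
  obtain ⟨⟨κ, hκ, l, hl, rfl⟩, hm⟩ := hm
  have κ3 : κ ∈ w 3 := Rt_le h34.symm hκ
  have l3 : l ∈ w 3 := Rt_le h34.symm hl
  have x1 : x ∈ w 1 := Rt_le (adj' h 0 1) hx
  have n3 := h23.symm.le_norm
  have n1 := h12.le_norm
  have key : ∀ v ∈ w 2, θ (κ * x * l * v * (κ * x * l)⁻¹) =
      ((θ v).1 + α x * ((θ v).2 + β l * (θ v).1),
        (θ v).2 + β l * (θ v).1 + β κ * ((θ v).1 + α x * ((θ v).2 + β l * (θ v).1))) := fun v hv => by
    have a1 : l * v * l⁻¹ ∈ w 2 := (mem_normalizer_iff.1 (n3 l3) v).1 hv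
    have a2 : x * (l * v * l⁻¹) * x⁻¹ ∈ w 2 := (mem_normalizer_iff.1 (n1 x1) _).1 a1
    rw [show κ * x * l * v * (κ * x * l)⁻¹ = κ * (x * (l * v * l⁻¹) * x⁻¹) * κ⁻¹ by group,
      c.act' κ κ3 _ a2, c.act x x1 _ a1, c.act' l l3 _ hv]
  have two : (2 : F) = 0 := CharTwo.two_eq_zero
  have e1 : α x * β l = 1 := by
    obtain ⟨u, hu, e⟩ := ex1 h hR c 1
    have a1 : κ * x * l * u * (κ * x * l)⁻¹ ∈ Rt (w 3) := (hm 1 u).1 hu
    have a2 := fst_zero c (Rt_le h23.symm a1) fun y hy => h23.ea'.comm hy (Rt_le_left _ a1)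
    rw [key u (Rt_le h12 hu), e] at a2
    simp only at a2
    linear_combination a2 - two
  have e2 : α x * β κ = 1 := by
    obtain ⟨u, hu, e⟩ := ex3 h hR c 1
    have a1 : κ * x * l * u * (κ * x * l)⁻¹ ∈ Rt (w 1) := (hm 3 u).1 hu
    have a2 := snd_zero c (Rt_le h12 a1) fun y hy => h12.ea.comm hy (Rt_le_left _ a1)
    rw [key u (Rt_le h23.symm hu), e] at a2
    simp only at a2
    linear_combination a2 - two
  refine ⟨mul_mem (mul_mem (n3 κ3) (n1 x1)) (n3 l3), fun v hv => ?_⟩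
  rw [key v hv, eq_inv_of_mul_eq_one_right e1, eq_inv_of_mul_eq_one_right e2]
  ext
  · simp only
    field_simp
    linear_combination (θ v).1 * two
  · simp only
    field_simp
    linear_combination ((θ v).1 + α x * (θ v).2) * two

theorem hua [CharP F 2] {x' m' : G} (hx : x ∈ Rt (w 0)) (h0 : α x ≠ 0)
    (hm : H20.TB.Mu 4 (fun i => Rt (w i)) 0 x m) (hx' : x' ∈ Rt (w 0)) (h1 : α x' = 1)
    (hm' : H20.TB.Mu 4 (fun i => Rt (w i)) 0 x' m') (hy : y ∈ Rt (w 0)) :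
    m * m'⁻¹ * y * (m * m'⁻¹)⁻¹ ∈ Rt (w 0) ∧
      α (m * m'⁻¹ * y * (m * m'⁻¹)⁻¹) = α x ^ 2 * α y := by
  obtain ⟨n1, a1⟩ := mu_act h hR c hx h0 hm
  obtain ⟨n2, a2⟩ := mu_act h hR c hx' (by rw [h1]; exact one_ne_zero) hm'
  have b1 : m * m'⁻¹ * y * (m * m'⁻¹)⁻¹ ∈ Rt (w 0) := by
    have := (hm.2 4 _).1 ((hm'.2 4 (m'⁻¹ * y * m')).2 (by simpa [mul_assoc] using hy))
    simpa [mul_assoc] using this
  refine ⟨b1, ?_⟩
  have d : ∀ v ∈ w 2, θ (m * m'⁻¹ * v * (m * m'⁻¹)⁻¹) = (α x * (θ v).1, (α x)⁻¹ * (θ v).2) :=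
    fun v hv => by
      have hv' : m'⁻¹ * v * m' ∈ w 2 := by
        simpa using (mem_normalizer_iff.1 (inv_mem n2) v).1 hv
      have e1 := a2 _ hv'
      rw [show m' * (m'⁻¹ * v * m') * m'⁻¹ = v by group, h1] at e1
      rw [show m * m'⁻¹ * v * (m * m'⁻¹)⁻¹ = m * (m'⁻¹ * v * m') * m⁻¹ by group, a1 _ hv', e1]
      simp
  obtain ⟨v, hv, e⟩ := c.surj (0, 1)
  have y1 := Rt_le (adj' h 0 1) hy
  have e1 := d _ ((mem_normalizer_iff.1 ((adj' h 1 2).le_norm y1) v).1 hv)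
  have e2 := c.act _ (Rt_le (adj' h 0 1) b1) _
    ((mem_normalizer_iff.1 (mul_mem n1 (inv_mem n2)) v).1 hv)
  rw [show m * m'⁻¹ * y * (m * m'⁻¹)⁻¹ * (m * m'⁻¹ * v * (m * m'⁻¹)⁻¹) *
    (m * m'⁻¹ * y * (m * m'⁻¹)⁻¹)⁻¹ = m * m'⁻¹ * (y * v * y⁻¹) * (m * m'⁻¹)⁻¹ by group, e1, d v hv,
    c.act y y1 v hv, e] at e2
  have e3 := congrArg Prod.fst e2
  simp only at e3
  field_simp at e3
  linear_combination -e3

/-- an element fixing the octagon and centralising `U 3` acts linearly on `U 0` -/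
theorem lin [CharP F 2] (hk : ∀ j, cj k (w j) = w j) (h3 : ∀ u ∈ Rt (w 3), k * u = u * k)
    (hx : x ∈ Rt (w 0)) (h1 : α x = 1) (hy : y ∈ Rt (w 0)) :
    α (k * y * k⁻¹) = α (k * x * k⁻¹) * α y := by
  have h01 := adj' h 0 1
  have h12 := adj' h 1 2
  have h23 := adj' h 2 3
  have kR : ∀ j, ∀ u ∈ Rt (w j), k * u * k⁻¹ ∈ Rt (w j) := fun j u hu => by
    have := conj_mem_cj k hu
    rwa [cj_Rt, hk] at this
  obtain ⟨u, hu, eu⟩ := ex3 h hR c (α y)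
  obtain ⟨u', hu', eu'⟩ := ex3 h hR c 1
  have u2 := Rt_le h23.symm hu
  have u2' := Rt_le h23.symm hu'
  have key : ∀ x ∈ Rt (w 0), ∀ y ∈ Rt (w 0), ⁅x, u⁆ * ⁅y, u'⁆ ∈ Rt (w 2) ↔
      α x * (θ u).2 + α y = 0 := fun x hx y hy => by
    have a1 := comm_le_right h12.le_norm (commutator_mem_commutator (Rt_le h01 hx) u2)
    have a2 := comm_le_right h12.le_norm (commutator_mem_commutator (Rt_le h01 hy) u2')
    rw [← c.ker _ (mul_mem a1 a2), c.add _ a1 _ a2, th_comm c h12.le_norm (Rt_le h01 hx) u2,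
      th_comm c h12.le_norm (Rt_le h01 hy) u2', eu']
    simp
  have two : (2 : F) = 0 := CharTwo.two_eq_zero
  have a1 := kR 2 _ ((key x hx y hy).2 (by rw [eu, h1]; linear_combination α y * two))
  have cm : ∀ x, ∀ u ∈ Rt (w 3), k * ⁅x, u⁆ * k⁻¹ = ⁅k * x * k⁻¹, u⁆ := fun x u hu => by
    rw [conjugate_commutatorElement, h3 u hu, mul_inv_cancel_right]
  rw [show k * (⁅x, u⁆ * ⁅y, u'⁆) * k⁻¹ = (k * ⁅x, u⁆ * k⁻¹) * (k * ⁅y, u'⁆ * k⁻¹) by group,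
    cm x u hu, cm y u' hu', key _ (kR 0 x hx) _ (kR 0 y hy), eu] at a1
  simp only at a1
  linear_combination a1 - α (k * x * k⁻¹) * α y * two

omit c in
theorem tor (hx : x ∈ Rt (w 0)) (x1 : x ≠ 1) (hy : y ∈ Rt (w 0)) (y1 : y ≠ 1) :
    ∃ k, (∀ j, cj k (w j) = w j) ∧ (∀ u ∈ Rt (w 3), k * u = u * k) ∧
      (∀ u ∈ Rt (w 7), k * u = u * k) ∧ k * x * k⁻¹ = y := by
  have h70 : Geo q (w 7) (w 0) := per' h 8 0 ▸ adj' h 7 8
  have h67 := adj' h 6 7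
  have h56 := adj' h 5 6
  have h01 := adj' h 0 1
  have n60 : w 6 ≠ w 0 := per' h 8 0 ▸ nb' h 6 8
  have n71 : w 7 ≠ w 1 := per' h 9 1 ▸ nb' h 7 9
  obtain ⟨g, hg, eg⟩ := h70.trans h67.symm
  have xY : x ∈ w 7 ⊓ w 0 := ⟨Rt_le h70.symm hx, Rt_le_left _ hx⟩
  have yY : y ∈ w 7 ⊓ w 0 := ⟨Rt_le h70.symm hy, Rt_le_left _ hy⟩
  obtain ⟨k, hk, e1, e2⟩ := h70.am.h.tor hg (h70.Y_ne hg (eg ▸ n60)) xY
    (fun e => x1 (Rt_inf h70 e hx)) yY (fun e => y1 (Rt_inf h70 e hy))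
  rw [eg] at hk
  have L7 : Rt (w 1) ⊔ Rt (w 5) ≤ N[w 7] :=
    sup_le (Rt_fix2 h01.symm h70.symm) (Rt_fix2 h56 h67)
  have hk' : k ∈ (Rt (w 1) ⊔ Rt (w 5)) ⊔ w 7 := by
    refine (sup_le ?_ ?_ : w 0 ⊔ w 6 ≤ _) hk
    · exact (le_sup (Rne h hR 7) h70 h01 n71).trans
        (sup_le (le_sup_of_le_left le_sup_left) (le_sup_of_le_right inf_le_left))
    · exact (le_sup (Rne h hR 7) h67.symm h56.symm (nb' h 5 7).symm).trans
        (sup_le (le_sup_of_le_left le_sup_right) (le_sup_of_le_right inf_le_left))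
  obtain ⟨l, hl, v, hv, rfl⟩ := (mem_sup_of_norm' L7).1 hk'
  rw [cj_mul, cj_of_mem_C (h70.ea.abl.cents le_rfl inf_le_left hv), h70.cj_Y (L7 hl)] at e1
  have l0 : cj l (w 0) = w 0 := (h70.nb (L7 hl)).eq_of_Y h70 e1
  rw [show l * v * x * (l * v)⁻¹ = l * (v * x) * v⁻¹ * l⁻¹ by group, h70.ea.comm hv xY.1,
    show l * (x * v) * v⁻¹ * l⁻¹ = l * x * l⁻¹ by group] at e2
  obtain ⟨u, hu, eu⟩ := reg (Rne h hR 7) h70 h01 n71 (h67.symm.nb (L7 hl)) h67.symm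
    (fun e => n60 (cj_inj.1 (e.trans l0.symm))) n60
  have hul : u * l ∈ Rt (w 1) ⊔ Rt (w 5) := mul_mem (mem_sup_left hu) hl
  have fx : ∀ j, cj (u * l) (w j) = w j := fix_of h hR
    (mul_mem (Rt_fix1 h01.symm hu) (mem_N_iff_cj.2 l0))
    ((sup_le (Rt_fix2 (adj' h 1 2) (adj' h 2 3)) (Rt_fix2 (adj' h 4 5).symm (adj' h 3 4).symm) :
      _ ≤ N[w 3]) hul)
    (mem_N_iff_cj.2 (by rw [cj_mul, eu])) (L7 hul)
  have c3 : Rt (w 1) ⊔ Rt (w 5) ≤ C[Rt (w 3)] := sup_le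
    ((adj' h 1 2).ea'.abl.cents (Rt_le (adj' h 1 2)) (Rt_le (adj' h 2 3).symm))
    ((adj' h 3 4).ea'.abl.cents (Rt_le (adj' h 4 5).symm) (Rt_le (adj' h 3 4)))
  have c7 : Rt (w 1) ⊔ Rt (w 5) ≤ C[Rt (w 7)] := sup_le
    (h01.ea.abl.cents (Rt_le h01.symm) (Rt_le h70))
    (h67.ea.abl.cents (Rt_le h56) (Rt_le h67.symm))
  refine ⟨u * l, fx, fun z hz => (mem_centralizer_iff.1 (c3 hul) z hz).symm,
    fun z hz => (mem_centralizer_iff.1 (c7 hul) z hz).symm, ?_⟩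
  have a1 : l * x * l⁻¹ ∈ Rt (w 0) := by
    have := conj_mem_cj l hx
    rwa [cj_Rt, l0] at this
  have a2 := Rt_inf h70 e2 (mul_mem a1 hy)
  rw [show u * l * x * (u * l)⁻¹ = u * (l * x * l⁻¹) * u⁻¹ by group,
    h01.ea.comm (Rt_le h01.symm hu) (Rt_le_left _ a1), mul_inv_cancel_right,
    eq_inv_of_mul_eq_one_left a2, h01.ea.inv (Rt_le_left _ hy)]

end Oct

theorem c3 (h : Pg 8 q w) (hR : Rt (w 0) ≠ ⊥) (O : H20.TB.Oct G)
    (hU : ∀ i, O.U i = Rt (w i)) : ∃ (F : Type) (_ : Field F) (_ : Fintype F),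
      Fintype.card F = q ∧ CharP F 2 ∧ Nonempty (O.C3 F) := by
  have hU' : O.U = fun i => Rt (w i) := funext hU
  have h01 := adj' h 0 1
  have h12 := adj' h 1 2
  obtain ⟨g, hg, eg⟩ := h12.symm.trans (adj' h 2 3)
  obtain ⟨F, _, _, θ, α, β, hq, hc, c⟩ := h12.symm.am.h.coord hg
    (h12.symm.Y_ne hg (eg ▸ (nb' h 1 3).symm))
  rw [eg] at c
  choose x hx ex using al_surj h hR c
  have inj : ∀ y ∈ Rt (w 0), ∀ z ∈ Rt (w 0), α y = α z → y = z := fun y hy z hz e => by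
    have := al_inj h hR c (mul_mem hy hz) (by
      rw [al_mul c h12.le_norm (Rt_le h01 hy) (Rt_le h01 hz), e, CharTwo.add_self_eq_zero])
    rw [eq_inv_of_mul_eq_one_left this, h01.ea.inv (Rt_le_left _ hz)]
  have ne1 : ∀ s, s ≠ 0 → x s ≠ 1 := fun s hs e => hs (by
    rw [← ex s, e]
    exact al_zero c (one_mem _) fun v _ => by simp)
  refine ⟨F, inferInstance, inferInstance, hq, hc, ⟨⟨x, fun s t => ?_, fun s t e => ?_, fun g => ?_,
    fun s hs => ?_, fun s hs => ?_⟩⟩⟩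
  · refine inj _ (hx _) _ (mul_mem (hx _) (hx _)) ?_
    rw [al_mul c h12.le_norm (Rt_le h01 (hx _)) (Rt_le h01 (hx _)), ex, ex, ex]
  · rw [← ex s, e, ex]
  · rw [hU]
    exact ⟨fun hg => ⟨α g, inj _ (hx _) _ hg (ex _)⟩, fun ⟨t, e⟩ => e ▸ hx t⟩
  · obtain ⟨k, k1, k3, k7, e⟩ := tor h hR (hx 1) (ne1 1 one_ne_zero) (hx s) (ne1 s hs)
    have kR : ∀ j u, u ∈ Rt (w j) ↔ k * u * k⁻¹ ∈ Rt (w j) := fun j u => by
      conv_rhs => rw [← k1, ← cj_Rt, conj_mem_cj_iff]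
    refine ⟨k, by rw [hU']; exact kR, by rw [hU]; exact k3, by rw [hU]; exact k7, fun t => ?_⟩
    refine inj _ ((kR 0 _).1 (hx t)) _ (hx _) ?_
    rw [lin h hR c k1 k3 (hx 1) (ex 1) (hx t), e, ex, ex, ex]
  · obtain ⟨m, hm⟩ := O.mu 0 (x s) (hU 0 ▸ hx s) (ne1 s hs)
    obtain ⟨m', hm'⟩ := O.mu 0 (x 1) (hU 0 ▸ hx 1) (ne1 1 one_ne_zero)
    refine ⟨m, m', hm, hm', fun t => ?_⟩
    rw [hU'] at hm hm'
    obtain ⟨a1, a2⟩ := hua h hR c (hx s) (by rwa [ex]) hm (hx 1) (ex 1) hm' (hx t)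
    refine inj _ a1 _ (hx _) ?_
    rw [a2, ex, ex, ex]

end H14.G4
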