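import Mathlib
import Cfsg.Agent.H24.Base1

/-! # Root group systems of triangles and quadrangles: the ambient group -/

set_option autoImplicit false
set_option linter.unusedSectionVars false

namespace H14.Pg

open H24 Subgroup
open scoped commutatorElement

variable {G G' : Type*} [Group G] [Group G'] {U V : ℤ → Subgroup G} {n i j k a b c : ℤ}
  {K : Subgroup G} {x y u κ l m : G}

/-- the group generated by an interval of root groups -/
def I (U : ℤ → Subgroup G) (a b : ℤ) : Subgroup G := ⨆ j ∈ Set.Ico a b, U j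

theorem le_I (h1 : a ≤ j) (h2 : j < b) : U j ≤ I U a b :=
  le_iSup₂ (f := fun j (_ : j ∈ Set.Ico a b) => U j) j ⟨h1, h2⟩

theorem I_le (h : ∀ j, a ≤ j → j < b → U j ≤ K) : I U a b ≤ K := iSup₂_le fun j hj => h j hj.1 hj.2

theorem I_mono {a' b' : ℤ} (h1 : a' ≤ a) (h2 : b ≤ b') : I U a b ≤ I U a' b' :=
  I_le fun _ _ _ => le_I (by omega) (by omega)

theorem I_le_I (h : ∀ j, a ≤ j → j < b → V j ≤ U j) : I V a b ≤ I U a b :=
  I_le fun j h1 h2 => (h j h1 h2).trans (le_I h1 h2)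

theorem I_left (h : a < b) : I U a b = U a ⊔ I U (a + 1) b :=
  le_antisymm (I_le fun j h1 h2 => by
    rcases h1.eq_or_lt with rfl | h1
    exacts [le_sup_left, le_sup_of_le_right (le_I h1 h2)])
    (sup_le (le_I le_rfl h) (I_mono (by omega) le_rfl))

theorem I_right (h : a < b) : I U a b = I U a (b - 1) ⊔ U (b - 1) :=
  le_antisymm (I_le fun j h1 h2 => by
    rcases (show j = b - 1 ∨ j < b - 1 by omega) with rfl | h2
    exacts [le_sup_right, le_sup_of_le_left (le_I h1 h2)])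
    (sup_le (I_mono le_rfl (by omega)) (le_I (by omega) (by omega)))

theorem I_rev (U : ℤ → Subgroup G) (c a b : ℤ) :
    I (fun j => U (c - j)) a b = I U (c - b + 1) (c - a + 1) :=
  le_antisymm (I_le fun _ _ _ => le_I (by omega) (by omega)) (I_le fun j _ _ =>
    (sub_sub_cancel c j).symm ▸ le_I (U := fun j => U (c - j)) (j := c - j) (by omega) (by omega))

theorem map_I (π : G →* G') : (I U a b).map π = I (fun j => (U j).map π) a b := by
  simp only [I, Subgroup.map_iSup]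

theorem cj_I_le {a' b' : ℤ} (h : ∀ j, a ≤ j → j < b → cj x (U j) ≤ I V a' b') :
    cj x (I U a b) ≤ I V a' b' := by rw [cj_def, map_I]; exact I_le h

theorem norm_I (h : ∀ j, a ≤ j → j < b → ∀ x ∈ K, cj x (U j) ≤ I U a b) : K ≤ N[I U a b] :=
  fun x hx => mem_N_iff_cj.2 (le_antisymm (cj_I_le fun j h1 h2 => h j h1 h2 x hx)
    (le_cj_iff.2 (cj_I_le fun j h1 h2 => h j h1 h2 _ (inv_mem hx))))

/-- the commutator relation of the two ends of a window -/
def C3 (n : ℤ) (U : ℤ → Subgroup G) (i : ℤ) : Prop :=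
  ∀ j, j + 1 = i + n → ∀ a ∈ U i, ∀ u ∈ U j, ⁅a, u⁆ ∈ I U (i + 1) j

/-- the relations between the root groups -/
structure Wk (n : ℤ) (U : ℤ → Subgroup G) : Prop where
  hn : n = 3 ∨ n = 4
  cm : ∀ i j, i ≠ j → i - j < n - 1 → j - i < n - 1 → U i ≤ C[U j]
  c3 : ∀ i, C3 n U i
  ind : ∀ i a b, i < a → b ≤ i + n → U i ⊓ I U a b = ⊥
  ind' : ∀ i a b, i - n < a → b ≤ i → U i ⊓ I U a b = ⊥

/-- `κ a l` induces a reflection -/
structure MU (n : ℤ) (U : ℤ → Subgroup G) (i : ℤ) (a κ l : G) : Prop where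
  hk : κ ∈ U (i + n)
  hl : l ∈ U (i + n)
  r : ∀ j k, j + k = 2 * i + n → cj (κ * a * l) (U j) = U k

/-- a root group system -/
structure Pol (n : ℤ) (U : ℤ → Subgroup G) : Prop extends Wk n U where
  per : ∀ i, U (i + 2 * n) = U i
  mu : ∀ i, ∀ a ∈ U i, a ≠ 1 → ∃ κ l, MU n U i a κ l
  ne : ∀ i, U i ≠ ⊥

theorem cent_I (h : ∀ j, a ≤ j → j < b → K ≤ C[U j]) : K ≤ C[I U a b] :=
  cents_symm (I_le fun j h1 h2 => cents_symm (h j h1 h2))

theorem C3.rev (h : C3 n U (c - i - n + 1)) : C3 n (fun j => U (c - j)) i := fun j e a ha u hu => by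
  rw [I_rev, ← commutatorElement_inv, inv_mem_iff, show c - (i + 1) + 1 = c - i by ring]
  obtain rfl : j = i + n - 1 := by omega
  beta_reduce at hu
  rw [show c - (i + n - 1) = c - i - n + 1 by ring] at hu ⊢
  exact h _ (by ring) u hu a ha

theorem Wk.rev (h : Wk n U) (c : ℤ) : Wk n fun j => U (c - j) :=
  ⟨h.hn, fun i j _ _ _ => h.cm _ _ (by omega) (by omega) (by omega), fun _ => (h.c3 _).rev,
    fun i a b _ _ => by rw [I_rev]; exact h.ind' _ _ _ (by omega) (by omega),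
    fun i a b _ _ => by rw [I_rev]; exact h.ind _ _ _ (by omega) (by omega)⟩

theorem MU.inv (h : MU n U i x κ l) : MU n U i x⁻¹ l⁻¹ κ⁻¹ :=
  ⟨inv_mem h.hl, inv_mem h.hk, fun j k e => by
    rw [← h.r k j (by omega), ← mul_inv_rev, ← mul_inv_rev, ← mul_assoc, cj_inv_cj]⟩

theorem MU.rev (p : ∀ i, U (i + 2 * n) = U i) (h : MU n U (c - i) x κ l) :
    MU n (fun j => U (c - j)) i x κ l := by
  have e : U (c - (i + n)) = U (c - i + n) := by rw [← p]; congr 1; ring
  exact ⟨e ▸ h.hk, e ▸ h.hl, fun j k e => by rw [← p (c - k)]; exact h.r _ _ (by omega)⟩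

theorem MU.opp (p : ∀ i, U (i + 2 * n) = U i) (hx : x ∈ U i) (h : MU n U i x κ l) :
    MU n U (i + n) κ (κ * x * l * l * (κ * x * l)⁻¹) x := by
  have e : U (i + n + n) = U i := by rw [← p i]; congr 1; ring
  refine ⟨e ▸ h.r (i + n) i (by ring) ▸ conj_mem_cj _ h.hl, e ▸ hx, fun j k e => ?_⟩
  rw [show κ * x * l * l * (κ * x * l)⁻¹ * κ * x = κ * x * l by group, h.r j (k - 2 * n) (by omega),
    ← p, sub_add_cancel]

theorem Pol.rev (h : Pol n U) (c : ℤ) : Pol n fun j => U (c - j) :=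
  ⟨h.toWk.rev c, fun i => by rw [← h.per]; congr 1; ring, fun i a ha a1 =>
    let ⟨κ, l, m⟩ := h.mu _ a ha a1; ⟨κ, l, m.rev h.per⟩, fun _ => h.ne _⟩

theorem C3.conj (h : C3 n V i) (hn : 3 ≤ n) (e : j + 1 = i + n) (hx : x ∈ V i) (hu : u ∈ V j) :
    x * u * x⁻¹ ∈ I V (i + 1) (i + n) := by
  rw [show x * u * x⁻¹ = ⁅x, u⁆ * u by rw [commutatorElement_def]; group]
  exact mul_mem (I_mono le_rfl (by omega) (h j e x hx u hu)) (le_I (by omega) (by omega) hu)

namespace Wk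

variable (h : Wk n U)
include h

theorem three : 3 ≤ n := by have := h.hn; omega

theorem eq_one (h1 : i < a) (h2 : b ≤ i + n) (hx : x ∈ U i) (hy : x ∈ I U a b) : x = 1 :=
  mem_bot.1 ((h.ind i a b h1 h2).le ⟨hx, hy⟩)

theorem core (e : j + 1 = i + n) (m : MU n U i x κ l) (hu : u ∈ U j) (hy : y ∈ U (i + 1)) {c : G}
    (hc : c ∈ I U (i + 1 + 1) (i + n)) (e1 : x * u * x⁻¹ = y * c) :
    κ * x * l * u * (κ * x * l)⁻¹ = y ∧ κ * y * κ⁻¹ = y * c⁻¹ := by
  have := h.three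
  have k1 := conj_eq_of_mem_C (h.cm _ j (by omega) (by omega) (by omega) m.hl) hu
  have k2 := conj_eq_of_mem_C (cent_I (fun j _ _ => h.cm _ j (by omega) (by omega) (by omega)) m.hk) hc
  have k3 : κ * x * l * u * (κ * x * l)⁻¹ = κ * y * κ⁻¹ * c :=
    calc _ = κ * (x * (l * u * l⁻¹) * x⁻¹) * κ⁻¹ := by group
      _ = _ := by rw [k1, e1, ← conj_mul, k2]
  have k4 : y⁻¹ * (κ * x * l * u * (κ * x * l)⁻¹) = 1 := h.eq_one (a := i + 1 + 1) (b := i + n)
    (by omega) (by omega) (mul_mem (inv_mem hy) ((m.r j (i + 1) (by omega)).le (conj_mem_cj _ hu))) (by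
      rw [k3, show y⁻¹ * (κ * y * κ⁻¹ * c) = ⁅y⁻¹, κ⁆ * c by rw [commutatorElement_def]; group]
      exact mul_mem (h.c3 (i + 1) (i + n) (by ring) _ (inv_mem hy) _ m.hk) hc)
  rw [inv_mul_eq_one] at k4
  exact ⟨k4.symm, by rw [eq_mul_inv_iff_mul_eq, ← k3, ← k4]⟩

theorem normL (h1 : i < a) (h2 : a = i + 1 ∨ b < i + n) (h3 : b ≤ i + n) : U i ≤ N[I U a b] :=
  norm_I fun j _ _ x hx => by
    by_cases e : j + 1 = i + n
    · obtain rfl : a = i + 1 := by omega
      obtain rfl : b = i + n := by omega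
      rintro _ ⟨u, hu, rfl⟩
      exact (h.c3 i).conj h.three e hx hu
    · exact (cj_of_mem_C (h.cm i j (by omega) (by omega) (by omega) hx)).le.trans (le_I ‹_› ‹_›)

theorem normR (h1 : b = i) (h3 : i - n < a) : U i ≤ N[I U a b] := by
  have := (h.rev 0).normL (i := -i) (a := -b + 1) (b := -a + 1) (by omega) (by omega) (by omega)
  rw [I_rev] at this
  simpa using this

theorem decL (h1 : i < b) (h3 : b ≤ i + n) (hx : x ∈ I U i b) :
    ∃ y ∈ U i, ∃ c ∈ I U (i + 1) b, x = y * c :=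
  (mem_sup_of_norm' (h.normL (by omega) (.inl rfl) h3)).1 (I_left (U := U) h1 ▸ hx)

theorem inj {U' : ℤ → Subgroup G'} (h' : Wk n U') (π : G →* G') (h1 : ∀ j, (U j).map π ≤ U' j)
    (h2 : ∀ j, ∀ x ∈ U j, π x = 1 → x = 1) (h3 : b ≤ a + n) (hx : x ∈ I U a b) (e : π x = 1) :
    x = 1 := by
  by_cases hab : a ≤ b
  swap
  · exact mem_bot.1 (I_le (fun j _ _ => by omega) hx)
  induction a, hab using Int.le_induction_down generalizing x with
  | base => exact mem_bot.1 (I_le (fun j _ _ => by omega) hx)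
  | pred a hab ih =>
    obtain ⟨y, hy, c, hc, rfl⟩ := h.decL (by omega) h3 hx
    rw [map_mul, mul_eq_one_iff_eq_inv] at e
    have : π c ∈ I U' (a - 1 + 1) b := I_le_I (fun j _ _ => h1 j) (map_I π ▸ mem_map_of_mem π hc)
    obtain rfl := h2 _ y hy (h'.eq_one (by omega) h3 (h1 _ (mem_map_of_mem π hy)) (e ▸ inv_mem this))
    rw [sub_add_cancel] at hc
    rw [one_mul, ih (by omega) hc (by rwa [map_one, eq_comm, inv_eq_one] at e)]

end Wk

theorem ind2 {P : ℤ → Prop} (h0 : P 0) (h1 : P 1) (h : ∀ j, P j ↔ P (j + 2)) (j : ℤ) : P j := by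
  have : ∀ k : ℤ, P k ∧ P (k + 1) := fun k => by
    induction k with
    | zero => exact ⟨h0, h1⟩
    | succ k ih => exact ⟨ih.2, by rw [add_assoc]; exact (h _).1 ih.1⟩
    | pred k ih => exact ⟨(h _).2 (by rw [show -(k : ℤ) - 1 + 2 = -k + 1 by ring]; exact ih.2),
        by rw [sub_add_cancel]; exact ih.1⟩
  exact (this j).1

theorem per_dvd (p : ∀ i, U (i + 2 * n) = U i) (h : 2 * n ∣ i - j) : U i = U j := by
  obtain ⟨k, e⟩ := h
  obtain rfl : i = j + 2 * n * k := by omega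
  clear e
  induction k with
  | zero => simp
  | succ k ih => rw [← ih, ← p (j + 2 * n * k)]; congr 1; ring
  | pred k ih => rw [← ih, ← p]; congr 1; ring

/-- `ν` permutes the root groups like an element of the dihedral group -/
def Dh (U : ℤ → Subgroup G) (ν : G) : Prop :=
  ∃ ε c : ℤ, (ε = 1 ∨ ε = -1) ∧ ∀ j, cj ν (U j) = U (ε * j + c)

theorem Dh.mul (h : Dh U x) (h' : Dh U y) : Dh U (x * y) := by
  obtain ⟨ε, c, e, h⟩ := h
  obtain ⟨ε', c', e', h'⟩ := h'
  exact ⟨ε * ε', ε * c' + c, by rcases e with rfl | rfl <;> rcases e' with rfl | rfl <;> simp,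
    fun j => by rw [cj_mul, h', h]; congr 1; ring⟩

theorem MU.dh (h : MU n U i x κ l) : Dh U (κ * x * l) :=
  ⟨-1, 2 * i + n, .inr rfl, fun j => h.r _ _ (by ring)⟩

theorem MU.rot {κ' l' : G} (p : ∀ i, U (i + 2 * n) = U i) (m : MU n U 0 x κ l)
    (m' : MU n U (n - 1) y κ' l') (j : ℤ) : cj (κ * x * l * (κ' * y * l')) (U j) = U (j + 2) := by
  rw [cj_mul, m'.r j (n - 2 - j + 2 * n) (by ring), p, m.r (n - 2 - j) (j + 2) (by ring)]

/-- membership in a Bruhat cell -/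
def Br (n : ℤ) (U : ℤ → Subgroup G) (x : G) : Prop :=
  ∃ u ∈ I U 0 n, ∃ ν, Dh U ν ∧ ∃ u' ∈ I U 0 n, x = u * ν * u'

namespace Pol

variable (h : Pol n U)
include h

theorem nd (e : j + 1 = i + n) (hx : x ∈ U i) (h1 : ∀ u ∈ U j, x * u * x⁻¹ ∈ U j) : x = 1 := by
  by_contra x1
  obtain ⟨κ, l, m⟩ := h.mu i x hx x1
  have := h.three
  refine h.ne j (eq_bot_iff.2 fun u hu => ?_)
  have := (h.core e m hu (one_mem _) (le_I (by omega) (by omega) (h1 u hu)) (one_mul _).symm).1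
  exact mem_bot.2 (conj_eq_one_iff.1 this)

theorem ab (i : ℤ) : U i ≤ C[U i] := fun y hy => mem_C'.2 fun z hz => by
  have := h.three
  obtain ⟨i, rfl⟩ : ∃ i', i = i' + 1 := ⟨i - 1, by ring⟩
  obtain ⟨⟨x, hx⟩, x1⟩ := ne_bot_iff_exists_ne_one.1 (h.ne i)
  obtain ⟨κ, l, m⟩ := h.mu i x hx fun e => x1 (Subtype.ext e)
  obtain ⟨u, hu, rfl⟩ := mem_cj'.1 ((m.r (i + n - 1) (i + 1) (by ring)).ge hy)
  obtain ⟨y, hy, c, hc, e⟩ := h.decL (by omega) (by omega)
    ((h.c3 i).conj h.three (j := i + n - 1) (by ring) hx hu)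
  rw [(h.core (by ring) m hu hy hc e).1, eq_mul_inv_of_mul_eq e.symm]
  have k := h.cm i (i + 1) (by omega) (by omega) (by omega) hx
  exact mem_C'.1 (mul_mem (mul_mem (mul_mem k (h.cm _ _ (by omega) (by omega) (by omega) hu))
    (inv_mem k)) (inv_mem (I_le (fun j _ _ => h.cm _ _ (by omega) (by omega) (by omega)) hc))) z hz

theorem cm' (h1 : i - j < n - 1) (h2 : j - i < n - 1) : U i ≤ C[U j] := by
  by_cases e : i = j
  exacts [e ▸ h.ab i, h.cm i j e h1 h2]

theorem idx (e : U i = U j) : 2 * n ∣ i - j := by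
  have := h.three
  have k : ∀ i j, i < j → j < i + n → U i ≠ U j := fun i j h1 h2 e =>
    h.ne i (by rw [← h.ind i j (i + n) h1 le_rfl, left_eq_inf, e]; exact le_I le_rfl h2)
  have e1 : U j = U (i + (j - i) % (2 * n)) :=
    per_dvd h.per (by rw [← sub_sub]; exact Int.dvd_self_sub_emod)
  have b1 := Int.emod_nonneg (j - i) (b := 2 * n) (by omega)
  have b2 := Int.emod_lt_of_pos (j - i) (b := 2 * n) (by omega)
  by_cases e0 : (j - i) % (2 * n) = 0
  · exact dvd_sub_comm.1 (Int.dvd_of_emod_eq_zero e0)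
  generalize (j - i) % (2 * n) = d at *
  rcases lt_trichotomy d n with h1 | rfl | h1
  · exact absurd (e.trans e1) (k _ _ (by omega) (by omega))
  · obtain ⟨⟨x, hx⟩, x1⟩ := ne_bot_iff_exists_ne_one.1 (h.ne i)
    obtain ⟨κ, l, m⟩ := h.mu i x hx fun e => x1 (Subtype.ext e)
    have := m.r (i + 1) (i + d - 1) (by ring)
    rw [cj_of_mem_C (h.cm i _ (by omega) (by omega) (by omega)
      (mul_mem (mul_mem (e.trans e1 ▸ m.hk) hx) (e.trans e1 ▸ m.hl)))] at this
    exact absurd this (k _ _ (by omega) (by omega))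
  · exact absurd (e1.symm.trans (e.symm.trans (h.per i).symm)) (k _ _ (by omega) (by omega))

theorem dh_one (hg : ⨆ j, U j = ⊤) (hz : center G = ⊥) (hx : x ∈ I U 0 n) (d : Dh U x) : x = 1 := by
  have := h.three
  obtain ⟨ε, c, e, d⟩ := d
  have e1 := h.idx ((d 1).symm.trans (cj_of_mem_C
    (I_le (fun j _ _ => h.cm' (by omega) (by omega)) hx)))
  rcases e with rfl | rfl
  swap
  · have k : x ∈ N[I U 1 n] := (I_left (U := U) (show 0 < n by omega)).le.trans
      (sup_le (h.normL (by omega) (.inl rfl) (by omega)) (norm_self _)) hx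
    have := cj_le_of_mem_N (le_I (U := U) (j := 2) (by omega) (by omega)) k
    rw [d, per_dvd h.per (j := 0) (by rwa [show -1 * 2 + c - 0 = -1 * 1 + c - 1 by ring])] at this
    exact absurd (by rw [← h.ind 0 1 n (by omega) (by omega), left_eq_inf]; exact this) (h.ne 0)
  replace d : ∀ j, x ∈ N[U j] := fun j => mem_N_iff_cj.2 ((d j).trans
    (per_dvd h.per (by rwa [show 1 * j + c - j = 1 * 1 + c - 1 by ring])))
  have k1 : ∀ i, x ∈ I U i (i + n) → x ∈ I U (i + 1) (i + n) := fun i hx => by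
    obtain ⟨y, hy, c, hc, rfl⟩ := h.decL (by omega) le_rfl hx
    have := (mul_mem_cancel_right (C_le_N _ (I_le (K := C[U (i + n - 1)])
      (fun j _ _ => h.cm' (by omega) (by omega)) hc))).1 (d _)
    rwa [h.nd (j := i + n - 1) (by ring) hy fun u hu => conj_mem this hu, one_mul]
  have k2 : ∀ i, 0 ≤ i → x ∈ I U i (i + n) := fun i hi => by
    induction i, hi using Int.le_induction with
    | base => rwa [zero_add]
    | succ i _ ih => exact I_mono le_rfl (by omega) (k1 i ih)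
  refine mem_bot.1 (hz ▸ mem_center_iff.2 fun g => mem_C1.1 ?_)
  refine (hg.ge.trans (iSup_le fun j => ?_)) (mem_top g)
  have b1 := Int.emod_nonneg (j - 1) (b := 2 * n) (by omega)
  rw [per_dvd h.per (j := (j - 1) % (2 * n) + 1) (by
    rw [show j - ((j - 1) % (2 * n) + 1) = j - 1 - (j - 1) % (2 * n) by ring]
    exact Int.dvd_self_sub_emod)]
  exact mem_C_iff_le_C1.1 (I_le (fun j _ _ => h.cm' (by omega) (by omega)) (k1 _ (k2 _ b1)))

theorem half (k : ℤ) : U k ≤ I U 0 n ∨ U (k + n) ≤ I U 0 n ∧ U (k - n) ≤ I U 0 n := by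
  have := h.three
  have b1 := Int.emod_nonneg k (b := 2 * n) (by omega)
  have b2 := Int.emod_lt_of_pos k (b := 2 * n) (by omega)
  have e : 2 * n ∣ k - k % (2 * n) := Int.dvd_self_sub_emod
  by_cases h1 : k % (2 * n) < n
  · exact .inl (per_dvd h.per e ▸ le_I b1 h1)
  · have e1 : U (k - n) = U (k % (2 * n) - n) := per_dvd h.per (by rwa [sub_sub_sub_cancel_right])
    have e2 : U (k + n) = U (k - n) := per_dvd h.per ⟨1, by ring⟩
    rw [e2, e1]
    exact .inr ⟨le_I (by omega) (by omega), le_I (by omega) (by omega)⟩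

theorem step (h1 : U i ≤ I U 0 n) (h2 : I U a b ≤ I U 0 n)
    (h3 : ∀ u ∈ I U 0 n, ∃ y ∈ I U a b, ∃ c ∈ U i, u = y * c) (m : MU n U i y κ l)
    (h4 : cj (κ * y * l) (I U a b) ≤ I U a b) (hx : Br n U x) : Br n U (κ * y * l * x) := by
  obtain ⟨u, hu, ν, hν, u', hu', rfl⟩ := hx
  obtain ⟨u1, v1, u0, v0, rfl⟩ := h3 u hu
  have v2 := h2 (h4 (conj_mem_cj _ v1))
  have r := m.r (i + n) i (by ring)
  have d := m.dh
  generalize κ * y * l = s at *
  obtain ⟨ε, c, e, d1⟩ := id hν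
  have d2 : ∀ j, ∀ g ∈ U j, ν⁻¹ * g * ν ∈ U (ε * (j - c)) := fun j g hg => mem_cj.1 (by
    rwa [d1, show ε * (ε * (j - c)) + c = j by rcases e with rfl | rfl <;> ring])
  rcases h.half (ε * (i - c)) with k | k
  · exact ⟨_, v2, _, d.mul hν, _, mul_mem (k (d2 _ _ v0)) hu', by group⟩
  by_cases u1 : u0 = 1
  · exact ⟨_, v2, _, d.mul hν, _, hu', by rw [u1]; group⟩
  obtain ⟨κ', l', m'⟩ := h.mu i u0 v0 u1
  have k' : U (ε * (i + n - c)) ≤ I U 0 n := by
    rcases e with rfl | rfl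
    · rw [show 1 * (i + n - c) = 1 * (i - c) + n by ring]; exact k.1
    · rw [show -1 * (i + n - c) = -1 * (i - c) - n by ring]; exact k.2
  exact ⟨_, mul_mem v2 (h1 (r.le (conj_mem_cj s (inv_mem m'.hk)))), _, (d.mul m'.dh).mul hν, _,
    mul_mem (k' (d2 _ _ (inv_mem m'.hl))) hu', by group⟩

theorem step0 (m : MU n U 0 y κ l) (hx : Br n U x) : Br n U (κ * y * l * x) := by
  have := h.three
  refine h.step (a := 1) (b := n) (le_I le_rfl (by omega)) (I_mono (by omega) le_rfl) (fun u hu => ?_) m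
    (cj_I_le fun j _ _ => (m.r j (n - j) (by ring)).le.trans (le_I (by omega) (by omega))) hx
  rw [I_left (show 0 < n by omega), sup_comm] at hu
  exact (mem_sup_of_norm (h.normL (i := 0) (by omega) (.inl rfl) (by omega))).1 hu

theorem step1 (m : MU n U (n - 1) y κ l) (hx : Br n U x) : Br n U (κ * y * l * x) := by
  have := h.three
  refine h.step (a := 0) (b := n - 1) (le_I (by omega) (by omega)) (I_mono le_rfl (by omega))
    (fun u hu => ?_) m (cj_I_le fun j _ _ => (m.r j (n - 2 - j + 2 * n) (by ring)).le.trans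
      ((h.per _).le.trans (le_I (by omega) (by omega)))) hx
  rw [I_right (show 0 < n by omega)] at hu
  exact (mem_sup_of_norm (h.normR (i := n - 1) rfl (by omega))).1 hu

/-- the Bruhat decomposition -/
theorem bruhat (hx : x ∈ ⨆ j, U j) : Br n U x := by
  have := h.three
  let K : Subgroup G :=
    { carrier := {g | ∀ x, Br n U x → Br n U (g * x) ∧ Br n U (g⁻¹ * x)}
      mul_mem' := fun ha hb x hx => ⟨by rw [mul_assoc]; exact (ha _ (hb x hx).1).1,
        by rw [mul_inv_rev, mul_assoc]; exact (hb _ (ha x hx).2).2⟩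
      one_mem' := fun x hx => by simpa using hx
      inv_mem' := fun ha x hx => ⟨(ha x hx).2, by rw [inv_inv]; exact (ha x hx).1⟩ }
  have w : I U 0 n ≤ K := fun g hg x ⟨u, hu, ν, hν, u', hu', e⟩ =>
    ⟨⟨_, mul_mem hg hu, ν, hν, u', hu', by rw [e]; group⟩,
      ⟨_, mul_mem (inv_mem hg) hu, ν, hν, u', hu', by rw [e]; group⟩⟩
  have iv : ∀ κ y l : G, (κ * y * l)⁻¹ = l⁻¹ * y⁻¹ * κ⁻¹ := fun _ _ _ => by group
  obtain ⟨⟨y, hy⟩, y1⟩ := ne_bot_iff_exists_ne_one.1 (h.ne 0)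
  obtain ⟨κ, l, m⟩ := h.mu 0 y hy fun e => y1 (Subtype.ext e)
  obtain ⟨⟨y', hy'⟩, y1'⟩ := ne_bot_iff_exists_ne_one.1 (h.ne (n - 1))
  obtain ⟨κ', l', m'⟩ := h.mu _ y' hy' fun e => y1' (Subtype.ext e)
  have r0 : κ * y * l ∈ K := fun x hx => ⟨h.step0 m hx, by rw [iv]; exact h.step0 m.inv hx⟩
  have r1 : κ' * y' * l' ∈ K := fun x hx => ⟨h.step1 m' hx, by rw [iv]; exact h.step1 m'.inv hx⟩
  have : ∀ j, U j ≤ K := ind2 ((le_I le_rfl (by omega)).trans w) ((le_I (by omega) (by omega)).trans w)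
    fun j => by
      rw [← m.rot h.per m' j, cj_le_iff, cj_of_mem (inv_mem (mul_mem r0 r1))]
  rw [← mul_one x]
  exact (iSup_le this hx 1 ⟨1, one_mem _, 1, ⟨1, 0, .inl rfl, by simp⟩, 1, one_mem _, by simp⟩).1

theorem ker {U' : ℤ → Subgroup G'} (h' : Pol n U') (π : G →* G') (h1 : ∀ j, (U j).map π = U' j)
    (h2 : ∀ j, ∀ x ∈ U j, π x = 1 → x = 1) (hg : ⨆ j, U' j = ⊤) (hz : center G' = ⊥)
    (hx : x ∈ ⨆ j, U j) (e : π x = 1) (j : ℤ) : x ∈ C[U j] := by
  obtain ⟨u, hu, ν, ⟨ε, c, he, d⟩, u', hu', rfl⟩ := h.bruhat hx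
  have k : ∀ u ∈ I U 0 n, π u ∈ I U' 0 n := fun u hu =>
    I_le_I (fun j _ _ => (h1 j).le) (map_I π ▸ mem_map_of_mem π hu)
  have d' : ∀ j, cj (π ν) (U' j) = U' (ε * j + c) := fun j => by rw [← h1, ← h1, ← d, map_cj]
  rw [map_mul, map_mul] at e
  have e1 : π ν = 1 := h'.dh_one hg hz (by
    rw [show π ν = (π u)⁻¹ * (π u * π ν * π u') * (π u')⁻¹ by group, e, mul_one]
    exact mul_mem (inv_mem (k u hu)) (inv_mem (k u' hu'))) ⟨ε, c, he, d'⟩
  have c1 : ∀ j, ν ∈ C[U j] := fun j => mem_C'.2 fun g hg => by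
    have e2 := d j
    rw [per_dvd h.per (h'.idx ((d' j).symm.trans (by rw [e1, cj_one])))] at e2
    rw [← mul_inv_eq_iff_eq_mul, ← mul_inv_eq_one]
    exact h2 j _ (mul_mem (e2 ▸ conj_mem_cj ν hg) (inv_mem hg)) (by simp [e1])
  rw [e1, mul_one, ← map_mul] at e
  have e3 := h.inj h'.toWk π (fun j => (h1 j).le) h2 (by omega) (mul_mem hu hu') e
  rw [← mem_C'.1 (cent_I (K := zpowers ν) (fun j _ _ => zpowers_le.2 (c1 j)) (mem_zpowers ν)) u hu,
    mul_assoc, e3, mul_one]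
  exact c1 j

end Pol

end H14.Pg
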