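import Mathlib
import Cfsg.Agent.H14.Pg1

/-! # Root group systems of triangles and quadrangles: uniqueness of the ambient group -/

set_option autoImplicit false
set_option linter.unusedSectionVars false

namespace H14.Pg

open H24 Subgroup
open scoped commutatorElement

variable {G G' : Type*} [Group G] [Group G'] {U : ℤ → Subgroup G} {U' : ℤ → Subgroup G'}
  {V V' : ℤ → Subgroup (G × G')} {n i j k a b c : ℤ} {S T : Subgroup (G × G')} {X : Subgroup G}
  {X' : Subgroup G'} {x κ l : G × G'}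

/-- `S` is the graph of an isomorphism `X ≃ X'` -/
structure Gph (S : Subgroup (G × G')) (X : Subgroup G) (X' : Subgroup G') : Prop where
  l : S.map (MonoidHom.fst G G') = X
  r : S.map (MonoidHom.snd G G') = X'
  f : ∀ γ ∈ S, γ.1 = 1 → γ = 1
  g : ∀ γ ∈ S, γ.2 = 1 → γ = 1

theorem Gph.le (h : Gph S X X') : S ≤ X.prod X' := fun γ hγ =>
  ⟨h.l.le (mem_map_of_mem _ hγ), h.r.le (mem_map_of_mem _ hγ)⟩

theorem Gph.eq (h : Gph S X X') (h1 : S ≤ T) (h2 : T ≤ X.prod X') (h3 : ∀ γ ∈ T, γ.1 = 1 → γ = 1) :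
    S = T := le_antisymm h1 fun γ hγ => by
  obtain ⟨δ, hδ, e⟩ := h.l.ge (h2 hγ).1
  have := h3 _ (mul_mem (inv_mem (h1 hδ)) hγ) (inv_mul_eq_one.2 e)
  rwa [← inv_mul_eq_one.1 this]

theorem Gph.cj (h : Gph S X X') (x : G × G') : Gph (cj x S) (cj x.1 X) (cj x.2 X') :=
  ⟨by rw [map_cj, h.l]; rfl, by rw [map_cj, h.r]; rfl, fun γ hγ e => by
    obtain ⟨δ, hδ, rfl⟩ := mem_cj'.1 hγ
    rw [h.f δ hδ (conj_eq_one_iff.1 e), mul_one, mul_inv_cancel], fun γ hγ e => by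
    obtain ⟨δ, hδ, rfl⟩ := mem_cj'.1 hγ
    rw [h.g δ hδ (conj_eq_one_iff.1 e), mul_one, mul_inv_cancel]⟩

/-- the product system -/
def Pr (U : ℤ → Subgroup G) (U' : ℤ → Subgroup G') (j : ℤ) : Subgroup (G × G') := (U j).prod (U' j)

theorem I_pr : I (Pr U U') a b = (I U a b).prod (I U' a b) :=
  le_antisymm (I_le fun _ h1 h2 => prod_mono (le_I h1 h2) (le_I h1 h2)) (prod_le_iff.2
    ⟨(map_I _).le.trans (I_le_I fun _ _ _ => (prod_le_iff.1 le_rfl).1),
      (map_I _).le.trans (I_le_I fun _ _ _ => (prod_le_iff.1 le_rfl).2)⟩)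

theorem Wk.pr (h : Wk n U) (h' : Wk n U') : Wk n (Pr U U') :=
  ⟨h.hn, fun i j h1 h2 h3 _ hx => mem_C.2 fun _ hy => Prod.ext (mem_C.1 (h.cm i j h1 h2 h3 hx.1) _ hy.1)
    (mem_C.1 (h'.cm i j h1 h2 h3 hx.2) _ hy.2),
    fun i j e _ hx _ hy => I_pr.ge ⟨h.c3 i j e _ hx.1 _ hy.1, h'.c3 i j e _ hx.2 _ hy.2⟩,
    fun i a b h1 h2 => eq_bot_iff.2 fun _ hx => Prod.ext
      ((h.ind i a b h1 h2).le ⟨hx.1.1, (I_pr.le hx.2).1⟩)
      ((h'.ind i a b h1 h2).le ⟨hx.1.2, (I_pr.le hx.2).2⟩),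
    fun i a b h1 h2 => eq_bot_iff.2 fun _ hx => Prod.ext
      ((h.ind' i a b h1 h2).le ⟨hx.1.1, (I_pr.le hx.2).1⟩)
      ((h'.ind' i a b h1 h2).le ⟨hx.1.2, (I_pr.le hx.2).2⟩)⟩

theorem cj_prod (x : G × G') : cj x (X.prod X') = (cj x.1 X).prod (cj x.2 X') := by
  ext; simp [mem_cj, mem_prod]

theorem MU.pr (m : MU n U i x.1 κ.1 l.1) (m' : MU n U' i x.2 κ.2 l.2) : MU n (Pr U U') i x κ l :=
  ⟨⟨m.hk, m'.hk⟩, ⟨m.hl, m'.hl⟩, fun j k e => by
    rw [Pr, cj_prod, Pr, ← m.r j k e, ← m'.r j k e]; rfl⟩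

theorem C3.congr {G : Type*} [Group G] {V V' : ℤ → Subgroup G} (h : C3 n V i) (hn : 3 ≤ n)
    (e : ∀ j, i ≤ j → j < i + n → V j = V' j) : C3 n V' i := fun j e1 a ha u hu =>
  I_le_I (fun k _ _ => (e k (by omega) (by omega)).le) (h j e1 a ((e i le_rfl (by omega)).ge ha) u
    ((e j (by omega) (by omega)).ge hu))

theorem C3.cj {G : Type*} [Group G] {V : ℤ → Subgroup G} (h : C3 n V i) (g : G) :
    C3 n (fun j => cj g (V j)) i := by
  rintro j e _ ⟨a, ha, rfl⟩ _ ⟨u, hu, rfl⟩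
  rw [← map_commutatorElement]
  exact (map_I _).le (mem_map_of_mem _ (h j e a ha u hu))

theorem C3.shift {G : Type*} [Group G] {V : ℤ → Subgroup G} :
    C3 n (fun j => V (j + c)) i ↔ C3 n V (i + c) := by
  have e : ∀ a b, I (fun j => V (j + c)) a b = I V (a + c) (b + c) := fun a b =>
    le_antisymm (I_le fun _ _ _ => le_I (by omega) (by omega)) (I_le fun j _ _ =>
      (sub_add_cancel j c).symm ▸ le_I (U := fun j => V (j + c)) (j := j - c) (by omega) (by omega))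
  refine ⟨fun h j e1 a ha u hu => ?_, fun h j e1 a ha u hu => ?_⟩
  · have := h (j - c) (by omega) a ha u (by simpa using hu)
    rwa [e, sub_add_cancel, add_right_comm] at this
  · rw [e, add_right_comm]; exact h _ (by omega) a ha u hu

/-- one compatible window -/
structure Loc (n : ℤ) (U : ℤ → Subgroup G) (U' : ℤ → Subgroup G') (V : ℤ → Subgroup (G × G'))
    (i : ℤ) : Prop where
  g : ∀ j, i ≤ j → j < i + n → Gph (V j) (U j) (U' j)
  c : C3 n V i

theorem Loc.rev (h : Loc n U U' V (c - i - n + 1)) :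
    Loc n (fun j => U (c - j)) (fun j => U' (c - j)) (fun j => V (c - j)) i :=
  ⟨fun _ _ _ => h.g _ (by omega) (by omega), h.c.rev⟩

theorem Pol.nd' (h : Pol n U) {x : G} (hx : x ∈ U (i + n)) (h1 : x ∈ C[U (i + 1)]) : x = 1 :=
  (h.rev (i + n)).nd (i := 0) (j := n - 1) (by ring) (by simpa using hx) fun u hu => by
    rwa [conj_eq_of_mem_C h1 (show u ∈ U (i + 1) by convert hu using 2; ring)]

theorem Pol.bij {P : Type*} [Group P] {V : ℤ → Subgroup P} (p : Pol n V) (π : P →* G) (π' : P →* G')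
    (h : Pol n U) (h1 : ∀ j, (V j).map π = U j) (h1' : ∀ j, (V j).map π' = U' j)
    (h2 : ∀ j, ∀ x ∈ V j, π x = 1 → x = 1) (hg : ⨆ j, U j = ⊤) (hg' : ⨆ j, U' j = ⊤)
    (hz : center G = ⊥) (hz' : center G' = ⊥) (h3 : ∀ x, π x = 1 → π' x = 1 → x = 1) :
    Function.Bijective (π.comp (⨆ j, V j).subtype) := by
  refine ⟨(injective_iff_map_eq_one _).2 fun x e => Subtype.ext (h3 _ e ?_), fun y => ?_⟩
  · refine mem_bot.1 (hz' ▸ mem_center_iff.2 fun g => mem_C1.1 ?_)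
    refine (hg'.ge.trans (iSup_le fun j => ?_)) (mem_top g)
    rw [← h1']
    rintro _ ⟨y, hy, rfl⟩
    rw [mem_C1, ← map_mul, ← map_mul, mem_C.1 (p.ker h π h1 h2 hg hz x.2 e j) y hy]
  · have : y ∈ (⨆ j, V j).map π := by rw [Subgroup.map_iSup, funext h1, hg]; trivial
    obtain ⟨x, hx, rfl⟩ := this
    exact ⟨⟨x, hx⟩, rfl⟩

section
variable [Finite G] [Finite G'] (h : Pol n U) (h' : Pol n U')
include h h'

theorem Loc.one (p : Loc n U U' V i) (hx : x ∈ V i) (m : MU n U i x.1 κ.1 l.1)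
    (m' : MU n U' i x.2 κ.2 l.2) : cj (κ * x * l) (V (i + n - 1)) = V (i + 1) ∧
      cj κ (V (i + 1)) ≤ I V (i + 1) (i + n) := by
  have w := h.toWk.pr h'.toWk
  have := h.three
  have le : ∀ j, i ≤ j → j < i + n → V j ≤ Pr U U' j := fun j h1 h2 => (p.g j h1 h2).le
  have k : ∀ u ∈ V (i + n - 1), κ * x * l * u * (κ * x * l)⁻¹ ∈ V (i + 1) ∧
      κ * (κ * x * l * u * (κ * x * l)⁻¹) * κ⁻¹ ∈ I V (i + 1) (i + n) := fun u hu => by
    have k := p.c.conj this (j := i + n - 1) (by ring) hx hu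
    rw [I_left (by omega)] at k
    obtain ⟨y, hy, c, hc, e⟩ := (mem_sup_of_norm' (norm_of_cent (cent_I fun j _ _ =>
      (le _ (by omega) (by omega)).trans ((w.cm _ j (by omega) (by omega) (by omega)).trans
        (C_anti (le j (by omega) (by omega))))))).1 k
    obtain ⟨e1, e2⟩ := w.core (by ring) (m.pr m') (le _ (by omega) (by omega) hu)
      (le _ (by omega) (by omega) hy) (I_le_I (fun j _ _ => le j (by omega) (by omega)) hc) e
    rw [e1, e2]
    exact ⟨hy, mul_mem (le_I le_rfl (by omega) hy) (inv_mem (I_mono (by omega) le_rfl hc))⟩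
  have g := (p.g (i + n - 1) (by omega) (by omega)).cj (κ * x * l)
  rw [show cj (κ * x * l).1 _ = _ from m.r _ (i + 1) (by ring),
    show cj (κ * x * l).2 _ = _ from m'.r _ (i + 1) (by ring)] at g
  have e := g.eq (T := V (i + 1)) (by rintro _ ⟨u, hu, rfl⟩; exact (k u hu).1)
    (le _ (by omega) (by omega)) (p.g _ (by omega) (by omega)).f
  refine ⟨e, ?_⟩
  rw [← e]
  rintro _ ⟨_, ⟨u, hu, rfl⟩, rfl⟩
  exact (k u hu).2

theorem Loc.refl (p : Loc n U U' V i) (hx : x ∈ V i) (m : MU n U i x.1 κ.1 l.1)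
    (m' : MU n U' i x.2 κ.2 l.2) : (∀ j k, i < j → j < i + n → j + k = 2 * i + n →
      cj (κ * x * l) (V j) = V k) ∧ κ ∈ N[I V (i + 1) (i + n)] := by
  have w := h.toWk.pr h'.toWk
  have hn := h.hn
  have o := p.one h h' hx m m'
  have o' := p.one h h' (κ := l⁻¹) (l := κ⁻¹) (inv_mem hx) m.inv m'.inv
  have c : ∀ j, i + 1 < j → j < i + n → Pr U U' (i + n) ≤ C[V j] := fun j _ _ =>
    (w.cm _ j (by omega) (by omega) (by omega)).trans (C_anti (p.g j (by omega) (by omega)).le)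
  have mm := m.pr m'
  refine ⟨fun j k h1 h2 e => ?_, ?_⟩
  · by_cases e1 : j = i + n - 1
    · rw [e1, o.1]; congr 1; omega
    by_cases e2 : j = i + 1
    · rw [e2, ← o'.1, ← mul_inv_rev, ← mul_inv_rev, ← mul_assoc, cj_cj_inv]; congr 1; omega
    rw [show k = j by omega]
    exact cj_of_mem_C (mul_mem (mul_mem (c j (by omega) h2 mm.hk) (C_anti (p.g j (by omega) h2).le
      (w.cm i j (by omega) (by omega) (by omega) ((p.g i le_rfl (by omega)).le hx))))
      (c j (by omega) h2 mm.hl))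
  · refine mem_N_of_cj_le (cj_I_le fun j h1 h2 => ?_)
    rcases h1.eq_or_lt with rfl | h1
    exacts [o.2, (cj_of_mem_C (c j h1 h2 mm.hk)).le.trans (le_I h1.le h2)]

omit h h' in
theorem gph (p : ∀ i, Loc n U U' V i) (hn : 3 ≤ n) (j : ℤ) : Gph (V j) (U j) (U' j) :=
  (p j).g j le_rfl (by omega)

theorem wk (p : ∀ i, Loc n U U' V i) : Wk n V := by
  have w := h.toWk.pr h'.toWk
  have le : ∀ j, V j ≤ Pr U U' j := fun j => (gph p h.three j).le
  exact ⟨h.hn, fun i j h1 h2 h3 => (le i).trans ((w.cm i j h1 h2 h3).trans (C_anti (le j))),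
    fun i => (p i).c, fun i a b h1 h2 => eq_bot_iff.2 ((inf_le_inf (le i) (I_le_I fun j _ _ => le j)).trans
      (w.ind i a b h1 h2).le), fun i a b h1 h2 => eq_bot_iff.2
      ((inf_le_inf (le i) (I_le_I fun j _ _ => le j)).trans (w.ind' i a b h1 h2).le)⟩

theorem top (p : ∀ i, Loc n U U' V i) (i : ℤ) :
    V (i + n) = Pr U U' (i + n) ⊓ N[I V (i + 1) (i + n)] := by
  have := h.three
  have g := gph p this
  refine (g _).eq (le_inf (g _).le ((wk h h' p).normR rfl (by omega))) inf_le_left fun γ hγ e => ?_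
  refine Prod.ext e (h'.nd' hγ.1.2 (mem_C'.2 fun y hy => ?_))
  obtain ⟨δ, hδ, rfl⟩ := (g _).r.ge hy
  have k := le_I (b := i + n) le_rfl (by omega) hδ
  have := (wk h h' p).inj h.toWk (MonoidHom.fst G G') (fun j => (g j).l.le) (fun j => (g j).f)
    (by omega) (mul_mem (conj_mem hγ.2 k) (inv_mem k)) (by simp [e])
  rw [mul_inv_eq_one, mul_inv_eq_iff_eq_mul] at this
  exact congrArg Prod.snd this

theorem up (p : ∀ i, Loc n U U' V i) (p' : ∀ i, Loc n U U' V' i)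
    (e : ∀ j, i < j → j < i + n → V j = V' j) (hj : i < j) : V j = V' j := by
  have := h.three
  have k : ∀ k, i ≤ k → ∀ j, k < j → j < k + n → V j = V' j := fun k hk => by
    induction k, hk using Int.le_induction with
    | base => exact e
    | succ k _ ih =>
      intro j h1 h2
      by_cases h3 : j = k + n
      · rw [h3, top h h' p, top h h' p', le_antisymm (I_le_I fun j _ _ => (ih j (by omega) ‹_›).le)
          (I_le_I fun j _ _ => (ih j (by omega) ‹_›).ge)]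
      · exact ih j (by omega) (by omega)
  exact k (j - 1) (by omega) j (by omega) (by omega)

theorem uniq (p : ∀ i, Loc n U U' V i) (p' : ∀ i, Loc n U U' V' i)
    (e : ∀ j, i < j → j < i + n → V j = V' j) (j : ℤ) : V j = V' j := by
  have := h.three
  by_cases hj : i < j
  · exact up h h' p p' e hj
  · simpa using up (h.rev (2 * i + n)) (h'.rev _) (fun _ => (p _).rev) (fun _ => (p' _).rev)
      (fun j _ _ => e _ (by omega) (by omega)) (i := i) (j := 2 * i + n - j) (by omega)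

theorem refl (p : ∀ i, Loc n U U' V i) (hx : x ∈ V i) (m : MU n U i x.1 κ.1 l.1)
    (m' : MU n U' i x.2 κ.2 l.2) (e : j + k = 2 * i + n) : cj (κ * x * l) (V j) = V k := by
  rw [cj_eq_iff, show k = 2 * i + n - j by omega]
  refine uniq h h' p (V' := fun j => cj (κ * x * l)⁻¹ (V (2 * i + n - j))) (fun i' => ⟨fun j _ _ => ?_,
    ((p _).rev (c := 2 * i + n)).c.cj _⟩) (fun j h1 h2 =>
      cj_eq_iff.1 (((p i).refl h h' hx m m').1 j _ h1 h2 (by ring))) j
  have := (gph p h.three (2 * i + n - j)).cj (κ * x * l)⁻¹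
  rwa [← m.r j _ (by ring), ← m'.r j _ (by ring), 
    show cj (κ * x * l)⁻¹.1 (cj (κ.1 * x.1 * l.1) _) = _ from cj_inv_cj _ _,
    show cj (κ * x * l)⁻¹.2 (cj (κ.2 * x.2 * l.2) _) = _ from cj_inv_cj _ _] at this

omit [Finite G] [Finite G'] in
theorem ex_mu {S : Subgroup (G × G')} (g : Gph S (U i) (U' i)) (hx : x ∈ S) (x1 : x ≠ 1) :
    ∃ κ l : G × G', MU n U i x.1 κ.1 l.1 ∧ MU n U' i x.2 κ.2 l.2 :=
  let ⟨κ, l, m⟩ := h.mu i _ (g.le hx).1 fun e => x1 (g.f x hx e)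
  let ⟨κ', l', m'⟩ := h'.mu i _ (g.le hx).2 fun e => x1 (g.g x hx e)
  ⟨(κ, κ'), (l, l'), m, m'⟩

omit [Finite G] [Finite G'] h' in
theorem ex_ne {S : Subgroup (G × G')} (g : Gph S (U i) (U' i)) : ∃ x ∈ S, x ≠ 1 := by
  by_contra! e
  exact h.ne i (by rw [← g.l, (eq_bot_iff_forall S).2 e, Subgroup.map_bot])

theorem pol (p : ∀ i, Loc n U U' V i) : Pol n V := by
  have g := gph p h.three
  have k : ∀ {i} {x κ l : G × G'}, x ∈ V i → MU n U i x.1 κ.1 l.1 → MU n U' i x.2 κ.2 l.2 → κ ∈ V (i + n) :=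
    fun hx m m' => (top h h' p _).ge ⟨(m.pr m').hk, ((p _).refl h h' hx m m').2⟩
  refine ⟨wk h h' p, fun i => ?_, fun i x hx x1 => ?_, fun i e => ?_⟩
  · obtain ⟨x, hx, x1⟩ := ex_ne h (g 0)
    obtain ⟨κ, l, m, m'⟩ := ex_mu h h' (g 0) hx x1
    rw [← refl h h' p hx m m' (j := n - i) (k := i) (by ring), ← refl h h' p (k hx m m')
      (κ := κ * x * l * l * (κ * x * l)⁻¹) (l := x) (m.opp h.per ((g 0).le hx).1)
      (m'.opp h'.per ((g 0).le hx).2) (j := n - i) (k := i + 2 * n) (by ring)]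
    congr 1; group
  · obtain ⟨κ, l, m, m'⟩ := ex_mu h h' (g i) hx x1
    exact ⟨κ, l, k hx m m', inv_mem_iff.1 (k (l := κ⁻¹) (inv_mem hx) m.inv m'.inv),
      fun _ _ => refl h h' p hx m m'⟩
  · obtain ⟨x, hx, x1⟩ := ex_ne h (g i)
    exact x1 (mem_bot.1 (e ▸ hx))

theorem roll (p : Loc n U U' V 0) : ∃ V', ∀ i, Loc n U U' V' i := by
  have hn := h.hn
  obtain ⟨x, hx, x1⟩ := ex_ne h (p.g 0 le_rfl (by omega))
  obtain ⟨κ, l, m, m'⟩ := ex_mu h h' (p.g 0 le_rfl (by omega)) hx x1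
  obtain ⟨y, hy, y1⟩ := ex_ne h (p.g (n - 1) (by omega) (by omega))
  obtain ⟨κ', l', w, w'⟩ := ex_mu h h' (p.g (n - 1) (by omega) (by omega)) hy y1
  have s := (p.refl h h' hx m m').1
  have t := ((Loc.rev (c := n - 1) (i := 0) (by simpa using p)).refl (h.rev _) (h'.rev _)
    (by simpa using hy) (MU.rev h.per (by simpa using w)) (MU.rev h'.per (by simpa using w'))).1
  have r1 := m.rot h.per w
  have r2 := m'.rot h'.per w'
  change ∀ j, cj (κ * x * l * (κ' * y * l')).1 _ = _ at r1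
  change ∀ j, cj (κ * x * l * (κ' * y * l')).2 _ = _ at r2
  generalize κ * x * l = σ, κ' * y * l' = τ at *
  let W : ℤ → Subgroup (G × G') := fun j => cj ((σ * τ) ^ (j / 2)) (V (j % 2))
  have w2 : ∀ j, W (j + 2) = cj (σ * τ) (W j) := fun j => by
    simp only [W]
    rw [← cj_mul, Int.add_emod_right, show (j + 2) / 2 = 1 + j / 2 by omega, zpow_one_add]
  have t' : ∀ j, 0 ≤ j → j < n - 1 → cj τ (V j) = V (n - 2 - j) := fun j _ _ => by
    have := t (n - 1 - j) (j + 1) (by omega) (by omega) (by ring)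
    rwa [sub_sub_cancel, show n - 1 - (j + 1) = n - 2 - j by ring] at this
  have w0 : W 0 = V 0 := by simp [W]
  have w1 : W 1 = V 1 := by simp [W]
  have w3 : ∀ j, 0 ≤ j → j + 2 < n → W j = V j → W (j + 2) = V (j + 2) := fun j _ _ e => by
    rw [w2, e, cj_mul, t' j ‹_› (by omega), s _ (j + 2) (by omega) (by omega) (by ring)]
  have e : ∀ j, 0 ≤ j → j < n → V j = W j := fun j _ _ => by
    obtain rfl | rfl | rfl | rfl : j = 0 ∨ j = 1 ∨ j = 0 + 2 ∨ j = 1 + 2 := by omega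
    exacts [w0.symm, w1.symm, (w3 0 le_rfl ‹_› w0).symm, (w3 1 (by omega) ‹_› w1).symm]
  have wn : W n = cj σ (V 0) := by
    rw [show W n = W (n - 2 + 2) by rw [sub_add_cancel], w2, ← e _ (by omega) (by omega), cj_mul,
      t' _ (by omega) (by omega), sub_self]
  have g : ∀ j, Gph (W j) (U j) (U' j) := ind2 (w0 ▸ p.g 0 le_rfl (by omega))
    (w1 ▸ p.g 1 (by omega) (by omega)) fun j => by
      rw [w2, ← r1, ← r2]
      exact ⟨fun g => g.cj _, fun g => by
        simpa only [Prod.fst_inv, Prod.snd_inv, cj_inv_cj] using g.cj (σ * τ)⁻¹⟩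
  refine ⟨W, fun i => ⟨fun j _ _ => g j, ?_⟩⟩
  refine ind2 (P := C3 n W) (p.c.congr (by omega) (by simpa using e)) ?_ (fun j => ?_) i
  · refine (((C3.rev (c := n) (i := 1) (by simpa using p.c)).cj σ).congr (by omega) fun j _ _ => ?_)
    by_cases e1 : j = n
    · rw [e1, wn, sub_self]
    · rw [← e j (by omega) (by omega)]; exact s _ _ (by omega) (by omega) (by ring)
  · rw [← C3.shift, funext w2]
    exact ⟨fun c => c.cj _, fun c => by simpa only [cj_inv_cj] using c.cj (σ * τ)⁻¹⟩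

theorem iso (p : Loc n U U' V 0) (hg : ⨆ j, U j = ⊤) (hg' : ⨆ j, U' j = ⊤) (hz : center G = ⊥)
    (hz' : center G' = ⊥) : Nonempty (G ≃* G') := by
  obtain ⟨V, p⟩ := roll h h' p
  have g := gph p h.three
  have P := pol h h' p
  exact ⟨(MulEquiv.ofBijective _ (P.bij (.fst G G') (.snd G G') h (fun j => (g j).l) (fun j => (g j).r)
    (fun j => (g j).f) hg hg' hz hz' fun _ a b => Prod.ext a b)).symm.trans
    (MulEquiv.ofBijective _ (P.bij (.snd G G') (.fst G G') h' (fun j => (g j).r) (fun j => (g j).l)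
    (fun j => (g j).g) hg' hg hz' hz fun _ a b => Prod.ext b a))⟩

end

end H14.Pg
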