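import Mathlib
import Cfsg.Agent.H14.Pg2
import Cfsg.Agent.H20.THex

/-! # Triangles and quadrangles as root group systems -/

set_option autoImplicit false
set_option linter.unusedSectionVars false

namespace H14.Pg

open H24 Subgroup H20.TB
open scoped commutatorElement

variable {G G' : Type*} [Group G] [Group G'] {U : ℤ → Subgroup G} {U' : ℤ → Subgroup G'}
  {n i a b : ℤ} {x : G}

theorem mu_of {m : G} (h : Mu n U i x m) : ∃ κ l, MU n U i x κ l := by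
  obtain ⟨⟨κ, hκ, l, hl, rfl⟩, h⟩ := h
  refine ⟨κ, l, hκ, hl, fun j k e => ?_⟩
  ext g
  rw [mem_cj, h, show 2 * i + n - j = k by omega]
  simp [mul_assoc]

theorem I_one (h : b = a + 1) : I U a b = U a :=
  le_antisymm (I_le fun j _ _ => (show j = a by omega) ▸ le_rfl) (le_I le_rfl (by omega))

theorem dec2 (c : U a ≤ C[U (a + 1)]) (hx : x ∈ I U a (a + 2)) :
    ∃ y ∈ U a, ∃ z ∈ U (a + 1), x = y * z := by
  rw [I_left (by omega), I_one (by ring)] at hx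
  exact (mem_sup_of_norm' (norm_of_cent c)).1 hx

theorem dec3 (c : U a ≤ C[U (a + 1)]) (c' : U a ≤ C[U (a + 1 + 1)]) (c'' : U (a + 1) ≤ C[U (a + 1 + 1)])
    (hx : x ∈ I U a (a + 3)) : ∃ y ∈ U a, ∃ z ∈ U (a + 1), ∃ w ∈ U (a + 1 + 1), x = y * z * w := by
  rw [I_left (by omega)] at hx
  obtain ⟨y, hy, z, hz, rfl⟩ := (mem_sup_of_norm' (norm_of_cent (cent_I fun j _ _ => by
    obtain rfl | rfl : j = a + 1 ∨ j = a + 1 + 1 := by omega
    exacts [c, c']))).1 hx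
  obtain ⟨z', hz', w, hw, rfl⟩ := dec2 c'' (I_mono le_rfl (by omega) hz)
  exact ⟨y, hy, z', hz', w, hw, (mul_assoc _ _ _).symm⟩

theorem ix {i j : ℤ} (h : x ∈ U i) (e : i = j := by ring) : x ∈ U j := e ▸ h

theorem hex_pol (H : Hex G) : Pol 3 H.U := by
  have c : ∀ i, H.U i ≤ C[H.U (i + 1)] := fun i a ha => mem_C'.2 (H.c1 i a ha)
  refine ⟨⟨.inl rfl, fun i j _ _ _ => ?_, fun i j e a ha u hu => ?_,
    fun i a b _ _ => eq_bot_iff.2 fun x hx => ?_, fun i a b _ _ => eq_bot_iff.2 fun x hx => ?_⟩,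
    H.per, fun i a ha a1 => (H.mu i a ha a1).elim fun _ => mu_of, H.ne⟩
  · obtain rfl | rfl : j = i + 1 ∨ i = j + 1 := by omega
    exacts [c i, cents_symm (c j)]
  · exact le_I le_rfl (by omega) (H.c2 i a ha u (ix hu (by omega)))
  · obtain ⟨y, hy, z, hz, e⟩ := dec2 (c (i + 1)) (I_mono (by omega) (by omega) hx.2)
    exact inv_eq_one.1 (H.ind i _ (inv_mem hx.1) y hy z (ix hz) (by rw [e]; group)).1
  · obtain ⟨y, hy, z, hz, e⟩ := dec2 (c (i - 2)) (I_mono (by omega) (by omega) hx.2)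
    exact inv_eq_one.1 (H.ind _ y hy z hz _ (ix (inv_mem hx.1)) (by rw [e]; group)).2.2

theorem oct_pol (O : Oct G) (ha : ∀ i, O.ab i) : Pol 4 O.U := by
  have c : ∀ i, O.U i ≤ C[O.U (i + 1)] := fun i a ha => mem_C'.2 (O.c1 i a ha)
  have c' : ∀ i, O.U i ≤ C[O.U (i + 1 + 1)] := fun i a h => mem_C'.2 fun b hb => ha i a h b (ix hb)
  refine ⟨⟨.inr rfl, fun i j _ _ _ => ?_, fun i j e a ha u hu => ?_,
    fun i a b _ _ => eq_bot_iff.2 fun x hx => ?_, fun i a b _ _ => eq_bot_iff.2 fun x hx => ?_⟩,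
    O.per, fun i a ha a1 => (O.mu i a ha a1).elim fun _ => mu_of, O.ne⟩
  · obtain rfl | rfl | rfl | rfl : j = i + 1 ∨ i = j + 1 ∨ j = i + 1 + 1 ∨ i = j + 1 + 1 := by omega
    exacts [c i, cents_symm (c j), c' i, cents_symm (c' j)]
  · obtain ⟨y, hy, z, hz, e⟩ := O.c3 i a ha u (ix hu (by omega))
    exact e ▸ mul_mem (le_I le_rfl (by omega) hy) (le_I (by omega) (by omega) hz)
  · obtain ⟨y, hy, z, hz, w, hw, e⟩ := dec3 (c (i + 1)) (c' _) (c _) (I_mono (by omega) (by omega) hx.2)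
    exact inv_eq_one.1 (O.ind i _ (inv_mem hx.1) y hy z (ix hz) w (ix hw) (by rw [e]; group)).1
  · obtain ⟨y, hy, z, hz, w, hw, e⟩ := dec3 (c (i - 3)) (c' _) (c _) (I_mono (by omega) (by omega) hx.2)
    exact inv_eq_one.1 (O.ind _ y hy z hz w (ix hw) _ (ix (inv_mem hx.1)) (by rw [e]; group)).2.2.2

theorem gph_of {Γ : Subgroup (G × G')} (l : ∀ a ∈ U i, ∃ a' ∈ U' i, (a, a') ∈ Γ)
    (r : ∀ a' ∈ U' i, ∃ a ∈ U i, (a, a') ∈ Γ) (f : ∀ γ ∈ Γ, γ.1 = 1 ↔ γ.2 = 1) :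
    Gph (Γ ⊓ Pr U U' i) (U i) (U' i) :=
  ⟨le_antisymm (by rintro _ ⟨γ, h, rfl⟩; exact h.2.1) fun a ha =>
      let ⟨a', h1, h2⟩ := l a ha; ⟨(a, a'), ⟨h2, ha, h1⟩, rfl⟩,
    le_antisymm (by rintro _ ⟨γ, h, rfl⟩; exact h.2.2) fun a' ha =>
      let ⟨a, h1, h2⟩ := r a' ha; ⟨(a, a'), ⟨h2, h1, ha⟩, rfl⟩,
    fun γ h e => Prod.ext e ((f γ h.1).1 e), fun γ h e => Prod.ext ((f γ h.1).2 e) e⟩

theorem ends (w : Wk n U) {a y d : G} (ha : a ∈ U 0) (hy : y ∈ I U 1 (n - 1)) (hd : d ∈ U (n - 1))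
    (h : a * y * d ∈ I U 1 (n - 1)) : a * y * d = y := by
  have := w.three
  obtain rfl := w.eq_one (a := 1) (b := n) (by omega) (by omega) ha ((mul_mem_cancel_right
    (mul_mem (I_mono le_rfl (by omega) hy) (le_I (by omega) (by omega) hd))).1
    (mul_assoc a y d ▸ I_mono le_rfl (by omega) h))
  rw [one_mul] at h ⊢
  rw [mem_bot.1 ((w.ind' (n - 1) 1 (n - 1) (by omega) le_rfl).le ⟨hd, (mul_mem_cancel_left hy).1 h⟩),
    mul_one]

theorem hex_iso [Finite G] [Finite G'] (H : Hex G) (H' : Hex G') (hg : (⨆ i, H.U i) = ⊤)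
    (hg' : (⨆ i, H'.U i) = ⊤) (hz : center G = ⊥) (hz' : center G' = ⊥)
    (hc : Nat.card (H.U 0) = Nat.card (H'.U 0)) : Nonempty (G ≃* G') := by
  obtain ⟨Γ, h⟩ := H.iso H' hc
  have w := (hex_pol H).toWk.pr (hex_pol H').toWk
  refine iso (hex_pol H) (hex_pol H') (V := fun i => Γ ⊓ Pr H.U H'.U i) ⟨fun j h1 h2 =>
    gph_of (h.left j h1 h2) (h.right j h1 h2) h.faith, fun j e x hx u hu => ?_⟩ hg hg' hz hz'
  obtain rfl : j = 2 := by omega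
  have k := w.c3 0 2 e x hx.2 u hu.2
  rw [I_one (by norm_num)] at k ⊢
  exact ⟨commutatorElement_def x u ▸ Γ.mul_mem (Γ.mul_mem (Γ.mul_mem hx.1 hu.1) (Γ.inv_mem hx.1))
    (Γ.inv_mem hu.1), k⟩

theorem oct_iso [Finite G] [Finite G'] (O : Oct G) (O' : Oct G') (hg : (⨆ i, O.U i) = ⊤)
    (hg' : (⨆ i, O'.U i) = ⊤) (hz : center G = ⊥) (hz' : center G' = ⊥) (ha : ∀ i, O.ab i)
    (ha' : ∀ i, O'.ab i) {Γ : Subgroup (G × G')} (h : Gr4 O.U O'.U Γ) : Nonempty (G ≃* G') := by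
  have w := (oct_pol O ha).toWk.pr (oct_pol O' ha').toWk
  refine iso (oct_pol O ha) (oct_pol O' ha') (V := fun i => Γ ⊓ Pr O.U O'.U i) ⟨fun j h1 h2 =>
    gph_of (h.left j h1 h2) (h.right j h1 h2) h.faith, fun j e x hx u hu => ?_⟩ hg hg' hz hz'
  obtain rfl : j = 3 := by omega
  have k := w.c3 0 3 e x hx.2 u hu.2
  obtain ⟨a, -, b, b1, c, c1, d, -, a2, b2, c2, d2, e1⟩ := h.dec ⁅x, u⁆ (commutatorElement_def x u ▸
    Γ.mul_mem (Γ.mul_mem (Γ.mul_mem hx.1 hu.1) (Γ.inv_mem hx.1)) (Γ.inv_mem hu.1))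
  rw [e1, mul_assoc a] at k ⊢
  rw [ends w a2 (mul_mem (le_I (j := 1) (by omega) (by omega) b2) (le_I (j := 2) (by omega) (by omega) c2))
    d2 k]
  exact mul_mem (le_I (j := 1) (by omega) (by omega) ⟨b1, b2⟩) (le_I (j := 2) (by omega) (by omega) ⟨c1, c2⟩)

end H14.Pg
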