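import Mathlib
import Cfsg.Agent.H13.WDefs
import Cfsg.Agent.H13.WBasic
import Cfsg.Agent.H22.QD
import Cfsg.Agent.S0215

/-! The determinant on `H = C(t)` and `[H, Z] ≤ O(H)` for wreathed Sylow 2-subgroups. -/

set_option autoImplicit false

namespace H14

open Subgroup

/-- a homomorphism from a Sylow subgroup to an abelian group which kills the focal subgroup
extends to the whole group -/
theorem exists_extend_sylow {G A : Type*} [Group G] [Finite G] [CommGroup A] {p : ℕ}
    [Fact p.Prime] (P : Sylow p G) (φ : P →* A)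
    (h : ∀ x : P, (x : G) ∈ commutator G → φ x = 1) : ∃ ψ : G →* A, ∀ x : P, ψ x = φ x := by
  classical
  let π : G →* Abelianization G := Abelianization.of
  let f : P →* Abelianization G := π.comp (P : Subgroup G).subtype
  have hker : f.rangeRestrict.ker ≤ φ.ker := by
    intro x hx
    rw [MonoidHom.ker_rangeRestrict] at hx
    refine h x ?_
    rw [← Abelianization.ker_of]
    exact hx
  let φ' : f.range →* A := f.rangeRestrict.liftOfSurjective f.rangeRestrict_surjective ⟨φ, hker⟩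
  have hφ' : ∀ x : P, φ' (f.rangeRestrict x) = φ x := fun x =>
    f.rangeRestrict.liftOfRightInverse_comp_apply _ _ ⟨φ, hker⟩ x
  set m := (P : Subgroup G).index with hm
  have hcop : m.Coprime (Nat.card P) := by
    obtain ⟨k, hk⟩ := IsPGroup.iff_card.1 P.isPGroup'
    rw [hk]
    exact Nat.Coprime.pow_right k ((Nat.Prime.coprime_iff_not_dvd Fact.out).2 P.not_dvd_index).symm
  obtain ⟨k, hk⟩ : ∃ k, m * k ≡ 1 [MOD Nat.card P] := by
    obtain ⟨k, -, hk⟩ := Nat.exists_mul_mod_eq_of_coprime 1 hcop Nat.card_pos.ne'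
    exact ⟨k, hk⟩
  have hpow : ∀ y : Abelianization G, y ^ (m * k) ∈ f.range := by
    intro y
    have h1 : f.range.index ∣ m := by
      have : f.range = (P : Subgroup G).map π := by
        rw [MonoidHom.range_comp, range_subtype]
      rw [this]
      exact index_map_dvd _ (fun y => QuotientGroup.mk_surjective y)
    obtain ⟨c, hc⟩ := h1
    rw [hc, mul_assoc, pow_mul]
    exact pow_mem (f.range.pow_index_mem y) _
  let q : Abelianization G →* f.range := (powMonoidHom (m * k)).codRestrict f.range hpow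
  refine ⟨φ'.comp (q.comp π), fun x => ?_⟩
  rw [← hφ' x]
  simp only [MonoidHom.comp_apply]
  congr 1
  apply Subtype.ext
  change π x ^ (m * k) = π x
  have : x ^ (m * k) = x := by
    rw [pow_eq_pow_iff_modEq.2 (hk.of_dvd (orderOf_dvd_natCard x)), pow_one]
  rw [← map_pow, ← Subgroup.coe_pow, this]

end H14

namespace H13.W

open H24 Cfsg Subgroup
open H22 (WR WA Bj hh)

universe u

variable {G : Type u} [Group G] [Finite G]

/-- the coordinates of `c` as fusion data -/
def WC.data (c : WC G) : H22.WR.Data c.P c.E0 (c.E.exists_V (j := 1) 0).choose :=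
  ⟨c.n, c.hn, c.E, 0, c.isR, (c.E.exists_V (j := 1) 0).choose_spec, by simp⟩

theorem WC.P_le_H (c : WC G) : (c.P : Subgroup G) ≤ c.H := c.S_le_H

theorem WC.not_hasOdd_H (c : WC G) : ¬ H22.HasOdd (c.E0.subgroupOf c.H) := fun h' =>
  c.data.z_ne_u (H22.eq_of_isConj_of_centralizer rfl ((c.data.subgroupOf c.P_le_H).isConj_U h'))

theorem WC.exists_det (c : WC G) : ∃ det : c.H →* Multiplicative (ZMod (2 ^ c.n)),
    (∀ a : WA c.n, ap det (c.E.r a) = Multiplicative.ofAdd (a.1 + a.2)) ∧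
      ap det c.σ = Multiplicative.ofAdd (hh c.n) := by
  classical
  let D := c.data.subgroupOf c.P_le_H
  let E := c.E.subgroupOf c.P_le_H
  let P := c.P.subtype c.P_le_H
  let d : c.H → ZMod (2 ^ c.n) := fun x =>
    if h : ∃ a, E.r a = x then h.choose.1 + h.choose.2
    else if h : ∃ a, E.s a = x then h.choose.1 + h.choose.2 + hh c.n else 0
  have hr : ∀ a, d (E.r a) = a.1 + a.2 := fun a => by
    have h : ∃ b, E.r b = E.r a := ⟨a, rfl⟩
    simp only [d, dif_pos h]
    rw [E.r_inj.1 h.choose_spec]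
  have hs : ∀ a, d (E.s a) = a.1 + a.2 + hh c.n := fun a => by
    have h : ∃ b, E.s b = E.s a := ⟨a, rfl⟩
    have h' : ¬ ∃ b, E.r b = E.s a := fun ⟨b, hb⟩ => E.r_ne_s _ _ hb
    simp only [d, dif_pos h, dif_neg h']
    rw [E.s_inj.1 h.choose_spec]
  let φ : P →* Multiplicative (ZMod (2 ^ c.n)) :=
    MonoidHom.mk' (fun x => Multiplicative.ofAdd (d x)) (by
      rintro ⟨x, hx⟩ ⟨y, hy⟩
      rw [← ofAdd_add]
      congr 1
      change d (x * y) = d x + d y
      have h2 := c.hh2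
      rcases E.cases hx with ⟨a, rfl⟩ | ⟨a, rfl⟩ <;> rcases E.cases hy with ⟨b, rfl⟩ | ⟨b, rfl⟩
      · rw [E.r_mul_r, hr, hr, hr]; simp only [Prod.fst_add, Prod.snd_add]; ring
      · rw [E.r_mul_s, hr, hs, hs]; simp only [Prod.fst_add, Prod.snd_add]; ring
      · rw [E.s_mul_r, hr, hs, hs]
        simp only [Prod.fst_add, Prod.snd_add, H22.sw_fst, H22.sw_snd]; ring
      · rw [E.s_mul_s, hr, hs, hs]
        simp only [add_zero, Prod.fst_add, Prod.snd_add, H22.sw_fst, H22.sw_snd]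
        linear_combination -h2)
  obtain ⟨Y, hY⟩ := H22.WR.exists_Y E c.n1
  have h3 : commutator c.H ⊓ P ≤ Y := D.focal_le (fun b => (hY.r_mem b).2)
    (fun h' => absurd h' c.not_hasOdd_H) fun _ => hY.self_mem
  obtain ⟨ψ, hψ⟩ := H14.exists_extend_sylow P φ (by
    rintro ⟨x, hx⟩ hx'
    have hxY : x ∈ Y := h3 ⟨hx', hx⟩
    change Multiplicative.ofAdd (d x) = Multiplicative.ofAdd 0
    congr 1
    rcases E.cases hx with ⟨a, rfl⟩ | ⟨a, rfl⟩
    · rw [hr]; exact H22.mem_Cj_zero.1 ((hY.r_mem a).1 hxY)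
    · rw [hs]
      have := H22.mem_Cj_zero.1 ((hY.s_mem a).1 hxY)
      simp only [Prod.fst_sub, Prod.snd_sub, sub_zero] at this
      linear_combination this + c.hh2)
  refine ⟨ψ, fun a => ?_, ?_⟩
  · rw [ap_of_mem ψ (c.P_le_H (c.E.r_mem a))]
    exact (hψ ⟨E.r a, E.r_mem a⟩).trans (congrArg Multiplicative.ofAdd (hr a))
  · rw [ap_of_mem ψ c.σ_mem_H]
    refine (hψ ⟨E.s 0, E.s_mem 0⟩).trans (congrArg Multiplicative.ofAdd ((hs 0).trans ?_))
    simp

open scoped commutatorElement in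
theorem WC.centZ (c : WC G) : ⁅c.H, c.Z⁆ ≤ c.O := by
  let D := c.data.subgroupOf c.P_le_H
  let P := c.P.subtype c.P_le_H
  let E : WR (P : Subgroup c.H) c.n := c.E.subgroupOf c.P_le_H
  have hZ := E.isR_center' c.n1
  have hw := E.isR_zpowers_diag.unique hZ
  have hw' : E.r (1, 1) ∈ (P : Subgroup c.H) ⊓ centralizer ((P : Subgroup c.H) : Set c.H) :=
    hw.le (mem_zpowers _)
  have key := H22.core_mul_centralizer (fun P u => Cfsg.Agent.S0215.result P u) P hw'
    (fun Z₀ hZ₀ => D.weaklyClosed c.not_hasOdd_H Z₀ (by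
      rw [H22.map_center_eq]; exact hZ₀.trans hw.le))
  have hO : c.O = (oddCore c.H).map c.H.subtype := pcore_compl_singleton Nat.prime_two _
  rw [commutator_le]
  intro g hg z hz
  obtain ⟨o, ho, x, hx, e⟩ := key ⟨g, hg⟩
  obtain ⟨j, rfl⟩ := c.mem_Z.1 hz
  have hj : E.r (j, j) ∈ zpowers (E.r (1, 1)) :=
    (E.isR_zpowers_diag.r_mem _).2 (H22.diag_mem_Bj j)
  have h1 : E.r (j, j) * x = x * E.r (j, j) := mem_centralizer_iff.1 hx _ hj
  have h2 : ⁅(⟨g, hg⟩ : c.H), E.r (j, j)⁆ ∈ oddCore c.H := by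
    have : ⁅(⟨g, hg⟩ : c.H), E.r (j, j)⁆ = o * (E.r (j, j) * o⁻¹ * (E.r (j, j))⁻¹) := by
      rw [e, commutatorElement_def]
      calc o * x * E.r (j, j) * (o * x)⁻¹ * (E.r (j, j))⁻¹
          = o * (x * E.r (j, j)) * (o * x)⁻¹ * (E.r (j, j))⁻¹ := by group
        _ = _ := by rw [← h1]; group
    rw [this]
    exact mul_mem ho ((inferInstance : (oddCore c.H).Normal).conj_mem _ (inv_mem ho) _)
  rw [hO]
  exact ⟨_, h2, rfl⟩

end H13.W
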