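import Mathlib
import Cfsg.Agent.H6.XZDefs
import Cfsg.Agent.H6.XS2
import Cfsg.Agent.H6.XM

/-! The minus type in width four: linear algebra. -/

set_option autoImplicit false
set_option linter.unusedSectionVars false
set_option synthInstance.maxSize 8000

namespace H14.ZM

open Subgroup H24 H15 H15.XP Module H20.XA H6.XS

variable {V : Type*} [AddCommGroup V] [Module (ZMod 2) V] [Finite V]
variable {q : QuadraticForm (ZMod 2) V} {a b u s x v : V} {g : (ofQuad q).Isom}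

theorem exists_minus (hq : (ofQuad q).Nondeg) (hd : finrank (ZMod 2) V = 2 * 4)
    (hn : ¬ ∃ A, TS q A ∧ finrank (ZMod 2) A = 4) : ∃ a b, q a = 1 ∧ q b = 1 ∧ pol q a b = 1 ∧
    ∃ P, TS q P ∧ finrank (ZMod 2) P = 3 ∧ ∀ p ∈ P, pol q a p = 0 ∧ pol q b p = 0 := by
  rcases H7.card_isom_quad_even 3 V q hq hd with ⟨k, -⟩ | ⟨k, -⟩
  · obtain ⟨g, hg⟩ := H7.exists_equiv_of_nz_eq 4 _ V (H7.qPlus 4 (ZMod 2)) q (H7.qPlus_nondeg 4 _)
      hq (by simp) hd (add_right_cancel ((H7.nz_qPlus 3).trans k.symm))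
    let f : (Fin 4 → ZMod 2) →ₗ[ZMod 2] V := g.toLinearMap ∘ₗ
      { toFun := fun a => Sum.elim a 0
        map_add' := fun a b => by ext (i | i) <;> simp
        map_smul' := fun a b => by ext (i | i) <;> simp }
    have fi : Function.Injective f := fun a b e => funext fun i => congrFun (g.injective e) (Sum.inl i)
    refine (hn ⟨LinearMap.range f, ?_, by rw [LinearMap.finrank_range_of_inj fi]; simp⟩).elim
    rintro _ ⟨a, rfl⟩
    exact (hg _).trans (by simp [H7.qPlus_apply])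
  obtain ⟨g, hg⟩ := H7.exists_equiv_of_nz_eq 4 _ V (H7.qMinus 3 (ZMod 2) 1 1) q
    (H7.qMinus_nondeg 3 aniso) hq (by simp) hd
    (add_right_cancel ((H7.nz_qMinus 3 aniso).trans k.symm))
  have hp : ∀ x y, pol q (g x) (g y) = pol (H7.qMinus 3 (ZMod 2) 1 1) x y := fun x y => by
    have e1 := quad_add q (g x) (g y)
    rw [← map_add, hg, hg, hg, quad_add] at e1
    exact (add_left_cancel e1).symm
  let f : (Fin 3 → ZMod 2) →ₗ[ZMod 2] V := g.toLinearMap ∘ₗ
    { toFun := fun a => Sum.elim (Sum.elim a 0) 0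
      map_add' := fun a b => by ext ((i | i) | i) <;> simp
      map_smul' := fun a b => by ext ((i | i) | i) <;> simp }
  have fi : Function.Injective f := fun a b e =>
    funext fun i => congrFun (g.injective e) (Sum.inl (Sum.inl i))
  refine ⟨g (Pi.single (.inr 0) 1), g (Pi.single (.inr 1) 1), (hg _).trans (by
    simp [H7.qMinus_apply]), (hg _).trans (by simp [H7.qMinus_apply]), (hp _ _).trans (by
    rw [H7.pol_qMinus]; simp), LinearMap.range f, ?_, by rw [LinearMap.finrank_range_of_inj fi]; simp, ?_⟩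
  · rintro _ ⟨a, rfl⟩
    exact (hg _).trans (by simp [H7.qMinus_apply])
  · rintro _ ⟨a, rfl⟩
    exact ⟨(hp _ _).trans (by rw [H7.pol_qMinus]; simp), (hp _ _).trans (by rw [H7.pol_qMinus]; simp)⟩

variable (q) in
/-- the perpendicular space of `a, b` -/
def V0 (a b : V) : Submodule (ZMod 2) V := LinearMap.ker ((pol q a).prod (pol q b))

theorem mem_V0 : x ∈ V0 q a b ↔ pol q a x = 0 ∧ pol q b x = 0 := by
  simp [-ofQuad_B, V0]

theorem dim_V0 (hd : finrank (ZMod 2) V = 2 * 4) (h : pol q a b = 1) :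
    finrank (ZMod 2) (V0 q a b) = 6 := by
  have h1 := LinearMap.finrank_range_add_finrank_ker ((pol q a).prod (pol q b))
  rw [LinearMap.range_eq_top.2 fun ⟨s, t⟩ => ⟨t • a + s • b, by
    simp [-ofQuad_B, pp, h, pol_comm q b a]⟩, finrank_top, hd] at h1
  simp at h1
  unfold V0
  omega

theorem nd0 (hq : (ofQuad q).Nondeg) (h : pol q a b = 1) (hx : x ∈ V0 q a b)
    (e : ∀ u ∈ V0 q a b, pol q u x = 0) : x = 0 := by
  rw [plane hq h fun u a1 a2 => e u (mem_V0.2 ⟨a1, a2⟩), (mem_V0.1 hx).1, (mem_V0.1 hx).2]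
  simp

theorem ex0 (hq : (ofQuad q).Nondeg) (h : pol q a b = 1) (hx : x ∈ V0 q a b) (x0 : x ≠ 0) :
    ∃ u ∈ V0 q a b, pol q u x = 1 := by
  by_contra hn
  push Not at hn
  exact x0 (nd0 hq h hx fun u hu => z0 (hn u hu))

variable (q) in
/-- the element of order three -/
noncomputable def ta (a b : V) : (ofQuad q).Isom := refl q a * refl q b

section

variable (ha : q a = 1) (hb : q b = 1) (h : pol q a b = 1)
include ha hb h

theorem ta_apply (x : V) : (ta q a b).1 x = x + (pol q a x + pol q b x) • a + pol q b x • b := by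
  have rf : ∀ n, q n = 1 → ∀ v, (refl q n).1 v = v + pol q n v • n := fun n qn v => by
    rw [refl_apply, qn, inv_one, (by decide : ∀ a : ZMod 2, -1 * a = a)]
  rw [ta, Form.Isom.mul_apply, rf b hb, rf a ha, map_add, map_smul, h]
  simp only [smul_eq_mul, mul_one]
  module

theorem ta_co (s t : ZMod 2) : (ta q a b).1 (s • a + t • b) = t • a + (s + t) • b := by
  rw [ta_apply ha hb h]
  simp only [map_add, map_smul, pp, h, pol_comm q b a, smul_eq_mul, mul_one, mul_zero, add_zero,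
    zero_add]
  have : ∀ s t : ZMod 2, s + (t + s) = t := by decide
  rw [show s • a + t • b + (t + s) • a + s • b = (s + (t + s)) • a + (s + t) • b by module, this]

theorem ta_fx : Fx a b (ta q a b) := fun u a1 a2 => by
  rw [ta_apply ha hb h, a1, a2]; simp

theorem ta_fix : (ta q a b).1 x = x ↔ x ∈ V0 q a b := by
  refine ⟨fun e => ?_, fun e => ta_fx ha hb h x (mem_V0.1 e).1 (mem_V0.1 e).2⟩
  rw [ta_apply ha hb h, add_assoc, add_eq_left] at e
  have := co h (e.trans (by simp : (0 : V) = (0 : ZMod 2) • a + (0 : ZMod 2) • b))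
  exact mem_V0.2 ⟨by simpa only [this.2, add_zero] using this.1, this.2⟩

theorem Fx.mul {g k : (ofQuad q).Isom} (hg : Fx a b g) (hk : Fx a b k) : Fx a b (g * k) :=
  fun u a1 a2 => by rw [Form.Isom.mul_apply, hk u a1 a2, hg u a1 a2]

theorem ta_cube : ta q a b ^ 3 = 1 := by
  have t := ta_fx ha hb h
  rw [pow_three]
  refine (Fx.mul ha hb h t (Fx.mul ha hb h t t)).ext h (fun _ _ _ => rfl) fun s t => ?_
  rw [Form.Isom.mul_apply, Form.Isom.mul_apply, ta_co ha hb h, ta_co ha hb h, ta_co ha hb h,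
    Form.Isom.one_apply, (by decide : ∀ s t : ZMod 2, t + (s + t) = s),
    (by decide : ∀ s t : ZMod 2, s + t + s = t)]

theorem eq_pow (hq : (ofQuad q).Nondeg) (hg : Fx a b g) (c : g * ta q a b = ta q a b * g) :
    ∃ i : ℕ, g = ta q a b ^ i := by
  have t := ta_fx ha hb h
  obtain ⟨a', b', c', e', m⟩ := hg.mat hq h
  have k1 := fun s t : ZMod 2 => congrArg (fun g : (ofQuad q).Isom => g.1 (s • a + t • b)) c
  simp only [Form.Isom.mul_apply, ta_co ha hb h, m] at k1
  have k2 := fun s t => co h (k1 s t)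
  have k3 := mq g ((1 : ZMod 2) • a + (0 : ZMod 2) • b)
  rw [m, qco h, qco h, ha, hb] at k3
  rcases (by revert k2 k3; clear * -; decide +revert : (a' = 1 ∧ b' = 0 ∧ c' = 0 ∧ e' = 1) ∨
    (a' = 0 ∧ b' = 1 ∧ c' = 1 ∧ e' = 1) ∨ (a' = 1 ∧ b' = 1 ∧ c' = 1 ∧ e' = 0)) with
    ⟨rfl, rfl, rfl, rfl⟩ | ⟨rfl, rfl, rfl, rfl⟩ | ⟨rfl, rfl, rfl, rfl⟩
  · exact ⟨0, hg.ext h (fun _ _ _ => rfl) fun s t => by rw [m]; simp⟩
  · exact ⟨1, hg.ext h (by rwa [pow_one]) fun s t => by rw [m, pow_one, ta_co ha hb h]; simp⟩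
  · refine ⟨2, hg.ext h (by rw [pow_two]; exact Fx.mul ha hb h t t) fun s t => ?_⟩
    rw [m, pow_two, Form.Isom.mul_apply, ta_co ha hb h, ta_co ha hb h,
      (by decide : ∀ s t : ZMod 2, t + (s + t) = s)]
    simp

theorem ei_comm (hu : u ∈ V0 q a b) (hs : s ∈ V0 q a b) (e : Ei u s g) :
    g * ta q a b = ta q a b * g := Form.Isom.ext fun x => by
  have e1 := (ta_fix ha hb h).2 hu
  have e2 := (ta_fix ha hb h).2 hs
  rw [Form.Isom.mul_apply, Form.Isom.mul_apply, e, e, map_add, map_add, map_add, map_smul, map_smul,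
    map_smul, e1, e2, ← mp (ta q a b) s x, ← mp (ta q a b) u x, e1, e2]

end

theorem ta_mem (hq : (ofQuad q).Nondeg) (hd : finrank (ZMod 2) V = 2 * 4) (ha : q a = 1)
    (hb : q b = 1) (h : pol q a b = 1) : ta q a b ∈ commutator (ofQuad q).Isom := by
  have i2 := index_commutator_even (Q := q) rfl hq (Or.inr (by rw [hd]; decide)) (by rw [hd]; decide)
  have := mul_self_mem_of_index_two i2 (ta q a b * ta q a b)
  rwa [show ta q a b * ta q a b * (ta q a b * ta q a b) = ta q a b ^ 3 * ta q a b by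
    simp [pow_succ, mul_assoc], ta_cube ha hb h, one_mul] at this

/-- irreducibility -/
theorem irr0 (hq : (ofQuad q).Nondeg) (h : pol q a b = 1) {P W : Submodule (ZMod 2) V}
    (hP : TS q P) (h3 : finrank (ZMod 2) P = 3) (hP0 : P ≤ V0 q a b)
    (hW : ∀ u ∈ V0 q a b, ∀ s ∈ V0 q a b, q u = 0 → u ≠ 0 → pol q u s = 0 → ∀ x ∈ W,
      x + pol q s x • u + pol q u x • s + (q s * pol q u x) • u ∈ W)
    (hx : x ∈ W) (x0 : x ∈ V0 q a b) (x1 : x ≠ 0) : V0 q a b ≤ W := by
  have two : ∀ x y : V, ∃ p ∈ P, p ≠ 0 ∧ pol q x p = 0 ∧ pol q y p = 0 := fun x y => by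
    have h1 := LinearMap.finrank_range_add_finrank_ker (((pol q x).prod (pol q y)) ∘ₗ P.subtype)
    have h2 := Submodule.finrank_le (LinearMap.range (((pol q x).prod (pol q y)) ∘ₗ P.subtype))
    rw [finrank_prod, finrank_self] at h2
    obtain ⟨p, p1, p2⟩ := Submodule.exists_mem_ne_zero_of_ne_bot
      (p := LinearMap.ker (((pol q x).prod (pol q y)) ∘ₗ P.subtype)) fun e => by
        rw [e, finrank_bot] at h1; omega
    exact ⟨p, p.2, fun e => p2 (Subtype.ext e), by simpa [-ofQuad_B] using p1⟩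
  have one : ∀ x ∈ W, x ∈ V0 q a b → x ≠ 0 → ∀ u ∈ V0 q a b, q u = 0 → pol q u x = 0 → u ∈ W := by
    intro x hx x0 x1 u u0 u1 u2
    by_cases e : u = 0 ∨ u = x
    · rcases e with rfl | rfl
      exacts [zero_mem _, hx]
    rw [not_or] at e
    obtain ⟨s, s0, s1, s2⟩ : ∃ s ∈ V0 q a b, pol q u s = 0 ∧ pol q s x = 1 := by
      obtain ⟨s, s0, s1⟩ := ex0 hq h x0 x1
      rcases z2 (pol q u s) with c | c
      · exact ⟨s, s0, c, s1⟩
      obtain ⟨t, t0, t1⟩ := ex0 hq h (add_mem u0 x0) fun c => e.2 (aez.1 c)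
      rw [map_add] at t1
      rcases z2 (pol q t u) with c' | c' <;> rw [c'] at t1
      · exact ⟨t, t0, (pol_comm ..).trans c', by simpa using t1⟩
      · exact ⟨s + t, add_mem s0 t0, by rw [map_add, c, pol_comm, c', zz], by
          rw [map_add, LinearMap.add_apply, s1, add_eq_left.1 t1, add_zero]⟩
    have := add_mem hx (hW u u0 s s0 u1 e.1 s1 x hx)
    rw [s2, u2] at this
    simpa [vv'] using this
  obtain ⟨u, u1, u2, u3, -⟩ := two x x
  have uW := one x hx x0 x1 u (hP0 u1) (hP u u1) ((pol_comm ..).trans u3)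
  obtain ⟨y, y0, y1⟩ := ex0 hq h (hP0 u1) u2
  obtain ⟨w, w0, w1, w2⟩ : ∃ w ∈ V0 q a b, q w = 0 ∧ pol q w u = 1 :=
    ⟨y + q y • u, add_mem y0 (Submodule.smul_mem _ _ (hP0 u1)), by
      rw [quad_add, qs, hP u u1, map_smul, y1]; simp [zz], by simp [-ofQuad_B, y1, pp]⟩
  have w3 : w ≠ 0 := fun e => by rw [e] at w2; simp at w2
  obtain ⟨p, p1, p2, p3, p4⟩ := two u w
  have pW := one u uW (hP0 u1) u2 p (hP0 p1) (hP p p1) ((pol_comm ..).trans p3)
  have wW := one p pW (hP0 p1) p2 w w0 w1 p4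
  intro v hv
  obtain ⟨d1, d2⟩ := dec w2 v
  have s0 : v + (pol q u v • w + pol q w v • u) ∈ V0 q a b :=
    add_mem hv (add_mem (Submodule.smul_mem _ _ w0) (Submodule.smul_mem _ _ (hP0 u1)))
  have := hW w w0 _ s0 w1 w3 d1 u uW
  rw [w2, one_smul] at this
  have h2 := (W.add_mem_iff_right (add_mem uW (W.smul_mem _ wW))).1
    ((W.add_mem_iff_left (W.smul_mem _ wW)).1 this)
  exact (W.add_mem_iff_left (add_mem (W.smul_mem _ wW) (W.smul_mem _ uW))).1 h2

end H14.ZM
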