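import Mathlib
import Cfsg.Agent.H14.ZM1
import Cfsg.Agent.H6.ZB1

/-! The minus type in width four: group-theoretic tools. -/

set_option autoImplicit false
set_option linter.unusedSectionVars false

namespace H14.ZM

open Subgroup H24 H15 H15.XP Module H20.XA H6.XS
open scoped commutatorElement

variable {G : Type*} [Group G] [Finite G] {D : Set G} {Q : G → Subgroup G} {w : ℕ} {z ω : G}

theorem sit_mk {B : Subgroup G} (l : LX z B) (hc : Nat.card B = 2 ^ (2 * w + 1))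
    (o : ∀ N : Subgroup G, N ≤ C{z} → C{z} ≤ N[N] → IsPGroup 2 N → N ≤ B) (hw : 2 ≤ w) :
    Sit (conjugatesOf z) (fam z B) w := by
  have ex : ∀ d ∈ conjugatesOf z, ∃ g : G, g * z * g⁻¹ = d := fun d hd => isConj_iff.1 hd
  refine ⟨fun d hd g => IsConj.trans hd (isConj_iff.2 ⟨g, rfl⟩), fun d hd e he =>
    isConj_iff.1 (IsConj.trans (IsConj.symm hd) he), fun d hd => ?_,
    fun d hd g => fam_cj l.norm (ex d hd) g, fun d hd => ?_, fun d hd N h1 h2 h3 => ?_, hw⟩ <;>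
    obtain ⟨g, rfl⟩ := ex d hd <;> simp only [fam_eq l.norm]
  · exact l.cj g
  · rw [card_cj, hc]
  · rw [← cj_C1] at h1 h2
    rw [le_cj_iff] at h1 ⊢
    refine o _ h1 ?_ (h3.map _)
    rw [← cj_N, ← cj_le_iff]; exact h2

theorem not_plus' (h : Sit D Q 3) (hz : z ∈ D) (h1 : ∀ v ∈ Q z, v * v = 1 → v ≠ 1 → v ∈ D)
    (h2 : ∀ v ∈ D, v ∈ Q z → v ≠ z → Q z ⊓ Q v ≤ zpowers z ⊔ zpowers v)
    {P : Subgroup G} (hP : P ≤ Q z) (he : EA P) (hc : Nat.card P = 16) : False := by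
  refine h.not_plus (fun d hd v hv a b => ?_) (fun d hd v hD hv a => ?_) hz hP he hc
  · obtain ⟨g, rfl⟩ := h.trans z hz d hd
    rw [h.eqv z hz] at hv
    obtain ⟨u, hu, rfl⟩ := mem_cj'.1 hv
    refine h.conj u (h1 u hu ?_ fun e => b (by simp [e])) g
    rwa [show g * u * g⁻¹ * (g * u * g⁻¹) = g * (u * u) * g⁻¹ by group, conj_eq_one_iff] at a
  · obtain ⟨g, rfl⟩ := h.trans z hz d hd
    rw [h.eqv z hz] at hv
    obtain ⟨u, hu, rfl⟩ := mem_cj'.1 hv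
    have uD : u ∈ D := by simpa [mul_assoc] using h.conj _ hD g⁻¹
    rw [h.eqv z hz, h.eqv u uD, ← cj_inf, ← cj_zpowers, ← cj_zpowers, ← cj_sup]
    exact cj_mono g (h2 u uD hu fun e => a (e ▸ rfl))

theorem zp3 {G : Type*} [Group G] {ω x : G} (h3 : ω ^ 3 = 1) (hx : x ∈ zpowers ω) :
    x = 1 ∨ x = ω ∨ x = ω * ω := by
  obtain ⟨n, rfl⟩ := hx
  show ω ^ n = 1 ∨ ω ^ n = ω ∨ ω ^ n = ω * ω
  rw [zpow_eq_zpow_emod' n h3]
  have : n % (3 : ℕ) = 0 ∨ n % (3 : ℕ) = 1 ∨ n % (3 : ℕ) = 2 := by omega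
  rcases this with e | e | e <;> rw [e]
  exacts [Or.inl (zpow_zero _), Or.inr (Or.inl (zpow_one _)), Or.inr (Or.inr (zpow_two _))]

theorem cos_fix (h3 : ω ^ 3 = 1) {P : Subgroup G} (hP : IsPGroup 2 P) (hN : ω ∈ N[P]) {y : G}
    (hy : y⁻¹ * (ω * y * ω⁻¹) ∈ P) : ∃ x ∈ P, y * x ∈ C{ω} := by
  have st : ∀ s, y⁻¹ * s ∈ P → y⁻¹ * (ω * s * ω⁻¹) ∈ P := fun s hs => by
    rw [show y⁻¹ * (ω * s * ω⁻¹) = y⁻¹ * (ω * y * ω⁻¹) * (ω * (y⁻¹ * s) * ω⁻¹) by group]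
    exact mul_mem hy (conj_mem hN hs)
  obtain ⟨s, hs, e⟩ := H6.ZD.exists_cent_of_not_dvd (p := 3) (P := zpowers ω)
    (S := {s | y⁻¹ * s ∈ P}) Nat.prime_three (isPi_of_isPGroup Nat.prime_three fun x =>
      ⟨1, Subtype.ext (by
        obtain ⟨_, n, rfl⟩ := x
        show (ω ^ n) ^ 3 ^ 1 = 1
        rw [pow_one, ← zpow_natCast, zpow_comm, zpow_natCast, h3, one_zpow])⟩)
    (fun x hx s hs => by
      rcases zp3 h3 hx with rfl | rfl | rfl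
      · simpa using hs
      · exact st s hs
      · have := st _ (st s hs)
        rwa [show ω * (ω * s * ω⁻¹) * ω⁻¹ = ω * ω * s * (ω * ω)⁻¹ by group] at this) (by
      have : {s | y⁻¹ * s ∈ P} = (y * ·) '' (P : Set G) := by
        ext s
        exact ⟨fun k => ⟨_, k, by simp⟩, by rintro ⟨x, k, rfl⟩; simpa using k⟩
      rw [this, Set.ncard_image_of_injective _ (mul_right_injective y)]
      obtain ⟨n, hn⟩ := IsPGroup.iff_card.1 hP
      rw [show (P : Set G).ncard = Nat.card P from rfl, hn]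
      exact fun k => absurd (Nat.prime_three.dvd_of_dvd_pow k) (by decide))
  exact ⟨_, hs, by rw [mul_inv_cancel_left]; exact mem_C1_comm.1 (e (mem_zpowers ω))⟩

theorem swap_fix (h : Sit D Q w) (h3 : ω ^ 3 = 1) {d e : G} (hd : d ∈ D) (he : e ∈ Q d) (e1 : e ≠ 1)
    (e2 : e ≠ d) (c1 : ω ∈ C{d}) (c2 : ω ∈ C{e}) : ∃ x ∈ C{ω}, x * e * x⁻¹ = d * e := by
  obtain ⟨y, hy, k⟩ := h.exists_swap hd he e1 e2
  have hs := h.sy hd
  obtain ⟨x, hx, k'⟩ := cos_fix h3 (P := Q d ⊓ C{e}) ((h.two hd).to_le inf_le_left)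
    (mem_N_of_finite fun x hx => mem_inf.2 ⟨cQ h hd c1 hx.1,
      C{e}.mul_mem (C{e}.mul_mem c2 hx.2) (C{e}.inv_mem c2)⟩) (y := y)
    (mem_inf.2 ⟨mul_mem (inv_mem hy) (cQ h hd c1 hy), mem_C1_iff_conj.2 (by
      have e3 : ω⁻¹ * e * ω = e := by rw [mul_assoc, ← mem_C1.1 c2, inv_mul_cancel_left]
      calc _ = y⁻¹ * (ω * (y * (ω⁻¹ * e * ω) * y⁻¹) * ω⁻¹) * y := by group
        _ = e := by rw [e3, k, zc h hd c1, mem_C1_iff_conj.1 c2, ← k]; group)⟩)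
  refine ⟨_, k', ?_⟩
  rw [show y * x * e * (y * x)⁻¹ = y * (x * e * x⁻¹) * y⁻¹ by group, mem_C1_iff_conj.1 hx.2, k]

theorem pow4 (h : Sit D Q w) {d x : G} (hd : d ∈ D) (hx : x ∈ Q d) : x ^ 4 = 1 := by
  rw [show x ^ 4 = x * x * (x * x) by simp [pow_succ, mul_assoc]]
  rcases h.sq_or hd hx with e | e <;> rw [e]
  exacts [one_mul _, h.sq hd]

/-- the quotient of `C(ω)` by `ω` -/
theorem exists_quot.{u} {G : Type u} [Group G] [Finite G] {ω : G} (h3 : ω ^ 3 = 1) :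
    ∃ (K : Type u) (_ : Group K) (_ : Finite K) (φ : C{ω} →* K),
    Function.Surjective φ ∧ φ ⟨ω, self_mem_C1 ω⟩ = 1 ∧
      ∀ x y : C{ω}, (x : G) ^ 4 = 1 → (y : G) ^ 4 = 1 → φ x = φ y → x = y := by
  have hc : ∀ x : C{ω}, x * ⟨ω, self_mem_C1 ω⟩ = ⟨ω, self_mem_C1 ω⟩ * x :=
    fun x => Subtype.ext (mem_C1.1 x.2)
  generalize hw : (⟨ω, self_mem_C1 ω⟩ : C{ω}) = w at hc
  have w3 : w ^ 3 = 1 := by rw [← hw]; exact Subtype.ext h3
  have cm : ∀ k ∈ zpowers w, ∀ x, Commute x k := fun k hk x => by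
    obtain ⟨n, rfl⟩ := hk
    exact Commute.zpow_right (hc x) n
  haveI : (zpowers w).Normal := ⟨fun n hn g => by rwa [(cm n hn g).eq, mul_inv_cancel_right]⟩
  refine ⟨C{ω} ⧸ zpowers w, inferInstance, inferInstance, QuotientGroup.mk' _,
    QuotientGroup.mk'_surjective _, (QuotientGroup.eq_one_iff _).2 (mem_zpowers w),
    fun x y a b e => ?_⟩
  obtain ⟨k, hk, rfl⟩ := (QuotientGroup.mk'_eq_mk' _).1 e
  have a' : x ^ 4 = 1 := Subtype.ext a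
  have b' : (x * k) ^ 4 = 1 := Subtype.ext b
  rw [(cm k hk x).mul_pow, a', one_mul] at b'
  have k3 : k ^ 3 = 1 := by
    obtain ⟨n, rfl⟩ := hk
    show (w ^ n) ^ 3 = 1
    rw [← zpow_natCast, zpow_comm, zpow_natCast, w3, one_zpow]
  rw [pow_succ, k3, one_mul] at b'
  rw [b', mul_one]

/-- fixed vectors -/
theorem fix_vec {T W : Type*} [Group T] [Finite W] [MulAction T W] (h2 : 2 ∣ Nat.card W)
    (hT : ∀ t : T, ∃ n : ℕ, ∀ x : W, t ^ 2 ^ n • x = x) {a : W} (ha : ∀ t : T, t • a = a) :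
    ∃ b, b ≠ a ∧ ∀ t : T, t • b = b := by
  have hP : IsPGroup 2 (MulAction.toPermHom T W).range := by
    rintro ⟨_, t, rfl⟩
    obtain ⟨n, hn⟩ := hT t
    exact ⟨n, Subtype.ext (Equiv.ext fun x => by
      show ((MulAction.toPermHom T W t) ^ 2 ^ n) x = x
      rw [← map_pow]; exact hn x)⟩
  obtain ⟨b, h1, h2⟩ := hP.exists_fixed_point_of_prime_dvd_card_of_fixed_point W h2 (a := a) (by
    rintro ⟨_, t, rfl⟩
    exact ha t)
  exact ⟨b, h2.symm, fun t => h1 ⟨_, t, rfl⟩⟩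

end H14.ZM
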