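import Mathlib
import Cfsg.Agent.H11.C3A

/-! Kernel checks in the double cover of `Sp₆(2)`. -/

set_option autoImplicit false
set_option maxRecDepth 100000
set_option Elab.async false
set_option linter.all false

namespace H14.CC

open H29 H7.Cay H11.C3 H11.C3BT H11.C3BD H11.C3AD

/-- congruence modulo the four-group -/
noncomputable def md (a b : ℕ) : Bool := lit (M.inv b) fun c => lt (M.mul a c) 4
noncomputable def cm (a b : ℕ) : Bool := Nat.beq (M.mul a b) (M.mul b a)
noncomputable def FX (r : ℕ) : ℕ := nth 0 [nat_lit 0xffffffffffffffffffffffffffffffffffffffffffffffffffffffffffffffff, nat_lit 0xf000f000f000f, nat_lit 0xf000f000f000f, nat_lit 0xf, nat_lit 0xf0000000000000f0000000000000000000000f000000000000000000000f, nat_lit 0xf0000000000000000000000f0000000000f00000000000000000000000000f, nat_lit 0xf, nat_lit 0xf0000000000000000000000f0000000000f00000000000000000000000000f, nat_lit 0xf0000000000000f0000000000000000000000f000000000000000000000f, nat_lit 0xf000f0000f000f000000000f000f0000000000000000000000f000f, nat_lit 0xf0f0f0f00000000000000000000000000000000000000000000000000f0f0f0f,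 nat_lit 0xf000f000000000f000f00000000000f000f0000000000000f000f, nat_lit 0xf0000000f000000000f0000000f0000f0000000f0000000000000f0000000f, nat_lit 0xff000000ff0000000000000000000000000f00f0000f00f, nat_lit 0xf0000000f0000000000f0000000f0000f0000000f0000000000f0000000f, nat_lit 0xf000f000000000000f000f00000000f00000000000f0000f00000000000f, nat_lit 0xff00ff00000000ff0000000000ff, nat_lit 0xf00000000000f000f00000000000f0000f00000000000f000f00000000000f] r
noncomputable def TT (r : ℕ) : ℕ := cc (Nat.mul 256 r) 20
def UL : List ℕ := [2, 4, 6, 140, 142, 208, 210]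
def TL : List (ℕ × ℕ) := [(20, 0), (80, 3840), (156, 2892), (22, 129), (82, 4003), (158, 3025), (28, 2582), (40, 780), (84, 529), (144, 1819), (224, 3072), (232, 1395), (2304, 789), (2306, 958), (2412, 918), (2414, 830), (3072, 1558), (3074, 1787), (3160, 1748), (3162, 1595), (3840, 20), (3842, 188), (3992, 167), (3994, 12)]

theorem kA : (allF 256 fun a => allF 256 fun b => lit (M.mul a b) fun c => and2 (lt c 256)
    (lit (M.mul b a) (md c))) = true := by decide +kernel
theorem kB : (allF 256 fun a => and2 (and2 (lt (M.inv a) 256) (lt (M.mul a a) 4))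
    (lt (cc 4864 a) 256)) = true := by decide +kernel
theorem kC : (all2 18 256 fun c => Nat.beq (M.mul (Nat.mod c 256) (Nat.mul 256 (Nat.div c 256))) c)
    = true := by decide +kernel
theorem kD : (allF 18 fun r => allF 256 fun a => lit (cc (Nat.mul 256 r) a) fun c => and2 (lt c 256)
    (imp2 (md c a) (tb (FX r) a))) = true := by decide +kernel
theorem kE : (allF 18 fun r => imp2 (lt 0 r) (allF 256 fun v => imp2 (lt 3 v) (imp2 (tb (FX r) v)
    (anyL [60, 24] fun a => and2 (Bool.not (tb (FX r) a)) (allF 18 fun s => imp2 (tb (FX s) v)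
      (Bool.not (tb (FX r) (lit (TT s) fun x => lit (M.inv a) (M.mul x))))))))) = true := by
  decide +kernel
theorem kF : (allF 18 fun s => and2 (lt (TT s) 256) (Bool.not (md (TT s) 16))) = true := by
  decide +kernel
theorem kG : (all2 18 256 fun c => imp2 (lt 255 c) (imp2 (lt (M.mul c c) 4)
    (anyL IL fun p => and2 (Nat.beq p.1 c) (and2 (lt p.2 9216) (Nat.beq (cc p.2 p.1) 3909))))) = true := by
  decide +kernel
theorem kH : (allL CL fun p => and2 (anyL UL (cm p.1)) (anyL TL fun q => cm p.1 q.1)) = true := by
  decide +kernel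
theorem kI : (and2 (allL UL fun a => and2 (and2 (lt 1 a) (lt a 9216))
    (and2 (Nat.beq (M.mul a a) 0) (Bool.not (tb YM a))))
    (allL TL fun q => and2 (and2 (lt q.1 9216) (lt q.2 9216)) (memL (cc q.2 q.1) [20, 3909]))) = true := by
  decide +kernel

end H14.CC
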