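import Mathlib
import Cfsg.Agent.H14.CCD
import Cfsg.Agent.H24.Base4

/-! Two-local facts in the double cover of `Sp₆(2)`. -/

set_option autoImplicit false
set_option maxRecDepth 100000

namespace H14.CC

open H29 H7.Cay H11.C3 H11.C3BT H11.C3BD H11.C3AD Subgroup H24

theorem sU : (⟨4, M.mul, M.inv⟩ : GM).Sound φ := ⟨by norm_num, φ0, by decide +kernel,
  by decide +kernel, fun a ha b hb => φ_mul (ha.trans (by norm_num)) (hb.trans (by norm_num)),
  fun a ha => φ_inv (ha.trans (by norm_num))⟩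

theorem kA' {a b : ℕ} (ha : a < 256) (hb : b < 256) :
    M.mul a b < 256 ∧ md (M.mul a b) (M.mul b a) = true := by
  simpa only [lit_eq, and2_true, lt_true] using allF_true.1 (allF_true.1 kA a ha) b hb

theorem kB' {a : ℕ} (ha : a < 256) : (M.inv a < 256 ∧ M.mul a a < 4) ∧ cc 4864 a < 256 := by
  simpa only [lit_eq, and2_true, lt_true] using allF_true.1 kB a ha

theorem sA : (⟨256, M.mul, M.inv⟩ : GM).Sound φ := ⟨by norm_num, φ0, fun a ha b hb => (kA' ha hb).1,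
  fun a ha => (kB' ha).1.1, fun a ha b hb => φ_mul (ha.trans (by norm_num)) (hb.trans (by norm_num)),
  fun a ha => φ_inv (ha.trans (by norm_num))⟩

/-- the four-group -/
noncomputable def UK : Subgroup K := sU.sub
/-- the largest normal `2`-subgroup of its normaliser -/
noncomputable def AK : Subgroup K := sA.sub

theorem mem_UK {k : K} : k ∈ UK ↔ ∃ c < 4, φ c = k := Iff.rfl
theorem mem_AK {k : K} : k ∈ AK ↔ ∃ c < 256, φ c = k := Iff.rfl

theorem mem_UK' {k : K} : k ∈ UK ↔ k = 1 ∨ k = φ 1 ∨ k = φ 2 ∨ k = φ 1 * φ 2 := by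
  rw [mem_UK, φ3, ← φ0]
  refine ⟨?_, ?_⟩
  · rintro ⟨c, hc, rfl⟩
    interval_cases c <;> simp
  · rintro (rfl | rfl | rfl | rfl) <;> exact ⟨_, by norm_num, rfl⟩

theorem UK_le : UK ≤ AK := fun _ ⟨c, hc, e⟩ => ⟨c, by change c < 256; change c < 4 at hc; omega, e⟩

theorem md_iff {a b : ℕ} (ha : a < 9216) (hb : b < 9216) : md a b = true ↔ φ a * (φ b)⁻¹ ∈ UK := by
  rw [md, lit_eq, lt_true, ← φ_inv hb, ← φ_mul ha (inv_lt hb), mem_UK]
  exact ⟨fun h => ⟨_, h, rfl⟩, fun ⟨c, hc, e⟩ =>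
    inj (by omega) (mul_lt ha (inv_lt hb)) e ▸ hc⟩

theorem cm_iff {a b : ℕ} (ha : a < 9216) (hb : b < 9216) : cm a b = true ↔ φ a * φ b = φ b * φ a := by
  rw [cm, nbeq, ← φ_mul ha hb, ← φ_mul hb ha]
  exact ⟨congrArg φ, inj (mul_lt ha hb) (mul_lt hb ha)⟩

theorem AK_two : IsPi {2} AK := isPi_of_card (n := 8) Nat.prime_two
  (sA.card_of_inj fun a ha b hb => inj (ha.trans (by norm_num)) (hb.trans (by norm_num)))

theorem AK_cent {a : K} (h : a ∈ AK) : a * φ 2 = φ 2 * a := by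
  obtain ⟨c, hc, rfl⟩ := mem_AK.1 h
  exact comm_x (by omega)

theorem AK_comm {a b : K} (ha : a ∈ AK) (hb : b ∈ AK) : a * b * a⁻¹ * b⁻¹ ∈ UK := by
  obtain ⟨a, ha', rfl⟩ := mem_AK.1 ha
  obtain ⟨b, hb', rfl⟩ := mem_AK.1 hb
  have a1 : a < 9216 := by omega
  have b1 : b < 9216 := by omega
  have := (md_iff (mul_lt a1 b1) (mul_lt b1 a1)).1 (kA' ha' hb').2
  rwa [φ_mul a1 b1, φ_mul b1 a1, mul_inv_rev, ← mul_assoc] at this

theorem AK_sq {a : K} (ha : a ∈ AK) : a * a ∈ UK := by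
  obtain ⟨a, ha', rfl⟩ := mem_AK.1 ha
  exact ⟨_, (kB' ha').1.2, φ_mul (by omega) (by omega)⟩

theorem kD' {r a : ℕ} (hr : r < 18) (ha : a < 256) : cc (256 * r) a < 256 ∧
    (md (cc (256 * r) a) a = true → tb (FX r) a = true) := by
  simpa only [lit_eq, and2_true, lt_true, imp2_true, Nat.mul_eq] using
    allF_true.1 (allF_true.1 kD r hr) a ha

theorem AK_rep {r : ℕ} (hr : r < 18) {a : K} (ha : a ∈ AK) :
    φ (256 * r) * a * (φ (256 * r))⁻¹ ∈ AK := by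
  obtain ⟨a, ha', rfl⟩ := mem_AK.1 ha
  exact ⟨_, (kD' hr ha').1, φ_cc (by omega) (by omega)⟩

theorem dec {k : K} (h : k * φ 2 = φ 2 * k) : ∃ a ∈ AK, ∃ r < 18, k = a * φ (256 * r) := by
  obtain ⟨c, hc, rfl⟩ := cent_x h
  have h1 : M.mul (c % 256) (256 * (c / 256)) = c := nbeq.1 (all2_true kC c hc)
  exact ⟨φ (c % 256), ⟨_, Nat.mod_lt _ (by norm_num), rfl⟩, c / 256, by omega, by
    rw [← φ_mul (by omega) (by omega), h1]⟩

theorem AK_norm {k a : K} (h : k * φ 2 = φ 2 * k) (ha : a ∈ AK) : k * a * k⁻¹ ∈ AK := by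
  obtain ⟨b, hb, r, hr, rfl⟩ := dec h
  rw [show ∀ y : K, b * y * a * (b * y)⁻¹ = b * (y * a * y⁻¹) * b⁻¹ from fun y => by group]
  exact mul_mem (mul_mem hb (AK_rep hr ha)) (inv_mem hb)

theorem conj3909 : IsConj (φ 3909) (φ 20) := by
  have hW := cW
  simp only [and2_true, allL_true] at hW
  have := e4 (hW.2 (3909, [7, 9, 7, 11, 9, 7, 13, 11, 9]) (by simp [WY]))
  rw [ev_append, ev_append] at this
  exact isConj_iff.2 ⟨_, mul_inv_eq_of_eq_mul this⟩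

theorem conj_cc {k a : ℕ} (hk : k < 9216) (ha : a < 9216) : IsConj (φ a) (φ (cc k a)) :=
  isConj_iff.2 ⟨_, (φ_cc hk ha).symm⟩

theorem out_T {x : K} (h : x * φ 2 = φ 2 * x) (h2 : x * x ∈ UK) (hA : x ∉ AK) : IsConj x (φ 20) := by
  obtain ⟨c, hc, rfl⟩ := cent_x h
  have c1 : c < 9216 := by omega
  have h1 := all2_true kG c hc
  simp only [imp2_true, lt_true, anyL_true, and2_true, nbeq] at h1
  obtain ⟨d, hd, e⟩ := mem_UK.1 h2
  obtain ⟨p, -, rfl, p1, p2⟩ := h1 (by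
    by_contra h3
    exact hA ⟨c, by change c < 256; omega, rfl⟩)
    (inj (by omega) (mul_lt c1 c1) (e.trans (φ_mul c1 c1).symm) ▸ hd)
  exact (p2 ▸ conj_cc p1 c1).trans conj3909

theorem t_mem : φ 20 ∈ AK := ⟨20, by norm_num, rfl⟩
theorem t_sq : φ 20 * φ 20 = 1 := (φ_mul' (by decide +kernel)).trans φ0
theorem u_sq : φ 2 * φ 2 = 1 := (φ_mul' (by decide +kernel)).trans φ0
theorem conj_tz : IsConj (φ 20 * φ 1) (φ 20) := by
  have := conj_cc (k := 17) (a := 20) (by norm_num) (by norm_num)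
  rw [show cc 17 20 = 21 by decide +kernel] at this
  rw [φ_mul' (c := 21) (by decide +kernel)]
  exact this.symm

theorem noE {E : Subgroup K} (hU : UK ≤ E) (hA : E ≤ AK) (hT : ∀ e ∈ E, ¬ IsConj e (φ 20))
    (h : ∀ a ∈ AK, a ∉ E → ∀ b ∈ AK, b ∉ E → ∃ k, k * φ 2 = φ 2 * k ∧
      (∀ e ∈ E, k * e * k⁻¹ * e⁻¹ ∈ UK) ∧ k * a * k⁻¹ * b⁻¹ ∈ E) : False := by
  have h' : ∀ a ∈ AK, a ∉ E → ∀ b ∈ AK, b ∉ E → ∃ r < 18,
      (∀ e ∈ E, φ (256 * r) * e * (φ (256 * r))⁻¹ * e⁻¹ ∈ UK) ∧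
        φ (256 * r) * a * (φ (256 * r))⁻¹ * b⁻¹ ∈ E := fun a ha a1 b hb b1 => by
    obtain ⟨k, k1, k2, k3⟩ := h a ha a1 b hb b1
    obtain ⟨c, hc, r, hr, rfl⟩ := dec k1
    have key : ∀ x ∈ AK, ∀ y, φ (256 * r) * x * (φ (256 * r))⁻¹ * y =
        (c * (φ (256 * r) * x * (φ (256 * r))⁻¹) * c⁻¹ * (φ (256 * r) * x * (φ (256 * r))⁻¹)⁻¹)⁻¹ *
        (c * φ (256 * r) * x * (c * φ (256 * r))⁻¹ * y) := fun x _ y => by group
    refine ⟨r, hr, fun e he => ?_, ?_⟩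
    · rw [key e (hA he)]
      exact mul_mem (inv_mem (AK_comm hc (AK_rep hr (hA he)))) (k2 e he)
    · rw [key a ha]
      exact mul_mem (inv_mem (hU (AK_comm hc (AK_rep hr ha)))) k3
  have fx : ∀ r < 18, (∀ e ∈ E, φ (256 * r) * e * (φ (256 * r))⁻¹ * e⁻¹ ∈ UK) → ∀ c < 256,
      φ c ∈ E → tb (FX r) c = true := fun r hr h1 c hc h2 => (kD' hr hc).2
    ((md_iff (cc_lt (by omega) (by omega)) (by omega)).2 (by
      rw [φ_cc (by omega) (by omega)]; exact h1 _ h2))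
  have t1 : φ 20 ∉ E := fun e => hT _ e (IsConj.refl _)
  have mA : ∀ c < 256, φ c ∈ AK := fun c hc => ⟨c, hc, rfl⟩
  have cT : ∀ k a, and2 (and2 (lt k 9216) (lt a 9216)) (Nat.beq (cc k a) 20) = true → φ a ∉ E :=
    fun k a h1 e => by
      simp only [and2_true, lt_true, nbeq] at h1
      exact hT _ e (h1.2 ▸ conj_cc h1.1.1 h1.1.2)
  obtain ⟨r, hr, r1, r2⟩ := h' _ t_mem t1 _ (mA 40 (by norm_num)) (cT 780 40 (by decide +kernel))
  rcases Nat.eq_zero_or_pos r with rfl | r0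
  · rw [mul_zero, φ0, one_mul, inv_one, mul_one, ← φ_inv (by norm_num),
      φ_mul' (c := 60) (by decide +kernel)] at r2
    exact cT 1664 60 (by decide +kernel) r2
  have fT : ∀ s < 18, TT s < 256 ∧ ¬ md (TT s) 16 = true := fun s hs => by
    simpa only [and2_true, lt_true, Bool.not_eq_true', ← Bool.not_eq_true] using allF_true.1 kF s hs
  have eT : ∀ s < 18, φ (TT s) = φ (256 * s) * φ 20 * (φ (256 * s))⁻¹ := fun s hs =>
    φ_cc (k := 256 * s) (by omega) (by norm_num)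
  by_cases hE : E ≤ UK
  · obtain ⟨s, hs, -, s2⟩ := h' _ t_mem t1 _ (mA 16 (by norm_num)) fun e => by
      obtain ⟨c, hc, e1⟩ := mem_UK.1 (hE e)
      have := inj (by omega) (by norm_num) e1
      omega
    exact (fT s hs).2 ((md_iff ((fT s hs).1.trans (by norm_num)) (by norm_num)).2 (by
      rw [eT s hs]; exact hE s2))
  obtain ⟨v, hv, v1⟩ := SetLike.not_le_iff_exists.1 hE
  obtain ⟨c, hc, rfl⟩ := mem_AK.1 (hA hv)
  have h1 := allF_true.1 kE r hr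
  simp only [imp2_true, lt_true, allF_true, anyL_true, and2_true, Bool.not_eq_true',
    ← Bool.not_eq_true, lit_eq] at h1
  obtain ⟨a, ha, a1, a2⟩ := h1 r0 c hc (by
    by_contra h3
    exact v1 ⟨c, by change c < 4; omega, rfl⟩) (fx r hr r1 c hc hv)
  have a3 : a < 256 := by clear a1 a2; revert a; decide
  obtain ⟨s, hs, s1, s2⟩ := h' _ t_mem t1 _ (mA a a3) fun e => a1 (fx r hr r1 a a3 e)
  refine a2 s hs (fx s hs s1 c hc hv) (fx r hr r1 _ (kA' (fT s hs).1 (kB' a3).1.1).1 ?_)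
  rwa [φ_mul ((fT s hs).1.trans (by norm_num)) (inv_lt (by omega)), eT s hs, φ_inv (by omega)]

/-- every square root of the central involution centralises involutions of both classes -/
theorem root_comm {x : K} (h : x * x = φ 1) : (∃ a, x * a = a * x ∧ IsConj a (φ 2)) ∧
    ∃ b, x * b = b * x ∧ IsConj b (φ 20) := by
  obtain ⟨p, hp, p1, p2⟩ := cls4 h
  obtain ⟨m, hm⟩ := isConj_iff.1 p2
  have key : ∀ {a : ℕ} {y : K}, a < 9216 → cm p.1 a = true → IsConj (φ a) y →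
      ∃ a, x * a = a * x ∧ IsConj a y := fun {a y} ha h1 h2 => by
    rw [cm_iff p1 ha, ← hm] at h1
    refine ⟨m⁻¹ * φ a * m, ?_, IsConj.trans (isConj_iff.2 ⟨m, by group⟩) h2⟩
    calc x * (m⁻¹ * φ a * m) = m⁻¹ * (m * x * m⁻¹ * φ a) * m := by group
      _ = _ := by rw [h1]; group
  have h1 := allL_true.1 kH p hp
  have h2 := kI
  simp only [and2_true, anyL_true, allL_true, lt_true, nbeq, memL_true, Bool.not_eq_true',
    ← Bool.not_eq_true] at h1 h2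
  obtain ⟨⟨a, ha, a1⟩, q, hq, q1⟩ := h1
  obtain ⟨⟨a2, a3⟩, a4, a5⟩ := h2.1 a ha
  obtain ⟨⟨q2, q3⟩, q4⟩ := h2.2 q hq
  refine ⟨key a3 a1 ?_, key q2 q1 ?_⟩
  · rcases code_class a3 (by rw [← φ_mul a3 a3, a4, φ0]) with e | e | e | e
    · omega
    · omega
    · exact e
    · exact absurd e.1 a5
  · simp only [List.mem_cons, List.not_mem_nil, or_false] at q4
    rcases q4 with e | e
    · exact e ▸ conj_cc q3 q2
    · exact (e ▸ conj_cc q3 q2).trans conj3909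

/-- a `2`-subgroup whose centraliser is the centre -/
theorem exists_Y : ∃ Y : Subgroup K, IsPi {2} Y ∧ φ 1 ∈ Y ∧
    ∀ k, (∀ y ∈ Y, k * y = y * k) → k = 1 ∨ k = φ 1 := by
  have h1 : φ 4864 ^ 4 = 1 := by
    rw [show 4 = 2 * 2 from rfl, pow_mul, pow_two (φ 4864), φ_mul' (c := 1) (by decide +kernel),
      pow_two, z_sq]
  refine ⟨AK ⊔ zpowers (φ 4864), AK_two.sup (PiElt.isPi (piElt_of_pow_eq_one ?_ h1))
    (zpowers_le.2 (mem_normalizer_fintype fun x hx => ?_)),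
    mem_sup_left ⟨1, by norm_num, rfl⟩, fun k hk => ?_⟩
  · exact (piNat_self Nat.prime_two).pow 2
  · obtain ⟨a, ha, rfl⟩ := mem_AK.1 hx
    exact ⟨_, (kB' ha).2, φ_cc (by norm_num) (by omega)⟩
  · obtain ⟨c, hc, rfl⟩ := cent_I (k := k) fun c hc => hk _ (mem_sup_left ⟨c, by
      change c < 256; revert c; decide, rfl⟩)
    have h2 := (cm_iff (by omega) (by norm_num)).2 (hk _ (mem_sup_right (mem_zpowers _)))
    obtain rfl | rfl : c = 0 ∨ c = 1 := by clear hk; revert c; decide +kernel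
    · exact Or.inl φ0
    · exact Or.inr rfl

end H14.CC
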