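import Mathlib
import Cfsg.Agent.H14.CCK
import Cfsg.Agent.H11.C3Fin

/-! A subgroup of an involution centraliser covering the double cover of `Sp₆(2)` is the centraliser. -/

set_option autoImplicit false
set_option linter.unusedSectionVars false
set_option linter.unusedVariables false

namespace H14.CC

open H11.C3 Subgroup H24

section Dih

theorem dih0 {Q : Type*} [Group Q] [Finite Q] {x y : Q} (hx : x * x = 1) (hy : y * y = 1) :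
    (∃ k, k * x * k⁻¹ = y) ∨ ∃ c, c ≠ 1 ∧ c * c = 1 ∧ c * x = x * c ∧ c * y = y * c ∧
      ∃ k, k * x * k⁻¹ = x * c ∨ k * y * k⁻¹ = x * c := by
  rcases Nat.even_or_odd (orderOf (x * y)) with h | h
  · obtain ⟨b1, b2, b3⟩ := H6.central_involution hx hy h
    refine Or.inr ⟨_, H6.ne_one_of_orderOf_two b1, H6.mul_self_of_orderOf_two b1, b2.eq, b3.eq, ?_⟩
    have c1 := H6.inv_eq_of_mul_self hx
    have c2 := H6.inv_eq_of_mul_self hy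
    rcases Nat.even_or_odd' (orderOf (x * y) / 2) with ⟨m, hm | hm⟩ <;> rw [hm, two_mul]
    · obtain ⟨k, hk⟩ := isConj_iff.1 (conj_dihedral (s := x) (r := x * y) (by
        rw [mul_inv_rev, c1, c2, ← mul_assoc, hx, mul_assoc, hx, one_mul, mul_one]) m)
      exact ⟨k, Or.inl hk⟩
    · rw [pow_succ', ← mul_assoc, ← mul_assoc, hx, one_mul]
      obtain ⟨k, hk⟩ := isConj_iff.1 (conj_dihedral (s := y) (r := x * y) (by
        rw [mul_inv_rev, c1, c2, mul_assoc]) m)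
      exact ⟨k, Or.inr hk⟩
  · obtain ⟨k, hk⟩ := H6.exists_zpow_conj_of_odd hx hy h
    exact Or.inl ⟨_, hk⟩

variable {G : Type*} [Group G] [Finite G] {H B C M : Subgroup G} {a b x : G}

theorem dih (hB : H ≤ N[B]) (ha : a ∈ H) (hb : b ∈ H) (a2 : a * a ∈ B) (b2 : b * b ∈ B) :
    (∃ k ∈ H, k * a * k⁻¹ * b⁻¹ ∈ B) ∨ ∃ c ∈ H, c ∉ B ∧ c * c ∈ B ∧ c * a * c⁻¹ * a⁻¹ ∈ B ∧
      c * b * c⁻¹ * b⁻¹ ∈ B ∧ ∃ k ∈ H, k * a * k⁻¹ * (a * c)⁻¹ ∈ B ∨ k * b * k⁻¹ * (a * c)⁻¹ ∈ B := by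
  have : (B.subgroupOf H).Normal := ⟨fun n hn g => conj_mem (H := B) (hB g.2) hn⟩
  let f := QuotientGroup.mk' (B.subgroupOf H)
  have hf : ∀ x : H, f x = 1 ↔ x.1 ∈ B := fun x => QuotientGroup.eq_one_iff x
  have hs : Function.Surjective f := QuotientGroup.mk'_surjective _
  rcases dih0 (x := f ⟨a, ha⟩) (y := f ⟨b, hb⟩) (by rw [← map_mul, hf]; exact a2)
    (by rw [← map_mul, hf]; exact b2) with ⟨k, hk⟩ | ⟨c, c1, c2, c3, c4, k, hk⟩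
  · obtain ⟨k, rfl⟩ := hs k
    refine Or.inl ⟨k, k.2, (hf (k * ⟨a, ha⟩ * k⁻¹ * ⟨b, hb⟩⁻¹)).1 ?_⟩
    simp only [map_mul, map_inv, hk, mul_inv_cancel]
  · obtain ⟨k, rfl⟩ := hs k
    obtain ⟨c, rfl⟩ := hs c
    refine Or.inr ⟨c, c.2, fun e => c1 ((hf c).2 e), (hf (c * c)).1 (by rw [map_mul, c2]),
      (hf (c * ⟨a, ha⟩ * c⁻¹ * ⟨a, ha⟩⁻¹)).1 ?_, (hf (c * ⟨b, hb⟩ * c⁻¹ * ⟨b, hb⟩⁻¹)).1 ?_, k, k.2,
      hk.imp (fun e => (hf (k * ⟨a, ha⟩ * k⁻¹ * (⟨a, ha⟩ * c)⁻¹)).1 ?_)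
        fun e => (hf (k * ⟨b, hb⟩ * k⁻¹ * (⟨a, ha⟩ * c)⁻¹)).1 ?_⟩
    · simp only [map_mul, map_inv, c3, mul_inv_cancel_right, mul_inv_cancel]
    · simp only [map_mul, map_inv, c4, mul_inv_cancel_right, mul_inv_cancel]
    · simp only [map_mul, map_inv, e, mul_inv_cancel]
    · simp only [map_mul, map_inv, e, mul_inv_cancel]

/-- `x` fixes only one coset of `M` in `C` -/
def Rg (C M : Subgroup G) (x : G) : Prop := ∀ g ∈ C, g * x * g⁻¹ ∈ M → g ∈ M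

theorem Rg.conj (h : Rg C M x) {m : G} (hm : m ∈ M) (hC : m ∈ C) : Rg C M (m * x * m⁻¹) :=
  fun g hg e => (mul_mem_cancel_right hm).1 (h (g * m) (mul_mem hg hC) (by
    convert e using 1; group))

theorem dih_rigid (hC : H ≤ C) (hB : H ≤ N[B]) (hBM : B ≤ M) (ha : a ∈ H) (hb : b ∈ H)
    (aM : a ∈ M) (bM : b ∈ M) (a2 : a * a ∈ B) (b2 : b * b ∈ B) (ra : Rg C M a) (rb : Rg C M b)
    (nc : ∀ k ∈ H, k * a * k⁻¹ * b⁻¹ ∉ B)
    (good : ∀ c ∈ H, c ∈ M → c ∉ B → c * c ∈ B → c * a * c⁻¹ * a⁻¹ ∈ B → ∀ k ∈ H,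
      (k * a * k⁻¹ * (a * c)⁻¹ ∈ B ∨ k * b * k⁻¹ * (a * c)⁻¹ ∈ B) → ∃ β ∈ B, Rg C M (β * c)) :
    H ≤ M := fun g hg => by
  have hg' := inv_mem hg
  rcases dih hB ha (mul_mem (mul_mem hg' hb) hg) a2 (by
    have := conj_mem (hB hg') b2
    convert this using 1; group) with ⟨k, hk, e⟩ | ⟨c, hc, c1, c2, c3, c4, k, hk, e⟩
  · refine absurd ?_ (nc (g * k) (mul_mem hg hk))
    have := conj_mem (hB hg) e
    convert this using 1; group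
  · have cM : c ∈ M := ra c (hC hc) ((mul_mem_cancel_right (inv_mem aM)).1 (hBM c3))
    have cM' : g * c * g⁻¹ ∈ M := rb _ (hC (mul_mem (mul_mem hg hc) hg')) (by
      refine (mul_mem_cancel_right (inv_mem bM)).1 (hBM ?_)
      have := conj_mem (hB hg) c4
      convert this using 1; group)
    obtain ⟨β, hβ, r⟩ : ∃ β ∈ B, Rg C M (β * c) := by
      rcases e with e | e
      · exact good c hc cM c1 c2 c3 k hk (Or.inl e)
      · exact good c hc cM c1 c2 c3 (k * g⁻¹) (mul_mem hk hg') (Or.inr (by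
          convert e using 1; group))
    refine r g (hC hg) ?_
    have := mul_mem (hBM (conj_mem (hB hg) hβ)) cM'
    convert this using 1; group

theorem two_of_sq (h : PiElt {2} (x * x)) : PiElt {2} x := by
  obtain ⟨k, hk⟩ := h.exists_pow Nat.prime_two
  refine piElt_of_pow_eq_one ((piNat_self Nat.prime_two).pow (k + 1)) ?_
  rw [pow_succ', pow_mul, pow_two, ← hk, pow_orderOf_eq_one]

theorem two_sq (h : x * x = 1) : PiElt {2} x := two_of_sq (h ▸ piElt_one _)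

theorem sq_conj {y : G} (h : IsConj x y) (hy : y * y = 1) : x * x = 1 := by
  obtain ⟨k, rfl⟩ := isConj_iff.1 h.symm
  rw [conj_mul, hy]; simp

end Dih

/-- the setting -/
structure St (G : Type*) [Group G] where
  M : Subgroup G
  μ : M →* K
  surj : Function.Surjective μ
  ker : ∀ x ∈ M, ap μ x = 1 → Odd (orderOf x)
  z : G
  u : G
  t : G
  zM : z ∈ M
  uM : u ∈ M
  tM : t ∈ M
  μz : ap μ z = φ 1
  μu : ap μ u = φ 2
  μt : ap μ t = φ 20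
  zz : z * z = 1
  uu : u * u = 1
  tt : t * t = 1
  zc : M ≤ C{z}
  uc : ∀ x ∈ M, ap μ x = 1 → x * u = u * x
  ct : ∀ g, g * t = t * g → g * z = z * g → g ∈ M
  nz : ¬ IsConj t z
  uz : IsConj u z

namespace St

variable {G : Type*} [Group G] [Finite G] (S : St G) {P D : Subgroup G} {x y g m : G}

theorem ex (k : K) : ∃ x ∈ S.M, ap S.μ x = k := by
  obtain ⟨x, rfl⟩ := S.surj k
  exact ⟨x, x.2, ap_coe _ _⟩

theorem one_of (hx : x ∈ S.M) (h2 : PiElt {2} x) (h : ap S.μ x = 1) : x = 1 :=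
  h2.eq_one ((piNat_compl_singleton Nat.prime_two).2 (S.ker x hx h).not_two_dvd_nat)

theorem inj2 (hP : IsPi {2} P) (hM : P ≤ S.M) (hx : x ∈ P) (hy : y ∈ P) (e : ap S.μ x = ap S.μ y) :
    x = y :=
  mul_inv_eq_one.1 (S.one_of (hM (mul_mem hx (inv_mem hy))) (hP.piElt (mul_mem hx (inv_mem hy)))
    (by rw [ap_mul _ (hM hx) (inv_mem (hM hy)), ap_inv _ (hM hy), e, mul_inv_cancel]))

theorem eq_z (hx : x ∈ S.M) (h2 : PiElt {2} x) (h : ap S.μ x = φ 1) : x = S.z := by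
  have := S.one_of (mul_mem hx S.zM) (h2.mul (two_sq S.zz) (mem_C1.1 (S.zc hx)))
    (by rw [ap_mul _ hx S.zM, h, S.μz, z_sq])
  rw [eq_inv_of_mul_eq_one_left this, H6.inv_eq_of_mul_self S.zz]

theorem conj_inv (hx : x ∈ S.M) (hy : y ∈ S.M) (x2 : x * x = 1) (y2 : y * y = 1)
    (h : IsConj (ap S.μ x) (ap S.μ y)) : ∃ m ∈ S.M, m * x * m⁻¹ = y := by
  obtain ⟨k, hk⟩ := isConj_iff.1 h
  obtain ⟨m, hm, rfl⟩ := S.ex k
  have h1 : m * x * m⁻¹ ∈ S.M := mul_mem (mul_mem hm hx) (inv_mem hm)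
  obtain ⟨n, hn⟩ := H6.exists_zpow_conj_of_odd (x := m * x * m⁻¹) (by rw [conj_mul, x2]; simp) y2
    (S.ker _ (mul_mem h1 hy) (by
      rw [ap_mul _ h1 hy, ap_conj _ hm hx, hk, ← ap_mul _ hy hy, y2, ap_one]))
  exact ⟨(m * x * m⁻¹ * y) ^ n * m, mul_mem (zpow_mem (mul_mem h1 hy) n) hm,
    Eq.trans (by generalize (m * x * m⁻¹ * y) ^ n = r; group) hn⟩

theorem lift (hD : IsPi {2} D) (hM : D ≤ S.M) {Y : Subgroup K} (hY : IsPi {2} Y)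
    (h : ∀ d ∈ D, ap S.μ d ∈ Y) : ∃ P, IsPi {2} P ∧ D ≤ P ∧ P ≤ pre S.μ Y ∧
      ∀ y ∈ Y, ∃ p ∈ P, ap S.μ p = y := by
  obtain ⟨P, hP, h1⟩ := Sylow_superset Nat.prime_two hD
    (show D ≤ pre S.μ Y from fun d hd => mem_pre.2 ⟨hM hd, h d hd⟩)
  have h2 := hP.img S.μ (pre_le _ _)
  rw [img_pre_of_le (MonoidHom.range_eq_top.2 S.surj ▸ le_top)] at h2
  refine ⟨P, hP.pi, h1, hP.le, fun y hy => ?_⟩
  rw [← h2.eq_self hY] at hy
  exact (mem_img_of_le (hP.le.trans (pre_le _ _))).1 hy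

theorem lift_comm (hx : x ∈ S.M) (h2 : PiElt {2} x) {k : K} (kk : k * k = 1)
    (hk : ap S.μ x * k = k * ap S.μ x) : ∃ a ∈ S.M, a * a = 1 ∧ x * a = a * x ∧ ap S.μ a = k := by
  obtain ⟨P, hP, h1, h3, h4⟩ := S.lift h2.isPi (zpowers_le.2 hx)
    (Y := zpowers (ap S.μ x) ⊔ zpowers k) ((h2.ap _ hx).isPi.sup (two_sq kk).isPi
      (norm_zpowers_of_cent (zpowers_le.2 (mem_C1.2 hk.symm)))) (by
      rintro _ ⟨n, rfl⟩
      rw [ap_zpow _ hx]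
      exact mem_sup_left ⟨n, rfl⟩)
  have h5 := h3.trans (pre_le _ _)
  have h6 := h1 (mem_zpowers x)
  obtain ⟨a, ha, rfl⟩ := h4 k (mem_sup_right (mem_zpowers k))
  exact ⟨a, h5 ha, S.inj2 hP h5 (mul_mem ha ha) (one_mem _)
    (by rw [ap_mul _ (h5 ha) (h5 ha), kk, ap_one]), S.inj2 hP h5 (mul_mem h6 ha) (mul_mem ha h6)
    (by rw [ap_mul _ hx (h5 ha), ap_mul _ (h5 ha) hx, hk]), rfl⟩

theorem inv_cls (hx : x ∈ S.M) (x2 : x * x = 1) : x = 1 ∨ x = S.z ∨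
    (∃ m ∈ S.M, m * S.u * m⁻¹ = x) ∨ ∃ m ∈ S.M, m * S.t * m⁻¹ = x := by
  rcases inv_class (a := ap S.μ x) (by rw [← ap_mul _ hx hx, x2, ap_one]) with e | e | e | e
  · exact Or.inl (S.one_of hx (two_sq x2) e)
  · exact Or.inr (Or.inl (S.eq_z hx (two_sq x2) e))
  · exact Or.inr (Or.inr (Or.inl (S.conj_inv S.uM hx S.uu x2 (S.μu ▸ e.symm))))
  · exact Or.inr (Or.inr (Or.inr (S.conj_inv S.tM hx S.tt x2 (S.μt ▸ e.symm))))

theorem z_ne : S.z ≠ 1 := fun e => φ_ne (a := 1) (by norm_num) one_ne_zero (by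
  rw [← S.μz, e, ap_one])
theorem t_ne : S.t ≠ 1 := fun e => φ_ne (a := 20) (by norm_num) (by norm_num) (by
  rw [← S.μt, e, ap_one])
theorem nu : ¬ IsConj S.t S.u := fun e => S.nz (e.trans S.uz)

theorem rg_t : Rg C{S.z} S.M S.t := fun g hg h => by
  have c1 : IsConj S.t (g * S.t * g⁻¹) := isConj_iff.2 ⟨g, rfl⟩
  rcases S.inv_cls h (sq_conj c1.symm S.tt) with e | e | ⟨m, hm, e⟩ | ⟨m, hm, e⟩
  · exact absurd (isConj_one_left.1 (e ▸ c1)) S.t_ne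
  · exact absurd (e ▸ c1) S.nz
  · exact absurd (c1.trans (isConj_iff.2 ⟨m, e⟩).symm) S.nu
  · refine (mul_mem_cancel_left (inv_mem hm)).1 (S.ct _ ?_
      (mem_C1.1 (mul_mem (inv_mem (S.zc hm)) hg)))
    rw [mul_assoc, mul_inv_eq_iff_eq_mul.1 e.symm]
    group

theorem rg_T (hx : x ∈ S.M) (x2 : x * x = 1) (h : IsConj (ap S.μ x) (φ 20)) : Rg C{S.z} S.M x := by
  obtain ⟨m, hm, rfl⟩ := S.conj_inv S.tM hx S.tt x2 (S.μt ▸ h.symm)
  exact S.rg_t.conj hm (S.zc hm)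

end St

end H14.CC
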