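import Mathlib
import Cfsg.Agent.H14.CCG

/-! The centraliser of the four-group. -/

set_option autoImplicit false
set_option linter.unusedSectionVars false
set_option linter.unusedVariables false

namespace H14.CC

open H11.C3 Subgroup H24

namespace St

variable {G : Type*} [Group G] [Finite G] (S : St G) {P D : Subgroup G} {x y g m : G}

/-- the four-group -/
def U : Subgroup G := zpowers S.z ⊔ zpowers S.u
/-- its centraliser -/
def C0 : Subgroup G := C{S.z} ⊓ C{S.u}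
/-- the preimage of the normal `2`-subgroup -/
noncomputable def A : Subgroup G := pre S.μ AK

theorem A_le : S.A ≤ S.M := pre_le _ _
theorem mem_A : x ∈ S.A ↔ x ∈ S.M ∧ ap S.μ x ∈ AK := mem_pre
theorem U_le : S.U ≤ S.M := sup_le (zpowers_le.2 S.zM) (zpowers_le.2 S.uM)
theorem U_two : IsPi {2} S.U := (two_sq S.zz).isPi.sup (two_sq S.uu).isPi
  (norm_zpowers_of_cent (zpowers_le.2 (S.zc S.uM)))
theorem U_cent (hg : g ∈ S.C0) (hx : x ∈ S.U) : g * x * g⁻¹ = x := by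
  have : S.U ≤ C{g} := sup_le (zpowers_le.2 (mem_C1_comm.1 hg.1)) (zpowers_le.2 (mem_C1_comm.1 hg.2))
  rw [← mem_C1.1 (this hx), mul_inv_cancel_right]
theorem U_img (hx : x ∈ S.U) : ap S.μ x ∈ UK := by
  have : S.U ≤ pre S.μ UK := sup_le
    (zpowers_le.2 (mem_pre.2 ⟨S.zM, S.μz ▸ mem_UK'.2 (Or.inr (Or.inl rfl))⟩))
    (zpowers_le.2 (mem_pre.2 ⟨S.uM, S.μu ▸ mem_UK'.2 (Or.inr (Or.inr (Or.inl rfl)))⟩))
  exact (mem_pre.1 (this hx)).2
theorem U_surj {k : K} (hk : k ∈ UK) : ∃ x ∈ S.U, ap S.μ x = k := by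
  have hz : S.z ∈ S.U := mem_sup_left (mem_zpowers _)
  have hu : S.u ∈ S.U := mem_sup_right (mem_zpowers _)
  rcases mem_UK'.1 hk with rfl | rfl | rfl | rfl
  · exact ⟨1, one_mem _, ap_one _⟩
  · exact ⟨_, hz, S.μz⟩
  · exact ⟨_, hu, S.μu⟩
  · exact ⟨_, mul_mem hz hu, by rw [ap_mul _ S.zM S.uM, S.μz, S.μu]⟩
theorem mem_U (hP : IsPi {2} P) (hU : S.U ≤ P) (hM : P ≤ S.M) (hx : x ∈ P) (h : ap S.μ x ∈ UK) :
    x ∈ S.U := by
  obtain ⟨y, hy, e⟩ := S.U_surj h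
  exact S.inj2 hP hM (hU hy) hx e ▸ hy
theorem U_le_A : S.U ≤ S.A := fun x hx => S.mem_A.2 ⟨S.U_le hx, UK_le (S.U_img hx)⟩

theorem cent_u (hm : m ∈ S.M) (h : ap S.μ m * φ 2 = φ 2 * ap S.μ m) : m ∈ S.C0 := by
  have h1 : m * S.u * m⁻¹ * S.u ∈ S.M := mul_mem (mul_mem (mul_mem hm S.uM) (inv_mem hm)) S.uM
  have h2 : ap S.μ (m * S.u * m⁻¹ * S.u) = 1 := by
    rw [ap_mul _ (mul_mem (mul_mem hm S.uM) (inv_mem hm)) S.uM, ap_conj _ hm S.uM, S.μu, h,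
      mul_inv_cancel_right, u_sq]
  have h3 := S.uc _ h1 h2
  have h4 : m * S.u * m⁻¹ * (m * S.u * m⁻¹) = 1 := by rw [conj_mul, S.uu]; simp
  refine ⟨S.zc hm, mem_C1_iff_conj.2 ?_⟩
  generalize m * S.u * m⁻¹ = v at *
  have h5 := S.one_of h1 ((two_sq h4).mul (two_sq S.uu) (by
    rw [← mul_assoc] at h3; exact mul_right_cancel h3)) h2
  rw [eq_inv_of_mul_eq_one_left h5, H6.inv_eq_of_mul_self S.uu]

theorem ap_cent (hm : m ∈ S.M) (h : m ∈ S.C0) : ap S.μ m * φ 2 = φ 2 * ap S.μ m := by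
  rw [← S.μu, ← ap_mul _ hm S.uM, ← ap_mul _ S.uM hm, mem_C1.1 h.2]

theorem A_le_C0 : S.A ≤ S.C0 := fun x hx => S.cent_u (S.A_le hx) (AK_cent (S.mem_A.1 hx).2)

theorem sc (hg : g ∈ S.C0) (hx : x ∈ S.A) (x2 : x * x ∈ S.U) (h : g * x * g⁻¹ ∈ S.M) :
    g * x * g⁻¹ ∈ S.A := by
  refine S.mem_A.2 ⟨h, ?_⟩
  by_contra hn
  have h1 : g * x * g⁻¹ * (g * x * g⁻¹) ∈ S.U := by rwa [conj_mul, S.U_cent hg x2]
  have h2 := out_T (S.ap_cent h (mul_mem (mul_mem hg (S.A_le_C0 hx)) (inv_mem hg)))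
    (by rw [← ap_mul _ h h]; exact S.U_img h1) hn
  have h3 := S.rg_T h (S.one_of (S.U_le h1) (S.U_two.piElt h1) (by
    rw [ap_mul _ h h, sq_conj h2 t_sq])) h2 g⁻¹ (inv_mem hg.1) (by
      simpa [mul_assoc] using S.A_le hx)
  rw [inv_mem_iff] at h3
  exact hn (by
    rw [ap_conj _ h3 (S.A_le hx)]
    exact AK_norm (S.ap_cent h3 hg) (S.mem_A.1 hx).2)

/-- the elements centralising `D` modulo the four-group -/
def HH (D : Subgroup G) : Subgroup G where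
  carrier := {h | h ∈ S.C0 ∧ ∀ d ∈ D, h * d * h⁻¹ * d⁻¹ ∈ S.U}
  one_mem' := ⟨one_mem _, fun d _ => by simp⟩
  mul_mem' := fun {a b} ha hb => ⟨mul_mem ha.1 hb.1, fun d hd => by
    have := mul_mem (((S.U_cent ha.1 (hb.2 d hd)).symm ▸ hb.2 d hd :)  :
      a * (b * d * b⁻¹ * d⁻¹) * a⁻¹ ∈ S.U) (ha.2 d hd)
    convert this using 1; group⟩
  inv_mem' := fun {a} ha => ⟨inv_mem ha.1, fun d hd => by
    have := S.U_cent (inv_mem ha.1) (inv_mem (ha.2 d hd))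
    have h1 := inv_mem (ha.2 d hd)
    rw [← this] at h1
    convert h1 using 1; group⟩

theorem HH_norm (hU : S.U ≤ D) : S.HH D ≤ N[D] := fun h hh => mem_N_of_finite fun d hd =>
  (mul_mem_cancel_right (inv_mem hd)).1 (hU (hh.2 d hd))

theorem comm_U (hP : IsPi {2} P) (hU : S.U ≤ P) (hA : P ≤ S.A) (hx : x ∈ P) (hy : y ∈ P) :
    x * y * x⁻¹ * y⁻¹ ∈ S.U := by
  have hM := hA.trans S.A_le
  refine S.mem_U hP hU hM (mul_mem (mul_mem (mul_mem hx hy) (inv_mem hx)) (inv_mem hy)) ?_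
  rw [ap_mul _ (hM (mul_mem (mul_mem hx hy) (inv_mem hx))) (hM (inv_mem hy)),
    ap_conj _ (hM hx) (hM hy), ap_inv _ (hM hy)]
  exact AK_comm (S.mem_A.1 (hA hx)).2 (S.mem_A.1 (hA hy)).2

theorem sq_U (hP : IsPi {2} P) (hU : S.U ≤ P) (hA : P ≤ S.A) (hx : x ∈ P) : x * x ∈ S.U := by
  have hM := hA.trans S.A_le
  refine S.mem_U hP hU hM (mul_mem hx hx) ?_
  rw [ap_mul _ (hM hx) (hM hx)]
  exact AK_sq (S.mem_A.1 (hA hx)).2

theorem cj_sup_le {a : G} (hg : g ∈ N[D]) (hD : D ≤ P) (ha : g * a * g⁻¹ ∈ P) :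
    cj g (D ⊔ zpowers a) ≤ P := by
  rw [cj_sup, cj_of_mem_N hg, cj_zpowers]
  exact sup_le hD (zpowers_le.2 ha)

theorem lt_sup {a : G} (ha : a ∉ D) : Nat.card D < Nat.card ↥(D ⊔ zpowers a) :=
  card_lt (left_lt_sup.2 fun e => ha (e (mem_zpowers a)))

theorem C0_le : S.C0 ≤ S.M := fun g0 hg0 => by
  by_contra hn
  obtain ⟨D, ⟨d2, dU, dA, g, hg, gM, gD⟩, hmax⟩ := Set.exists_max_image
    {D : Subgroup G | IsPi {2} D ∧ S.U ≤ D ∧ D ≤ S.A ∧ ∃ g ∈ S.C0, g ∉ S.M ∧ cj g D ≤ S.M}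
    (fun D => Nat.card D) (Set.toFinite _) ⟨S.U, S.U_two, le_rfl, S.U_le_A, g0, hg0, hn, fun x hx => by
      obtain ⟨y, hy, rfl⟩ := mem_cj'.1 hx
      rw [S.U_cent hg0 hy]; exact S.U_le hy⟩
  have R : ∀ P, IsPi {2} P → D ≤ P → P ≤ S.A → Nat.card D < Nat.card P → ∀ l ∈ S.C0,
      cj l P ≤ S.M → l ∈ S.M := fun P p2 pD pA hc l hl h => by
    by_contra e
    exact absurd (hmax P ⟨p2, dU.trans pD, pA, l, hl, e, h⟩) (not_le.2 hc)
  have dM := dA.trans S.A_le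
  have hg' := inv_mem hg
  have eA : cj g D ≤ S.A := fun x hx => by
    obtain ⟨y, hy, rfl⟩ := mem_cj'.1 hx
    exact S.sc hg (dA hy) (S.sq_U d2 dU dA hy) (gD hx)
  have eU : S.U ≤ cj g D := fun x hx => S.U_cent hg hx ▸ conj_mem_cj g (dU hx)
  obtain ⟨A, a2, aD, aA, aS⟩ := S.lift d2 dM AK_two fun d hd => (S.mem_A.1 (dA hd)).2
  obtain ⟨B, b2, bD, bA, bS⟩ := S.lift (d2.cj g) gD AK_two fun d hd => (S.mem_A.1 (eA hd)).2
  obtain ⟨t, ht, et⟩ := bS _ t_mem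
  have tM := S.A_le (bA ht)
  have t2 : t * t = 1 := S.inj2 b2 (bA.trans S.A_le) (mul_mem ht ht) (one_mem _)
    (by rw [ap_mul _ tM tM, et, t_sq, ap_one])
  have tr := S.rg_T tM t2 (et ▸ IsConj.refl _)
  have hN := S.HH_norm dU
  have aH : A ≤ S.HH D := fun a ha => ⟨S.A_le_C0 (aA ha), fun d hd =>
    S.comm_U a2 (dU.trans aD) aA ha (aD hd)⟩
  have bH : g⁻¹ * t * g ∈ S.HH D := ⟨mul_mem (mul_mem hg' (S.A_le_C0 (bA ht))) hg, fun d hd => by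
    have h1 := S.comm_U b2 (eU.trans bD) bA ht (bD (conj_mem_cj g hd))
    rw [← S.U_cent hg' h1] at h1
    convert h1 using 1; group⟩
  have R1 : ∀ a ∈ A, a ∉ D → ∀ l ∈ S.HH D, l * a * l⁻¹ ∈ S.M → l ∈ S.M := fun a ha a1 l hl h =>
    R (D ⊔ zpowers a) (a2.of_le (sup_le aD (zpowers_le.2 ha))) le_sup_left
      ((sup_le aD (zpowers_le.2 ha)).trans aA) (lt_sup a1) l hl.1 (cj_sup_le (hN hl) dM h)
  have key : ∀ a ∈ A, a ∉ D → ∃ k ∈ S.HH D, k * a * k⁻¹ * (g⁻¹ * t * g)⁻¹ ∈ D := fun a ha a1 => by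
    have aM := S.A_le (aA ha)
    have a3 := S.sq_U a2 (dU.trans aD) aA ha
    refine (dih hN (aH ha) bH (dU a3) (by
      rw [show g⁻¹ * t * g * (g⁻¹ * t * g) = g⁻¹ * (t * t) * g by group, t2]
      simp)).resolve_right ?_
    rintro ⟨c, hc, c1, c2, c3, c4, k, hk, e⟩
    have cM : c ∈ S.M := R1 a ha a1 c hc ((mul_mem_cancel_right (inv_mem aM)).1 (dM c3))
    have cM' : g * c * g⁻¹ ∈ S.M := tr _ (mul_mem (mul_mem hg hc.1) hg').1 (by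
      refine (mul_mem_cancel_right (inv_mem tM)).1 (gD ?_)
      have := conj_mem_cj g c4
      convert this using 1; group)
    have cA : c ∈ S.A := by
      have h1 : ∀ y, y * (a * c)⁻¹ ∈ D → (y ∈ S.M → y ∈ S.A) → c ∈ S.A := fun y hy h => by
        have h2 := h ((mul_mem_cancel_right (inv_mem (mul_mem aM cM))).1 (dM hy))
        have h3 := (mul_mem_cancel_left h2).1 (dA hy)
        exact (mul_mem_cancel_left (aA ha)).1 (inv_mem_iff.1 h3)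
      rcases e with e | e
      · exact h1 _ e (S.sc hk.1 (aA ha) a3)
      · refine h1 _ e ?_
        rw [show k * (g⁻¹ * t * g) * k⁻¹ = k * g⁻¹ * t * (k * g⁻¹)⁻¹ by group]
        exact S.sc (mul_mem hk.1 hg') (bA ht) (t2 ▸ one_mem _)
    refine gM (R (D ⊔ zpowers c) (d2.sup (two_of_sq (d2.piElt c2)).isPi (zpowers_le.2 (hN hc)))
      le_sup_left (sup_le dA (zpowers_le.2 cA)) (lt_sup c1) g hg ?_)
    rw [cj_sup, cj_zpowers]
    exact sup_le gD (zpowers_le.2 cM')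
  have mE : ∀ {k}, k ∈ img S.μ D ↔ ∃ d ∈ D, ap S.μ d = k := mem_img_of_le dM
  refine noE (E := img S.μ D) (fun k hk => ?_) (fun k hk => ?_) (fun k hk e => ?_)
    fun a ha a1 b hb b1 => ?_
  · obtain ⟨x, hx, rfl⟩ := S.U_surj hk
    exact mE.2 ⟨x, dU hx, rfl⟩
  · obtain ⟨x, hx, rfl⟩ := mE.1 hk
    exact (S.mem_A.1 (dA hx)).2
  · obtain ⟨x, hx, rfl⟩ := mE.1 hk
    exact gM (S.rg_T (dM hx) (S.inj2 d2 dM (mul_mem hx hx) (one_mem _) (by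
      rw [ap_mul _ (dM hx) (dM hx), sq_conj e t_sq, ap_one])) e g hg.1 (gD (conj_mem_cj g hx)))
  · obtain ⟨a, ha', rfl⟩ := aS a ha
    obtain ⟨b, hb', rfl⟩ := aS b hb
    have a3 : a ∉ D := fun e => a1 (mE.2 ⟨a, e, rfl⟩)
    have aM := S.A_le (aA ha')
    have bM := S.A_le (aA hb')
    obtain ⟨k, hk, e1⟩ := key a ha' a3
    obtain ⟨l, hl, e2⟩ := key b hb' fun e => b1 (mE.2 ⟨b, e, rfl⟩)
    have h1 := mul_mem (inv_mem hl) hk
    have h2 : l⁻¹ * k * a * (l⁻¹ * k)⁻¹ * b⁻¹ ∈ D := by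
      have := conj_mem' (hN hl) (mul_mem e1 (inv_mem e2))
      convert this using 1; group
    have h3 := R1 a ha' a3 _ h1 ((mul_mem_cancel_right (inv_mem bM)).1 (dM h2))
    generalize l⁻¹ * k = h at h1 h2 h3
    refine ⟨ap S.μ h, S.ap_cent h3 h1.1, fun e he => ?_, mE.2 ⟨_, h2, ?_⟩⟩
    · obtain ⟨x, hx, rfl⟩ := mE.1 he
      have := S.U_img (h1.2 x hx)
      rwa [ap_mul _ (mul_mem (mul_mem h3 (dM hx)) (inv_mem h3)) (inv_mem (dM hx)),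
        ap_conj _ h3 (dM hx), ap_inv _ (dM hx)] at this
    · rw [ap_mul _ (mul_mem (mul_mem h3 aM) (inv_mem h3)) (inv_mem bM), ap_conj _ h3 aM,
        ap_inv _ bM]

end St

end H14.CC
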