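import Mathlib
import Cfsg.Agent.H14.CCH

/-! The centraliser of the central involution. -/

set_option autoImplicit false
set_option linter.unusedSectionVars false
set_option linter.unusedVariables false

namespace H14.CC

open H11.C3 Subgroup H24

theorem mem_zp2 {G : Type*} [Group G] {z w : G} (h : z * z = 1) (hw : w ∈ zpowers z) :
    w = 1 ∨ w = z := by
  obtain ⟨n, rfl⟩ := hw
  have h2 : z ^ (2 : ℤ) = 1 := by rw [zpow_two, h]
  rcases Int.even_or_odd' n with ⟨m, rfl | rfl⟩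
  · exact Or.inl (by simp only [zpow_mul, h2, one_zpow])
  · exact Or.inr (by simp only [zpow_add, zpow_mul, h2, one_zpow, one_mul, zpow_one])

theorem mem_zp4 {G : Type*} [Group G] {x z w : G} (hx : x * x = z) (h : z * z = 1) (h1 : z ≠ 1)
    (hw : w ∈ zpowers x) (w2 : w * w = 1) : w = 1 ∨ w = z := by
  obtain ⟨n, rfl⟩ := hw
  have h2 : x ^ (2 : ℤ) = z := by rw [zpow_two, hx]
  rcases Int.even_or_odd' n with ⟨m, rfl | rfl⟩
  · exact mem_zp2 h ⟨m, by simp only [zpow_mul, h2]⟩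
  · refine absurd ?_ h1
    simp only at w2
    rw [← zpow_add, show 2 * m + 1 + (2 * m + 1) = 2 * (2 * m) + 2 by ring, zpow_add, zpow_mul, h2,
      zpow_mul, zpow_two, h, one_zpow, one_mul] at w2
    exact w2

namespace St

variable {G : Type*} [Group G] [Finite G] (S : St G) {P D : Subgroup G} {x y g m : G}

theorem u_ne : S.u ≠ 1 := fun e => φ_ne (a := 2) (by norm_num) (by norm_num) (by
  rw [← S.μu, e, ap_one])

theorem rg_u : Rg C{S.z} S.M S.u := fun g hg h => by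
  have c1 : IsConj S.u (g * S.u * g⁻¹) := isConj_iff.2 ⟨g, rfl⟩
  rcases S.inv_cls h (sq_conj c1.symm S.uu) with e | e | ⟨m, hm, e⟩ | ⟨m, hm, e⟩
  · exact absurd (isConj_one_left.1 (e ▸ c1)) S.u_ne
  · have h1 : S.u = S.z := by
      rw [← mem_C1_iff_conj.1 hg] at e
      simpa using e
    have h2 := S.μu
    rw [h1, S.μz] at h2
    exact absurd (inj (by norm_num) (by norm_num) h2) (by norm_num)
  · refine (mul_mem_cancel_left (inv_mem hm)).1 (S.C0_le (mem_inf.2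
      ⟨mul_mem (inv_mem (S.zc hm)) hg, mem_C1.2 ?_⟩))
    rw [mul_assoc, mul_inv_eq_iff_eq_mul.1 e.symm]
    group
  · exact absurd ((isConj_iff.2 ⟨m, e⟩).trans c1.symm) S.nu

theorem rg_inv (hx : x ∈ S.M) (x2 : x * x = 1) (h1 : x ≠ 1) (hz : x ≠ S.z) : Rg C{S.z} S.M x := by
  rcases S.inv_cls hx x2 with e | e | ⟨m, hm, rfl⟩ | ⟨m, hm, rfl⟩
  · exact absurd e h1
  · exact absurd e hz
  · exact S.rg_u.conj hm (S.zc hm)
  · exact S.rg_t.conj hm (S.zc hm)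

theorem conj_t (hx : x ∈ S.M) (x2 : x * x = 1) (h : IsConj (ap S.μ x) (φ 20)) :
    IsConj S.t x ∧ IsConj S.t (x * S.z) := by
  obtain ⟨m, hm, e⟩ := S.conj_inv S.tM hx S.tt x2 (S.μt ▸ h.symm)
  have c := mem_C1.1 (S.zc hx)
  obtain ⟨n, hn, e'⟩ := S.conj_inv S.tM (mul_mem hx S.zM) S.tt (by
    rw [mul_assoc, ← mul_assoc S.z, ← c, mul_assoc, S.zz, mul_one, x2]) (by
      obtain ⟨k, hk⟩ := isConj_iff.1 h
      rw [S.μt, ap_mul _ hx S.zM, S.μz]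
      refine conj_tz.symm.trans (isConj_iff.2 ⟨k, ?_⟩).symm
      rw [← hk, ← mul_assoc, mul_assoc _ (φ 1), ← z_comm, ← mul_assoc])
  exact ⟨isConj_iff.2 ⟨m, e⟩, isConj_iff.2 ⟨n, e'⟩⟩

theorem root_lift (hx : x ∈ S.M) (h : x * x = S.z) :
    (∃ a ∈ S.M, a * a = 1 ∧ x * a = a * x ∧ IsConj (ap S.μ a) (φ 2)) ∧
      ∃ a ∈ S.M, a * a = 1 ∧ x * a = a * x ∧ IsConj (ap S.μ a) (φ 20) := by
  have h2 : PiElt {2} x := two_of_sq (h ▸ two_sq S.zz)
  obtain ⟨⟨a, a1, a2⟩, b, b1, b2⟩ := root_comm (x := ap S.μ x) (by rw [← ap_mul _ hx hx, h, S.μz])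
  obtain ⟨a', a3, a4, a5, rfl⟩ := S.lift_comm hx h2 (sq_conj a2 u_sq) a1
  obtain ⟨b', b3, b4, b5, rfl⟩ := S.lift_comm hx h2 (sq_conj b2 t_sq) b1
  exact ⟨⟨a', a3, a4, a5, a2⟩, b', b3, b4, b5, b2⟩

theorem not_conj {a b k β : G} (ha : IsConj S.u a) (hb : IsConj S.t b) (hb' : IsConj S.t (b * S.z))
    (bz : b * S.z = S.z * b) (hβ : β = 1 ∨ β = S.z) : k * a * k⁻¹ * b⁻¹ ≠ β := fun e => by
  have c := ha.trans (isConj_iff.2 ⟨k, mul_inv_eq_iff_eq_mul.1 e⟩)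
  rcases hβ with rfl | rfl
  · exact S.nu (hb.trans (by simpa using c.symm))
  · exact S.nu (hb'.trans (bz ▸ c.symm))

theorem cent_root (hx : x ∈ S.M) (h : x * x = S.z) : C{x} ≤ S.M := by
  obtain ⟨⟨a, aM, a2, ax, au⟩, b, bM, b2, bx, bt⟩ := S.root_lift hx h
  obtain ⟨m, hm, em⟩ := S.conj_inv S.uM aM S.uu a2 (S.μu ▸ au.symm)
  have hC : C{x} ≤ C{S.z} := fun g hg => h ▸ mem_C1_comm.1
    (mul_mem (mem_C1_comm.1 hg) (mem_C1_comm.1 hg))
  have hB : ∀ g ∈ C{x}, ∀ β ∈ zpowers x, β * g = g * β := fun g hg β hβ =>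
    mem_C1.1 (zpowers_le.2 (mem_C1_comm.1 hg) hβ)
  have ha := mem_C1.2 ax.symm
  have hb := mem_C1.2 bx.symm
  have zB : S.z ∈ zpowers x := h ▸ mul_mem (mem_zpowers x) (mem_zpowers x)
  have ai := H6.inv_eq_of_mul_self a2
  refine dih_rigid hC (norm_zpowers_of_cent le_rfl) (zpowers_le.2 hx) ha hb aM bM (a2 ▸ one_mem _)
    (b2 ▸ one_mem _) (em ▸ S.rg_u.conj hm (S.zc hm)) (S.rg_T bM b2 bt) (fun k hk e => ?_)
    fun c hc cM c1 c2 c3 k hk e => ?_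
  · refine S.not_conj (isConj_iff.2 ⟨m, em⟩) (S.conj_t bM b2 bt).1 (S.conj_t bM b2 bt).2
      (mem_C1.1 (S.zc bM)) (mem_zp4 h S.zz S.z_ne e ?_) rfl
    have h1 := hB b hb _ e
    have h2 : k * a * k⁻¹ * (k * a * k⁻¹) = 1 := by rw [conj_mul, a2]; simp
    generalize k * a * k⁻¹ = y at *
    rw [H6.inv_eq_of_mul_self b2] at *
    rw [mul_assoc y b b, b2, mul_one] at h1
    rw [mul_assoc, ← h1, h2]
  · obtain ⟨y, y2, e⟩ : ∃ y, y * y = 1 ∧ y * (a * c)⁻¹ ∈ zpowers x := by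
      rcases e with e | e
      · exact ⟨_, by rw [conj_mul, a2]; simp, e⟩
      · exact ⟨_, by rw [conj_mul, b2]; simp, e⟩
    obtain ⟨β, hβ, rfl⟩ : ∃ β ∈ zpowers x, y = β * (a * c) := ⟨_, e, by group⟩
    have r1 : β * c ∉ zpowers x := fun e => c1 ((mul_mem_cancel_left hβ).1 e)
    have rM : β * c ∈ S.M := mul_mem (zpowers_le.2 hx hβ) cM
    have rx : β * c * x = x * (β * c) :=
      mem_C1.1 (mul_mem (zpowers_le.2 (mem_C1.2 rfl) hβ) hc)
    have q1 : β * c * (β * c) ∈ zpowers x := by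
      rw [mul_assoc, ← mul_assoc c, ← hB c hc β hβ, mul_assoc]
      exact mul_mem hβ (mul_mem hβ c2)
    rw [← mul_assoc β a c, hB a ha β hβ, mul_assoc a] at y2
    have q2 : β * c * (β * c) * (β * c * (β * c)) = 1 := by
      have h1 := hB a ha _ q1
      generalize β * c = r at *
      have h2 : a * r * a = r⁻¹ := eq_inv_of_mul_eq_one_left (by rw [← y2]; group)
      calc r * r * (r * r) = r * r * (a * a) * (r * r) := by rw [a2, mul_one]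
        _ = a * r * (a * a) * r * a * (r * r) := by rw [← mul_assoc (r * r), h1, a2]; group
        _ = (a * r * a) * (a * r * a) * (r * r) := by group
        _ = 1 := by rw [h2]; group
    rcases mem_zp4 h S.zz S.z_ne q1 q2 with e | e
    · exact ⟨β, hβ, S.rg_inv rM e (fun e => r1 (e ▸ one_mem _)) fun e => r1 (e ▸ zB)⟩
    · have r2 : x * (β * c) ∉ zpowers x := fun e => r1 ((mul_mem_cancel_left (mem_zpowers x)).1 e)
      refine ⟨x * β, mul_mem (mem_zpowers x) hβ, ?_⟩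
      rw [mul_assoc]
      refine S.rg_inv (mul_mem hx rM) ?_ (fun e => r2 (e ▸ one_mem _)) fun e => r2 (e ▸ zB)
      generalize β * c = r at *
      rw [mul_assoc, ← mul_assoc r, rx, mul_assoc, e, ← mul_assoc, h, S.zz]

theorem rg_root (hx : x ∈ S.M) (h : x * x = S.z) : Rg C{S.z} S.M x := fun g hg hM => by
  obtain ⟨-, b, bM, b2, bx, bt⟩ := S.root_lift hM (by rw [conj_mul, h, mem_C1_iff_conj.1 hg])
  refine inv_mem_iff.1 (S.rg_T bM b2 bt g⁻¹ (inv_mem hg) (S.cent_root hx h (mem_C1.2 ?_)))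
  calc g⁻¹ * b * g⁻¹⁻¹ * x = g⁻¹ * (b * (g * x * g⁻¹)) * g := by group
    _ = _ := by rw [← bx]; group

theorem cent_z : C{S.z} ≤ S.M := by
  have ht := S.conj_t S.tM S.tt (S.μt ▸ IsConj.refl _)
  refine dih_rigid le_rfl (norm_zpowers_of_cent le_rfl) (zpowers_le.2 S.zM) (S.zc S.uM) (S.zc S.tM)
    S.uM S.tM (S.uu ▸ one_mem _) (S.tt ▸ one_mem _) S.rg_u S.rg_t (fun k hk e => ?_)
    fun c hc cM c1 c2 c3 k hk e => ⟨1, one_mem _, ?_⟩
  · exact S.not_conj (IsConj.refl _) ht.1 ht.2 (mem_C1.1 (S.zc S.tM)) (mem_zp2 S.zz e) rfl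
  · rw [one_mul]
    rcases mem_zp2 S.zz c2 with e | e
    · exact S.rg_inv cM e (fun e => c1 (e ▸ one_mem _)) fun e => c1 (e ▸ mem_zpowers _)
    · exact S.rg_root cM e

theorem eq_top {N : Subgroup G} (hM : S.M ≤ N) (ht : C{S.t} ≤ N) {r : G} (hr : r ∈ N)
    (er : r * S.u * r⁻¹ = S.z) : N = ⊤ := by
  obtain ⟨Y, y2, y1, yc⟩ := exists_Y
  obtain ⟨D, d2, -, dY, dS⟩ := S.lift (isPi_bot _) bot_le y2 fun d hd => by
    rw [mem_bot.1 hd, ap_one]; exact one_mem _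
  have dM := dY.trans (pre_le _ _)
  obtain ⟨P, hP, h1⟩ := Sylow_superset Nat.prime_two d2 (dM.trans hM)
  have zD : S.z ∈ D := by
    obtain ⟨p, hp, e⟩ := dS _ y1
    exact S.eq_z (dM hp) (d2.piElt hp) e ▸ hp
  have pM : P ≤ S.M := by
    obtain ⟨c, hc, c1⟩ := exists_ne_one (hP.pi.inf_C_ne_bot Nat.prime_two hP.pi (norm_self _)
      fun e => S.z_ne (mem_bot.1 (e ▸ h1 zD)))
    have h2 := mem_C_iff_le_C1.1 hc.2
    have cM : c ∈ S.M := S.cent_z (mem_C1_comm.1 (h2 (h1 zD)))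
    rcases yc (ap S.μ c) (fun y hy => by
      obtain ⟨p, hp, rfl⟩ := dS y hy
      rw [← ap_mul _ cM (dM hp), ← ap_mul _ (dM hp) cM, mem_C1.1 (h2 (h1 hp))]) with e | e
    · exact absurd (S.one_of cM (hP.pi.piElt hc.1) e) c1
    · exact (S.eq_z cM (hP.pi.piElt hc.1) e ▸ h2).trans S.cent_z
  have cls : ∀ y ∈ N, y * y = 1 → y ≠ 1 →
      (∃ n ∈ N, n * S.z * n⁻¹ = y) ∨ ∃ n ∈ N, n * S.t * n⁻¹ = y := fun y hy y2 y1 => by
    obtain ⟨k, hk, e⟩ := Sylow_Jsub Nat.prime_two hP (two_sq y2).isPi (zpowers_le.2 hy)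
    rcases S.inv_cls (pM (e (conj_mem_cj k (mem_zpowers y)))) (by rw [conj_mul, y2]; simp) with
      e | e | ⟨m, hm, e⟩ | ⟨m, hm, e⟩
    · exact absurd (by simpa using e) y1
    · exact Or.inl ⟨k⁻¹, inv_mem hk, by rw [← e]; group⟩
    · refine Or.inl ⟨k⁻¹ * m * r⁻¹, mul_mem (mul_mem (inv_mem hk) (hM hm)) (inv_mem hr), ?_⟩
      rw [← er, show y = k⁻¹ * (k * y * k⁻¹) * k by group, ← e]; group
    · refine Or.inr ⟨k⁻¹ * m, mul_mem (inv_mem hk) (hM hm), ?_⟩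
      rw [show y = k⁻¹ * (k * y * k⁻¹) * k by group, ← e]; group
  have key : ∀ {a b : G}, a * a = 1 → a ≠ 1 → C{a} ≤ N → ¬ IsConj b a →
      (∀ y ∈ N, y * y = 1 → y ≠ 1 → (∃ n ∈ N, n * a * n⁻¹ = y) ∨ ∃ n ∈ N, n * b * n⁻¹ = y) →
      Rg ⊤ N a := fun {a b} a2 a1 hC nc h g _ hg => by
    rcases h _ hg (by rw [conj_mul, a2]; simp) (by simpa using a1) with ⟨n, hn, e⟩ | ⟨n, hn, e⟩
    · refine (mul_mem_cancel_left (inv_mem hn)).1 (hC (mem_C1.2 ?_))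
      rw [mul_assoc, mul_inv_eq_iff_eq_mul.1 e.symm]
      group
    · exact absurd ((isConj_iff.2 ⟨n, e⟩).trans (isConj_iff.2 ⟨g, rfl⟩).symm) nc
  have rz := key S.zz S.z_ne (S.cent_z.trans hM) S.nz cls
  have rt := key S.tt S.t_ne ht (fun e => S.nz e.symm) fun y a b c => (cls y a b c).symm
  refine top_le_iff.1 (dih_rigid (B := ⊥) le_rfl (norm_of_normal _ _) bot_le (mem_top _) (mem_top _)
    (hM S.zM) (hM S.tM) (mem_bot.2 S.zz) (mem_bot.2 S.tt) rz rt (fun k _ e => S.nz ?_)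
    fun c _ cM c1 c2 c3 k _ e => ⟨1, one_mem _, ?_⟩)
  · exact (isConj_iff.2 ⟨k, mul_inv_eq_one.1 (mem_bot.1 e)⟩).symm
  · rw [one_mul]
    rcases cls c cM (mem_bot.1 c2) (fun e => c1 (mem_bot.2 e)) with ⟨n, hn, rfl⟩ | ⟨n, hn, rfl⟩
    · exact rz.conj hn (mem_top _)
    · exact rt.conj hn (mem_top _)

theorem iso (hO : Cfsg.pPrimeCore 2 G = ⊥) (hZ : center G = ⊥) (h : Function.Injective S.μ) :
    Nonempty (G ≃* Cfsg.Spor.Co3) := by
  let e := MulEquiv.ofBijective S.μ ⟨h, S.surj⟩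
  have hz : e.symm (φ 1) = ⟨S.z, S.zM⟩ := e.symm_apply_eq.2 ((ap_of_mem _ S.zM).symm.trans S.μz).symm
  refine Fr.iso (j := S.M.subtype.comp e.symm.toMonoidHom)
    ⟨Subtype.val_injective.comp e.symm.injective, fun g hg => ?_⟩ hO hZ
  have h1 : (e.symm (φ 1) : G) * g = g * e.symm (φ 1) := hg
  rw [hz] at h1
  exact ⟨e ⟨g, S.cent_z (mem_C1.2 h1.symm)⟩, congrArg Subtype.val (e.symm_apply_apply _)⟩

end St

end H14.CC
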