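import Mathlib
import Cfsg.Agent.H4.Misc
import Cfsg.Agent.H4.Central

/-! The commutant of a complex representation of a finite group. -/

set_option autoImplicit false
set_option linter.unusedSectionVars false

namespace H14

open Cfsg H4 Module LinearMap
open scoped ComplexConjugate

variable {G : Type*} [Group G] {V : Type*} [AddCommGroup V] [Module ℂ V] [FiniteDimensional ℂ V]
  (ρ : Representation ℂ G V)

/-- the trace function of an endomorphism -/
noncomputable def trF (S : End ℂ V) : G → ℂ := fun g => trace ℂ V (ρ g * S)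

theorem trF_apply (S : End ℂ V) (g : G) : trF ρ S g = trace ℂ V (ρ g * S) := rfl

theorem trF_apply_one (S : End ℂ V) : trF ρ S 1 = trace ℂ V S := by simp [trF]

theorem trF_one : trF ρ 1 = ρ.character := by funext g; simp [trF, Representation.character]

theorem trF_add (S T : End ℂ V) : trF ρ (S + T) = trF ρ S + trF ρ T := by
  funext g; simp [trF, mul_add]

theorem trF_sub (S T : End ℂ V) : trF ρ (S - T) = trF ρ S - trF ρ T := by
  funext g; simp [trF, mul_sub]

theorem trF_smul (c : ℂ) (S : End ℂ V) : trF ρ (c • S) = c • trF ρ S := by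
  funext g; simp [trF]

variable {ρ}

theorem trF_classFun {S : End ℂ V} (hS : ∀ g, Commute S (ρ g)) : IsClassFunction G (trF ρ S) := by
  intro g h
  rw [trF_apply, trF_apply, map_mul ρ, map_mul ρ, mul_assoc, mul_assoc, trace_mul_comm, mul_assoc,
    mul_assoc, (hS h).eq, ← mul_assoc (ρ h⁻¹), ← map_mul ρ, inv_mul_cancel, map_one, one_mul]

theorem trace_decomp {B : End ℂ V} (hB : ∀ g, Commute B (ρ g)) :
    ∃ (s : Finset ℂ) (θ : ℂ → G → ℂ), (∀ μ, IsCharacter G (θ μ)) ∧
      (∀ μ ∈ s, B.HasEigenvalue μ) ∧ ∀ k : ℕ, trF ρ (B ^ k) = ∑ μ ∈ s, μ ^ k • θ μ := by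
  classical
  let U : ℂ → Subrepresentation ρ := fun μ =>
    ⟨B.maxGenEigenspace μ, fun g _ hv => End.mapsTo_maxGenEigenspace_of_comm (hB g) μ hv⟩
  have hind := B.independent_maxGenEigenspace
  have hint : DirectSum.IsInternal B.maxGenEigenspace :=
    (DirectSum.isInternal_submodule_iff_iSupIndep_and_iSup_eq_top _).2
      ⟨hind, B.iSup_maxGenEigenspace_eq_top⟩
  have hfin : {μ | B.maxGenEigenspace μ ≠ ⊥}.Finite :=
    WellFoundedGT.finite_ne_bot_of_iSupIndep hind
  refine ⟨hfin.toFinset, fun μ => (U μ).toRepresentation.character,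
    fun μ => isCharacter_of_rep _, fun μ hμ => ?_, fun k => funext fun g => ?_⟩
  · have h1 : B.maxGenEigenspace μ ≠ ⊥ := hfin.mem_toFinset.1 hμ
    rw [End.maxGenEigenspace_eq] at h1
    exact End.hasEigenvalue_of_hasGenEigenvalue h1
  have hm : ∀ (k : ℕ) μ, Set.MapsTo (ρ g * B ^ k) (B.maxGenEigenspace μ) (B.maxGenEigenspace μ) :=
    fun k μ => End.mapsTo_maxGenEigenspace_of_comm
      ((hB g).mul_right ((Commute.refl B).pow_right k)) μ
  rw [trF_apply, trace_eq_sum_trace_restrict' hint hfin (hm k), Finset.sum_apply]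
  refine Finset.sum_congr rfl fun μ _ => ?_
  have hBm : Set.MapsTo B (B.maxGenEigenspace μ) (B.maxGenEigenspace μ) :=
    End.mapsTo_maxGenEigenspace_of_comm (Commute.refl B) μ
  induction k with
  | zero =>
    simp only [pow_zero, one_smul]
    congr 1
  | succ k ih =>
    have h1 : (ρ g * B ^ (k + 1)).restrict (hm (k + 1) μ) =
        (ρ g * B ^ k).restrict (hm k μ) ∘ₗ B.restrict hBm := by
      ext v; rfl
    rw [h1, trace_comp_eq_mul_of_commute_of_isNilpotent μ, ih, Pi.smul_apply, Pi.smul_apply,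
      smul_eq_mul, smul_eq_mul, pow_succ]
    · ring
    · ext v
      exact congrArg (fun f : End ℂ V => f v)
        ((hB g).mul_right ((Commute.refl B).pow_right k)).symm.eq
    · have := End.isNilpotent_restrict_maxGenEigenspace_sub_algebraMap B μ
      convert this using 1
      ext v; rfl

theorem isIntegral_of_hasEigenvalue {B : End ℂ V} (hB : IsIntegral ℤ B) {μ : ℂ}
    (h : B.HasEigenvalue μ) : IsIntegral ℤ μ := by
  obtain ⟨P, hP, hPB⟩ := hB
  obtain ⟨v, hv⟩ := h.exists_hasEigenvector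
  refine ⟨P, hP, ?_⟩
  have h1 := End.aeval_apply_of_hasEigenvector (p := P.map (algebraMap ℤ ℂ)) hv
  rw [Polynomial.aeval_map_algebraMap, Polynomial.aeval_def, hPB, Polynomial.eval_map] at h1
  exact (smul_eq_zero.1 h1.symm).resolve_right hv.2

/-- the subrepresentation cut out by an idempotent -/
def rangeRep {E : End ℂ V} (hE : ∀ g, Commute E (ρ g)) : Subrepresentation ρ :=
  ⟨range E, by
    rintro g _ ⟨v, rfl⟩
    exact ⟨ρ g v, congrArg (fun f : End ℂ V => f v) (hE g).eq⟩⟩

theorem mapsTo_range_of_commute {E S : End ℂ V} (h : Commute E S) :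
    ∀ x ∈ range E, S x ∈ range E := by
  rintro _ ⟨v, rfl⟩
  exact ⟨S v, congrArg (fun f : End ℂ V => f v) h.eq⟩

theorem trace_restrict_range {E S : End ℂ V} (hE : E * E = E) (h : Commute E S) :
    trace ℂ _ (S.restrict (mapsTo_range_of_commute h)) = trace ℂ V (S * E) := by
  rw [← trace_restrict_eq_of_forall_mem (range E) (S * E)
    (fun x => mapsTo_range_of_commute h _ ⟨x, rfl⟩)]
  congr 1
  ext ⟨_, v, rfl⟩
  have := congrArg (fun f : End ℂ V => f v) hE
  simp only [End.mul_apply] at this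
  simp [this]

theorem char_rangeRep {E : End ℂ V} (hE : ∀ g, Commute E (ρ g)) (hEE : E * E = E) :
    (rangeRep hE).toRepresentation.character = trF ρ E :=
  funext fun g => trace_restrict_range hEE (hE g)

theorem mul_eq_of_restrict {E S T : End ℂ V} (hS : Commute E S) (hT : Commute E T)
    (h : S.restrict (mapsTo_range_of_commute hS) = T.restrict (mapsTo_range_of_commute hT)) :
    S * E = T * E := by
  ext v
  exact congrArg Subtype.val (DFunLike.congr_fun h ⟨E v, v, rfl⟩)

theorem mem_commutant_iff {S : End ℂ V} :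
    S ∈ (ρ.linHom ρ).invariants ↔ ∀ g, Commute S (ρ g) := by
  rw [Representation.mem_invariants]
  refine forall_congr' fun g => ?_
  rw [Representation.linHom_apply]
  constructor
  · intro h
    have : ρ g * S * ρ g⁻¹ = S := h
    rw [Commute, SemiconjBy, ← this, mul_assoc (ρ g * S), ← map_mul, inv_mul_cancel, map_one,
      mul_one, this]
  · intro h
    show ρ g * S * ρ g⁻¹ = S
    rw [← h.eq, mul_assoc, ← map_mul, mul_inv_cancel, map_one, mul_one]

variable [Fintype G]

theorem finrank_commutant :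
    (finrank ℂ (ρ.linHom ρ).invariants : ℂ) = classInner ρ.character ρ.character := by
  have : Invertible (Nat.card G : ℂ) := invertibleOfNonzero (card_ne_zero G)
  rw [← Representation.card_inv_mul_sum_char_eq_finrank, classInner_def]
  simp only [Representation.char_linHom, rep_char_inv, mul_comm]

variable (ρ) in
/-- the central idempotent attached to a character -/
noncomputable def cIdem (χ : G → ℂ) : End ℂ V :=
  (χ 1 / Nat.card G) • ∑ g, conj (χ g) • ρ g

theorem commute_cIdem {S : End ℂ V} (hS : ∀ g, Commute S (ρ g)) (χ : G → ℂ) :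
    Commute (cIdem ρ χ) S :=
  (Commute.sum_left _ _ _ fun g _ => (hS g).symm.smul_left _).smul_left _

theorem cIdem_commute {χ : G → ℂ} (hχ : IsClassFunction G χ) (h : G) :
    Commute (cIdem ρ χ) (ρ h) := by
  refine Commute.smul_left ?_ _
  rw [Commute, SemiconjBy, Finset.sum_mul, Finset.mul_sum]
  refine Fintype.sum_equiv (MulAut.conj h⁻¹).toEquiv _ _ fun g => ?_
  simp only [smul_mul_assoc, mul_smul_comm, ← map_mul, MulEquiv.toEquiv_eq_coe,
    MulEquiv.coe_toEquiv, MulAut.conj_apply, hχ g h⁻¹]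
  congr 2; group

theorem trace_mul_cIdem (S : End ℂ V) (χ : G → ℂ) :
    trace ℂ V (S * cIdem ρ χ) = χ 1 * classInner (trF ρ S) χ := by
  rw [cIdem, classInner_def, mul_smul_comm, map_smul, Finset.mul_sum, map_sum, smul_eq_mul,
    div_eq_mul_inv, mul_assoc]
  congr 2
  refine Finset.sum_congr rfl fun g _ => ?_
  rw [mul_smul_comm, map_smul, smul_eq_mul, mul_comm, trF_apply, trace_mul_comm]

theorem trF_cIdem {χ : G → ℂ} (hχ : IsIrrCharacter G χ) :
    trF ρ (cIdem ρ χ) = classInner ρ.character χ • χ := by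
  classical
  funext h
  have h1 : ∀ g, trF ρ (ρ h) g = ∑ ψ : IrrCharacter G,
      classInner ρ.character ψ * (ψ : G → ℂ) (g * h) := fun g => by
    rw [trF_apply, ← map_mul]
    exact (isCharacter_of_rep ρ).classFun.apply_eq_sum (g * h)
  rw [trF_apply, trace_mul_cIdem, classInner_def]
  simp only [h1, Finset.sum_mul]
  rw [Finset.sum_comm, Finset.sum_eq_single (⟨χ, hχ⟩ : IrrCharacter G)]
  · have h2 := hχ.sum_conj_mul_mul hχ h
    rw [if_pos rfl] at h2
    simp only [mul_assoc, ← Finset.mul_sum, mul_comm (χ (_ * h)), h2, Pi.smul_apply, smul_eq_mul]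
    have := hχ.apply_one_ne_zero
    have := card_ne_zero G
    field_simp
  · intro ψ _ hψ
    have h2 := ψ.2.sum_conj_mul_mul hχ h
    rw [if_neg (fun hh => hψ (Subtype.ext hh))] at h2
    simp only [mul_assoc, ← Finset.mul_sum, mul_comm ((ψ : G → ℂ) (_ * h)), h2, mul_zero]
  · simp

theorem cIdem_mul_self {χ : G → ℂ} (hχ : IsIrrCharacter G χ) :
    cIdem ρ χ * cIdem ρ χ = cIdem ρ χ := by
  have h1 : (∑ g, conj (χ g) • ρ g) * (∑ g, conj (χ g) • ρ g) =
      ((Nat.card G : ℂ) / χ 1) • ∑ g, conj (χ g) • ρ g := by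
    rw [Finset.sum_mul_sum, Finset.smul_sum]
    have h2 : ∀ g, ∑ k, conj (χ g) • ρ g * conj (χ k) • ρ k =
        ∑ k, (conj (χ g) * conj (χ (g⁻¹ * k))) • ρ k := fun g =>
      Fintype.sum_equiv (Equiv.mulLeft g) _ _ fun k => by
        simp [smul_smul, mul_comm]
    simp only [h2]
    rw [Finset.sum_comm]
    refine Finset.sum_congr rfl fun k _ => ?_
    rw [← Finset.sum_smul, smul_smul]
    congr 1
    have h3 := hχ.sum_conj_mul_mul hχ k⁻¹
    rw [if_pos rfl, hχ.apply_inv] at h3
    rw [← h3]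
    refine Finset.sum_congr rfl fun g _ => ?_
    rw [← hχ.apply_inv (g⁻¹ * k), mul_inv_rev, inv_inv, hχ.classFun.mul_comm]
  rw [cIdem, smul_mul_smul_comm, h1, smul_smul]
  congr 1
  have := hχ.apply_one_ne_zero
  have := card_ne_zero G
  field_simp

theorem mul_cIdem_eq_smul {χ : G → ℂ} (hχ : IsIrrCharacter G χ)
    (hm : classInner ρ.character χ = 1) {S : End ℂ V} (hS : ∀ g, Commute S (ρ g)) :
    S * cIdem ρ χ = classInner (trF ρ S) χ • cIdem ρ χ := by
  have hE := cIdem_commute (ρ := ρ) hχ.classFun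
  have h1 := char_rangeRep hE (cIdem_mul_self hχ)
  rw [trF_cIdem hχ, hm, one_smul] at h1
  have := rep_irreducible_of_isIrr _ (h1 ▸ hχ)
  obtain ⟨c, hc⟩ := schur_scalar (rangeRep hE).toRepresentation
    (S.restrict (mapsTo_range_of_commute (commute_cIdem hS χ))) (fun g => by
      ext v
      exact congrArg (fun f : End ℂ V => f v) (hS g).eq)
  have h2 : S * cIdem ρ χ = c • cIdem ρ χ := by
    ext v
    exact congrArg Subtype.val (DFunLike.congr_fun hc ⟨cIdem ρ χ v, v, rfl⟩)
  have h3 := trace_mul_cIdem (ρ := ρ) S χ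
  rw [h2, map_smul, ← trF_apply_one ρ, trF_cIdem hχ, hm, one_smul, smul_eq_mul, mul_comm] at h3
  rw [h2, mul_left_cancel₀ hχ.apply_one_ne_zero h3]

theorem inner_trF_mul {χ : G → ℂ} (hχ : IsIrrCharacter G χ)
    (hm : classInner ρ.character χ = 1) {S T : End ℂ V} (hT : ∀ g, Commute T (ρ g)) :
    classInner (trF ρ (S * T)) χ = classInner (trF ρ S) χ * classInner (trF ρ T) χ := by
  apply mul_left_cancel₀ hχ.apply_one_ne_zero
  rw [← trace_mul_cIdem, mul_assoc, mul_cIdem_eq_smul hχ hm hT, mul_smul_comm, map_smul,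
    trace_mul_cIdem, smul_eq_mul]
  ring

theorem cIdem_eq_zero {χ : G → ℂ} (hχ : IsIrrCharacter G χ)
    (hm : classInner ρ.character χ = 0) : cIdem ρ χ = 0 := by
  have h1 := char_rangeRep (cIdem_commute (ρ := ρ) hχ.classFun) (cIdem_mul_self hχ)
  rw [trF_cIdem hχ, hm, zero_smul] at h1
  have h2 := congrFun h1 1
  rw [Representation.char_one, Pi.zero_apply, Nat.cast_eq_zero, Submodule.finrank_eq_zero] at h2
  exact range_eq_bot.1 h2

theorem inner_trF_eq_zero {χ : G → ℂ} (hχ : IsIrrCharacter G χ)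
    (hm : classInner ρ.character χ = 0) (S : End ℂ V) : classInner (trF ρ S) χ = 0 := by
  have := trace_mul_cIdem (ρ := ρ) S χ
  rw [cIdem_eq_zero hχ hm, mul_zero, map_zero] at this
  exact (mul_eq_zero.1 this.symm).resolve_left hχ.apply_one_ne_zero

theorem mem_span_cIdem (hm : ∀ χ, IsIrrCharacter G χ →
    classInner ρ.character χ = 0 ∨ classInner ρ.character χ = 1) {S : End ℂ V}
    (hS : ∀ g, Commute S (ρ g)) :
    S ∈ Submodule.span ℂ {E | ∃ χ, IsIrrCharacter G χ ∧ classInner ρ.character χ = 1 ∧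
      E = cIdem ρ χ} := by
  have h1 : ∑ χ : IrrCharacter G, cIdem ρ (χ : G → ℂ) = 1 := by
    classical
    simp only [cIdem, Finset.smul_sum, smul_smul]
    rw [Finset.sum_comm]
    simp only [← Finset.sum_smul]
    have h2 : ∀ g, ∑ χ : IrrCharacter G, (χ : G → ℂ) 1 / Nat.card G * conj ((χ : G → ℂ) g) =
        if g = 1 then 1 else 0 := fun g => by
      simp only [← (Subtype.prop _ : IsIrrCharacter G _).apply_inv, div_mul_eq_mul_div,
        ← Finset.sum_div, sum_degree_mul, inv_eq_one]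
      split_ifs
      · exact div_self (card_ne_zero G)
      · simp
    simp only [h2]
    simp
  rw [← mul_one S, ← h1, Finset.mul_sum]
  refine Submodule.sum_mem _ fun χ _ => ?_
  rcases hm χ χ.2 with h | h
  · rw [cIdem_eq_zero χ.2 h, mul_zero]; exact Submodule.zero_mem _
  · rw [mul_cIdem_eq_smul χ.2 h hS]
    exact Submodule.smul_mem _ _ (Submodule.subset_span ⟨χ, χ.2, h, rfl⟩)

theorem comm_of_multFree (hm : ∀ χ, IsIrrCharacter G χ →
    classInner ρ.character χ = 0 ∨ classInner ρ.character χ = 1) {S T : End ℂ V}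
    (hS : ∀ g, Commute S (ρ g)) (hT : ∀ g, Commute T (ρ g)) : Commute S T := by
  have := mem_span_cIdem hm hS
  clear hS
  induction this using Submodule.span_induction with
  | mem x hx => obtain ⟨χ, -, -, rfl⟩ := hx; exact commute_cIdem hT χ
  | zero => exact Commute.zero_left _
  | add x y _ _ hx hy => exact hx.add_left hy
  | smul a x _ hx => exact hx.smul_left a

theorem multFree_of_comm (h : ∀ S T : End ℂ V, (∀ g, Commute S (ρ g)) → (∀ g, Commute T (ρ g)) →
    Commute S T) {χ : G → ℂ} (hχ : IsIrrCharacter G χ) :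
    classInner ρ.character χ = 0 ∨ classInner ρ.character χ = 1 := by
  obtain ⟨m, hm⟩ := (isCharacter_of_rep ρ).inner_nat hχ.isCharacter
  by_contra hcon
  have hm2 : 2 ≤ m := by
    rw [hm] at hcon
    rcases m with _ | _ | m
    · simp at hcon
    · simp at hcon
    · omega
  obtain ⟨n, σ, hσ, rfl⟩ := id hχ
  have : Invertible (Nat.card G : ℂ) := invertibleOfNonzero (card_ne_zero G)
  have h1 : finrank ℂ (σ.IntertwiningMap ρ) = m := by
    have := Representation.card_inv_mul_sum_char_mul_char_eq_finrank σ ρ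
    simp only [rep_char_inv] at this
    rw [← classInner_def, hm] at this
    exact_mod_cast this.symm
  obtain ⟨φ, hφ⟩ := exists_injective_intertwining σ V ρ
    ((isCharacter_of_rep ρ).sub_irr hχ (fun h0 => hcon (Or.inl h0)))
  obtain ⟨ψ, hψ⟩ : ∃ ψ : V →ₗ[ℂ] (Fin n → ℂ), (∀ g, ψ ∘ₗ ρ g = σ g ∘ₗ ψ) ∧
      ψ ∘ₗ φ.toLinearMap = LinearMap.id := by
    obtain ⟨ψ₀, h0⟩ := φ.toLinearMap.exists_leftInverse_of_injective (ker_eq_bot.2 hφ)
    refine ⟨(Nat.card G : ℂ)⁻¹ • ∑ g, σ g ∘ₗ ψ₀ ∘ₗ ρ g⁻¹, fun k => ?_, ?_⟩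
    · refine LinearMap.ext fun v => ?_
      simp only [comp_apply, LinearMap.smul_apply, coe_sum, Finset.sum_apply, map_smul, map_sum]
      congr 1
      refine Fintype.sum_equiv (Equiv.mulLeft k⁻¹) _ _ fun g => ?_
      simp only [Equiv.coe_mulLeft, mul_inv_rev, inv_inv, map_mul, End.mul_apply]
      rw [← End.mul_apply (σ k), ← map_mul, mul_inv_cancel, map_one, End.one_apply]
    · refine LinearMap.ext fun v => ?_
      have h3 : ∀ g, σ g (ψ₀ (ρ g⁻¹ (φ.toLinearMap v))) = v := fun g => by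
        have h4 := DFunLike.congr_fun (φ.isIntertwining' g⁻¹) v
        simp only [comp_apply] at h4
        have h5 := DFunLike.congr_fun h0 (σ g⁻¹ v)
        simp only [comp_apply, id_apply] at h5
        rw [← h4, h5, ← End.mul_apply, ← map_mul, mul_inv_cancel, map_one, End.one_apply]
      simp only [comp_apply, LinearMap.smul_apply, coe_sum, Finset.sum_apply, h3, id_apply,
        Finset.sum_const, Finset.card_univ, ← Nat.card_eq_fintype_card]
      rw [← Nat.cast_smul_eq_nsmul ℂ, smul_smul, inv_mul_cancel₀ (card_ne_zero G), one_smul]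
  have h2 : ∀ φ₂ : σ.IntertwiningMap ρ, ∃ c : ℂ, c • φ = φ₂ := by
    intro φ₂
    have hc : ∀ τ : σ.IntertwiningMap ρ, ∀ g, Commute (τ.toLinearMap ∘ₗ ψ) (ρ g) := fun τ g => by
      show (τ.toLinearMap ∘ₗ ψ) ∘ₗ ρ g = ρ g ∘ₗ τ.toLinearMap ∘ₗ ψ
      rw [comp_assoc, hψ.1, ← comp_assoc, τ.isIntertwining', comp_assoc]
    obtain ⟨c, hc'⟩ := schur_scalar σ (ψ ∘ₗ φ₂.toLinearMap) (fun g => by
      show (ψ ∘ₗ φ₂.toLinearMap) ∘ₗ σ g = σ g ∘ₗ ψ ∘ₗ φ₂.toLinearMap
      rw [comp_assoc, φ₂.isIntertwining', ← comp_assoc, hψ.1, comp_assoc])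
    refine ⟨c, Representation.IntertwiningMap.ext (LinearMap.ext fun v => ?_)⟩
    have h3 := DFunLike.congr_fun (h _ _ (hc φ) (hc φ₂)).eq (φ.toLinearMap v)
    have h4 := fun w => DFunLike.congr_fun hψ.2 w
    have h5 := DFunLike.congr_fun hc' v
    simp only [comp_apply, id_apply, End.mul_apply] at h3 h4 h5
    rw [h4, h4, h5] at h3
    rw [← h3]
    simp
  have h3 : finrank ℂ (σ.IntertwiningMap ρ) ≤ 1 := finrank_le_one φ h2
  omega

theorem eq_sum_of_regular [DecidableEq G] (hc : ∀ a b : G, a * b = b * a)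
    (hreg : ∀ g, ρ.character g = if g = 1 then (Nat.card G : ℂ) else 0) {S : End ℂ V}
    (hS : ∀ g, Commute S (ρ g)) : S = ∑ g, (trF ρ S g⁻¹ / Nat.card G) • ρ g := by
  have h0 := card_ne_zero G
  have hmem : ∀ g, ρ g ∈ (ρ.linHom ρ).invariants := fun g => mem_commutant_iff.2 fun k => by
    rw [Commute, SemiconjBy, ← map_mul, ← map_mul, hc]
  have htr : ∀ (c : G → ℂ) (k : G), trF ρ (∑ g, c g • ρ g) k⁻¹ = c k * Nat.card G := by
    intro c k
    have : ∀ g, trace ℂ V (ρ k⁻¹ * ρ g) = if g = k then (Nat.card G : ℂ) else 0 := fun g => by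
      rw [← map_mul]
      refine (hreg _).trans ?_
      simp only [inv_mul_eq_one, eq_comm]
    simp [trF_apply, Finset.mul_sum, this]
  have hli : LinearIndependent ℂ fun g => (⟨ρ g, hmem g⟩ : (ρ.linHom ρ).invariants) := by
    rw [Fintype.linearIndependent_iff]
    intro c hc k
    have h1 : ∑ g, c g • ρ g = 0 := by simpa using congrArg Subtype.val hc
    have := htr c k
    rw [h1] at this
    simpa [trF, h0] using this.symm
  have hcard : Fintype.card G = finrank ℂ (ρ.linHom ρ).invariants := by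
    have := finrank_commutant (ρ := ρ)
    rw [classInner_def] at this
    simp only [hreg, ite_mul, zero_mul, Finset.sum_ite_eq', Finset.mem_univ, if_true,
      map_natCast, inv_mul_cancel_left₀ h0] at this
    rw [← Nat.card_eq_fintype_card]
    exact_mod_cast this.symm
  have hsp := hli.span_eq_top_of_card_eq_finrank' hcard
  obtain ⟨c, hc⟩ := (Submodule.mem_span_range_iff_exists_fun ℂ).1
    (hsp ▸ Submodule.mem_top : (⟨S, mem_commutant_iff.2 hS⟩ : (ρ.linHom ρ).invariants) ∈ _)
  have h1 : ∑ g, c g • ρ g = S := by simpa using congrArg Subtype.val hc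
  rw [← h1]
  refine Finset.sum_congr rfl fun g _ => ?_
  rw [htr, mul_div_cancel_right₀ _ h0]

end H14
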