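import Mathlib
import Cfsg.Agent.H14.Count

/-! Insoluble transitive groups of degree 7 and 11. -/

set_option autoImplicit false
set_option linter.unusedSectionVars false

namespace H14

open MulAction Subgroup Equiv Equiv.Perm H22

variable {α : Type*} [Fintype α] [DecidableEq α]

theorem normal_prime_deg {p : ℕ} [Fact p.Prime] (hα : Fintype.card α = p)
    (G : Subgroup (Perm α)) [IsPretransitive G α] (hG : ¬ Group.IsSolvable G) (N : Subgroup G)
    [N.Normal] (hN : N ≠ ⊥) :
    IsPretransitive (N.map G.subtype) α ∧ ¬ Group.IsSolvable (N.map G.subtype) := by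
  have hΩ : Nat.card α = p := Nat.card_eq_fintype_card.trans hα
  have := isPreprimitive_prime_deg (G := G) hΩ
  have := isPretransitive_of_normal (α := α) N hN
  refine ⟨⟨fun a b => ?_⟩, fun h => hG (solvable_of_normal_solvable hΩ N hN ?_)⟩
  · obtain ⟨g, hg⟩ := exists_smul_eq N a b
    exact ⟨⟨_, g, g.2, rfl⟩, hg⟩
  · exact solvable_of_surjective (f := (N.equivMapOfInjective G.subtype
      G.subtype_injective).symm.toMonoidHom) (MulEquiv.surjective _)

theorem inf_alt_prime_deg {p : ℕ} [Fact p.Prime] (hα : Fintype.card α = p)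
    (G : Subgroup (Perm α)) [IsPretransitive G α] (hG : ¬ Group.IsSolvable G) :
    IsPretransitive ↥(G ⊓ alternatingGroup α) α ∧
      ¬ Group.IsSolvable ↥(G ⊓ alternatingGroup α) := by
  have h := normal_prime_deg hα G hG ((alternatingGroup α).subgroupOf G) (by
    intro hbot
    rw [subgroupOf_eq_bot, disjoint_iff, inf_comm] at hbot
    rcases card_inf_alternating G with h | h
    · rw [inf_of_le_left h] at hbot
      apply hG; rw [hbot]; infer_instance
    · rw [hbot, card_bot, mul_one] at h
      have : Fact (Nat.Prime 2) := ⟨Nat.prime_two⟩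
      have := isCyclic_of_prime_card h
      exact hG (Group.isSolvable_of_comm fun a b => mul_comm' a b))
  rwa [subgroupOf_map_subtype, inf_comm] at h

theorem odd_normalizer_of_le_alt {p : ℕ} [Fact p.Prime] (hα : Fintype.card α = p)
    (h4 : p % 4 = 3) (G : Subgroup (Perm α)) [IsPretransitive G α]
    (hA : G ≤ alternatingGroup α) (P : Sylow p G) :
    ¬ Even (Nat.card (normalizer ((P : Subgroup G) : Set G))) := by
  intro heven
  have hp : p.Prime := Fact.out
  have hΩ : Nat.card α = p := Nat.card_eq_fintype_card.trans hα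
  obtain ⟨τ, e, hP, hτ, he⟩ := exists_coord_sylow hΩ P
  rw [hP] at heven
  obtain ⟨t, ht⟩ := exists_reflection he hτ (by omega) heven 0
  have h2ne : (2 : ZMod p) ≠ 0 := by
    intro h
    have := Nat.le_of_dvd two_pos ((ZMod.natCast_eq_zero_iff 2 p).1 h)
    omega
  have hs : (t : Perm α).support = {e 0}ᶜ := by
    ext x
    obtain ⟨j, rfl⟩ := e.surjective x
    have : (t : Perm α) (e j) = e (0 - j) := ht j
    rw [mem_support, this, Finset.mem_compl, Finset.mem_singleton, Ne, e.apply_eq_iff_eq,
      e.apply_eq_iff_eq, not_iff_not]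
    constructor
    · intro h; apply mul_left_cancel₀ h2ne; linear_combination -h
    · rintro rfl; simp
  have htt : t ^ 2 = 1 := eq_of_coord (e := e) fun j => by rw [pow_two, mul_smul, ht, ht]; simp
  have h1 := hA t.2
  rw [mem_alternatingGroup, sign_of_sq (by rw [← Subgroup.coe_pow, htt]; rfl), hs,
    Finset.card_compl, hα, Finset.card_singleton, neg_one_pow_eq_one_iff_even (by decide)] at h1
  obtain ⟨k, hk⟩ := h1
  omega

theorem descFactorial_dvd_card {G : Subgroup (Perm α)} {k : ℕ} (hk : k ≤ Fintype.card α)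
    (h : IsMultiplyPretransitive G α k) : (Fintype.card α).descFactorial k ∣ Nat.card G := by
  have := (MT_of_isMultiplyPretransitive (Nat.card_eq_fintype_card (α := α) ▸ hk) h).descFactorial_dvd
    (Pres.univ G) (by simpa using hk)
  simpa using this

theorem card_dvd_card_alt {G : Subgroup (Perm α)} (hA : G ≤ alternatingGroup α) {m : ℕ}
    (hα : (Fintype.card α).factorial = 2 * m) (h2 : 2 ≤ Fintype.card α) :
    Nat.card G ∣ m ∧ (Nat.card G = m → alternatingGroup α ≤ G) := by
  have : Nontrivial α := Fintype.one_lt_card_iff_nontrivial.1 h2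
  have h1 : Nat.card (alternatingGroup α) = m := by
    have := two_mul_nat_card_alternatingGroup (α := α)
    rw [Nat.card_perm, Nat.card_eq_fintype_card (α := α), hα] at this
    omega
  refine ⟨h1 ▸ card_dvd_of_le hA, fun h => (eq_of_le_of_card_ge hA (by omega)).ge⟩

theorem card_deg_seven_alt (hα : Fintype.card α = 7) (G : Subgroup (Perm α))
    [IsPretransitive G α] (hG : ¬ Group.IsSolvable G) (hA : ¬ alternatingGroup α ≤ G)
    (hle : G ≤ alternatingGroup α) : Nat.card G = 168 := by
  have : Fact (Nat.Prime 7) := ⟨by norm_num⟩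
  have hΩ : Nat.card α = 7 := Nat.card_eq_fintype_card.trans hα
  obtain ⟨P⟩ : Nonempty (Sylow 7 G) := inferInstance
  obtain ⟨d, n, hd, hn, hN, hc, h1⟩ := card_eq_prime_deg hΩ P
  have h2 := odd_normalizer_of_le_alt hα (by norm_num) G hle P
  have h3 := descFactorial_dvd_card (by omega) (two_trans_of_not_solvable hΩ hG)
  obtain ⟨h4, h5⟩ := card_dvd_card_alt hle (m := 2520) (by rw [hα]; rfl) (by omega)
  rw [hα] at h3
  rw [hN, Nat.not_even_iff_odd, Nat.odd_iff] at h2
  have h6 : d ≤ 6 := Nat.le_of_dvd (by norm_num) hd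
  have h7 : d = 3 := by
    have : d ≠ 1 := fun h => by rw [h1 h] at h3; norm_num at h3
    interval_cases d <;> simp_all
  subst h7
  have key : ∀ n ∈ Nat.divisors 120, n % 7 = 1 → 42 ∣ 7 * 3 * n → n = 8 ∨ n = 120 := by decide
  rw [hc] at h3 h4 h5
  have h8 : n ∣ 120 := Nat.dvd_of_mul_dvd_mul_left (k := 7 * 3) (by norm_num) h4
  rcases key n (Nat.mem_divisors.2 ⟨h8, by norm_num⟩) hn h3 with rfl | rfl
  · exact hc
  · exact absurd (h5 rfl) hA

theorem card_deg_seven (hα : Fintype.card α = 7) (G : Subgroup (Perm α))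
    [IsPretransitive G α] (hG : ¬ Group.IsSolvable G) (hA : ¬ alternatingGroup α ≤ G) :
    Nat.card G = 168 := by
  have : Fact (Nat.Prime 7) := ⟨by norm_num⟩
  have hΩ : Nat.card α = 7 := Nat.card_eq_fintype_card.trans hα
  rcases card_inf_alternating G with h | h
  · exact card_deg_seven_alt hα G hG hA h
  exfalso
  obtain ⟨h1, h2⟩ := inf_alt_prime_deg hα G hG
  rw [card_deg_seven_alt hα _ h2 (fun hh => hA (hh.trans inf_le_left)) inf_le_right] at h
  obtain ⟨P⟩ : Nonempty (Sylow 7 G) := inferInstance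
  obtain ⟨d, n, hd, hn, hN, hc, -⟩ := card_eq_prime_deg hΩ P
  have h6 : d ≤ 6 := Nat.le_of_dvd (by norm_num) hd
  rw [h] at hc
  have h7 : d = 6 := by
    unfold Nat.ModEq at hn
    interval_cases d <;> omega
  have h3 := descFactorial_dvd_card (by omega) (three_trans_of_even hΩ hG P (by
    rw [hN, h7]; decide))
  rw [hα, h] at h3
  norm_num [Nat.descFactorial] at h3

theorem deg_seven (hα : Fintype.card α = 7) (G : Subgroup (Perm α))
    [IsPretransitive G α] (hG : ¬ Group.IsSolvable G) (hA : ¬ alternatingGroup α ≤ G) :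
    Nat.card G = 168 ∧ IsSimpleGroup G := by
  have : Fact (Nat.Prime 7) := ⟨by norm_num⟩
  have h := card_deg_seven hα G hG hA
  have : Nontrivial G := Finite.one_lt_card_iff_nontrivial.1 (by omega)
  refine ⟨h, ⟨fun N hN => ?_⟩⟩
  by_cases hbot : N = ⊥
  · exact Or.inl hbot
  right
  obtain ⟨h1, h2⟩ := normal_prime_deg hα G hG N hbot
  have h3 := card_deg_seven hα _ h2 (fun hh => hA (hh.trans (map_subtype_le _)))
  rw [card_map_of_injective G.subtype_injective, ← h] at h3
  exact eq_top_of_card_eq N h3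

section Eleven

variable {G : Subgroup (Perm α)}

theorem support_five (hα : Fintype.card α = 11) (hG : IsPreprimitive G α)
    (hA : ¬ alternatingGroup α ≤ G) {f : Perm α} (hf : f ∈ G) (h5 : orderOf f = 5) :
    ∀ x y, f x = x → f y = y → x = y := by
  intro x y hx hy
  by_contra hxy
  obtain ⟨c, h1, h2⟩ := support_of_prime_order' hG hA hf (by norm_num) h5 (by omega)
  have := card_support_le_of_fix (g := f) {x, y} (by simp [hx, hy])
  rw [Finset.card_pair hxy] at this
  omega

theorem five_dvd_support (hα : Fintype.card α = 11) (hG : IsPreprimitive G α)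
    (hA : ¬ alternatingGroup α ≤ G) {f t : Perm α} (hf : f ∈ G) (h5 : orderOf f = 5)
    (hc : t * f = f * t) : 5 ∣ t.support.card :=
  dvd_support_of_commute (by norm_num) (h5 ▸ pow_orderOf_eq_one f) (support_five hα hG hA hf h5) hc

theorem not_25_dvd (hα : Fintype.card α = 11) (hG : IsPreprimitive G α)
    (hA : ¬ alternatingGroup α ≤ G) : ¬ 25 ∣ Nat.card G := by
  intro h
  have : Fact (Nat.Prime 5) := ⟨by norm_num⟩
  obtain ⟨F₀, hF₀⟩ := Sylow.exists_subgroup_card_pow_prime (G := G) 5 (n := 2) h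
  set F := F₀.map G.subtype with hF
  have hc : Nat.card F = 25 := by rw [hF, card_map_of_injective G.subtype_injective, hF₀]; rfl
  have hF5 : IsPGroup 5 F := IsPGroup.of_card (n := 2) hc
  obtain ⟨b, -, hb⟩ := exists_fixed_of_not_dvd hF5 (Set.toFinite (Set.univ : Set α)) (Pres.univ F)
    (by simp [hα])
  have : Nontrivial α := Fintype.one_lt_card_iff_nontrivial.1 (by omega)
  obtain ⟨a, ha⟩ := exists_ne b
  have h1 := ncard_orbit_mul F a
  have h2 : (orbit F a).ncard ≤ 11 := by
    rw [← hα, ← Nat.card_eq_fintype_card, ← Set.ncard_univ]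
    exact Set.ncard_le_ncard (Set.subset_univ _)
  have h3 : 5 ∣ Nat.card ↥(F ⊓ stabilizer (Perm α) a) := by
    rw [hc] at h1
    have h4 : Nat.card ↥(F ⊓ stabilizer (Perm α) a) ∣ 5 ^ 2 := Dvd.intro_left _ h1
    obtain ⟨i, hi, hi'⟩ := (Nat.dvd_prime_pow (by norm_num)).1 h4
    rcases Nat.eq_zero_or_pos i with rfl | hpos
    · rw [hi'] at h1; omega
    · rw [hi']; exact dvd_pow_self 5 hpos.ne'
  obtain ⟨f, hf, h5⟩ := exists_mem_orderOf_eq (by norm_num) h3
  exact ha (support_five hα hG hA (map_subtype_le _ hf.1) h5 a b hf.2 (hb f hf.1))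

theorem card_deg_eleven_alt (hα : Fintype.card α = 11) (G : Subgroup (Perm α))
    [IsPretransitive G α] (hG : ¬ Group.IsSolvable G) (hA : ¬ alternatingGroup α ≤ G)
    (hle : G ≤ alternatingGroup α) : Nat.card G = 660 ∨ Nat.card G = 7920 := by
  have : Fact (Nat.Prime 11) := ⟨by norm_num⟩
  have hΩ : Nat.card α = 11 := Nat.card_eq_fintype_card.trans hα
  have hprim := isPreprimitive_prime_deg (G := G) hΩ
  obtain ⟨P⟩ : Nonempty (Sylow 11 G) := inferInstance
  obtain ⟨d, n, hd, hn, hN, hc, h1⟩ := card_eq_prime_deg hΩ P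
  have h2 := odd_normalizer_of_le_alt hα (by norm_num) G hle P
  have h3 := descFactorial_dvd_card (by omega) (two_trans_of_not_solvable hΩ hG)
  obtain ⟨h4, -⟩ := card_dvd_card_alt hle (m := 19958400) (by rw [hα]; rfl) (by omega)
  rw [hα] at h3
  rw [hN, Nat.not_even_iff_odd, Nat.odd_iff] at h2
  have h6 : d ≤ 10 := Nat.le_of_dvd (by norm_num) hd
  have h7 : d = 5 := by
    have : d ≠ 1 := fun h => by rw [h1 h] at h3; norm_num at h3
    interval_cases d <;> simp_all
  subst h7
  have h25 := not_25_dvd hα hprim hA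
  have h7 : ¬ 7 ∣ Nat.card G := by
    intro h
    obtain ⟨g, hg, h7⟩ := exists_mem_orderOf_eq (by norm_num) h
    obtain ⟨c, h1, h2⟩ := support_of_prime_order' hprim hA hg (by norm_num) h7 (by omega)
    have := g.support.card_le_univ
    omega
  have h8 : n ∣ 10368 := by
    rw [hc] at h4 h25 h7
    have h9 : n ∣ 5 * (7 * 10368) := Nat.dvd_of_mul_dvd_mul_left (k := 11 * 5) (by norm_num) h4
    have h10 : n ∣ 7 * 10368 := (Nat.Coprime.symm ((Nat.Prime.coprime_iff_not_dvd
      (by norm_num)).2 (by omega))).dvd_of_dvd_mul_left h9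
    exact (Nat.Coprime.symm ((Nat.Prime.coprime_iff_not_dvd
      (by norm_num)).2 (by omega))).dvd_of_dvd_mul_left h10
  have key : ∀ n ∈ Nat.divisors 10368, n % 11 = 1 → 2 ∣ n → n = 12 ∨ n = 144 ∨ n = 1728 := by
    decide +kernel
  have h3' : 110 ∣ 11 * 5 * n := hc ▸ h3
  rcases key n (Nat.mem_divisors.2 ⟨h8, by norm_num⟩) hn (by omega) with rfl | rfl | rfl
  · exact Or.inl hc
  · exact Or.inr hc
  exfalso
  have : Fact (Nat.Prime 5) := ⟨by norm_num⟩
  obtain ⟨F⟩ : Nonempty (Sylow 5 G) := inferInstance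
  have hF : Nat.card (F : Subgroup G) = 5 := by
    rw [F.card_eq_multiplicity, hc]
    have : (11 * 5 * 1728).factorization 5 = 1 := by decide +kernel
    rw [this]; rfl
  obtain ⟨f, hf, hf5⟩ := exists_mem_orderOf_eq (H := (F : Subgroup G)) (p := 5) (by norm_num)
    (by rw [hF])
  have : IsCyclic (F : Subgroup G) := isCyclic_of_prime_card hF
  have hC : centralizer ((F : Subgroup G) : Set G) = F := by
    refine F.is_maximal' ?_ (le_centralizer _)
    rw [IsPGroup.iff_card]
    refine ⟨_, Nat.eq_prime_pow_of_unique_prime_dvd Nat.card_pos.ne' fun {r} hr hrd => ?_⟩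
    obtain ⟨t, ht, htr⟩ := exists_mem_orderOf_eq hr hrd
    have h5 := five_dvd_support (t := t) hα hprim hA f.2 (by rw [Subgroup.orderOf_coe, hf5])
      (by rw [← Subgroup.coe_mul, ← ht f hf]; rfl)
    have htr' : orderOf (t : Perm α) = r := by rw [Subgroup.orderOf_coe, htr]
    obtain ⟨c, hc1, hc2, -⟩ := support_of_prime_order hr htr'
    have hle11 := (t : Perm α).support.card_le_univ
    have hpos : 0 < r * c := Nat.mul_pos hr.pos hc1
    have hr10 : r ∣ 2 * 5 := by
      rcases (by omega : r * c = 5 ∨ r * c = 10) with h | h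
      · exact (Dvd.intro _ h).trans (by norm_num)
      · exact Dvd.intro _ h
    rcases (Nat.Prime.dvd_mul hr).1 hr10 with h | h
    · obtain rfl := (Nat.prime_dvd_prime_iff_eq hr Nat.prime_two).1 h
      have := four_dvd_support_of_even htr' (hle t.2)
      omega
    · exact (Nat.prime_dvd_prime_iff_eq hr (by norm_num)).1 h
  obtain ⟨k, hk, hkN⟩ := card_normalizer_of_centralizer_eq (by norm_num) _ hF hC
  have h5 := card_sylow_modEq_one 5 G
  have h9 : Nat.card G = 5 * k * Nat.card (Sylow 5 G) := by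
    rw [← hkN, F.card_eq_index_normalizer]; exact (card_mul_index _).symm
  have h10 : k ≤ 4 := Nat.le_of_dvd (by norm_num) hk
  rw [hc] at h9
  unfold Nat.ModEq at h5
  interval_cases k <;> omega

/-- a triply transitive group of odd degree containing a double transposition contains the
alternating group -/
theorem alt_le_of_double_swap (hodd : Odd (Fintype.card α)) (hG : IsPreprimitive G α)
    (h3 : MT G (Set.univ : Set α) 3) {x : Perm α} (hx : x ∈ G) (h2 : x ^ 2 = 1)
    (h4 : x.support.card = 4) : alternatingGroup α ≤ G := by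
  classical
  by_contra hA
  obtain ⟨a, ha⟩ : x.support.Nonempty := Finset.card_pos.1 (by omega)
  have ha' : x a ≠ a := mem_support.1 ha
  have hsq : ∀ y : Perm α, y ^ 2 = 1 → ∀ u, y (y u) = u := fun y hy u => by
    rw [← Perm.mul_apply, ← pow_two, hy]; rfl
  let Y : Finset (Perm α) := Finset.univ.filter fun y =>
    y ∈ G ∧ y ^ 2 = 1 ∧ y.support.card = 4 ∧ y a = x a
  have hsub : ∀ y ∈ Y, ({a, x a} : Finset α) ⊆ y.support := by
    intro y hy
    obtain ⟨-, h1, -, h2⟩ := (Finset.mem_filter.1 hy).2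
    intro u hu
    rw [Finset.mem_insert, Finset.mem_singleton] at hu
    rcases hu with rfl | rfl
    · rw [mem_support, h2]; exact ha'
    · rw [← h2, apply_mem_support, mem_support, h2]; exact ha'
  have hcard : ∀ y ∈ Y, (y.support \ {a, x a}).card = 2 := by
    intro y hy
    rw [Finset.card_sdiff_of_subset (hsub y hy), (Finset.mem_filter.1 hy).2.2.2.1,
      Finset.card_pair ha'.symm]
  have hun : Y.biUnion (fun y => y.support \ {a, x a}) = ({a, x a} : Finset α)ᶜ := by
    ext u
    simp only [Finset.mem_biUnion, Finset.mem_sdiff, Finset.mem_compl]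
    refine ⟨fun ⟨y, _, _, h⟩ => h, fun hu => ?_⟩
    have hxY : x ∈ Y := Finset.mem_filter.2 ⟨Finset.mem_univ _, hx, h2, h4, rfl⟩
    obtain ⟨c, hc⟩ : (x.support \ {a, x a}).Nonempty := Finset.card_pos.1 (by
      rw [hcard x hxY]; omega)
    simp only [Finset.mem_sdiff, Finset.mem_insert, Finset.mem_singleton, not_or] at hc
    have hu' := hu
    simp only [Finset.mem_insert, Finset.mem_singleton, not_or] at hu'
    obtain ⟨g, hg, g1, g2, g3⟩ := h3.three le_rfl (Set.mem_univ a) (Set.mem_univ (x a))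
      (Set.mem_univ c) (Set.mem_univ a) (Set.mem_univ (x a)) (Set.mem_univ u) ha'.symm
      (Ne.symm hc.2.1) (Ne.symm hc.2.2) ha'.symm (Ne.symm hu'.1) (Ne.symm hu'.2)
    refine ⟨g * x * g⁻¹, Finset.mem_filter.2 ⟨Finset.mem_univ _,
      G.mul_mem (G.mul_mem hg hx) (G.inv_mem hg), by rw [conj_pow, h2]; simp,
      by rw [card_support_conj, h4], ?_⟩, ?_, hu⟩
    · have : g⁻¹ a = a := by rw [Perm.inv_eq_iff_eq]; exact g1.symm
      rw [Perm.mul_apply, Perm.mul_apply, this]; exact g2
    · rw [support_conj]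
      exact Finset.mem_map.2 ⟨c, hc.1, g3⟩
  have hdisj : (Y : Set (Perm α)).PairwiseDisjoint (fun y => y.support \ {a, x a}) := by
    intro y hy z hz hyz
    rw [Function.onFun, Finset.disjoint_left]
    intro u hu hu'
    obtain ⟨hyG, -, -, hya⟩ := (Finset.mem_filter.1 hy).2
    obtain ⟨hzG, -, -, hza⟩ := (Finset.mem_filter.1 hz).2
    have hy2 := (Finset.mem_filter.1 hy).2.2.1
    have hz2 := (Finset.mem_filter.1 hz).2.2.1
    refine hA (alt_le_of_support_le_three hG (G.mul_mem (G.inv_mem hyG) hzG)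
      (fun h => hyz (inv_mul_eq_one.1 h)) ?_)
    have hsub2 : (y⁻¹ * z).support ⊆ (y.support \ {a, x a}) ∪ (z.support \ {a, x a}) := by
      intro v hv
      have h1 := support_mul_le _ _ hv
      rw [support_inv] at h1
      have h2 : v ∉ ({a, x a} : Finset α) := by
        intro h
        rw [Finset.mem_insert, Finset.mem_singleton] at h
        apply mem_support.1 hv
        rw [Perm.mul_apply, Perm.inv_eq_iff_eq]
        rcases h with rfl | rfl
        · rw [hya, hza]
        · rw [← hza, hsq z hz2, hza, ← hya, hsq y hy2]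
      rw [← Finset.union_sdiff_distrib]
      exact Finset.mem_sdiff.2 ⟨h1, h2⟩
    have h5 := Finset.card_union_add_card_inter (y.support \ {a, x a}) (z.support \ {a, x a})
    have h6 : 0 < ((y.support \ {a, x a}) ∩ (z.support \ {a, x a})).card :=
      Finset.card_pos.2 ⟨u, Finset.mem_inter.2 ⟨hu, hu'⟩⟩
    have h7 := Finset.card_le_card hsub2
    rw [hcard y hy, hcard z hz] at h5
    omega
  have h8 := Finset.card_biUnion hdisj
  rw [hun, Finset.sum_congr rfl hcard, Finset.card_compl, Finset.card_pair ha'.symm,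
    Finset.sum_const, smul_eq_mul] at h8
  have := x.support.card_le_univ
  obtain ⟨k, hk⟩ := hodd
  omega

theorem mem_stab_emb {k : ℕ} {x : Fin k ↪ α} {g : G} :
    g ∈ stabilizer G x ↔ ∀ i, (g : Perm α) (x i) = x i := by
  rw [mem_stabilizer_iff, DFunLike.ext_iff]; rfl

theorem sharp_of_support {k : ℕ}
    (h : ∀ g ∈ G, g.support.card + k ≤ Fintype.card α → g = 1) (x : Fin k ↪ α) :
    stabilizer G x = ⊥ := by
  rw [eq_bot_iff]
  intro g hg
  rw [mem_stab_emb] at hg
  have := card_support_le_of_fix (g := g) (Finset.univ.map x) (by simpa using hg)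
  rw [Finset.card_map, Finset.card_univ, Fintype.card_fin] at this
  exact Subtype.ext (h g g.2 this)

theorem fixing_eq_bot_of_support {k : ℕ}
    (h : ∀ g ∈ G, g.support.card + k ≤ Fintype.card α → g = 1) (s : Finset α) (hs : s.card = k) :
    G ⊓ fixingSubgroup (Perm α) (s : Set α) = ⊥ := by
  rw [eq_bot_iff]
  intro g hg
  exact h g hg.1 (hs ▸ card_support_le_of_fix s (mem_fixing.1 hg.2))

theorem deg_eleven_7920 (hα : Fintype.card α = 11) (hG : IsPreprimitive G α)
    (hA : ¬ alternatingGroup α ≤ G) (hle : G ≤ alternatingGroup α)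
    (h2 : MT G (Set.univ : Set α) 2) (hc : Nat.card G = 7920) :
    MT G (Set.univ : Set α) 4 ∧ ∀ g ∈ G, g.support.card + 4 ≤ Fintype.card α → g = 1 := by
  classical
  have : Fact (Nat.Prime 3) := ⟨by norm_num⟩
  have hΩ : Nat.card α = 11 := Nat.card_eq_fintype_card.trans hα
  have hsyl : ∀ s : Finset α, s.card = 2 → ∀ Q,
      SylIn 3 Q (G ⊓ fixingSubgroup (Perm α) (s : Set α)) → Nat.card Q = 9 := by
    intro s hs Q hQ
    have h1 := MT.card_fixing_mul s (hs ▸ h2) (Pres.univ G) (Set.subset_univ _)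
    rw [hs, Set.ncard_univ, hΩ, hc] at h1
    have h72 : Nat.card ↥(G ⊓ fixingSubgroup (Perm α) (s : Set α)) = 72 := by
      simp only [Nat.descFactorial] at h1; omega
    have h3 := hQ.toSylow.card_eq_multiplicity
    rw [h72, SylIn.coe_toSylow, Nat.card_congr (subgroupOfEquivOfLe hQ.1).toEquiv] at h3
    rw [h3]; decide +kernel
  have hstab : ∀ (Q : Subgroup (Perm α)) (c : α), Nat.card Q = 9 → (orbit Q c).ncard < 9 →
      ∃ y ∈ Q, y c = c ∧ orderOf y = 3 := by
    intro Q c hQ ho
    have h1 := ncard_orbit_mul Q c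
    have h3 : 3 ∣ Nat.card ↥(Q ⊓ stabilizer (Perm α) c) := by
      rw [hQ] at h1
      have h4 : Nat.card ↥(Q ⊓ stabilizer (Perm α) c) ∣ 3 ^ 2 := Dvd.intro_left _ h1
      obtain ⟨i, hi, hi'⟩ := (Nat.dvd_prime_pow (by norm_num)).1 h4
      rcases Nat.eq_zero_or_pos i with rfl | hpos
      · rw [hi'] at h1; omega
      · rw [hi']; exact dvd_pow_self 3 hpos.ne'
    obtain ⟨y, hy, hy3⟩ := exists_mem_orderOf_eq (by norm_num) h3
    exact ⟨y, hy.1, hy.2, hy3⟩
  have hthree : ∀ x ∈ G, orderOf x = 3 → x.support.card = 9 := by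
    intro x hx hx3
    obtain ⟨c, hc1, hc2⟩ := support_of_prime_order' hG hA hx (by norm_num) hx3 (by omega)
    have hle11 := x.support.card_le_univ
    by_contra hne
    have h6 : x.support.card = 6 := by omega
    set Γ : Set α := {u | x u = u} with hΓ
    have hΓc : Γ.ncard = 5 := by have := ncard_fixed_add_support x; rw [← hΓ] at this; omega
    set C := G ⊓ centralizer ({x} : Set (Perm α)) with hC
    have hPres : Pres C Γ := by
      intro g hg u hu
      have h1 : x * g = g * x := hg.2 x rfl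
      show x (g u) = g u
      rw [← Perm.mul_apply, h1, Perm.mul_apply, show x u = u from hu]
    have hMT : MT C Γ 2 := by
      refine gleason (p := 3) (Set.toFinite _) hPres (by omega) fun s hsΓ hs => ?_
      obtain ⟨Q, hQ, hxQ⟩ := exists_sylIn (p := 3) (R := zpowers x)
        (H := G ⊓ fixingSubgroup (Perm α) (s : Set α))
        (zpowers_le.2 ⟨hx, mem_fixing.2 fun u hu => hsΓ hu⟩)
        (IsPGroup.of_card (n := 1) (by rw [Nat.card_zpowers, hx3]; rfl))
      have hQ9 := hsyl s hs Q hQ
      have hcomm := IsPGroup.isMulCommutative_of_card_eq_prime_sq (p := 3) hQ9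
      have hQC : Q ≤ C := fun g hg => ⟨(hQ.1 hg).1, by
        rintro _ rfl
        exact congrArg Subtype.val (mul_comm' (⟨_, hxQ (mem_zpowers _)⟩ : Q) ⟨g, hg⟩)⟩
      refine ⟨Q, hQC, hQ.2.1, ?_⟩
      have hsub : (s : Set α) ⊆ Γ ∩ fixedPoints Q α := fun u hu =>
        ⟨hsΓ hu, mem_fix.2 fun g hg => mem_fixing.1 (hQ.1 hg).2 u hu⟩
      have hmod := ncard_modEq_fixed hQ.2.1 (Set.toFinite Γ) (hPres.mono hQC)
      have hl1 := Set.ncard_le_ncard hsub
      have hl2 := Set.ncard_le_ncard (Set.inter_subset_left (s := Γ) (t := fixedPoints Q α))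
      rw [Set.ncard_coe_finset, hs] at hl1
      rw [hΓc] at hmod hl2
      unfold Nat.ModEq at hmod
      by_cases h5 : (Γ ∩ fixedPoints Q α).ncard = 5
      · exfalso
        have hall := Set.eq_of_subset_of_ncard_le (Set.inter_subset_left (s := Γ)
          (t := fixedPoints Q α)) (by omega)
        obtain ⟨u, hu⟩ : x.support.Nonempty := Finset.card_pos.1 (by omega)
        have hPc : Pres Q (Set.univ \ Γ) := (Pres.univ Q).diff (hPres.mono hQC)
        have ho := Set.ncard_le_ncard (hPc.orbit_subset (a := u) ⟨trivial, mem_support.1 hu⟩)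
        rw [Set.ncard_diff (Set.subset_univ _), Set.ncard_univ, hΩ, hΓc] at ho
        obtain ⟨y, hy, hyu, hy3⟩ := hstab Q u hQ9 (by omega)
        obtain ⟨c', h1, h2⟩ := support_of_prime_order' hG hA (hQ.1 hy).1 (by norm_num) hy3
          (by omega)
        have h3 := card_support_le_of_fix (g := y) (insert u x.supportᶜ) (by
          intro v hv
          rcases Finset.mem_insert.1 hv with rfl | hv
          · exact hyu
          · have : v ∈ Γ ∩ fixedPoints Q α := by
              rw [hall]; simpa [hΓ] using hv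
            exact mem_fix.1 this.2 y hy)
        rw [Finset.card_insert_of_notMem (by simpa using hu), Finset.card_compl] at h3
        omega
      · exact (Set.eq_of_subset_of_ncard_le hsub (by rw [Set.ncard_coe_finset]; omega)).symm
    have h5 := hMT.ncard_dvd (by omega) hPres (Set.nonempty_of_ncard_ne_zero (by omega))
    rw [hΓc] at h5
    obtain ⟨f, hf, hf5⟩ := exists_mem_orderOf_eq (by norm_num) h5
    have := five_dvd_support hα hG hA hf.1 hf5 (hf.2 x rfl)
    omega
  have h3 : MT G (Set.univ : Set α) 3 := by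
    obtain ⟨s, -, hs⟩ := Finset.exists_subset_card_eq (s := (Finset.univ : Finset α)) (n := 2)
      (by simp [hα])
    obtain ⟨Q, hQ, -⟩ := exists_sylIn (p := 3) (R := ⊥)
      (H := G ⊓ fixingSubgroup (Perm α) (s : Set α)) bot_le IsPGroup.of_bot
    have hQ9 := hsyl s hs Q hQ
    refine h2.succ' (Pres.univ G) s (Set.subset_univ _) hs fun a _ b _ ha hb => ?_
    have hPc : Pres Q (Set.univ \ (s : Set α)) := ((Pres.univ G).fixing (s : Set α)).mono hQ.1
    have ho : orbit Q a = Set.univ \ s := by
      refine Set.eq_of_subset_of_ncard_le (hPc.orbit_subset ⟨trivial, ha⟩) ?_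
      rw [Set.ncard_diff (Set.subset_univ _), Set.ncard_univ, hΩ, Set.ncard_coe_finset, hs]
      by_contra hlt
      obtain ⟨y, hy, hya, hy3⟩ := hstab Q a hQ9 (by omega)
      have h1 := hthree y (hQ.1 hy).1 hy3
      have h3 := card_support_le_of_fix (g := y) (insert a s) (by
        intro v hv
        rcases Finset.mem_insert.1 hv with rfl | hv
        · exact hya
        · exact mem_fixing.1 (hQ.1 hy).2 v hv)
      rw [Finset.card_insert_of_notMem ha] at h3
      omega
    have : b ∈ orbit Q a := ho ▸ ⟨trivial, hb⟩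
    obtain ⟨g, hg, hgab⟩ := mem_orb.1 this
    exact ⟨g, (hQ.1 hg).1, mem_fixing.1 (hQ.1 hg).2, hgab⟩
  have hfin : ∀ g ∈ G, g.support.card + 4 ≤ Fintype.card α → g = 1 := by
    intro g hg hs
    by_contra hne
    obtain ⟨n, hn, -⟩ := exists_pow_orderOf_prime (isOfFinOrder_of_finite g) hne
    have hx := G.pow_mem hg n
    have hs' := Finset.card_le_card (support_pow_le g n)
    generalize g ^ n = x at hn hx hs'
    obtain ⟨c, hc1, hc2, -⟩ := support_of_prime_order hn rfl
    have hr7 : orderOf x ≤ 7 := by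
      have : orderOf x * 1 ≤ orderOf x * c := Nat.mul_le_mul_left _ hc1
      omega
    obtain ⟨c', hc1', hc2'⟩ := support_of_prime_order' hG hA hx hn rfl (by omega)
    have hr3 : orderOf x ≤ 3 := by
      have : orderOf x * 2 ≤ orderOf x * c' := Nat.mul_le_mul_left _ hc1'
      omega
    have := hn.two_le
    rcases (by omega : orderOf x = 2 ∨ orderOf x = 3) with h | h
    · have := four_dvd_support_of_even h (hle hx)
      exact hA (alt_le_of_double_swap (by rw [hα]; decide) hG h3 hx (h ▸ pow_orderOf_eq_one x)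
        (by rw [h] at hc2'; omega))
    · have := hthree x hx h
      omega
  refine ⟨?_, hfin⟩
  obtain ⟨s, -, hs⟩ := Finset.exists_subset_card_eq (s := (Finset.univ : Finset α)) (n := 4)
    (by simp [hα])
  rw [← hs]
  refine MT_of_card_ge (Set.toFinite _) s (Pres.univ G) (Set.subset_univ _) ?_
  rw [fixing_eq_bot_of_support hfin s hs, hs, Set.ncard_univ, hΩ, hc]
  simp [Nat.descFactorial]

theorem deg_eleven (hα : Fintype.card α = 11) (G : Subgroup (Perm α))
    [IsPretransitive G α] (hG : ¬ Group.IsSolvable G) (hA : ¬ alternatingGroup α ≤ G) :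
    (IsMultiplyPretransitive G α 4 ∧ ∀ x : Fin 4 ↪ α, stabilizer G x = ⊥) ∨
      (Nat.card G = 660 ∧ IsSimpleGroup G) := by
  classical
  have : Fact (Nat.Prime 11) := ⟨by norm_num⟩
  have hΩ : Nat.card α = 11 := Nat.card_eq_fintype_card.trans hα
  have hprim := isPreprimitive_prime_deg (G := G) hΩ
  rcases card_inf_alternating G with h | h
  · rcases card_deg_eleven_alt hα G hG hA h with hc | hc
    · right
      have : Nontrivial G := Finite.one_lt_card_iff_nontrivial.1 (by omega)
      refine ⟨hc, ⟨fun N hN => ?_⟩⟩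
      by_cases hbot : N = ⊥
      · exact Or.inl hbot
      right
      obtain ⟨h1, h2⟩ := normal_prime_deg hα G hG N hbot
      have h3 := card_deg_eleven_alt hα _ h2 (fun hh => hA (hh.trans (map_subtype_le _)))
        ((map_subtype_le _).trans h)
      rw [card_map_of_injective G.subtype_injective] at h3
      have h4 := card_le_card_group N
      exact eq_top_of_card_eq N (by omega)
    · left
      obtain ⟨h1, h2⟩ := deg_eleven_7920 hα hprim hA h (MT_of_isMultiplyPretransitive (by omega)
        (two_trans_of_not_solvable hΩ hG)) hc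
      exact ⟨h1.isMultiplyPretransitive, sharp_of_support h2⟩
  exfalso
  obtain ⟨h1, h2⟩ := inf_alt_prime_deg hα G hG
  have hA' : ¬ alternatingGroup α ≤ G ⊓ alternatingGroup α := fun hh => hA (hh.trans inf_le_left)
  rcases card_deg_eleven_alt hα _ h2 hA' inf_le_right with hc | hc
  · rw [hc] at h
    obtain ⟨P⟩ : Nonempty (Sylow 11 G) := inferInstance
    obtain ⟨d, n, hd, hn, hN, hc, -⟩ := card_eq_prime_deg hΩ P
    have h6 : d ≤ 10 := Nat.le_of_dvd (by norm_num) hd
    rw [h] at hc
    have h7 : d = 10 := by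
      unfold Nat.ModEq at hn
      interval_cases d <;> omega
    have h3 := descFactorial_dvd_card (by omega) (three_trans_of_even hΩ hG P (by
      rw [hN, h7]; decide))
    rw [hα, h] at h3
    norm_num [Nat.descFactorial] at h3
  · obtain ⟨h4, hfin⟩ := deg_eleven_7920 hα (isPreprimitive_prime_deg hΩ) hA' inf_le_right
      (MT_of_isMultiplyPretransitive (by omega) (two_trans_of_not_solvable hΩ h2)) hc
    have h4' := h4.mono_le (inf_le_left (a := G))
    obtain ⟨s, -, hs⟩ := Finset.exists_subset_card_eq (s := (Finset.univ : Finset α)) (n := 4)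
      (by simp [hα])
    have h5 := MT.card_fixing_mul s (hs ▸ h4') (Pres.univ G) (Set.subset_univ _)
    rw [hs, Set.ncard_univ, hΩ, h, hc] at h5
    set P := G ⊓ fixingSubgroup (Perm α) (s : Set α) with hP
    have hP2 : Nat.card P = 2 := by simp only [Nat.descFactorial] at h5; omega
    obtain ⟨t, ht, ht2⟩ := exists_mem_orderOf_eq (H := P) Nat.prime_two (by rw [hP2])
    have hPt : P = zpowers t := (eq_of_le_of_card_ge (zpowers_le.2 ht)
      (by rw [Nat.card_zpowers, ht2, hP2])).symm
    have hs7 := card_support_le_of_fix (g := t) s (mem_fixing.1 ht.2)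
    have ht1 : t ≠ 1 := by rintro rfl; simp at ht2
    obtain ⟨c, hc1, hc2⟩ := support_of_prime_order' hprim hA ht.1 Nat.prime_two ht2 (by omega)
    have h6 : t.support.card = 6 := by
      by_contra hne
      have h4 : t.support.card = 4 := by omega
      refine ht1 (hfin t ⟨ht.1, mem_alternatingGroup.2 ?_⟩ (by omega))
      rw [sign_of_sq (ht2 ▸ pow_orderOf_eq_one t), h4]; rfl
    have : Fact (Nat.Prime 2) := ⟨Nat.prime_two⟩
    have hw := h4'.witt (Set.subset_univ _) hs (P := P) (p := 2)
      ⟨le_rfl, IsPGroup.of_card (n := 1) hP2, fun R h1 _ h2 => le_antisymm h1 h2⟩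
    have hΓ : (Set.univ ∩ fixedPoints P α).ncard = 5 := by
      have h1 := ncard_fixed_add_support t
      have h2 : Set.univ ∩ fixedPoints P α = {x | t x = x} := by
        ext x
        rw [Set.univ_inter, hPt, mem_fix_zpowers]; rfl
      rw [h2]; omega
    have h7 := hw.ncard_dvd (by omega) ((Pres.univ _).inter (pres_fix_of_le_normalizer
      inf_le_right)) (Set.nonempty_of_ncard_ne_zero (by omega))
    rw [hΓ] at h7
    obtain ⟨f, hf, hf5⟩ := exists_mem_orderOf_eq (by norm_num) h7
    have h8 : f * t * f⁻¹ ∈ P := (mem_normalizer_iff.1 hf.2 t).1 ht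
    rw [hPt, mem_zpowers_iff_mem_range_orderOf, ht2] at h8
    simp only [Finset.range_add_one, Finset.range_zero, insert_empty_eq, Finset.image_insert,
      pow_one, Finset.image_singleton, pow_zero, Finset.mem_insert, Finset.mem_singleton] at h8
    rcases h8 with h8 | h8
    · have := five_dvd_support (t := t) hα hprim hA hf.1 hf5 (by
        rw [mul_inv_eq_iff_eq_mul] at h8; exact h8.symm)
      omega
    · exact ht1 (conj_eq_one_iff.1 h8)

end Eleven

end H14
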