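import Mathlib

/-! The Dickson pair condition. -/

set_option autoImplicit false

namespace H14

open Finset

/-- geometric sums -/
def geomS (a i : ℕ) : ℕ := ∑ j ∈ range i, (a + 1) ^ j

theorem geomS_mul (a i : ℕ) : geomS a i * a + 1 = (a + 1) ^ i := geom_sum_mul_add a i

theorem geomS_succ (a i : ℕ) : geomS a (i + 1) = (a + 1) * geomS a i + 1 := by
  rw [geomS, geom_sum_succ]; rfl

theorem geomS_add (a i j : ℕ) : geomS a (i + j) = geomS a i + (a + 1) ^ i * geomS a j := by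
  rw [geomS, sum_range_add, geomS, geomS, mul_sum]; simp only [pow_add]

theorem geomS_modEq {r a : ℕ} (h : r ∣ a) (i : ℕ) : geomS a i ≡ i [MOD r] := by
  induction i with
  | zero => rfl
  | succ i ih =>
    rw [geomS_succ]
    refine Nat.ModEq.add_right 1 ?_
    have : a + 1 ≡ 1 [MOD r] := by
      simpa using ((Nat.modEq_zero_iff_dvd).2 h).add_right 1
    simpa using this.mul ih

theorem pow_modEq_one_iff {a : ℕ} (ha : a ≠ 0) (n i : ℕ) :
    (a + 1) ^ i ≡ 1 [MOD n * a] ↔ n ∣ geomS a i := by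
  rw [← geomS_mul, Nat.ModEq.comm, Nat.modEq_iff_dvd' (by omega), Nat.add_sub_cancel,
    Nat.mul_dvd_mul_iff_right (Nat.pos_of_ne_zero ha)]

theorem pow_dvd_geomS_iff {r a : ℕ} (hr : r.Prime) (ha : a ≠ 0) (h : r ∣ a) (h2 : r = 2 → 4 ∣ a)
    (k i : ℕ) : r ^ k ∣ geomS a i ↔ r ^ k ∣ i := by
  have h1 : ¬ (r : ℤ) ∣ (a + 1 : ℤ) := by
    intro hh
    have : r ∣ a + 1 := by exact_mod_cast hh
    exact hr.one_lt.ne' (Nat.dvd_one.1 ((Nat.dvd_add_right h).1 this))
  have key : emultiplicity (r : ℤ) ((a + 1 : ℤ) ^ i - 1 ^ i) =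
      emultiplicity (r : ℤ) ((a + 1 : ℤ) - 1) + emultiplicity r i := by
    rcases hr.eq_two_or_odd' with rfl | hodd
    · rw [← Int.natCast_emultiplicity]
      exact Int.two_pow_sub_pow' i (by simpa using (by exact_mod_cast h2 rfl : (4 : ℤ) ∣ a)) h1
    · exact Int.emultiplicity_pow_sub_pow hr hodd (by simpa using (by exact_mod_cast h)) h1 i
  have h3 : (a + 1 : ℤ) ^ i - 1 ^ i = ((a * geomS a i : ℕ) : ℤ) := by
    have := congrArg (Nat.cast : ℕ → ℤ) (geomS_mul a i)
    push_cast at this ⊢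
    rw [← this]; ring
  rw [h3, add_sub_cancel_right, Int.natCast_emultiplicity, Int.natCast_emultiplicity,
    hr.emultiplicity_mul] at key
  have hfin : emultiplicity r a ≠ ⊤ :=
    (finiteMultiplicity_iff_emultiplicity_ne_top).1 (Nat.finiteMultiplicity_iff.2
      ⟨hr.one_lt.ne', Nat.pos_of_ne_zero ha⟩)
  rw [pow_dvd_iff_le_emultiplicity, pow_dvd_iff_le_emultiplicity,
    ENat.add_right_injective_of_ne_top hfin key]

theorem dickson_pair (q n : ℕ) (hq : 2 ≤ q) (hn : 1 < n) :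
    ((∀ r : ℕ, r.Prime → r ∣ n → r ∣ q - 1) ∧ (4 ∣ n → 4 ∣ q - 1)) ↔
      (q ^ n ≡ 1 [MOD n * (q - 1)] ∧ ∀ i : ℕ, 0 < i → i < n → ¬ q ^ i ≡ 1 [MOD n * (q - 1)]) := by
  obtain ⟨a, rfl⟩ : ∃ a, q = a + 1 := ⟨q - 1, by omega⟩
  have ha : a ≠ 0 := by omega
  simp only [Nat.add_sub_cancel, pow_modEq_one_iff ha]
  constructor
  · rintro ⟨h1, h2⟩
    have key : ∀ i r k, r.Prime → r ^ k ∣ n → (r ^ k ∣ geomS a i ↔ r ^ k ∣ i) := by
      intro i r k hr hk
      rcases Nat.eq_zero_or_pos k with rfl | hk0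
      · simp
      have hrn : r ∣ n := (dvd_pow_self r hk0.ne').trans hk
      by_cases hk1 : k = 1
      · subst hk1
        rw [pow_one]
        exact (geomS_modEq (h1 r hr hrn) i).dvd_iff (dvd_refl r)
      refine pow_dvd_geomS_iff hr ha (h1 r hr hrn) ?_ k i
      rintro rfl
      exact h2 ((pow_dvd_pow 2 (by omega : 2 ≤ k)).trans hk)
    have key2 : ∀ i, n ∣ geomS a i ↔ n ∣ i := fun i => by
      rw [Nat.dvd_iff_prime_pow_dvd_dvd, Nat.dvd_iff_prime_pow_dvd_dvd i]
      exact ⟨fun h r k hr hk => (key i r k hr hk).1 (h r k hr hk),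
        fun h r k hr hk => (key i r k hr hk).2 (h r k hr hk)⟩
    exact ⟨(key2 n).2 (dvd_refl n), fun i hi hin h =>
      absurd (Nat.le_of_dvd hi ((key2 i).1 h)) (by omega)⟩
  · rintro ⟨h1, h2⟩
    have : NeZero n := ⟨by omega⟩
    have hcop : n.Coprime (a + 1) := by
      refine Nat.Coprime.coprime_dvd_right (dvd_pow_self (a + 1) (n := n) (by omega)) ?_
      rw [← geomS_mul]
      obtain ⟨c, hc⟩ := h1
      rw [hc, mul_assoc]
      simp
    have hinj : Function.Injective fun i : Fin n => (geomS a i : ZMod n) := by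
      have key : ∀ i j : ℕ, i ≤ j → j < n → (geomS a i : ZMod n) = geomS a j → i = j := by
        intro i j hij hj h
        obtain ⟨d, rfl⟩ := Nat.exists_eq_add_of_le hij
        rw [geomS_add, Nat.cast_add, left_eq_add, ZMod.natCast_eq_zero_iff] at h
        by_contra hne
        exact h2 d (by omega) (by omega) ((hcop.pow_right i).dvd_of_dvd_mul_left h)
      intro i j h
      rcases le_total i.1 j.1 with hij | hij
      · exact Fin.ext (key _ _ hij j.2 h)
      · exact Fin.ext (key _ _ hij i.2 h.symm).symm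
    have hsurj : ∀ m, m ∣ n → ∀ x : ZMod m, ∃ i, i < n ∧ (geomS a i : ZMod m) = x := by
      intro m hm x
      obtain ⟨y, rfl⟩ := ZMod.castHom_surjective hm x
      obtain ⟨i, rfl⟩ := (hinj.bijective_of_nat_card_le (by simp)).2 y
      exact ⟨i, i.2, by simp⟩
    have h3 : ∀ r : ℕ, r.Prime → r ∣ n → r ∣ a := by
      intro r hr hrn
      by_contra hra
      have : Fact r.Prime := ⟨hr⟩
      have ha' : (a : ZMod r) ≠ 0 := fun h => hra ((ZMod.natCast_eq_zero_iff a r).1 h)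
      obtain ⟨i, hi, hx⟩ := hsurj r hrn (-(a : ZMod r)⁻¹)
      have h4 := congrArg (Nat.cast : ℕ → ZMod r) (geomS_mul a i)
      rw [Nat.cast_add, Nat.cast_mul, hx, neg_mul, inv_mul_cancel₀ ha', Nat.cast_one,
        neg_add_cancel, eq_comm, ZMod.natCast_eq_zero_iff] at h4
      exact hr.one_lt.ne' (Nat.eq_one_of_dvd_coprimes (hcop.pow_right i) hrn h4)
    refine ⟨h3, fun h4 => ?_⟩
    by_contra h5
    obtain ⟨b, hb⟩ := h3 2 Nat.prime_two ((by norm_num : 2 ∣ 4).trans h4)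
    have h6 : ((a + 1 : ℕ) : ZMod 4) = 3 := by
      rw [← ZMod.natCast_mod, show (a + 1) % 4 = 3 by omega]; rfl
    have h7 : ∀ i, (geomS a i : ZMod 4) = 0 ∨ (geomS a i : ZMod 4) = 1 := by
      intro i
      induction i with
      | zero => left; rfl
      | succ i ih =>
        rw [geomS_succ, Nat.cast_add, Nat.cast_mul, h6]
        rcases ih with h | h <;> rw [h] <;> decide
    obtain ⟨i, -, hi⟩ := hsurj 4 h4 2
    have := h7 i
    rw [hi] at this
    exact absurd this (by decide)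

end H14
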