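import Mathlib
import Cfsg.Agent.H27.HX0
import Cfsg.Agent.H20.StApp
import Cfsg.Agent.S1067
import Cfsg.Agent.S1059

/-! The unipotent groups of `G₂(q)` and `³D₄(q)` in characteristic two: collection. -/

set_option autoImplicit false
set_option linter.unusedVariables false
set_option linter.unusedSectionVars false
set_option linter.unusedSimpArgs false

namespace H14.HM

open Cfsg.Lie H20 H27.HX

variable {K : Type} [Field K] [CharP K 2] {G : Type*} [Group G]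

section
variable {D : ChevalleyDatum} (Y : Rel D K G)

/-- the table entry of a pair of roots -/
def Ck (D : ChevalleyDatum) (r s : ℕ) (L : List (ℕ × ℤ × ℕ × ℕ)) : Prop :=
  r < D.nroots ∧ s < D.nroots ∧ s ≠ r ∧ s ≠ D.neg r ∧ D.commTerms r s = L

instance (D : ChevalleyDatum) (r s : ℕ) (L : List (ℕ × ℤ × ℕ × ℕ)) : Decidable (Ck D r s L) := by
  unfold Ck; infer_instance

theorem cL {r s : ℕ} {L : List (ℕ × ℤ × ℕ × ℕ)} (h : Ck D r s L) (u t : K) (g : G) :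
    Y.x s u * (Y.x r t * g) = Y.x r t * (Y.x s u * (Y.ev t u L * g)) := by
  rw [← mul_assoc, Y.comm' h.1 h.2.1 h.2.2.1 h.2.2.2.1, h.2.2.2.2, CharTwo.neg_eq, mul_assoc, mul_assoc]

theorem c0 {r s : ℕ} (h : Ck D r s []) (u t : K) (g : G) :
    Y.x s u * (Y.x r t * g) = Y.x r t * (Y.x s u * g) := by
  rw [cL Y h]; simp [Rel.ev]

theorem c1 {r s k : ℕ} (h : Ck D r s [(k, 1, 1, 1)] ∨ Ck D r s [(k, -1, 1, 1)]) (u t : K) (g : G) :
    Y.x s u * (Y.x r t * g) = Y.x r t * (Y.x s u * (Y.x k (t * u) * g)) := by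
  rcases h with h | h <;> rw [cL Y h] <;> simp [Rel.ev, CharTwo.neg_eq]

theorem ad {r : ℕ} (h : r < D.nroots) (u t : K) (g : G) : Y.x r u * (Y.x r t * g) = Y.x r (u + t) * g := by
  rw [Y.x_add r h, mul_assoc]

theorem i2 : ((2 : ℤ) : K) = 0 := by simp [CharTwo.two_eq_zero]
theorem i3 : ((3 : ℤ) : K) = 1 := by
  rw [show (3 : ℤ) = 2 + 1 from rfl, Int.cast_add, i2, zero_add, Int.cast_one]

end

section
variable (Y : Rel chevD4 K G)

theorem d22 (u t : K) (g : G) : Y.x 22 u * (Y.x 22 t * g) = Y.x 22 (u + t) * g :=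
  ad Y (by decide) u t g
theorem d17_22 (u t : K) (g : G) : Y.x 17 u * (Y.x 22 t * g) = Y.x 22 t * (Y.x 17 u * g) :=
  c0 Y (by decide +kernel) u t g
theorem d20_22 (u t : K) (g : G) : Y.x 20 u * (Y.x 22 t * g) = Y.x 22 t * (Y.x 20 u * g) :=
  c0 Y (by decide +kernel) u t g
theorem d21_22 (u t : K) (g : G) : Y.x 21 u * (Y.x 22 t * g) = Y.x 22 t * (Y.x 21 u * g) :=
  c0 Y (by decide +kernel) u t g
theorem d23_22 (u t : K) (g : G) : Y.x 23 u * (Y.x 22 t * g) = Y.x 22 t * (Y.x 23 u * g) :=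
  c0 Y (by decide +kernel) u t g
theorem d19_22 (u t : K) (g : G) : Y.x 19 u * (Y.x 22 t * g) = Y.x 22 t * (Y.x 19 u * g) :=
  c0 Y (by decide +kernel) u t g
theorem d16_22 (u t : K) (g : G) : Y.x 16 u * (Y.x 22 t * g) = Y.x 22 t * (Y.x 16 u * g) :=
  c0 Y (by decide +kernel) u t g
theorem d15_22 (u t : K) (g : G) : Y.x 15 u * (Y.x 22 t * g) = Y.x 22 t * (Y.x 15 u * g) :=
  c0 Y (by decide +kernel) u t g
theorem d14_22 (u t : K) (g : G) :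
    Y.x 14 u * (Y.x 22 t * g) = Y.x 22 t * (Y.x 14 u * (Y.x 23 (t * u) * g)) :=
  c1 Y (by decide +kernel) u t g
theorem d18_22 (u t : K) (g : G) : Y.x 18 u * (Y.x 22 t * g) = Y.x 22 t * (Y.x 18 u * g) :=
  c0 Y (by decide +kernel) u t g
theorem d13_22 (u t : K) (g : G) : Y.x 13 u * (Y.x 22 t * g) = Y.x 22 t * (Y.x 13 u * g) :=
  c0 Y (by decide +kernel) u t g
theorem d12_22 (u t : K) (g : G) : Y.x 12 u * (Y.x 22 t * g) = Y.x 22 t * (Y.x 12 u * g) :=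
  c0 Y (by decide +kernel) u t g
theorem d17 (u t : K) (g : G) : Y.x 17 u * (Y.x 17 t * g) = Y.x 17 (u + t) * g :=
  ad Y (by decide) u t g
theorem d20_17 (u t : K) (g : G) : Y.x 20 u * (Y.x 17 t * g) = Y.x 17 t * (Y.x 20 u * g) :=
  c0 Y (by decide +kernel) u t g
theorem d21_17 (u t : K) (g : G) : Y.x 21 u * (Y.x 17 t * g) = Y.x 17 t * (Y.x 21 u * g) :=
  c0 Y (by decide +kernel) u t g
theorem d23_17 (u t : K) (g : G) : Y.x 23 u * (Y.x 17 t * g) = Y.x 17 t * (Y.x 23 u * g) :=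
  c0 Y (by decide +kernel) u t g
theorem d19_17 (u t : K) (g : G) :
    Y.x 19 u * (Y.x 17 t * g) = Y.x 17 t * (Y.x 19 u * (Y.x 23 (t * u) * g)) :=
  c1 Y (by decide +kernel) u t g
theorem d16_17 (u t : K) (g : G) : Y.x 16 u * (Y.x 17 t * g) = Y.x 17 t * (Y.x 16 u * g) :=
  c0 Y (by decide +kernel) u t g
theorem d15_17 (u t : K) (g : G) : Y.x 15 u * (Y.x 17 t * g) = Y.x 17 t * (Y.x 15 u * g) :=
  c0 Y (by decide +kernel) u t g
theorem d14_17 (u t : K) (g : G) : Y.x 14 u * (Y.x 17 t * g) = Y.x 17 t * (Y.x 14 u * g) :=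
  c0 Y (by decide +kernel) u t g
theorem d18_17 (u t : K) (g : G) :
    Y.x 18 u * (Y.x 17 t * g) = Y.x 17 t * (Y.x 18 u * (Y.x 22 (t * u) * g)) :=
  c1 Y (by decide +kernel) u t g
theorem d13_17 (u t : K) (g : G) : Y.x 13 u * (Y.x 17 t * g) = Y.x 17 t * (Y.x 13 u * g) :=
  c0 Y (by decide +kernel) u t g
theorem d12_17 (u t : K) (g : G) : Y.x 12 u * (Y.x 17 t * g) = Y.x 17 t * (Y.x 12 u * g) :=
  c0 Y (by decide +kernel) u t g
theorem d20 (u t : K) (g : G) : Y.x 20 u * (Y.x 20 t * g) = Y.x 20 (u + t) * g :=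
  ad Y (by decide) u t g
theorem d21_20 (u t : K) (g : G) : Y.x 21 u * (Y.x 20 t * g) = Y.x 20 t * (Y.x 21 u * g) :=
  c0 Y (by decide +kernel) u t g
theorem d23_20 (u t : K) (g : G) : Y.x 23 u * (Y.x 20 t * g) = Y.x 20 t * (Y.x 23 u * g) :=
  c0 Y (by decide +kernel) u t g
theorem d19_20 (u t : K) (g : G) : Y.x 19 u * (Y.x 20 t * g) = Y.x 20 t * (Y.x 19 u * g) :=
  c0 Y (by decide +kernel) u t g
theorem d16_20 (u t : K) (g : G) :
    Y.x 16 u * (Y.x 20 t * g) = Y.x 20 t * (Y.x 16 u * (Y.x 23 (t * u) * g)) :=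
  c1 Y (by decide +kernel) u t g
theorem d15_20 (u t : K) (g : G) : Y.x 15 u * (Y.x 20 t * g) = Y.x 20 t * (Y.x 15 u * g) :=
  c0 Y (by decide +kernel) u t g
theorem d14_20 (u t : K) (g : G) : Y.x 14 u * (Y.x 20 t * g) = Y.x 20 t * (Y.x 14 u * g) :=
  c0 Y (by decide +kernel) u t g
theorem d18_20 (u t : K) (g : G) : Y.x 18 u * (Y.x 20 t * g) = Y.x 20 t * (Y.x 18 u * g) :=
  c0 Y (by decide +kernel) u t g
theorem d13_20 (u t : K) (g : G) :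
    Y.x 13 u * (Y.x 20 t * g) = Y.x 20 t * (Y.x 13 u * (Y.x 22 (t * u) * g)) :=
  c1 Y (by decide +kernel) u t g
theorem d12_20 (u t : K) (g : G) : Y.x 12 u * (Y.x 20 t * g) = Y.x 20 t * (Y.x 12 u * g) :=
  c0 Y (by decide +kernel) u t g
theorem d21 (u t : K) (g : G) : Y.x 21 u * (Y.x 21 t * g) = Y.x 21 (u + t) * g :=
  ad Y (by decide) u t g
theorem d23_21 (u t : K) (g : G) : Y.x 23 u * (Y.x 21 t * g) = Y.x 21 t * (Y.x 23 u * g) :=
  c0 Y (by decide +kernel) u t g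
theorem d19_21 (u t : K) (g : G) : Y.x 19 u * (Y.x 21 t * g) = Y.x 21 t * (Y.x 19 u * g) :=
  c0 Y (by decide +kernel) u t g
theorem d16_21 (u t : K) (g : G) : Y.x 16 u * (Y.x 21 t * g) = Y.x 21 t * (Y.x 16 u * g) :=
  c0 Y (by decide +kernel) u t g
theorem d15_21 (u t : K) (g : G) :
    Y.x 15 u * (Y.x 21 t * g) = Y.x 21 t * (Y.x 15 u * (Y.x 23 (t * u) * g)) :=
  c1 Y (by decide +kernel) u t g
theorem d14_21 (u t : K) (g : G) : Y.x 14 u * (Y.x 21 t * g) = Y.x 21 t * (Y.x 14 u * g) :=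
  c0 Y (by decide +kernel) u t g
theorem d18_21 (u t : K) (g : G) : Y.x 18 u * (Y.x 21 t * g) = Y.x 21 t * (Y.x 18 u * g) :=
  c0 Y (by decide +kernel) u t g
theorem d13_21 (u t : K) (g : G) : Y.x 13 u * (Y.x 21 t * g) = Y.x 21 t * (Y.x 13 u * g) :=
  c0 Y (by decide +kernel) u t g
theorem d12_21 (u t : K) (g : G) :
    Y.x 12 u * (Y.x 21 t * g) = Y.x 21 t * (Y.x 12 u * (Y.x 22 (t * u) * g)) :=
  c1 Y (by decide +kernel) u t g
theorem d23 (u t : K) (g : G) : Y.x 23 u * (Y.x 23 t * g) = Y.x 23 (u + t) * g :=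
  ad Y (by decide) u t g
theorem d19_23 (u t : K) (g : G) : Y.x 19 u * (Y.x 23 t * g) = Y.x 23 t * (Y.x 19 u * g) :=
  c0 Y (by decide +kernel) u t g
theorem d16_23 (u t : K) (g : G) : Y.x 16 u * (Y.x 23 t * g) = Y.x 23 t * (Y.x 16 u * g) :=
  c0 Y (by decide +kernel) u t g
theorem d15_23 (u t : K) (g : G) : Y.x 15 u * (Y.x 23 t * g) = Y.x 23 t * (Y.x 15 u * g) :=
  c0 Y (by decide +kernel) u t g
theorem d14_23 (u t : K) (g : G) : Y.x 14 u * (Y.x 23 t * g) = Y.x 23 t * (Y.x 14 u * g) :=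
  c0 Y (by decide +kernel) u t g
theorem d18_23 (u t : K) (g : G) : Y.x 18 u * (Y.x 23 t * g) = Y.x 23 t * (Y.x 18 u * g) :=
  c0 Y (by decide +kernel) u t g
theorem d13_23 (u t : K) (g : G) : Y.x 13 u * (Y.x 23 t * g) = Y.x 23 t * (Y.x 13 u * g) :=
  c0 Y (by decide +kernel) u t g
theorem d12_23 (u t : K) (g : G) : Y.x 12 u * (Y.x 23 t * g) = Y.x 23 t * (Y.x 12 u * g) :=
  c0 Y (by decide +kernel) u t g
theorem d19 (u t : K) (g : G) : Y.x 19 u * (Y.x 19 t * g) = Y.x 19 (u + t) * g :=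
  ad Y (by decide) u t g
theorem d16_19 (u t : K) (g : G) : Y.x 16 u * (Y.x 19 t * g) = Y.x 19 t * (Y.x 16 u * g) :=
  c0 Y (by decide +kernel) u t g
theorem d15_19 (u t : K) (g : G) : Y.x 15 u * (Y.x 19 t * g) = Y.x 19 t * (Y.x 15 u * g) :=
  c0 Y (by decide +kernel) u t g
theorem d14_19 (u t : K) (g : G) : Y.x 14 u * (Y.x 19 t * g) = Y.x 19 t * (Y.x 14 u * g) :=
  c0 Y (by decide +kernel) u t g
theorem d18_19 (u t : K) (g : G) : Y.x 18 u * (Y.x 19 t * g) = Y.x 19 t * (Y.x 18 u * g) :=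
  c0 Y (by decide +kernel) u t g
theorem d13_19 (u t : K) (g : G) :
    Y.x 13 u * (Y.x 19 t * g) = Y.x 19 t * (Y.x 13 u * (Y.x 21 (t * u) * g)) :=
  c1 Y (by decide +kernel) u t g
theorem d12_19 (u t : K) (g : G) :
    Y.x 12 u * (Y.x 19 t * g) = Y.x 19 t * (Y.x 12 u * (Y.x 20 (t * u) * g)) :=
  c1 Y (by decide +kernel) u t g
theorem d16 (u t : K) (g : G) : Y.x 16 u * (Y.x 16 t * g) = Y.x 16 (u + t) * g :=
  ad Y (by decide) u t g
theorem d15_16 (u t : K) (g : G) : Y.x 15 u * (Y.x 16 t * g) = Y.x 16 t * (Y.x 15 u * g) :=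
  c0 Y (by decide +kernel) u t g
theorem d14_16 (u t : K) (g : G) : Y.x 14 u * (Y.x 16 t * g) = Y.x 16 t * (Y.x 14 u * g) :=
  c0 Y (by decide +kernel) u t g
theorem d18_16 (u t : K) (g : G) :
    Y.x 18 u * (Y.x 16 t * g) = Y.x 16 t * (Y.x 18 u * (Y.x 21 (t * u) * g)) :=
  c1 Y (by decide +kernel) u t g
theorem d13_16 (u t : K) (g : G) : Y.x 13 u * (Y.x 16 t * g) = Y.x 16 t * (Y.x 13 u * g) :=
  c0 Y (by decide +kernel) u t g
theorem d12_16 (u t : K) (g : G) :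
    Y.x 12 u * (Y.x 16 t * g) = Y.x 16 t * (Y.x 12 u * (Y.x 17 (t * u) * g)) :=
  c1 Y (by decide +kernel) u t g
theorem d15 (u t : K) (g : G) : Y.x 15 u * (Y.x 15 t * g) = Y.x 15 (u + t) * g :=
  ad Y (by decide) u t g
theorem d14_15 (u t : K) (g : G) : Y.x 14 u * (Y.x 15 t * g) = Y.x 15 t * (Y.x 14 u * g) :=
  c0 Y (by decide +kernel) u t g
theorem d18_15 (u t : K) (g : G) :
    Y.x 18 u * (Y.x 15 t * g) = Y.x 15 t * (Y.x 18 u * (Y.x 20 (t * u) * g)) :=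
  c1 Y (by decide +kernel) u t g
theorem d13_15 (u t : K) (g : G) :
    Y.x 13 u * (Y.x 15 t * g) = Y.x 15 t * (Y.x 13 u * (Y.x 17 (t * u) * g)) :=
  c1 Y (by decide +kernel) u t g
theorem d12_15 (u t : K) (g : G) : Y.x 12 u * (Y.x 15 t * g) = Y.x 15 t * (Y.x 12 u * g) :=
  c0 Y (by decide +kernel) u t g
theorem d14 (u t : K) (g : G) : Y.x 14 u * (Y.x 14 t * g) = Y.x 14 (u + t) * g :=
  ad Y (by decide) u t g
theorem d18_14 (u t : K) (g : G) :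
    Y.x 18 u * (Y.x 14 t * g) = Y.x 14 t * (Y.x 18 u * (Y.x 19 (t * u) * g)) :=
  c1 Y (by decide +kernel) u t g
theorem d13_14 (u t : K) (g : G) :
    Y.x 13 u * (Y.x 14 t * g) = Y.x 14 t * (Y.x 13 u * (Y.x 16 (t * u) * g)) :=
  c1 Y (by decide +kernel) u t g
theorem d12_14 (u t : K) (g : G) :
    Y.x 12 u * (Y.x 14 t * g) = Y.x 14 t * (Y.x 12 u * (Y.x 15 (t * u) * g)) :=
  c1 Y (by decide +kernel) u t g
theorem d18 (u t : K) (g : G) : Y.x 18 u * (Y.x 18 t * g) = Y.x 18 (u + t) * g :=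
  ad Y (by decide) u t g
theorem d13_18 (u t : K) (g : G) : Y.x 13 u * (Y.x 18 t * g) = Y.x 18 t * (Y.x 13 u * g) :=
  c0 Y (by decide +kernel) u t g
theorem d12_18 (u t : K) (g : G) : Y.x 12 u * (Y.x 18 t * g) = Y.x 18 t * (Y.x 12 u * g) :=
  c0 Y (by decide +kernel) u t g
theorem d13 (u t : K) (g : G) : Y.x 13 u * (Y.x 13 t * g) = Y.x 13 (u + t) * g :=
  ad Y (by decide) u t g
theorem d12_13 (u t : K) (g : G) : Y.x 12 u * (Y.x 13 t * g) = Y.x 13 t * (Y.x 12 u * g) :=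
  c0 Y (by decide +kernel) u t g
theorem d12 (u t : K) (g : G) : Y.x 12 u * (Y.x 12 t * g) = Y.x 12 (u + t) * g :=
  ad Y (by decide) u t g

/-- the normal form -/
def wD (s c c' c'' r b b' b'' t a a' a'' : K) (g : G) : G :=
  Y.x 22 s * (Y.x 17 c * (Y.x 20 c' * (Y.x 21 c'' * (Y.x 23 r * (Y.x 19 b * (Y.x 16 b' * (Y.x 15 b'' *
    (Y.x 14 t * (Y.x 18 a * (Y.x 13 a' * (Y.x 12 a'' * g)))))))))))

theorem wD_congr {s c c' c'' r b b' b'' t a a' a'' s1 c1 c1' c1'' r1 b1 b1' b1'' t1 a1 a1' a1'' : K} {g : G}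
    (h : s = s1 ∧ c = c1 ∧ c' = c1' ∧ c'' = c1'' ∧ r = r1 ∧ b = b1 ∧ b' = b1' ∧ b'' = b1'' ∧ t = t1 ∧
      a = a1 ∧ a' = a1' ∧ a'' = a1'') :
    wD Y s c c' c'' r b b' b'' t a a' a'' g = wD Y s1 c1 c1' c1'' r1 b1 b1' b1'' t1 a1 a1' a1'' g := by
  obtain ⟨rfl, rfl, rfl, rfl, rfl, rfl, rfl, rfl, rfl, rfl, rfl, rfl⟩ := h
  rfl

variable (τ : Tw K)

/-- the element with given coordinates -/
def eD (x : U τ) (g : G) : G :=
  wD Y x.s x.c (τ.σ x.c) (τ.σ (τ.σ x.c)) x.r x.b (τ.σ x.b) (τ.σ (τ.σ x.b)) x.t x.a (τ.σ x.a) (τ.σ (τ.σ x.a)) g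

theorem eD_mul (x y : U τ) (g : G) : eD Y τ (x * y) g = eD Y τ x (eD Y τ y g) := by
  symm
  simp only [eD, wD,
    d22, d17_22, d20_22, d21_22, d23_22, d19_22, d16_22, d15_22, d14_22, d18_22, d13_22, d12_22,
    d17, d20_17, d21_17, d23_17, d19_17, d16_17, d15_17, d14_17, d18_17, d13_17, d12_17, d20,
    d21_20, d23_20, d19_20, d16_20, d15_20, d14_20, d18_20, d13_20, d12_20, d21, d23_21, d19_21,
    d16_21, d15_21, d14_21, d18_21, d13_21, d12_21, d23, d19_23, d16_23, d15_23, d14_23, d18_23,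
    d13_23, d12_23, d19, d16_19, d15_19, d14_19, d18_19, d13_19, d12_19, d16, d15_16, d14_16,
    d18_16, d13_16, d12_16, d15, d14_15, d18_15, d13_15, d12_15, d14, d18_14, d13_14, d12_14,
    d18, d13_18, d12_18, d13, d12_13, d12]
  refine wD_congr Y ?_
  simp only [U.mul_a, U.mul_s, U.mul_c, U.mul_r, U.mul_b, U.mul_t, Tw.T, Tw.N, Tw.sh, Tw.cr, map_add,
    map_mul, τ.three, y.ht]
  refine ⟨?_, ?_, ?_, ?_, ?_, ?_, ?_, ?_, ?_, ?_, ?_, ?_⟩ <;> first | rfl | trivial | grind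

end

section
variable (Y : Rel chevG2 K G)

theorem g10 (u t : K) (g : G) : Y.x 10 u * (Y.x 10 t * g) = Y.x 10 (u + t) * g :=
  ad Y (by decide) u t g
theorem g9_10 (u t : K) (g : G) : Y.x 9 u * (Y.x 10 t * g) = Y.x 10 t * (Y.x 9 u * g) :=
  c0 Y (by decide +kernel) u t g
theorem g11_10 (u t : K) (g : G) : Y.x 11 u * (Y.x 10 t * g) = Y.x 10 t * (Y.x 11 u * g) :=
  c0 Y (by decide +kernel) u t g
theorem g8_10 (u t : K) (g : G) : Y.x 8 u * (Y.x 10 t * g) = Y.x 10 t * (Y.x 8 u * g) :=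
  c0 Y (by decide +kernel) u t g
theorem g6_10 (u t : K) (g : G) :
    Y.x 6 u * (Y.x 10 t * g) = Y.x 10 t * (Y.x 6 u * (Y.x 11 (t ^ 1 * u ^ 1) * g)) := by
  rw [cL Y (L := [(11, -1, 1, 1)]) (by decide +kernel)]
  simp only [Rel.ev, List.map_cons, List.map_nil, List.prod_cons, List.prod_nil, Int.cast_neg, Int.cast_one,
    i2, i3, CharTwo.neg_eq, one_mul, mul_one, zero_mul, mul_assoc]
theorem g7_10 (u t : K) (g : G) : Y.x 7 u * (Y.x 10 t * g) = Y.x 10 t * (Y.x 7 u * g) :=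
  c0 Y (by decide +kernel) u t g
theorem g9 (u t : K) (g : G) : Y.x 9 u * (Y.x 9 t * g) = Y.x 9 (u + t) * g :=
  ad Y (by decide) u t g
theorem g11_9 (u t : K) (g : G) : Y.x 11 u * (Y.x 9 t * g) = Y.x 9 t * (Y.x 11 u * g) :=
  c0 Y (by decide +kernel) u t g
theorem g8_9 (u t : K) (g : G) :
    Y.x 8 u * (Y.x 9 t * g) = Y.x 9 t * (Y.x 8 u * (Y.x 11 (t ^ 1 * u ^ 1) * g)) := by
  rw [cL Y (L := [(11, -3, 1, 1)]) (by decide +kernel)]
  simp only [Rel.ev, List.map_cons, List.map_nil, List.prod_cons, List.prod_nil, Int.cast_neg, Int.cast_one,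
    i2, i3, CharTwo.neg_eq, one_mul, mul_one, zero_mul, mul_assoc]
theorem g6_9 (u t : K) (g : G) : Y.x 6 u * (Y.x 9 t * g) = Y.x 9 t * (Y.x 6 u * g) :=
  c0 Y (by decide +kernel) u t g
theorem g7_9 (u t : K) (g : G) :
    Y.x 7 u * (Y.x 9 t * g) = Y.x 9 t * (Y.x 7 u * (Y.x 10 (t ^ 1 * u ^ 1) * g)) := by
  rw [cL Y (L := [(10, -3, 1, 1)]) (by decide +kernel)]
  simp only [Rel.ev, List.map_cons, List.map_nil, List.prod_cons, List.prod_nil, Int.cast_neg, Int.cast_one,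
    i2, i3, CharTwo.neg_eq, one_mul, mul_one, zero_mul, mul_assoc]
theorem g11 (u t : K) (g : G) : Y.x 11 u * (Y.x 11 t * g) = Y.x 11 (u + t) * g :=
  ad Y (by decide) u t g
theorem g8_11 (u t : K) (g : G) : Y.x 8 u * (Y.x 11 t * g) = Y.x 11 t * (Y.x 8 u * g) :=
  c0 Y (by decide +kernel) u t g
theorem g6_11 (u t : K) (g : G) : Y.x 6 u * (Y.x 11 t * g) = Y.x 11 t * (Y.x 6 u * g) :=
  c0 Y (by decide +kernel) u t g
theorem g7_11 (u t : K) (g : G) : Y.x 7 u * (Y.x 11 t * g) = Y.x 11 t * (Y.x 7 u * g) :=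
  c0 Y (by decide +kernel) u t g
theorem g8 (u t : K) (g : G) : Y.x 8 u * (Y.x 8 t * g) = Y.x 8 (u + t) * g :=
  ad Y (by decide) u t g
theorem g6_8 (u t : K) (g : G) : Y.x 6 u * (Y.x 8 t * g) = Y.x 8 t * (Y.x 6 u * g) :=
  c0 Y (by decide +kernel) u t g
theorem g7_8 (u t : K) (g : G) :
    Y.x 7 u * (Y.x 8 t * g) = Y.x 8 t * (Y.x 7 u * (Y.x 11 (t ^ 2 * u ^ 1) * (Y.x 10 (t ^ 1 * u ^ 2) * g))) := by
  rw [cL Y (L := [(9, 2, 1, 1), (11, 3, 2, 1), (10, -3, 1, 2)]) (by decide +kernel)]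
  simp only [Rel.ev, List.map_cons, List.map_nil, List.prod_cons, List.prod_nil, Int.cast_neg, Int.cast_one,
    i2, i3, CharTwo.neg_eq, one_mul, mul_one, zero_mul, mul_assoc, Y.x_zero (show 9 < chevG2.nroots by decide)]
theorem g6 (u t : K) (g : G) : Y.x 6 u * (Y.x 6 t * g) = Y.x 6 (u + t) * g :=
  ad Y (by decide) u t g
theorem g7_6 (u t : K) (g : G) :
    Y.x 7 u * (Y.x 6 t * g) = Y.x 6 t * (Y.x 7 u * (Y.x 8 (t ^ 1 * u ^ 1) * (Y.x 9 (t ^ 1 * u ^ 2) * (Y.x 10 (t ^ 1 * u ^ 3) * g)))) := by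
  rw [cL Y (L := [(8, 1, 1, 1), (9, 1, 1, 2), (10, -1, 1, 3), (11, -2, 2, 3)]) (by decide +kernel)]
  simp only [Rel.ev, List.map_cons, List.map_nil, List.prod_cons, List.prod_nil, Int.cast_neg, Int.cast_one,
    i2, i3, CharTwo.neg_eq, one_mul, mul_one, zero_mul, mul_assoc, Y.x_zero (show 11 < chevG2.nroots by decide)]
theorem g7 (u t : K) (g : G) : Y.x 7 u * (Y.x 7 t * g) = Y.x 7 (u + t) * g :=
  ad Y (by decide) u t g

/-- the normal form -/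
def wG (s c r b t a : K) (g : G) : G :=
  Y.x 10 s * (Y.x 9 c * (Y.x 11 r * (Y.x 8 b * (Y.x 6 t * (Y.x 7 a * g)))))

theorem wG_congr {s c r b t a s1 c1 r1 b1 t1 a1 : K} {g : G}
    (h : s = s1 ∧ c = c1 ∧ r = r1 ∧ b = b1 ∧ t = t1 ∧ a = a1) :
    wG Y s c r b t a g = wG Y s1 c1 r1 b1 t1 a1 g := by
  obtain ⟨rfl, rfl, rfl, rfl, rfl, rfl⟩ := h
  rfl

variable (τ : Tw K)

/-- the element with given coordinates -/
def eG (x : U τ) (g : G) : G := wG Y x.s x.c x.r x.b x.t x.a g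

theorem eG_mul (h : ∀ x, τ.σ x = x) (x y : U τ) (g : G) : eG Y τ (x * y) g = eG Y τ x (eG Y τ y g) := by
  symm
  simp only [eG, wG,
    g10, g9_10, g11_10, g8_10, g6_10, g7_10, g9, g11_9, g8_9, g6_9, g7_9, g11, g8_11, g6_11,
    g7_11, g8, g6_8, g7_8, g6, g7_6, g7]
  refine wG_congr Y ?_
  simp only [U.mul_a, U.mul_s, U.mul_c, U.mul_r, U.mul_b, U.mul_t, Tw.T, Tw.N, Tw.sh, Tw.cr, h]
  refine ⟨?_, ?_, ?_, ?_, ?_, ?_⟩ <;> first | rfl | trivial | grind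

end

end H14.HM
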