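import Mathlib
import Cfsg.Agent.H14.HM1

/-! The Sylow `2`-subgroups of `G₂(q)` and `³D₄(q)` in characteristic two. -/

set_option autoImplicit false
set_option linter.unusedVariables false
set_option linter.unusedSectionVars false
set_option linter.unusedSimpArgs false
set_option backward.isDefEq.respectTransparency false

namespace H14.HM

open Cfsg Cfsg.Lie H20 H19 H24 H27.HX Subgroup

variable {K : Type} [Field K] [CharP K 2] {G : Type*} [Group G]

/-- coordinates -/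
def co (τ : Tw K) : U τ ≃ (K × K × K) × τ.F × τ.F × τ.F where
  toFun x := ((x.a, x.c, x.b), ⟨x.s, x.hs⟩, ⟨x.r, x.hr⟩, ⟨x.t, x.ht⟩)
  invFun p := ⟨p.1.1, p.2.1, p.1.2.1, p.2.2.1, p.1.2.2, p.2.2.2, p.2.1.2, p.2.2.1.2, p.2.2.2.2⟩
  left_inv _ := rfl
  right_inv _ := rfl

theorem card_U (τ : Tw K) : Nat.card (U τ) = Nat.card K ^ 3 * τ.q ^ 3 := by
  rw [Nat.card_congr (co τ)]
  simp only [Nat.card_prod, Tw.q]
  ring

theorem mkMd [Finite G] {τ : Tw K} (ι : U τ →* G) (inj : Function.Injective ι) {n m : ℕ}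
    (h1 : Nat.card (U τ) = 2 ^ n) (h2 : Nat.card G = 2 ^ n * m) (h3 : Odd m) : Nonempty (Md G τ) := by
  have e : Nat.card ι.range = 2 ^ n := by rw [← h1]; exact (Nat.card_congr (MonoidHom.ofInjective inj).toEquiv).symm
  refine ⟨⟨ι, inj, Syl.mk' Nat.prime_two le_top (isPi_of_card Nat.prime_two e) ?_⟩⟩
  have := ι.range.card_mul_index
  rw [e, h2] at this
  rw [relIndex_top_right, Nat.eq_of_mul_eq_mul_left (by positivity) this]
  exact h3.not_two_dvd_nat

theorem odd_sub {r k : ℕ} (hr : 1 ≤ r) (hk : k ≠ 0) : Odd ((2 ^ r) ^ k - 1) :=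
  Nat.Even.sub_odd (Nat.one_le_pow _ _ (by positivity))
    (Nat.even_pow.2 ⟨Nat.even_pow.2 ⟨even_two, by omega⟩, hk⟩) odd_one

/-! ### `G₂` -/

theorem eG_eq {Y : Rel chevG2 K G} (τ : Tw K) (x : U τ) (g : G) : eG Y τ x g = eG Y τ x 1 * g := by
  simp only [eG, wG, mul_assoc, one_mul]

/-- the root parameters -/
def tG {τ : Tw K} (x : U τ) (r : ℕ) : K := [0, 0, 0, 0, 0, 0, x.t, x.a, x.b, x.c, x.s, x.r].getD r 0

theorem eG_stw (τ : Tw K) (x : U τ) :
    eG (stRel chevG2 K) τ x 1 = stw chevG2 ([10, 9, 11, 8, 6, 7].map fun r => (r, tG x r)) := rfl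

/-- the homomorphism into Steinberg's group -/
noncomputable def ιG (τ : Tw K) (h : ∀ x, τ.σ x = x) : U τ →* chevG2.SteinbergGroup K :=
  MonoidHom.mk' (fun x => eG (stRel chevG2 K) τ x 1) fun x y => by rw [eG_mul _ _ h, eG_eq]

theorem θ_inj {D : ChevalleyDatum} {g : Good D} (M : MatRG g K) {L : List ℕ} (hL : L.Nodup)
    (hpos : ∀ r ∈ L, D.IsPosRoot r) {t t' : ℕ → K}
    (h : M.θ (stw D (L.map fun r => (r, t r))) = M.θ (stw D (L.map fun r => (r, t' r)))) :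
    ∀ r ∈ L, t r = t' r :=
  M.stw_inj hL hpos (WRG.eq_of_map_eq M.θ_x (one_mem _)
    (M.stw_mem_U (by simpa [Function.comp_def] using hpos))
    (M.stw_mem_U (by simpa [Function.comp_def] using hpos)) h)

theorem mdG2 [Fintype K] {r : ℕ} (hr : 1 ≤ r) (hK : Fintype.card K = 2 ^ r) (τ : Tw K)
    (h : ∀ x, τ.σ x = x) : Nonempty (Md (chevG2.group K) τ) := by
  have q : τ.q = 2 ^ r := by
    rw [Tw.q, show τ.F = ⊤ from eq_top_iff.2 fun x _ => h x, ← hK, ← Nat.card_eq_fintype_card]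
    exact Nat.card_congr Subfield.topEquiv.toEquiv
  refine mkMd ((matG2 K).θ'.comp (ιG τ h)) (fun x y e => ?_) (n := r * 6)
    (m := ((2 ^ r) ^ 2 - 1) * ((2 ^ r) ^ 6 - 1)) ?_ ?_ ((odd_sub hr two_ne_zero).mul (odd_sub hr (by omega)))
  · have := θ_inj (matG2 K) (L := [10, 9, 11, 8, 6, 7]) (by decide) (by decide +kernel) (t := tG x)
      (t' := tG y) (congrArg Subtype.val e)
    exact U.ext (this 7 (by simp)) (this 10 (by simp)) (this 9 (by simp)) (this 11 (by simp))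
      (this 8 (by simp)) (this 6 (by simp))
  · rw [card_U, q, Nat.card_eq_fintype_card, hK]; ring
  · rw [Cfsg.Agent.S1059.result hK, pow_mul, mul_assoc]

/-! ### `³D₄` -/

theorem eD_eq {Y : Rel chevD4 K G} (τ : Tw K) (x : U τ) (g : G) : eD Y τ x g = eD Y τ x 1 * g := by
  simp only [eD, wD, mul_assoc, one_mul]

/-- the root parameters -/
def tD {τ : Tw K} (x : U τ) (r : ℕ) : K := [0, 0, 0, 0, 0, 0, 0, 0, 0, 0, 0, 0, τ.σ (τ.σ x.a), τ.σ x.a, x.t,
  τ.σ (τ.σ x.b), τ.σ x.b, x.c, x.a, x.b, τ.σ x.c, τ.σ (τ.σ x.c), x.s, x.r].getD r 0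

theorem eD_stw (τ : Tw K) (x : U τ) : eD (stRel chevD4 K) τ x 1 =
    stw chevD4 ([22, 17, 20, 21, 23, 19, 16, 15, 14, 18, 13, 12].map fun r => (r, tD x r)) := rfl

/-- the homomorphism into Steinberg's group -/
noncomputable def ιD (τ : Tw K) : U τ →* chevD4.SteinbergGroup K :=
  MonoidHom.mk' (fun x => eD (stRel chevD4 K) τ x 1) fun x y => by rw [eD_mul, eD_eq]

theorem tab : ∀ p ∈ [(22, 22), (17, 20), (20, 21), (21, 17), (23, 23), (19, 16), (16, 15), (15, 19), (14, 14),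
    (18, 13), (13, 12), (12, 18)], p.1 < chevD4.nroots ∧ homD4a.ρ p.1 = p.2 ∧
      (homD4a.γ p.1 = 1 ∨ homD4a.γ p.1 = -1) ∧ homD4a.lam p.1 = 1 := by decide +kernel

theorem σ_gen (τ : Tw K) {r s : ℕ} (h : (r, s) ∈ [(22, 22), (17, 20), (20, 21), (21, 17), (23, 23), (19, 16),
    (16, 15), (15, 19), (14, 14), (18, 13), (13, 12), (12, 18)]) (t : K) :
    (D4.S τ.σ).σ ((stRel chevD4 K).x r t) = (stRel chevD4 K).x s (τ.σ t) := by
  obtain ⟨h1, h2, h3, h4⟩ := tab _ h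
  refine ((matD4 K).sym_gen _ _ _ _ h1 t).trans ?_
  rcases h3 with h3 | h3 <;> simp [h2, h3, h4, stRel, CharTwo.neg_eq]

theorem σ_ιD (τ : Tw K) (x : U τ) : (D4.S τ.σ).σ (ιD τ x) = ιD τ x := by
  change (D4.S τ.σ).σ (eD _ τ x 1) = eD _ τ x 1
  simp only [eD, wD, map_mul, map_one]
  rw [σ_gen τ (r := 22) (s := 22) (by simp), σ_gen τ (r := 17) (s := 20) (by simp),
    σ_gen τ (r := 20) (s := 21) (by simp), σ_gen τ (r := 21) (s := 17) (by simp),
    σ_gen τ (r := 23) (s := 23) (by simp), σ_gen τ (r := 19) (s := 16) (by simp),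
    σ_gen τ (r := 16) (s := 15) (by simp), σ_gen τ (r := 15) (s := 19) (by simp),
    σ_gen τ (r := 14) (s := 14) (by simp), σ_gen τ (r := 18) (s := 13) (by simp),
    σ_gen τ (r := 13) (s := 12) (by simp), σ_gen τ (r := 12) (s := 18) (by simp)]
  simp only [τ.three, x.hs, x.hr, x.ht, d20_17, d21_17, d16_19, d15_19, d13_18, d12_18]

theorem ιD_mem (τ : Tw K) {q : ℕ} (h : ∀ x, τ.σ x = x ^ q) (x : U τ) :
    (matD4 K).θ (ιD τ x) ∈ twistedD4 K q := by
  rw [twistedD4, ← (matD4 K).map_stSub]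
  refine mem_map_of_mem _ ((D4.gen h τ.three).U_inf_le ⟨?_, ((matD4 K).mem_C_iff _).2 (σ_ιD τ x)⟩)
  exact (matD4 K).stw_mem_U (w := [22, 17, 20, 21, 23, 19, 16, 15, 14, 18, 13, 12].map fun r => (r, tD x r))
    (by simp only [List.map_map, Function.comp_def]; decide +kernel)

theorem q_eq [Fintype K] {q : ℕ} (hq : 1 ≤ q) (hK : Fintype.card K = q ^ 3) (τ : Tw K)
    (h : ∀ x, τ.σ x = x ^ q) : τ.q = q := by
  rw [← card_fixed hq (Nat.card_eq_fintype_card.trans hK)]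
  exact Nat.card_congr (Equiv.subtypeEquivRight fun x => by rw [← h]; rfl)

theorem mdD4 [Fintype K] {r : ℕ} (hr : 1 ≤ r) (hK : Fintype.card K = (2 ^ r) ^ 3) (τ : Tw K)
    (h : ∀ x, τ.σ x = x ^ 2 ^ r) : Nonempty (Md (twistedD4 K (2 ^ r)) τ) := by
  have e2 : Even (2 ^ r) := Nat.even_pow.2 ⟨even_two, by omega⟩
  refine mkMd (((matD4 K).θ.comp (ιD τ)).codRestrict _ (ιD_mem τ h)) (fun x y e => ?_) (n := r * 12)
    (m := ((2 ^ r) ^ 2 - 1) * ((2 ^ r) ^ 6 - 1) * ((2 ^ r) ^ 8 + (2 ^ r) ^ 4 + 1)) ?_ ?_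
    (((odd_sub hr two_ne_zero).mul (odd_sub hr (by omega))).mul (Even.add_one
      ((Nat.even_pow.2 ⟨e2, by omega⟩).add (Nat.even_pow.2 ⟨e2, by omega⟩))))
  · have := θ_inj (matD4 K) (L := [22, 17, 20, 21, 23, 19, 16, 15, 14, 18, 13, 12]) (by decide)
      (by decide +kernel) (t := tD x) (t' := tD y) (congrArg Subtype.val e)
    exact U.ext (this 18 (by simp)) (this 22 (by simp)) (this 17 (by simp)) (this 23 (by simp))
      (this 19 (by simp)) (this 14 (by simp))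
  · rw [card_U, q_eq (Nat.one_le_two_pow) hK τ h, Nat.card_eq_fintype_card, hK]; ring
  · rw [Cfsg.Agent.S1067.result ((Nat.prime_two.isPrimePow).pow (by omega)) hK, pow_mul]
    simp only [mul_assoc]

/-- the twist of the field with `q³` elements -/
theorem exists_tw [Fintype K] {r : ℕ} (hr : 1 ≤ r) (hK : Fintype.card K = (2 ^ r) ^ 3) :
    ∃ τ : Tw K, ∀ x, τ.σ x = x ^ 2 ^ r := by
  obtain ⟨f, hf⟩ := exists_frob ((Nat.prime_two.isPrimePow).pow (show r ≠ 0 by omega)) hK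
  exact ⟨⟨f, fun t => by rw [hf, D4.hf2 hf, ← pow_mul, ← pow_succ, ← hK, FiniteField.pow_card]⟩, hf⟩

/-- transport along an isomorphism of Sylow subgroups -/
theorem md_of_sylow {H : Type*} [Group H] [Finite G] [Finite H] {τ : Tw K} (M : Md H τ) (S : Sylow 2 G)
    (P : Sylow 2 H) (e : (S : Subgroup G) ≃* (P : Subgroup H)) : Nonempty (Md G τ) := by
  obtain ⟨Q, hQ⟩ : ∃ Q : Sylow 2 H, (Q : Subgroup H) = M.ι.range :=
    ⟨(((isPi_iff_isPGroup Nat.prime_two).1 M.syl.pi).toSylow (by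
      simpa using M.syl.not_dvd Nat.prime_two)), rfl⟩
  let f : U τ ≃* (S : Subgroup G) := (((MonoidHom.ofInjective M.inj).trans
    (MulEquiv.subgroupCongr hQ.symm)).trans (Q.equiv P)).trans e.symm
  refine ⟨⟨(S : Subgroup G).subtype.comp f.toMonoidHom, Subtype.val_injective.comp f.injective, ?_⟩⟩
  rw [MonoidHom.range_comp, MonoidHom.range_eq_top.2 f.surjective, ← MonoidHom.range_eq_map, range_subtype]
  exact syl_top_of_sylow Nat.prime_two S

end H14.HM
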