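import Mathlib
import Cfsg.Agent.H14.Count

/-! Tits' argument for sharply quadruply transitive groups. -/

set_option autoImplicit false
set_option linter.unusedSectionVars false

namespace H14

open MulAction Subgroup

variable {G : Type*} [Group G] {Ω : Type*} [MulAction G Ω]

theorem eq_one_of_sharp_four (hsharp : ∀ x : Fin 4 ↪ Ω, stabilizer G x = ⊥) {g : G}
    {a b c d : Ω} (hab : a ≠ b) (hac : a ≠ c) (had : a ≠ d) (hbc : b ≠ c) (hbd : b ≠ d)
    (hcd : c ≠ d) (ha : g • a = a) (hb : g • b = b) (hc : g • c = c) (hd : g • d = d) : g = 1 := by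
  let x : Fin 4 ↪ Ω := ⟨![a, b, c, d], by
    intro i j
    fin_cases i <;> fin_cases j <;>
      simp [hab, hac, had, hbc, hbd, hcd, hab.symm, hac.symm, had.symm, hbc.symm, hbd.symm,
        hcd.symm]⟩
  rw [← mem_bot, ← hsharp x, mem_stabilizer_iff]
  ext i
  fin_cases i
  · exact ha
  · exact hb
  · exact hc
  · exact hd

theorem card_dvd_factorial_of_pres {H : Subgroup G} {F : Set Ω} (hF : F.Finite) (hP : Pres H F)
    (h : ∀ g ∈ H, (∀ x ∈ F, g • x = x) → g = 1) : Nat.card H ∣ F.ncard.factorial := by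
  let S : SubMulAction H Ω := ⟨F, fun g _ hx => hP g g.2 _ hx⟩
  have : Finite S := hF
  have h1 : Nat.card S = F.ncard := rfl
  rw [← h1, ← Nat.card_perm]
  refine card_dvd_of_injective (toPermHom H S) ?_
  rw [injective_iff_map_eq_one]
  intro g hg
  exact Subtype.ext (h g g.2 fun x hx =>
    congrArg Subtype.val (DFunLike.congr_fun hg (⟨x, hx⟩ : S)))

theorem tits_sharp_four (h4 : IsMultiplyPretransitive G Ω 4)
    (hsharp : ∀ x : Fin 4 ↪ Ω, stabilizer G x = ⊥) (hne : Nonempty (Fin 4 ↪ Ω)) :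
    Nat.card Ω = 4 ∨ Nat.card Ω = 5 ∨ Nat.card Ω = 6 ∨ Nat.card Ω = 7 ∨ Nat.card Ω = 11 := by
  classical
  obtain ⟨x⟩ := hne
  have hmt : MT (⊤ : Subgroup G) (Set.univ : Set Ω) 4 :=
    MT_top_of_isMultiplyPretransitive' (by simpa using ENat.card_le_card_of_injective x.injective) h4
  have hx : ∀ i j : Fin 4, i ≠ j → x i ≠ x j := fun i j h => x.injective.ne h
  set p := x 0
  set q := x 1
  have hpq : p ≠ q := hx 0 1 (by decide)
  obtain ⟨a, -, hap, haq, ha2, ha3⟩ := hmt.four le_rfl (Set.mem_univ p) (Set.mem_univ q)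
    (Set.mem_univ (x 2)) (Set.mem_univ (x 3)) (Set.mem_univ q) (Set.mem_univ p)
    (Set.mem_univ (x 2)) (Set.mem_univ (x 3)) hpq (hx 0 2 (by decide)) (hx 0 3 (by decide))
    (hx 1 2 (by decide)) (hx 1 3 (by decide)) (hx 2 3 (by decide)) hpq.symm (hx 1 2 (by decide))
    (hx 1 3 (by decide)) (hx 0 2 (by decide)) (hx 0 3 (by decide)) (hx 2 3 (by decide))
  have haa : a * a = 1 := eq_one_of_sharp_four hsharp hpq (hx 0 2 (by decide)) (hx 0 3 (by decide))
    (hx 1 2 (by decide)) (hx 1 3 (by decide)) (hx 2 3 (by decide))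
    (by rw [mul_smul, hap, haq]) (by rw [mul_smul, haq, hap]) (by rw [mul_smul, ha2, ha2])
    (by rw [mul_smul, ha3, ha3])
  have haa' : ∀ y : Ω, a • a • y = y := fun y => by rw [← mul_smul, haa, one_smul]
  set F : Set Ω := {y | a • y = y} with hF
  have hpF : p ∉ F := fun h => hpq (h.symm.trans hap)
  have hqF : q ∉ F := fun h => hpq (haq.symm.trans h)
  have hF3 : F.encard ≤ 3 := by
    by_contra hlt
    obtain ⟨t, htF, ht⟩ := Set.exists_subset_encard_eq (s := F) (k := 4)
      (Order.add_one_le_of_lt (not_le.1 hlt))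
    obtain ⟨b, c, d, e, h1, h2, h3, h4, h5, h6, rfl⟩ := Set.encard_eq_four.1 ht
    have := eq_one_of_sharp_four hsharp h1 h2 h3 h4 h5 h6 (htF (by simp)) (htF (by simp))
      (htF (by simp)) (htF (by simp))
    rw [this, one_smul] at hap
    exact hpq hap
  have hFfin : F.Finite := Set.finite_of_encard_le_coe hF3
  have hF3' : F.ncard ≤ 3 := by
    rw [← hFfin.cast_ncard_eq] at hF3; exact_mod_cast hF3
  have hF2 : 2 ≤ F.ncard := by
    rw [← Set.ncard_pair (hx 2 3 (by decide))]
    exact Set.ncard_le_ncard (by rintro y (rfl | rfl) <;> assumption) hFfin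
  set H : Subgroup G := centralizer {a} ⊓ stabilizer G p ⊓ stabilizer G q with hH
  have hcomm : ∀ g ∈ H, ∀ y : Ω, g • a • y = a • g • y := fun g hg y => by
    rw [← mul_smul, mem_centralizer_singleton_iff.1 hg.1.1, mul_smul]
  have hdvd : Nat.card H ∣ F.ncard.factorial := by
    refine card_dvd_factorial_of_pres hFfin (fun g hg y hy => ?_) fun g hg h =>
      eq_one_of_sharp_four hsharp hpq (hx 0 2 (by decide)) (hx 0 3 (by decide))
        (hx 1 2 (by decide)) (hx 1 3 (by decide)) (hx 2 3 (by decide)) hg.1.2 hg.2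
        (h _ ha2) (h _ ha3)
    show a • g • y = g • y
    rw [← hcomm g hg, show a • y = y from hy]
  set M : Set Ω := (insert p (insert q F))ᶜ with hM
  have hmemM : ∀ y, y ∈ M ↔ y ≠ p ∧ y ≠ q ∧ a • y ≠ y := fun y => by simp [hM, hF, not_or]
  have haM : ∀ y ∈ M, a • y ∈ M := fun y hy => by
    rw [hmemM] at hy ⊢
    refine ⟨fun h => hy.2.1 (by rw [← haa' y, h, hap]), fun h => hy.1 (by rw [← haa' y, h, haq]),
      fun h => hy.2.2 (smul_left_cancel a h)⟩
  have hMc : M.Finite ∧ (M.ncard = 0 ∨ M.ncard = Nat.card H) := by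
    rcases M.eq_empty_or_nonempty with h | ⟨γ, hγ⟩
    · rw [h]; exact ⟨Set.finite_empty, Or.inl (Set.ncard_empty _)⟩
    have hγ' := (hmemM γ).1 hγ
    have haγ := (hmemM _).1 (haM γ hγ)
    have ho : orbit H γ = M := by
      apply Set.Subset.antisymm
      · intro y hy
        obtain ⟨g, hg, rfl⟩ := mem_orb.1 hy
        rw [hmemM]
        refine ⟨fun h => hγ'.1 (smul_left_cancel g (h.trans hg.1.2.symm)),
          fun h => hγ'.2.1 (smul_left_cancel g (h.trans hg.2.symm)), fun h => hγ'.2.2 ?_⟩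
        rw [← hcomm g hg] at h
        exact smul_left_cancel g h
      · intro β hβ
        have hβ' := (hmemM β).1 hβ
        have haβ := (hmemM _).1 (haM β hβ)
        obtain ⟨g, -, g1, g2, g3, g4⟩ := hmt.four le_rfl (Set.mem_univ p) (Set.mem_univ q)
          (Set.mem_univ γ) (Set.mem_univ (a • γ)) (Set.mem_univ p) (Set.mem_univ q)
          (Set.mem_univ β) (Set.mem_univ (a • β)) hpq hγ'.1.symm haγ.1.symm hγ'.2.1.symm
          haγ.2.1.symm hγ'.2.2.symm hpq hβ'.1.symm haβ.1.symm hβ'.2.1.symm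
          haβ.2.1.symm hβ'.2.2.symm
        refine mem_orb.2 ⟨g, ⟨⟨mem_centralizer_singleton_iff.2 ?_, g1⟩, g2⟩, g3⟩
        have := eq_one_of_sharp_four hsharp (g := g⁻¹ * a * g * a) hpq hγ'.1.symm haγ.1.symm
          hγ'.2.1.symm haγ.2.1.symm hγ'.2.2.symm
          (by simp only [mul_smul, hap, g2, haq, inv_smul_eq_iff, g1])
          (by simp only [mul_smul, hap, g2, haq, inv_smul_eq_iff, g1])
          (by simp only [mul_smul, haa', g3, g4, inv_smul_eq_iff])
          (by simp only [mul_smul, haa', g3, g4, inv_smul_eq_iff])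
        calc g * a = a * (a * g * a) := by rw [← mul_assoc, ← mul_assoc, haa, one_mul]
          _ = a * (g * (g⁻¹ * a * g * a)) := by group
          _ = a * g := by rw [this, mul_one]
    have h1 := ncard_orbit_mul H γ
    have h2 : H ⊓ stabilizer G γ = ⊥ := by
      rw [eq_bot_iff]
      intro g hg
      exact eq_one_of_sharp_four hsharp hpq hγ'.1.symm haγ.1.symm
        hγ'.2.1.symm haγ.2.1.symm hγ'.2.2.symm hg.1.1.2 hg.1.2 hg.2
        (by rw [hcomm g hg.1, show g • γ = γ from hg.2])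
    rw [h2, card_bot, mul_one, ho] at h1
    refine ⟨Set.finite_of_ncard_ne_zero ?_, Or.inr h1⟩
    rw [h1]
    exact fun h0 => Nat.factorial_ne_zero _ (Nat.eq_zero_of_zero_dvd (h0 ▸ hdvd))
  have hfin : Finite Ω := by
    rw [← Set.finite_univ_iff, ← Set.union_compl_self (insert p (insert q F))]
    exact ((hFfin.insert q).insert p).union hMc.1
  have hcard : Nat.card Ω = F.ncard + 2 + M.ncard := by
    rw [← Set.ncard_add_ncard_compl (insert p (insert q F)), Set.ncard_insert_of_notMem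
      (by simp [hpq, hpF]), Set.ncard_insert_of_notMem hqF]
  have : Fact (Nat.Prime 2) := ⟨Nat.prime_two⟩
  have heven := ncard_modEq_fixed_elt (p := 2) (n := 1) (t := a) (by rw [pow_one, pow_two, haa])
    hMc.1 haM
  rw [(Set.eq_empty_iff_forall_notMem (s := {y ∈ M | a • y = y})).2
    (fun y hy => ((hmemM y).1 hy.1).2.2 hy.2), Set.ncard_empty] at heven
  unfold Nat.ModEq at heven
  rcases hMc.2 with h | h
  · omega
  rw [← h] at hdvd
  rcases (by omega : F.ncard = 2 ∨ F.ncard = 3) with h1 | h1 <;> rw [h1] at hdvd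
  · have := Nat.le_of_dvd (by decide) hdvd
    simp only [Nat.factorial] at this
    omega
  · have h6 : M.ncard ∣ 6 := hdvd
    have := Nat.le_of_dvd (by decide) h6
    have : M.ncard ≠ 4 := fun h => by rw [h] at h6; norm_num at h6
    omega

end H14
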