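import Mathlib
import Cfsg.Agent.H14.Tits

/-! Quadruply transitive groups in which only the identity fixes five points. -/

set_option autoImplicit false
set_option linter.unusedSectionVars false

namespace H14

open MulAction Subgroup

variable {G : Type*} [Group G] {Ω : Type*} [MulAction G Ω]

variable (G Ω) in
/-- Only the identity fixes `k` points. -/
def NoFix (k : ℕ) : Prop :=
  ∀ (g : G) (s : Finset Ω), s.card = k → (∀ x ∈ s, g • x = x) → g = 1

variable (G Ω) in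
/-- No involution fixes `k` points. -/
def InvFix (k : ℕ) : Prop :=
  ∀ (g : G) (s : Finset Ω), g * g = 1 → s.card = k → (∀ x ∈ s, g • x = x) → g = 1

theorem InvFix.odd [Finite G] {k : ℕ} (h : InvFix G Ω k) {g : G} {s : Finset Ω} (hs : s.card = k)
    (hg : ∀ x ∈ s, g • x = x) : Odd (orderOf g) := by
  refine Nat.not_even_iff_odd.1 fun ⟨m, hm⟩ => ?_
  have h0 := orderOf_pos g
  have := h (g ^ m) s (by rw [← pow_add, ← hm, pow_orderOf_eq_one]) hs
    fun x hx => (stabilizer G x).pow_mem (hg x hx) m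
  exact pow_ne_one_of_lt_orderOf (by omega) (by omega) this

theorem InvFix.odd_four [Finite G] (h : InvFix G Ω 4) {g : G} {a b c d : Ω} (hab : a ≠ b)
    (hac : a ≠ c) (had : a ≠ d) (hbc : b ≠ c) (hbd : b ≠ d) (hcd : c ≠ d) (ha : g • a = a)
    (hb : g • b = b) (hc : g • c = c) (hd : g • d = d) : Odd (orderOf g) := by
  classical
  exact h.odd (s := {a, b, c, d}) (by simp [hab, hac, had, hbc, hbd, hcd]) (by simp [*])

theorem NoFix.five (h : NoFix G Ω 5) {g : G} {a b c d e : Ω} (hab : a ≠ b)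
    (hac : a ≠ c) (had : a ≠ d) (hae : a ≠ e) (hbc : b ≠ c) (hbd : b ≠ d) (hbe : b ≠ e)
    (hcd : c ≠ d) (hce : c ≠ e) (hde : d ≠ e) (ha : g • a = a)
    (hb : g • b = b) (hc : g • c = c) (hd : g • d = d) (he : g • e = e) : g = 1 := by
  classical
  exact h g {a, b, c, d, e} (by simp [hab, hac, had, hbc, hbd, hcd, hae, hbe, hce, hde])
    (by simp [*])

theorem smul_eq_of_odd {g : G} (hg : Odd (orderOf g)) {x : Ω} (h : g • g • x = x) : g • x = x := by
  obtain ⟨m, hm⟩ := hg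
  have h1 : (g * g) ^ m ∈ stabilizer G x := (stabilizer G x).pow_mem (by rwa [← mul_smul] at h) m
  have h2 : g * (g * g) ^ m = 1 := by rw [← sq, ← pow_mul, ← pow_succ', ← hm, pow_orderOf_eq_one]
  rw [← mem_stabilizer_iff.1 h1, ← mul_smul, h2, one_smul, mem_stabilizer_iff.1 h1]

theorem eq_one_of_odd {g : G} (hg : Odd (orderOf g)) (h : g * g = 1) : g = 1 :=
  by simpa using smul_eq_of_odd (Ω := G) hg (x := 1) (by simpa using h)

theorem exists_invol_of_odd {g : G} (hg : Odd (orderOf (g * g))) :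
    ∃ a : G, a * a = 1 ∧ ∀ x : Ω, g • g • x = x → a • x = g • x := by
  refine ⟨g ^ orderOf (g * g), by rw [← (Commute.refl g).mul_pow, pow_orderOf_eq_one],
    fun x hx => ?_⟩
  obtain ⟨m, hm⟩ := hg
  have h1 : (g * g) ^ m ∈ stabilizer G x := (stabilizer G x).pow_mem (by rwa [← mul_smul] at hx) m
  rw [hm, pow_succ', pow_mul, sq, mul_smul, mem_stabilizer_iff.1 h1]

theorem exists_conj_invol {a b : G} (ha : a * a = 1) (hb : b * b = 1) (h : Odd (orderOf (a * b))) :
    ∃ n : ℕ, (a * b) ^ n * a = b * (a * b) ^ n := by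
  obtain ⟨m, hm⟩ := h
  have h1 : a * (a * b) ^ m * a⁻¹ = ((a * b) ^ m)⁻¹ := by
    rw [← conj_pow, ← inv_pow, mul_inv_rev, inv_eq_of_mul_eq_one_right ha,
      inv_eq_of_mul_eq_one_right hb, ← mul_assoc, ha, one_mul]
  have h2 : (a * b) ^ m * ((a * b) ^ m * (a * b)) = 1 := by
    rw [← mul_assoc, ← pow_add, ← pow_succ, ← two_mul, ← hm, pow_orderOf_eq_one]
  refine ⟨m, ?_⟩
  rw [inv_eq_of_mul_eq_one_right h2, inv_eq_of_mul_eq_one_right ha] at h1
  have h3 : b * ((a * b) ^ m) = a * ((a * b) * (a * b) ^ m) := by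
    rw [← mul_assoc, ← mul_assoc, ha, one_mul]
  rw [h3, ← pow_succ', pow_succ, ← h1, ← mul_assoc, ← mul_assoc, ha, one_mul]

theorem card_dvd_ncard_of_free {H : Subgroup G} {F : Set Ω} (hP : Pres H F)
    (h : ∀ g ∈ H, ∀ x ∈ F, g • x = x → g = 1) : Nat.card H ∣ F.ncard := by
  let S : SubMulAction H Ω := ⟨F, fun g _ hx => hP g g.2 _ hx⟩
  have h1 : Nat.card S = F.ncard := rfl
  rw [← h1, Nat.card_congr (selfEquivOrbitsQuotientProd (G := H) (X := S) fun b =>
    eq_bot_iff.2 fun g hg => Subtype.ext (h g g.2 b b.2 (congrArg Subtype.val hg))), Nat.card_prod]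
  exact Dvd.intro_left _ rfl

section
variable [Finite G] (h4 : MT (⊤ : Subgroup G) (Set.univ : Set Ω) 4) (hi : InvFix G Ω 4)
  {a : G} (haa : a * a = 1) {p q : Ω} (hpq : p ≠ q) (hap : a • p = q)
include h4 hi haa hpq hap

theorem hall_orbit {γ : Ω} (hγ : γ ∈ {y | y ≠ p ∧ y ≠ q ∧ a • y ≠ y}) :
    orbit ↥(centralizer {a} ⊓ stabilizer G p ⊓ stabilizer G q) γ =
      {y | y ≠ p ∧ y ≠ q ∧ a • y ≠ y} := by
  have haa' : ∀ y : Ω, a • a • y = y := fun y => by rw [← mul_smul, haa, one_smul]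
  have haq : a • q = p := by rw [← hap, haa']
  have hM : ∀ y : Ω, y ≠ p → y ≠ q → a • y ≠ p ∧ a • y ≠ q := fun y h1 h2 =>
    ⟨fun h => h2 (by rw [← haa' y, h, hap]), fun h => h1 (by rw [← haa' y, h, haq])⟩
  apply Set.Subset.antisymm
  · intro y hy
    obtain ⟨g, hg, rfl⟩ := mem_orb.1 hy
    refine ⟨fun h => hγ.1 (smul_left_cancel g (h.trans hg.1.2.symm)),
      fun h => hγ.2.1 (smul_left_cancel g (h.trans hg.2.symm)), fun h => hγ.2.2 ?_⟩
    rw [← mul_smul, ← mem_centralizer_singleton_iff.1 hg.1.1, mul_smul] at h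
    exact smul_left_cancel g h
  · intro β hβ
    have haγ := hM γ hγ.1 hγ.2.1
    have haβ := hM β hβ.1 hβ.2.1
    obtain ⟨g, -, g1, g2, g3, g4⟩ := h4.four le_rfl (Set.mem_univ p) (Set.mem_univ q)
      (Set.mem_univ γ) (Set.mem_univ (a • γ)) (Set.mem_univ p) (Set.mem_univ q)
      (Set.mem_univ β) (Set.mem_univ (a • β)) hpq hγ.1.symm haγ.1.symm hγ.2.1.symm
      haγ.2.symm hγ.2.2.symm hpq hβ.1.symm haβ.1.symm hβ.2.1.symm haβ.2.symm hβ.2.2.symm
    have e1 : (a * (g⁻¹ * a * g)) • p = p := by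
      rw [mul_smul, mul_smul, mul_smul, g1, hap, ← g2, inv_smul_smul, haq]
    have e2 : (a * (g⁻¹ * a * g)) • q = q := by
      rw [mul_smul, mul_smul, mul_smul, g2, haq, ← g1, inv_smul_smul, hap]
    have e3 : (a * (g⁻¹ * a * g)) • γ = γ := by
      rw [mul_smul, mul_smul, mul_smul, g3, ← g4, inv_smul_smul, haa']
    have e4 : (a * (g⁻¹ * a * g)) • a • γ = a • γ := by
      rw [mul_smul, mul_smul, mul_smul, g4, haa', ← g3, inv_smul_smul]
    obtain ⟨n, hn⟩ := exists_conj_invol haa (b := g⁻¹ * a * g)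
      (by rw [show g⁻¹ * a * g * (g⁻¹ * a * g) = g⁻¹ * (a * a) * g by group, haa]; group)
      (hi.odd_four hpq hγ.1.symm haγ.1.symm hγ.2.1.symm haγ.2.symm hγ.2.2.symm e1 e2 e3 e4)
    refine mem_orb.2 ⟨g * (a * (g⁻¹ * a * g)) ^ n, ⟨⟨mem_centralizer_singleton_iff.2 ?_,
      mul_mem g1 (pow_mem e1 n)⟩, mul_mem g2 (pow_mem e2 n)⟩, ?_⟩
    · rw [mul_assoc, hn]; group
    · rw [mul_smul, mem_stabilizer_iff.1 ((stabilizer G γ).pow_mem e3 n), g3]

theorem hall_even [Finite Ω] (h5 : NoFix G Ω 5) {r s : Ω} (hrs : r ≠ s)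
    (hF : ∀ y, a • y = y ↔ y = r ∨ y = s) {γ : Ω} (hγ : γ ∈ {y | y ≠ p ∧ y ≠ q ∧ a • y ≠ y}) :
    (∀ x : G, x • p = p → x • q = q → x • r = r → x • s = s → x * a = a * x) ∧
    (∃ b : G, b * b = 1 ∧ b * a = a * b ∧ b • p = p ∧ b • q = q ∧ b • γ = a • γ) ∧
    ((∀ x : G, x • p = p → x • q = q → x • r = r → x • s = s → x = 1) →
      {y | y ≠ p ∧ y ≠ q ∧ a • y ≠ y}.ncard ≤ 2) := by
  have haa' : ∀ y : Ω, a • a • y = y := fun y => by rw [← mul_smul, haa, one_smul]
  have haq : a • q = p := by rw [← hap, haa']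
  have hM : ∀ y : Ω, y ≠ p → y ≠ q → a • y ≠ p ∧ a • y ≠ q := fun y h1 h2 =>
    ⟨fun h => h2 (by rw [← haa' y, h, hap]), fun h => h1 (by rw [← haa' y, h, haq])⟩
  have har : a • r = r := (hF r).2 (Or.inl rfl)
  have has : a • s = s := (hF s).2 (Or.inr rfl)
  have hpr : p ≠ r := by rintro rfl; exact hpq (har.symm.trans hap)
  have hps : p ≠ s := by rintro rfl; exact hpq (has.symm.trans hap)
  have hqr : q ≠ r := by rintro rfl; exact hpq (haq.symm.trans har)
  have hqs : q ≠ s := by rintro rfl; exact hpq (haq.symm.trans has)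
  set M := {y | y ≠ p ∧ y ≠ q ∧ a • y ≠ y} with hMdef
  have hfree : ∀ x : G, x • p = p → x • q = q → x • r = r → x • s = s → ∀ y ∈ M, x • y = y →
      x = 1 := fun x h1 h2 h3 h4 y hy h =>
    h5.five hpq hpr hps hy.1.symm hqr hqs hy.2.1.symm hrs (by rintro rfl; exact hy.2.2 har)
      (by rintro rfl; exact hy.2.2 has) h1 h2 h3 h4 h
  have ho := hall_orbit h4 hi haa hpq hap hγ
  set L := centralizer {a} ⊓ stabilizer G p ⊓ stabilizer G q with hL
  have hcomm : ∀ g ∈ L, ∀ y : Ω, g • a • y = a • g • y := fun g hg y => by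
    rw [← mul_smul, mem_centralizer_singleton_iff.1 hg.1.1, mul_smul]
  have hLF : ∀ g ∈ L, ∀ y, y = r ∨ y = s → g • y = r ∨ g • y = s := fun g hg y hy => by
    rw [← hF] at hy ⊢
    rw [← hcomm g hg, hy]
  have hs : ∀ g ∈ L, g • r = r → g • s = s := fun g hg h =>
    (hLF g hg s (Or.inr rfl)).resolve_left fun h' => hrs (smul_left_cancel g (h.trans h'.symm))
  have hreg : ∀ g ∈ L, g • γ = γ → g = 1 := fun g hg h => by
    have haγ := hM γ hγ.1 hγ.2.1
    have h1 := hi.odd_four hpq hγ.1.symm haγ.1.symm hγ.2.1.symm haγ.2.symm hγ.2.2.symm hg.1.2 hg.2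
      h (by rw [hcomm g hg, h])
    have h2 : g • r = r := by
      rcases hLF g hg r (Or.inl rfl) with h2 | h2
      · exact h2
      refine smul_eq_of_odd h1 ?_
      rw [h2]
      exact (hLF g hg s (Or.inr rfl)).resolve_right fun h' =>
        hrs (smul_left_cancel g (h2.trans h'.symm))
    exact hfree g hg.1.2 hg.2 h2 (hs g hg h2) γ hγ h
  have hc1 : M.ncard = Nat.card L := by
    have h1 := ncard_orbit_mul L γ
    rwa [show L ⊓ stabilizer G γ = ⊥ from eq_bot_iff.2 fun g hg => hreg g hg.1 hg.2, card_bot,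
      mul_one, ho] at h1
  have hc2 := ncard_orbit_mul L r
  have hc3 : (orbit L r).ncard ∣ 2 := by
    have h1 : (orbit L r).ncard ≤ 2 := by
      rw [← Set.ncard_pair hrs]
      refine Set.ncard_le_ncard fun y hy => ?_
      obtain ⟨g, hg, rfl⟩ := mem_orb.1 hy
      exact hLF g hg r (Or.inl rfl)
    have h2 : 0 < (orbit L r).ncard := (Set.ncard_pos).2 ⟨r, mem_orbit_self r⟩
    interval_cases (orbit L r).ncard <;> norm_num
  let D := stabilizer G p ⊓ stabilizer G q ⊓ stabilizer G r ⊓ stabilizer G s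
  have hle : L ⊓ stabilizer G r ≤ D := fun g hg => ⟨⟨⟨hg.1.1.2, hg.1.2⟩, hg.2⟩, hs g hg.1 hg.2⟩
  have hD : Nat.card D ∣ M.ncard := by
    refine card_dvd_ncard_of_free (fun g hg y hy => ⟨fun h => hy.1 (smul_left_cancel g
      (h.trans hg.1.1.1.symm)), fun h => hy.2.1 (smul_left_cancel g (h.trans hg.1.1.2.symm)),
      fun h => hy.2.2 ((hF y).2 ?_)⟩) fun g hg y hy => hfree g hg.1.1.1 hg.1.1.2 hg.1.2 hg.2 y hy
    exact ((hF _).1 h).imp (fun h => smul_left_cancel g (h.trans hg.1.2.symm))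
      fun h => smul_left_cancel g (h.trans hg.2.symm)
  have hDo : (Nat.card D).Coprime 2 := by
    refine (Nat.Coprime.symm ((Nat.Prime.coprime_iff_not_dvd Nat.prime_two).2 fun h => ?_))
    obtain ⟨g, hg, hg2⟩ := exists_mem_orderOf_eq Nat.prime_two h
    have := hi.odd_four hpq hpr hps hqr hqs hrs hg.1.1.1 hg.1.1.2 hg.1.2 hg.2
    rw [hg2] at this
    exact absurd this (by decide)
  have hEq : L ⊓ stabilizer G r = D := by
    refine eq_of_le_of_card_ge hle (Nat.le_of_dvd Nat.card_pos ?_)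
    rw [hc1, ← hc2] at hD
    exact (hDo.coprime_dvd_right hc3).dvd_of_dvd_mul_left hD
  refine ⟨fun x h1 h2 h3 h4 => ?_, ?_, fun h => ?_⟩
  · exact mem_centralizer_singleton_iff.1 (hEq.ge (show x ∈ D from ⟨⟨⟨h1, h2⟩, h3⟩, h4⟩)).1.1.1
  · have haγ := hM γ hγ.1 hγ.2.1
    obtain ⟨b, hb, hbγ⟩ := mem_orb.1 (ho.ge (show a • γ ∈ M from
      ⟨haγ.1, haγ.2, fun h => hγ.2.2 (smul_left_cancel a h)⟩))
    exact ⟨b, hreg _ (mul_mem hb hb) (by rw [mul_smul, hbγ, hcomm b hb, hbγ, haa']),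
      mem_centralizer_singleton_iff.1 hb.1.1, hb.1.2, hb.2, hbγ⟩
  · have : D = ⊥ := eq_bot_iff.2 fun g hg => h g hg.1.1.1 hg.1.1.2 hg.1.2 hg.2
    rw [hc1, ← hc2, hEq, this, card_bot, mul_one]
    exact Nat.le_of_dvd two_pos hc3

end

theorem ncard_fix_modEq [Finite Ω] {a : G} (haa : a * a = 1) :
    Nat.card Ω ≡ {y : Ω | a • y = y}.ncard [MOD 2] := by
  have : Fact (Nat.Prime 2) := ⟨Nat.prime_two⟩
  simpa using ncard_modEq_fixed_elt (p := 2) (n := 1) (t := a) (by rw [pow_one, pow_two, haa])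
    (Set.finite_univ (α := Ω)) (fun _ _ => Set.mem_univ _)

theorem InvFix.ncard_le [Finite Ω] {k : ℕ} (hi : InvFix G Ω (k + 1)) {a : G} (haa : a * a = 1)
    (ha : a ≠ 1) : {y : Ω | a • y = y}.ncard ≤ k := by
  by_contra hlt
  obtain ⟨t, htF, ht⟩ := Set.exists_subset_card_eq (s := {y : Ω | a • y = y}) (n := k + 1)
    (by omega)
  exact ha (hi a (Set.toFinite t).toFinset haa (by rw [← ht, Set.ncard_eq_toFinset_card])
    fun x hx => htF (by simpa using hx))

theorem hall_four [Finite G] [Finite Ω] (h4 : MT (⊤ : Subgroup G) (Set.univ : Set Ω) 4)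
    (hn : 4 ≤ Nat.card Ω) (h5 : NoFix G Ω 5) (hi : InvFix G Ω 4) :
    Nat.card Ω = 4 ∨ Nat.card Ω = 5 ∨ Nat.card Ω = 6 ∨ Nat.card Ω = 7 ∨ Nat.card Ω = 11 := by
  classical
  obtain ⟨t, -, ht⟩ := Set.exists_subset_card_eq (s := (Set.univ : Set Ω)) (n := 4)
    (by rwa [Set.ncard_univ])
  obtain ⟨p, q, r, s, hpq, hpr, hps, hqr, hqs, hrs, -⟩ := Set.ncard_eq_four.1 ht
  obtain ⟨g, -, g1, g2, g3, g4⟩ := h4.four le_rfl (Set.mem_univ p) (Set.mem_univ q)
    (Set.mem_univ r) (Set.mem_univ s) (Set.mem_univ q) (Set.mem_univ p)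
    (Set.mem_univ r) (Set.mem_univ s) hpq hpr hps hqr hqs hrs hpq.symm hqr hqs hpr hps hrs
  obtain ⟨a, haa, ha⟩ := exists_invol_of_odd (Ω := Ω) (g := g) (hi.odd_four hpq hpr hps hqr hqs hrs
    (by rw [mul_smul, g1, g2]) (by rw [mul_smul, g2, g1]) (by rw [mul_smul, g3, g3])
    (by rw [mul_smul, g4, g4]))
  have hap : a • p = q := by rw [ha p (by rw [g1, g2]), g1]
  have haq : a • q = p := by rw [ha q (by rw [g2, g1]), g2]
  have har : a • r = r := by rw [ha r (by rw [g3, g3]), g3]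
  have has : a • s = s := by rw [ha s (by rw [g4, g4]), g4]
  have haa' : ∀ y : Ω, a • a • y = y := fun y => by rw [← mul_smul, haa, one_smul]
  set F : Set Ω := {y | a • y = y} with hF
  set M := {y | y ≠ p ∧ y ≠ q ∧ a • y ≠ y} with hMdef
  have hpF : p ∉ F := fun h => hpq (h.symm.trans hap)
  have hqF : q ∉ F := fun h => hpq (haq.symm.trans h)
  have hF3 : F.ncard ≤ 3 := hi.ncard_le haa (by rintro rfl; exact hpF (one_smul _ _))
  have hsub : {r, s} ⊆ F := by rintro y (rfl | rfl) <;> assumption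
  have hF2 : 2 ≤ F.ncard := by
    rw [← Set.ncard_pair hrs]
    exact Set.ncard_le_ncard hsub
  have hcard : Nat.card Ω = F.ncard + 2 + M.ncard := by
    rw [← Set.ncard_add_ncard_compl (insert p (insert q F)), Set.ncard_insert_of_notMem
      (by simp [hpq, hpF]), Set.ncard_insert_of_notMem hqF]
    congr 2
    ext y
    simp [hMdef, hF, not_or]
  have hpar := ncard_fix_modEq (Ω := Ω) haa
  unfold Nat.ModEq at hpar
  rw [← hF] at hpar
  rcases M.eq_empty_or_nonempty with h | ⟨γ, hγ⟩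
  · rw [h, Set.ncard_empty] at hcard
    omega
  rcases (by omega : F.ncard = 2 ∨ F.ncard = 3) with h1 | h1
  · have hFe : ∀ y, a • y = y ↔ y = r ∨ y = s := fun y => by
      have := Set.eq_of_subset_of_ncard_le hsub (by rw [h1, Set.ncard_pair hrs])
      exact (Set.ext_iff.1 this y).symm
    obtain ⟨hc, ⟨b, hbb, hba, hbp, hbq, hbγ⟩, hle⟩ := hall_even h4 hi haa hpq hap h5 hrs hFe hγ
    have hγr : γ ≠ r := by rintro rfl; exact hγ.2.2 har
    have hγs : γ ≠ s := by rintro rfl; exact hγ.2.2 has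
    have hb1 : b ≠ 1 := by rintro rfl; exact hγ.2.2 (hbγ.symm.trans (one_smul _ _))
    have hbF : ∀ y, y = r ∨ y = s → b • y = r ∨ b • y = s := fun y hy => by
      rw [← hFe] at hy ⊢
      rw [← mul_smul, ← hba, mul_smul, hy]
    have hbr : b • r = s := (hbF r (Or.inl rfl)).resolve_left fun h => hb1 (eq_one_of_odd
      (hi.odd_four hpq hpr hps hqr hqs hrs hbp hbq h ((hbF s (Or.inr rfl)).resolve_left fun h' =>
        hrs (smul_left_cancel b (h.trans h'.symm)))) hbb)
    have hFb : ∀ y, b • y = y ↔ y = p ∨ y = q := fun y => by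
      have h2 := ncard_fix_modEq (Ω := Ω) hbb
      have h3 := hi.ncard_le hbb hb1
      unfold Nat.ModEq at h2
      have := Set.eq_of_subset_of_ncard_le (show {p, q} ⊆ {y : Ω | b • y = y} by
        rintro y (rfl | rfl) <;> assumption) (by rw [Set.ncard_pair hpq]; omega)
      exact (Set.ext_iff.1 this y).symm
    obtain ⟨hc', -, -⟩ := hall_even h4 hi hbb hrs hbr h5 hpq hFb (γ := γ)
      ⟨hγr, hγs, by rw [hbγ]; exact hγ.2.2⟩
    have := hle fun x x1 x2 x3 x4 => by
      by_contra hx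
      have hxγ : x • γ ≠ γ := fun h => hx (h5.five hpq hpr hps hγ.1.symm hqr hqs hγ.2.1.symm hrs
        hγr.symm hγs.symm x1 x2 x3 x4 h)
      have hxa : ∀ y : Ω, x • a • y = a • x • y := fun y => by
        rw [← mul_smul, hc x x1 x2 x3 x4, mul_smul]
      have hxb : ∀ y : Ω, x • b • y = b • x • y := fun y => by
        rw [← mul_smul, hc' x x3 x4 x1 x2, mul_smul]
      have hab : ∀ y : Ω, b • a • y = a • b • y := fun y => by rw [← mul_smul, hba, mul_smul]
      have hne : x • γ ≠ a • γ := fun h => hγ.2.2 (h.symm.trans (smul_eq_of_odd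
        (hi.odd_four hpq hpr hps hqr hqs hrs x1 x2 x3 x4) (by rw [h, hxa, h, haa'])))
      have e1 : (a * b) • γ = γ := by rw [mul_smul, hbγ, haa']
      have e2 : (a * b) • x • γ = x • γ := by rw [mul_smul, ← hxb, ← hxa, hbγ, haa']
      have := eq_one_of_odd (hi.odd_four (g := a * b) (a := γ) (b := x • γ) (c := a • γ)
        (d := a • x • γ) hxγ.symm hγ.2.2.symm (fun h => hne (by rw [← haa' (x • γ), ← h])) hne
        (fun h => hγ.2.2 (smul_left_cancel x (by rw [hxa, ← h])))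
        (fun h => hxγ (smul_left_cancel a h).symm) e1 e2
        (by rw [mul_smul, hab, ← mul_smul a b, e1]) (by rw [mul_smul, hab, ← mul_smul a b, e2]))
        (by rw [mul_assoc, ← mul_assoc b, hba, mul_assoc, hbb, mul_one, haa])
      exact hpq (by rw [← hap, ← hbp, ← mul_smul, this, one_smul, hbp])
    rw [← hMdef] at this
    omega
  · have ho := hall_orbit h4 hi haa hpq hap hγ
    have h2 := ncard_orbit_mul (centralizer {a} ⊓ stabilizer G p ⊓ stabilizer G q) γ
    rw [ho] at h2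
    have hdvd : Nat.card ↥(centralizer {a} ⊓ stabilizer G p ⊓ stabilizer G q) ∣ F.ncard.factorial := by
      refine card_dvd_factorial_of_pres (Set.toFinite _) (fun g hg y hy => ?_) fun g hg h => ?_
      · show a • g • y = g • y
        rw [← mul_smul, ← mem_centralizer_singleton_iff.1 hg.1.1, mul_smul, show a • y = y from hy]
      · refine h5 g (insert p (insert q (Set.toFinite F).toFinset)) ?_ fun x hx => ?_
        · rw [Finset.card_insert_of_notMem (by simp [hpq, hpF]),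
            Finset.card_insert_of_notMem (by simp [hqF]), ← Set.ncard_eq_toFinset_card, h1]
        · simp only [Finset.mem_insert, Set.Finite.mem_toFinset] at hx
          rcases hx with rfl | rfl | hx
          · exact hg.1.2
          · exact hg.2
          · exact h x hx
    have h6 : M.ncard ∣ 6 := (Dvd.intro _ h2).trans (by rwa [h1] at hdvd)
    have := Nat.le_of_dvd (by decide) h6
    have : M.ncard ≠ 4 := fun h => by rw [h] at h6; norm_num at h6
    omega

end H14
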