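import Mathlib
import Cfsg.Agent.H7.Cay

/-! Coordinates on the extraspecial group `2^{1+6}_+`: 7-bit codes. -/

set_option autoImplicit false

namespace H14.He

open H29 H7.Cay

/-- product of codes. -/
def mulQ (n m : ℕ) : ℕ :=
  Nat.xor (Nat.xor n m)
    (Nat.land (Nat.shiftRight 9600 (Nat.land (Nat.land (Nat.shiftRight n 3) m) 7)) 64)

/-- inverse of a code. -/
def invQ (n : ℕ) : ℕ := Nat.xor n (mulQ n n)

theorem testBit_mulQ_lt (n m : ℕ) {i : ℕ} (hi : i ≠ 6) :
    (mulQ n m).testBit i = (n.testBit i ^^ m.testBit i) := by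
  have h : Nat.testBit 64 i = false := by
    rw [show 64 = 2 ^ 6 from rfl, Nat.testBit_two_pow]; simpa using hi.symm
  simp only [mulQ, xor_eq, land_eq, Nat.testBit_xor, Nat.testBit_and, h, Bool.and_false,
    Bool.xor_false]

theorem testBit_mulQ_six (n m : ℕ) :
    (mulQ n m).testBit 6 = ((n.testBit 6 ^^ m.testBit 6) ^^ ((n.testBit 3 && m.testBit 0) ^^
      ((n.testBit 4 && m.testBit 1) ^^ (n.testBit 5 && m.testBit 2)))) := by
  have h : ∀ k < 8, ((9600 >>> k) &&& 64).testBit 6 =
      (k.testBit 0 ^^ (k.testBit 1 ^^ k.testBit 2)) := by decide +kernel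
  have h7 : ∀ i < 3, Nat.testBit 7 i = true := by decide
  simp only [mulQ, xor_eq, land_eq, shr_eq, Nat.testBit_xor]
  rw [h _ (Nat.and_lt_two_pow _ (n := 3) (by norm_num))]
  simp only [Nat.testBit_and, Nat.testBit_shiftRight, h7 0 (by norm_num), h7 1 (by norm_num),
    h7 2 (by norm_num), Bool.and_true]

theorem mulQ_lt {n m : ℕ} (hn : n < 128) (hm : m < 128) : mulQ n m < 128 :=
  Nat.xor_lt_two_pow (n := 7) (Nat.xor_lt_two_pow (n := 7) hn hm)
    (Nat.and_lt_two_pow _ (n := 7) (by norm_num))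

theorem invQ_lt {n : ℕ} (hn : n < 128) : invQ n < 128 :=
  Nat.xor_lt_two_pow (n := 7) hn (mulQ_lt hn hn)

variable {H : Type*} [Group H]

/-- an element or the identity. -/
def bp (g : H) (b : Bool) : H := cond b g 1

/-- the element with a given code. -/
def th (e : ℕ → H) (n : ℕ) : H :=
  bp (e 0) (n.testBit 0) * (bp (e 1) (n.testBit 1) * (bp (e 2) (n.testBit 2) *
    (bp (e 3) (n.testBit 3) * (bp (e 4) (n.testBit 4) * (bp (e 5) (n.testBit 5) *
      bp (e 6) (n.testBit 6))))))

/-- the relations of the extraspecial group. -/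
structure Heis (e : ℕ → H) : Prop where
  sq : ∀ i < 7, e i * e i = 1
  comm : ∀ i < 7, ∀ k < i, (i = k + 3 → k = 3) → e i * e k = e k * e i
  pair : ∀ i < 3, e (i + 3) * e i = e i * (e (i + 3) * e 6)

theorem bp_mul {g : H} (h : g * g = 1) (b c : Bool) (r : H) :
    bp g b * (bp g c * r) = bp g (b ^^ c) * r := by
  cases b <;> cases c <;> simp [bp, ← mul_assoc, h]

theorem bp_comm {g k : H} (h : g * k = k * g) (b c : Bool) (r : H) :
    bp g b * (bp k c * r) = bp k c * (bp g b * r) := by
  cases b <;> cases c <;> simp [bp, ← mul_assoc, h]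

theorem bp_pair {g k t : H} (h : g * k = k * (g * t)) (b c : Bool) (r : H) :
    bp g b * (bp k c * r) = bp k c * (bp g b * (bp t (b && c) * r)) := by
  cases b <;> cases c <;> simp [bp, ← mul_assoc, h]

variable {e : ℕ → H}

theorem Heis.th_mul (h : Heis e) (n m : ℕ) : th e n * th e m = th e (mulQ n m) := by
  have c := fun i k (hi : i < 7) (hk : k < i) (hik : i = k + 3 → k = 3) =>
    bp_comm (h.comm i hi k hk hik)
  have key : ∀ r : H, th e n * (th e m * r) = th e (mulQ n m) * r := by
    intro r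
    simp only [th, mul_assoc, testBit_mulQ_lt n m (show 0 ≠ 6 by decide),
      testBit_mulQ_lt n m (show 1 ≠ 6 by decide), testBit_mulQ_lt n m (show 2 ≠ 6 by decide),
      testBit_mulQ_lt n m (show 3 ≠ 6 by decide), testBit_mulQ_lt n m (show 4 ≠ 6 by decide),
      testBit_mulQ_lt n m (show 5 ≠ 6 by decide), testBit_mulQ_six]
    simp only [bp_mul (h.sq 0 (by decide)), bp_mul (h.sq 1 (by decide)),
      bp_mul (h.sq 2 (by decide)), bp_mul (h.sq 3 (by decide)), bp_mul (h.sq 4 (by decide)),
      bp_mul (h.sq 5 (by decide)), bp_mul (h.sq 6 (by decide)),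
      bp_pair (h.pair 0 (by decide)), bp_pair (h.pair 1 (by decide)),
      bp_pair (h.pair 2 (by decide)),
      c 1 0 (by decide) (by decide) (by decide), c 2 0 (by decide) (by decide) (by decide),
      c 2 1 (by decide) (by decide) (by decide), c 3 1 (by decide) (by decide) (by decide),
      c 3 2 (by decide) (by decide) (by decide), c 4 0 (by decide) (by decide) (by decide),
      c 4 2 (by decide) (by decide) (by decide), c 4 3 (by decide) (by decide) (by decide),
      c 5 0 (by decide) (by decide) (by decide), c 5 1 (by decide) (by decide) (by decide),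
      c 5 3 (by decide) (by decide) (by decide), c 5 4 (by decide) (by decide) (by decide),
      c 6 0 (by decide) (by decide) (by decide), c 6 1 (by decide) (by decide) (by decide),
      c 6 2 (by decide) (by decide) (by decide), c 6 3 (by decide) (by decide) (by decide),
      c 6 4 (by decide) (by decide) (by decide), c 6 5 (by decide) (by decide) (by decide)]
    congr 8
    generalize n.testBit 6 = a, m.testBit 6 = b, (n.testBit 3 && m.testBit 0) = c,
      (n.testBit 4 && m.testBit 1) = d, (n.testBit 5 && m.testBit 2) = f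
    revert a b c d f
    decide
  simpa using key 1

theorem th_zero : th e 0 = 1 := by simp [th, bp]

theorem th_pow {i : ℕ} (hi : i < 7) : th e (2 ^ i) = e i := by
  simp only [th, bp, Nat.testBit_two_pow]
  interval_cases i <;> simp

theorem th_64 : th e 64 = e 6 := th_pow (i := 6) (by norm_num)

theorem Heis.th_inv (h : Heis e) {n : ℕ} (hn : n < 128) : th e (invQ n) = (th e n)⁻¹ := by
  have : ∀ n < 128, mulQ n (invQ n) = 0 := by decide +kernel
  rw [eq_inv_iff_mul_eq_one, mul_eq_one_comm, h.th_mul, this n hn, th_zero]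

theorem Heis.th_eq_one (h : Heis e) (h6 : e 6 ≠ 1) {n : ℕ} (hn : n < 128) (h1 : th e n = 1) :
    n = 0 := by
  have : ∀ n < 128, n = 0 ∨ n = 64 ∨ ∃ i < 6, mulQ n (2 ^ i) = mulQ (mulQ (2 ^ i) n) 64 := by
    decide +kernel
  rcases this n hn with h0 | rfl | ⟨i, hi, h2⟩
  · exact h0
  · exact absurd (th_64.symm.trans h1) h6
  · have := congrArg (th e) h2
    rw [← h.th_mul, ← h.th_mul, ← h.th_mul, h1, th_64, one_mul, mul_one] at this
    exact absurd (by simpa using this) h6

theorem Heis.th_inj (h : Heis e) (h6 : e 6 ≠ 1) {n m : ℕ} (hn : n < 128) (hm : m < 128)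
    (h1 : th e n = th e m) : n = m := by
  have : ∀ n < 128, ∀ m < 128, mulQ (invQ n) m = 0 → n = m := by decide +kernel
  refine this n hn m hm (h.th_eq_one h6 (mulQ_lt (invQ_lt hn) hm) ?_)
  rw [← h.th_mul, h.th_inv hn, h1, inv_mul_cancel]

theorem Heis.th_six (h : Heis e) (n : ℕ) : e 6 * th e n = th e n * e 6 := by
  have : ∀ i, (mulQ 64 n).testBit i = (mulQ n 64).testBit i := fun i => by
    by_cases hi : i = 6
    · subst hi
      have h0 : ∀ i < 6, Nat.testBit 64 i = false := by decide
      simp [testBit_mulQ_six, h0, Bool.xor_comm]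
    · simp [testBit_mulQ_lt _ _ hi, Bool.xor_comm]
  rw [← th_64 (e := e), h.th_mul, h.th_mul, Nat.eq_of_testBit_eq this]

/-- a code or zero. -/
def sel (n i c : ℕ) : ℕ := cond (n.testBit i) c 0

/-- the map on codes with the given packed images of the basis. -/
noncomputable def ap (T n : ℕ) : ℕ := lit n fun n =>
  mulQ (sel n 0 (pk T 7 0)) (mulQ (sel n 1 (pk T 7 1)) (mulQ (sel n 2 (pk T 7 2))
    (mulQ (sel n 3 (pk T 7 3)) (mulQ (sel n 4 (pk T 7 4)) (mulQ (sel n 5 (pk T 7 5))
      (sel n 6 64))))))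

theorem sel_lt (n i : ℕ) {c : ℕ} (hc : c < 128) : sel n i c < 128 := by
  rw [sel]; cases n.testBit i <;> simp [hc]

theorem ap_lt (T n : ℕ) : ap T n < 128 := by
  have := fun i => sel_lt n i (pk_lt T 7 i)
  exact mulQ_lt (this _) (mulQ_lt (this _) (mulQ_lt (this _) (mulQ_lt (this _) (mulQ_lt (this _)
    (mulQ_lt (this _) (sel_lt _ _ (by norm_num)))))))

/-- `g` acts on the group by the packed table `T`. -/
structure Acts (e : ℕ → H) (g : H) (T : ℕ) : Prop where
  bas : ∀ i < 6, g * e i = th e (pk T 7 i) * g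
  six : g * e 6 = e 6 * g

theorem Acts.th (h : Heis e) {g : H} {T : ℕ} (hg : Acts e g T) (n : ℕ) :
    g * th e n = th e (ap T n) * g := by
  have h1 : ∀ i c (r : H), g * e i = He.th e c * g →
      g * (bp (e i) (n.testBit i) * r) = He.th e (sel n i c) * (g * r) := fun i c r hc => by
    rw [bp, sel]
    cases n.testBit i
    · simp [th_zero]
    · simp [← mul_assoc, hc]
  have h2 := h1 6 64 1 (by rw [th_64, hg.six])
  rw [mul_one, mul_one] at h2
  rw [ap, lit_eq]
  simp only [← h.th_mul, mul_assoc]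
  rw [He.th, h1 0 _ _ (hg.bas 0 (by decide)), h1 1 _ _ (hg.bas 1 (by decide)),
    h1 2 _ _ (hg.bas 2 (by decide)), h1 3 _ _ (hg.bas 3 (by decide)),
    h1 4 _ _ (hg.bas 4 (by decide)), h1 5 _ _ (hg.bas 5 (by decide)), h2]

theorem th_mem {Q : Subgroup H} (hQ : ∀ i < 7, e i ∈ Q) (n : ℕ) : th e n ∈ Q := by
  have : ∀ i < 7, ∀ b, bp (e i) b ∈ Q := fun i hi b => by
    cases b
    · exact Q.one_mem
    · exact hQ i hi
  exact Q.mul_mem (this 0 (by decide) _) (Q.mul_mem (this 1 (by decide) _)
    (Q.mul_mem (this 2 (by decide) _) (Q.mul_mem (this 3 (by decide) _)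
    (Q.mul_mem (this 4 (by decide) _) (Q.mul_mem (this 5 (by decide) _) (this 6 (by decide) _))))))

theorem Heis.th_surj (h : Heis e) (h6 : e 6 ≠ 1) {Q : Subgroup H} (hQ : ∀ i < 7, e i ∈ Q)
    (hc : Nat.card Q = 128) {q : H} (hq : q ∈ Q) : ∃ n < 128, th e n = q := by
  haveI : Finite Q := Nat.finite_of_card_ne_zero (by omega)
  have hb : Function.Bijective fun n : Fin 128 => (⟨th e n, th_mem hQ n⟩ : Q) := by
    rw [Nat.bijective_iff_injective_and_card]
    exact ⟨fun a b hab => Fin.ext (h.th_inj h6 a.2 b.2 (congrArg Subtype.val hab)), by simp [hc]⟩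
  obtain ⟨n, hn⟩ := hb.2 ⟨q, hq⟩
  exact ⟨n, n.2, congrArg Subtype.val hn⟩

theorem th_map {K : Type*} [Group K] (f : H →* K) (n : ℕ) :
    f (th e n) = th (fun i => f (e i)) n := by
  have : ∀ (g : H) b, f (bp g b) = bp (f g) b := fun g b => by cases b <;> simp [bp]
  simp only [th, map_mul, this]

theorem Heis.map {K : Type*} [Group K] (h : Heis e) (f : H →* K) : Heis fun i => f (e i) :=
  ⟨fun i hi => by rw [← map_mul, h.sq i hi, map_one],
    fun i hi k hk hik => by rw [← map_mul, h.comm i hi k hk hik, map_mul],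
    fun i hi => by rw [← map_mul, h.pair i hi, map_mul, map_mul]⟩

theorem Acts.map {K : Type*} [Group K] {g : H} {T : ℕ} (h : Acts e g T) (f : H →* K) :
    Acts (fun i => f (e i)) (f g) T :=
  ⟨fun i hi => by rw [← map_mul, h.bas i hi, map_mul, th_map],
    by rw [← map_mul, h.six, map_mul]⟩

end H14.He
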