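import Mathlib
import Cfsg.Agent.H14.HeQ

/-! A normal form for groups of shape `2^{1+6}_+.L₃(2)` given by generators and relations. -/

set_option autoImplicit false

namespace H14.He

open H29 H7.Cay

/-- action of the element of order 7. -/
def SIG : ℕ := 283518222850
/-- action of the element of order 3. -/
def TAU : ℕ := 562657591809

/-- codes of `Q⟨x, y⟩`. -/
abbrev CB : Type := ℕ × ℕ × ℕ

/-- action of `x ^ a * y ^ b`. -/
noncomputable def act (a b n : ℕ) : ℕ := (ap SIG)^[a] ((ap TAU)^[b] n)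

/-- product in `Q⟨x, y⟩`. -/
noncomputable def mB (p q : CB) : CB :=
  lit (mulQ p.1 (act p.2.1 p.2.2 q.1)) fun n => lit ((p.2.1 + q.2.1 * 2 ^ p.2.2) % 7) fun a =>
    lit ((p.2.2 + q.2.2) % 3) fun b => (n, a, b)

/-- conjugation of a relation by `y`. -/
noncomputable def nxt (p : CB) : CB := mB (mB (0, 0, 1) p) (0, 0, 1)

/-- the relation for `j x j`. -/
noncomputable def P1 (n0 m : ℕ) : CB := mB (mB (m, 0, 0) (0, 6, 0)) (invQ n0, 0, 0)

/-- the relation for `j x⁻¹ j`. -/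
noncomputable def P6 (J n0 m : ℕ) : CB :=
  mB (mB (n0, 0, 0) (0, 1, 0)) (ap J (ap SIG (mulQ (invQ m) n0)), 0, 0)

/-- the relation for `j x ^ a j`. -/
noncomputable def PP (J n0 m a : ℕ) : CB :=
  cond (Nat.beq a 1) (P1 n0 m) (cond (Nat.beq a 2) (nxt (nxt (P1 n0 m)))
    (cond (Nat.beq a 3) (nxt (P6 J n0 m)) (cond (Nat.beq a 4) (nxt (P1 n0 m))
      (cond (Nat.beq a 5) (nxt (nxt (P6 J n0 m))) (P6 J n0 m)))))

/-- the last exponent in the relation for `j x ^ a j`. -/
def gam (a : ℕ) : ℕ := pk 414960 3 a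

/-- codes of the whole group. -/
abbrev CC : Type := CB × ℕ

/-- product in the whole group. -/
noncomputable def mC (J n0 m : ℕ) (u v : CC) : CC :=
  cond (Nat.beq u.2 7) (mB u.1 v.1, v.2)
    (let s := mB (0, u.2, 0) v.1
     let r := mB u.1 (ap J s.1, 0, 0)
     cond (Nat.beq v.2 7) (mB r (0, 0, 2 * s.2.2), (s.2.1 * 4 ^ s.2.2) % 7)
      (cond (Nat.beq s.2.1 0) (mB (mB (mB r (0, 0, 2 * s.2.2)) (n0, 0, 0)) (0, v.2, 0), 7)
        (mB (mB r (PP J n0 m s.2.1)) (0, 0, s.2.2), (gam s.2.1 * 2 ^ s.2.2 + v.2) % 7)))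

variable {H : Type*} [Group H]

/-- the relations without `j`. -/
structure HypB (e : ℕ → H) (x y : H) : Prop where
  heis : Heis e
  ax : Acts e x SIG
  ay : Acts e y TAU
  x7 : x ^ 7 = 1
  y3 : y ^ 3 = 1
  yx : y * x = x ^ 2 * y

/-- all the relations. -/
structure Hyp (e : ℕ → H) (x y j : H) (J n0 m : ℕ) : Prop extends HypB e x y where
  aj : Acts e j J
  jy : j * y = y ^ 2 * j
  jj : j * j = th e n0
  jx : (j * x) ^ 3 = th e m
  hn : n0 < 128
  hm : m < 128

/-- the element of `Q⟨x, y⟩` with a given code. -/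
def be (e : ℕ → H) (x y : H) (p : CB) : H := th e p.1 * x ^ p.2.1 * y ^ p.2.2

/-- the element with a given code. -/
def ph (e : ℕ → H) (x y j : H) (u : CC) : H :=
  be e x y u.1 * cond (Nat.beq u.2 7) 1 (j * x ^ u.2)

variable {e : ℕ → H} {x y j : H} {J n0 m : ℕ}

theorem Acts.pow (h : Heis e) {g : H} {T : ℕ} (hg : Acts e g T) (a n : ℕ) :
    g ^ a * He.th e n = He.th e ((ap T)^[a] n) * g ^ a := by
  induction a generalizing n with
  | zero => simp
  | succ a ih =>
    rw [pow_succ, mul_assoc, hg.th h, ← mul_assoc, ih, Function.iterate_succ_apply, mul_assoc]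

theorem HypB.ypx (h : HypB e x y) (b c : ℕ) : y ^ b * x ^ c = x ^ (c * 2 ^ b) * y ^ b := by
  have h1 : ∀ c, y * x ^ c = x ^ (c * 2) * y := fun c => by
    induction c with
    | zero => simp
    | succ c ih => rw [pow_succ, ← mul_assoc, ih, mul_assoc, h.yx, ← mul_assoc, ← pow_add, add_mul]
  induction b generalizing c with
  | zero => simp
  | succ b ih =>
    rw [pow_succ, mul_assoc, h1, ← mul_assoc, ih, mul_assoc, pow_succ' 2, mul_assoc c]

theorem HypB.xpy (h : HypB e x y) (a b : ℕ) :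
    x ^ a * y ^ b = y ^ b * x ^ ((a * 4 ^ b) % 7) := by
  rw [← pow_eq_pow_mod _ h.x7, h.ypx, mul_assoc a, ← mul_pow, pow_eq_pow_mod _ h.x7,
    pow_eq_pow_mod (a * _) h.x7]
  congr 2
  rw [Nat.mul_mod, Nat.pow_mod]
  simp

theorem HypB.be_mul (h : HypB e x y) (p q : CB) :
    be e x y p * be e x y q = be e x y (mB p q) := by
  obtain ⟨n, a, b⟩ := p
  obtain ⟨m, c, d⟩ := q
  simp only [be, mB, lit_eq, act, ← h.heis.th_mul, ← pow_eq_pow_mod _ h.x7,
    ← pow_eq_pow_mod _ h.y3, pow_add]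
  have h1 := h.ay.pow h.heis b m
  have h2 := h.ax.pow h.heis a ((ap TAU)^[b] m)
  have h3 := h.ypx b c
  calc th e n * x ^ a * y ^ b * (th e m * x ^ c * y ^ d)
      = th e n * x ^ a * (y ^ b * th e m) * x ^ c * y ^ d := by simp only [mul_assoc]
    _ = th e n * (x ^ a * th e ((ap TAU)^[b] m)) * (y ^ b * x ^ c) * y ^ d := by
      rw [h1]; simp only [mul_assoc]
    _ = _ := by rw [h2, h3]; simp only [mul_assoc]

theorem be_q (n : ℕ) : be e x y (n, 0, 0) = th e n := by simp [be]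
theorem be_x (a : ℕ) : be e x y (0, a, 0) = x ^ a := by simp [be, th_zero]
theorem be_y (b : ℕ) : be e x y (0, 0, b) = y ^ b := by simp [be, th_zero]

theorem Hyp.jyp (h : Hyp e x y j J n0 m) (b : ℕ) : j * y ^ b = y ^ (2 * b) * j := by
  induction b with
  | zero => simp
  | succ b ih => rw [pow_succ, ← mul_assoc, ih, mul_assoc, h.jy, ← mul_assoc, ← pow_add, mul_add]

theorem Hyp.ypj (h : Hyp e x y j J n0 m) (b : ℕ) : y ^ b * j = j * y ^ (2 * b) := by
  rw [h.jyp, show 2 * (2 * b) = b + 3 * b by ring, pow_add, pow_mul y 3, h.y3, one_pow, mul_one]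

theorem Hyp.rel_nxt (h : Hyp e x y j J n0 m) {a g : ℕ} {p : CB}
    (hr : j * x ^ a * j = be e x y p * j * x ^ g) :
    j * x ^ (a * 4 % 7) * j = be e x y (nxt p) * j * x ^ (g * 2 % 7) := by
  have h1 := h.ypj 1
  have h2 := h.toHypB.ypx 2 a
  have h3 := h.toHypB.ypx 1 g
  have h4 := h.jyp 1
  have h5 : y ^ 2 * y = 1 := by rw [← pow_succ, h.y3]
  simp only [pow_one, mul_one] at h1 h3 h4
  rw [nxt, ← h.toHypB.be_mul, ← h.toHypB.be_mul, be_y, pow_one, ← pow_eq_pow_mod _ h.x7,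
    ← pow_eq_pow_mod _ h.x7]
  have h6 : y * (j * x ^ a * j) = j * x ^ (a * 4) * j * y := by
    calc y * (j * x ^ a * j) = (y * j) * x ^ a * j := by simp only [mul_assoc]
      _ = j * (y ^ 2 * x ^ a) * j := by rw [h1]; simp only [mul_assoc]
      _ = j * x ^ (a * 4) * (y ^ 2 * j) := by rw [h2]; simp only [mul_assoc]; norm_num
      _ = _ := by rw [← h4]; simp only [mul_assoc]
  apply mul_right_cancel (b := y)
  rw [← h6, hr]
  calc y * (be e x y p * j * x ^ g) = y * be e x y p * (j * (y ^ 2 * y)) * x ^ g := by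
        rw [h5]; simp only [mul_assoc, mul_one]
    _ = y * be e x y p * (j * y ^ 2) * (y * x ^ g) := by simp only [mul_assoc]
    _ = _ := by rw [← h1, h3]; simp only [mul_assoc]

theorem Hyp.rel1 (h : Hyp e x y j J n0 m) :
    j * x ^ 1 * j = be e x y (P1 n0 m) * j * x ^ 6 := by
  have h1 : x ^ 6 = x⁻¹ := by rw [eq_inv_iff_mul_eq_one, ← pow_succ, h.x7]
  rw [P1, ← h.toHypB.be_mul, ← h.toHypB.be_mul, be_q, be_q, be_x, h.heis.th_inv h.hn, ← h.jj,
    ← h.jx, h1]
  simp only [pow_succ]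
  group

theorem Hyp.rel6 (h : Hyp e x y j J n0 m) :
    j * x ^ 6 * j = be e x y (P6 J n0 m) * j * x ^ 1 := by
  have h1 : x ^ 6 = x⁻¹ := by rw [eq_inv_iff_mul_eq_one, ← pow_succ, h.x7]
  rw [P6, ← h.toHypB.be_mul, ← h.toHypB.be_mul, be_q, be_q, be_x, mul_assoc _ (th e _) j,
    ← h.aj.th h.heis, pow_one, mul_assoc _ (j * _) x, mul_assoc j (th e _), ← h.ax.th h.heis,
    ← h.heis.th_mul, h.heis.th_inv h.hm, ← h.jj, ← h.jx, h1]
  simp only [pow_succ]
  group

theorem Hyp.rel (h : Hyp e x y j J n0 m) {a : ℕ} (h0 : a ≠ 0) (h7 : a < 7) :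
    j * x ^ a * j = be e x y (PP J n0 m a) * j * x ^ gam a := by
  have h1 := h.rel1
  have h6 := h.rel6
  have h4 := h.rel_nxt h1
  have h2 := h.rel_nxt h4
  have h3 := h.rel_nxt h6
  have h5 := h.rel_nxt h3
  interval_cases a
  · exact absurd rfl h0
  exacts [h1, h2, h3, h4, h5, h6]

theorem mB_lt (p q : CB) : (mB p q).2.1 < 7 ∧ (mB p q).2.2 < 3 :=
  ⟨Nat.mod_lt _ (by norm_num), Nat.mod_lt _ (by norm_num)⟩

theorem beq_mod (k : ℕ) : Nat.beq (k % 7) 7 = false := by
  rw [← Bool.not_eq_true, nbeq]; omega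

theorem Hyp.ph_mul (h : Hyp e x y j J n0 m) (u v : CC) :
    ph e x y j u * ph e x y j v = ph e x y j (mC J n0 m u v) := by
  obtain ⟨p, c⟩ := u
  obtain ⟨q, d⟩ := v
  have hB := h.toHypB.be_mul
  simp only [mC]
  cases hc : Nat.beq c 7
  · have hs := hB (0, c, 0) q
    have h7 := (mB_lt (0, c, 0) q).1
    generalize mB (0, c, 0) q = s at hs h7
    obtain ⟨n, a, b⟩ := s
    rw [be_x] at hs
    have h1 : ph e x y j (p, c) * be e x y q =
        be e x y (mB p (ap J n, 0, 0)) * (j * x ^ a * y ^ b) := by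
      rw [ph, hc, ← hB, be_q, cond_false, mul_assoc, mul_assoc, hs, be.eq_1 e x y (n, a, b)]
      simp only [← mul_assoc]
      rw [mul_assoc _ j (th e n), h.aj.th h.heis]
      simp only [mul_assoc]
    simp only [cond_false]
    generalize mB p (ap J n, 0, 0) = r at h1
    rw [ph.eq_1 e x y j (q, d), ← mul_assoc, h1]
    cases hd : Nat.beq d 7
    · cases ha : Nat.beq a 0
      · have ha0 : a ≠ 0 := by rwa [← Bool.not_eq_true, nbeq] at ha
        have h2 := h.toHypB.xpy (gam a) (2 * b)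
        have h3 : x ^ (gam a * 4 ^ (2 * b) % 7) = x ^ (gam a * 2 ^ b) := by
          rw [pow_eq_pow_mod (gam a * 2 ^ b) h.x7, pow_mul, Nat.mul_mod, Nat.pow_mod,
            Nat.mul_mod _ (2 ^ b)]
          norm_num
        simp only [cond_false, ph, beq_mod, ← hB, be_y, ← pow_eq_pow_mod _ h.x7, pow_add]
        calc be e x y r * (j * x ^ a * y ^ b) * (j * x ^ d)
            = be e x y r * (j * x ^ a * (y ^ b * j)) * x ^ d := by simp only [mul_assoc]
          _ = be e x y r * (j * x ^ a * j) * y ^ (2 * b) * x ^ d := by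
            rw [h.ypj]; simp only [mul_assoc]
          _ = be e x y r * be e x y (PP J n0 m a) * j * (x ^ gam a * y ^ (2 * b)) * x ^ d := by
            rw [h.rel ha0 h7]; simp only [mul_assoc]
          _ = be e x y r * be e x y (PP J n0 m a) * (j * y ^ (2 * b)) *
              x ^ (gam a * 2 ^ b) * x ^ d := by rw [h2, h3]; simp only [mul_assoc]
          _ = _ := by rw [← h.ypj]; simp only [mul_assoc]
      · obtain rfl := nbeq.1 ha
        simp only [cond_false, cond_true, ph, ← hB, be_y, be_q, be_x, pow_zero, mul_one,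
          show Nat.beq 7 7 = true from rfl, ← h.jj]
        rw [h.jyp]
        simp only [mul_assoc]
    · simp only [cond_true, cond_false, ph, beq_mod, ← hB, be_y, mul_one]
      rw [mul_assoc j, h.toHypB.xpy, ← mul_assoc j, h.jyp]
      simp only [mul_assoc]
  · simp only [cond_true, ph, hc, mul_one, ← hB, mul_assoc]

end H14.He
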