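import Mathlib
import Cfsg.Agent.H14.HeMul

/-! Coordinates on an extraspecial group of order 128 with an automorphism of order 7. -/

set_option autoImplicit false

namespace H14.He

open H29 H7.Cay

variable {H : Type*} [Group H]

/-- an extraspecial normal subgroup with centre `⟨t⟩`. -/
structure ES (Q : Subgroup H) (t : H) : Prop where
  nor : Q.Normal
  tc : ∀ g, g * t = t * g
  t2 : t * t = 1
  t1 : t ≠ 1
  tQ : t ∈ Q
  cen : ∀ q ∈ Q, (∀ r ∈ Q, q * r = r * q) → q = 1 ∨ q = t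
  com : ∀ a ∈ Q, ∀ b ∈ Q, a * b = b * a ∨ a * b = b * a * t

open Classical in
/-- the commutator form. -/
noncomputable def bt (a b : H) : ZMod 2 := if a * b = b * a then 0 else 1

theorem bt_zero {a b : H} : bt a b = 0 ↔ a * b = b * a := by
  rw [bt]; split_ifs with h <;> simp [h]

theorem bt_congr {a b c d : H} (h : a * b = b * a ↔ c * d = d * c) : bt a b = bt c d := by
  rw [bt, bt, propext h]

theorem bt_symm (a b : H) : bt a b = bt b a := bt_congr eq_comm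

theorem bt_conj (g a b : H) : bt (g * a * g⁻¹) (g * b * g⁻¹) = bt a b := by
  refine bt_congr ?_
  simp only [conj_mul, mul_left_inj, mul_right_inj]

variable {Q : Subgroup H} {t : H}

theorem ES.bt_one (h : ES Q t) {a b : H} (ha : a ∈ Q) (hb : b ∈ Q) :
    bt a b = 1 ↔ a * b = b * a * t := by
  rw [bt]
  split_ifs with h1
  · simpa [h1] using h.t1
  · simpa using (h.com a ha b hb).resolve_left h1

theorem ES.bt_mul (h : ES Q t) {a a' b : H} (ha : a ∈ Q) (ha' : a' ∈ Q) (hb : b ∈ Q) :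
    bt (a * a') b = bt a b + bt a' b := by
  have hz : ∀ z : ZMod 2, z = 0 ∨ z = 1 := by decide
  have hm := Q.mul_mem ha ha'
  rcases hz (bt a b) with h1 | h1 <;> rcases hz (bt a' b) with h2 | h2 <;> rw [h1, h2]
  · rw [bt_zero] at h1 h2
    rw [add_zero, bt_zero, mul_assoc, h2, ← mul_assoc, h1, mul_assoc]
  · rw [bt_zero] at h1
    rw [h.bt_one ha' hb] at h2
    rw [zero_add, h.bt_one hm hb, mul_assoc, h2, ← mul_assoc, ← mul_assoc, h1, mul_assoc b]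
  · rw [bt_zero] at h2
    rw [h.bt_one ha hb] at h1
    rw [add_zero, h.bt_one hm hb, mul_assoc, h2, ← mul_assoc, h1, mul_assoc, ← h.tc, ← mul_assoc,
      mul_assoc b]
  · rw [h.bt_one ha hb] at h1
    rw [h.bt_one ha' hb] at h2
    rw [show (1 + 1 : ZMod 2) = 0 from rfl, bt_zero, mul_assoc, h2, ← mul_assoc, ← mul_assoc, h1,
      mul_assoc _ t, ← h.tc, mul_assoc, mul_assoc a', h.t2, mul_one, mul_assoc]

theorem ES.bt_t (h : ES Q t) (a b : H) : bt (a * t) b = bt a b := by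
  refine bt_congr ?_
  rw [mul_assoc, ← h.tc, ← mul_assoc, ← mul_assoc, mul_left_inj]

theorem ES.sq (h : ES Q t) {a : H} (ha : a ∈ Q) : a * a = 1 ∨ a * a = t :=
  h.cen _ (Q.mul_mem ha ha) fun r hr => by
    rw [← bt_zero, h.bt_mul ha ha hr, CharTwo.add_self_eq_zero]

theorem ES.pow_four (h : ES Q t) {a : H} (ha : a ∈ Q) : a ^ 4 = 1 := by
  rw [show a ^ 4 = a * a * (a * a) by simp only [pow_succ, pow_zero, one_mul, mul_assoc]]
  rcases h.sq ha with h1 | h1 <;> rw [h1]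
  exacts [mul_one 1, h.t2]

/-- conjugation by a power of `x`. -/
def cz (x : H) (i : ZMod 7) (a : H) : H := x ^ i.val * a * (x ^ i.val)⁻¹

variable {x y : H}

theorem cz_zero (a : H) : cz x 0 a = a := by simp [cz]

theorem cz_one (a : H) : cz x 1 a = x * a * x⁻¹ := by
  rw [cz, show (1 : ZMod 7).val = 1 from rfl, pow_one]

theorem cz_cz (hx : x ^ 7 = 1) (i k : ZMod 7) (a : H) : cz x i (cz x k a) = cz x (i + k) a := by
  rw [cz, cz, cz, ZMod.val_add, ← pow_eq_pow_mod _ hx, pow_add]; group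

theorem cz_mul (i : ZMod 7) (a b : H) : cz x i (a * b) = cz x i a * cz x i b := by
  simp only [cz]; group

theorem cz_id (i : ZMod 7) : cz x i 1 = 1 := by simp [cz]

theorem ES.cz_t (h : ES Q t) (i : ZMod 7) : cz x i t = t := by rw [cz, h.tc]; group

theorem ES.cz_mem (h : ES Q t) (i : ZMod 7) {a : H} (ha : a ∈ Q) : cz x i a ∈ Q :=
  h.nor.conj_mem a ha _

theorem bt_cz (hx : x ^ 7 = 1) (i k : ZMod 7) (a b : H) :
    bt (cz x i a) (cz x k b) = bt (cz x (i - k) a) b := by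
  rw [← bt_conj (x ^ k.val) (cz x (i - k) a) b]
  change _ = bt (cz x k _) (cz x k b)
  rw [cz_cz hx, add_sub_cancel]

/-- the relation modulo the centre. -/
def Kr (Q : Subgroup H) (x : H) (p q : ZMod 7) (w : H) : Prop :=
  w ∈ Q ∧ ∀ c ∈ Q, bt w c + bt (cz x p w) c + bt (cz x q w) c = 0

theorem ES.kr_seq (h : ES Q t) (hx : x ^ 7 = 1) {p q : ZMod 7} {w c : H} (hw : Kr Q x p q w)
    (hc : c ∈ Q) (i : ZMod 7) :
    bt (cz x i w) c + bt (cz x (i + p) w) c + bt (cz x (i + q) w) c = 0 := by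
  have := hw.2 _ (h.cz_mem (x := x) (-i) hc)
  rwa [← cz_zero (x := x) w, bt_cz hx, cz_zero, bt_cz hx, bt_cz hx, zero_sub, neg_neg,
    sub_neg_eq_add, sub_neg_eq_add, add_comm p, add_comm q] at this

/-- a product of four conjugates. -/
def E4 (x : H) (a b c : ZMod 7) (u : H) : H := u * cz x a u * cz x b u * cz x c u

theorem ES.E4_mem (h : ES Q t) (a b c : ZMod 7) {u : H} (hu : u ∈ Q) : E4 x a b c u ∈ Q :=
  Q.mul_mem (Q.mul_mem (Q.mul_mem hu (h.cz_mem _ hu)) (h.cz_mem _ hu)) (h.cz_mem _ hu)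

theorem ES.bt_E4 (h : ES Q t) (hx : x ^ 7 = 1) (a b c i : ZMod 7) {u r : H} (hu : u ∈ Q)
    (hr : r ∈ Q) : bt (cz x i (E4 x a b c u)) r = bt (cz x i u) r + bt (cz x (i + a) u) r +
      bt (cz x (i + b) u) r + bt (cz x (i + c) u) r := by
  have m := fun i => h.cz_mem (x := x) i hu
  simp only [E4, cz_mul, cz_cz hx]
  rw [h.bt_mul (Q.mul_mem (Q.mul_mem (m _) (m _)) (m _)) (m _) hr,
    h.bt_mul (Q.mul_mem (m _) (m _)) (m _) hr, h.bt_mul (m _) (m _) hr]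

theorem ES.kr_F (h : ES Q t) (hx : x ^ 7 = 1) {u : H} (hu : u ∈ Q) :
    Kr Q x 1 3 (E4 x 1 2 4 u) := by
  refine ⟨h.E4_mem _ _ _ hu, fun c hc => ?_⟩
  rw [← cz_zero (x := x) (E4 x 1 2 4 u), h.bt_E4 hx _ _ _ _ hu hc, cz_zero (E4 x 1 2 4 u),
    h.bt_E4 hx _ _ _ _ hu hc, h.bt_E4 hx _ _ _ _ hu hc]
  exact (by decide +kernel : ∀ s : ZMod 7 → ZMod 2, s 0 + s (0 + 1) + s (0 + 2) + s (0 + 4) +
    (s 1 + s (1 + 1) + s (1 + 2) + s (1 + 4)) + (s 3 + s (3 + 1) + s (3 + 2) + s (3 + 4)) = 0)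
    fun i => bt (cz x i u) c

theorem ES.kr_G (h : ES Q t) (hx : x ^ 7 = 1) {u : H} (hu : u ∈ Q) :
    Kr Q x 6 4 (E4 x 3 5 6 u) := by
  refine ⟨h.E4_mem _ _ _ hu, fun c hc => ?_⟩
  rw [← cz_zero (x := x) (E4 x 3 5 6 u), h.bt_E4 hx _ _ _ _ hu hc, cz_zero (E4 x 3 5 6 u),
    h.bt_E4 hx _ _ _ _ hu hc, h.bt_E4 hx _ _ _ _ hu hc]
  exact (by decide +kernel : ∀ s : ZMod 7 → ZMod 2, s 0 + s (0 + 3) + s (0 + 5) + s (0 + 6) +
    (s 6 + s (6 + 3) + s (6 + 5) + s (6 + 6)) + (s 4 + s (4 + 3) + s (4 + 5) + s (4 + 6)) = 0)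
    fun i => bt (cz x i u) c

theorem ES.moved (h : ES Q t) (hx : x ^ 7 = 1) (hxQ : ∃ u ∈ Q, x * u ≠ u * x) :
    ∃ u ∈ Q, ∃ c ∈ Q, bt (cz x 1 u) c ≠ bt (cz x 0 u) c := by
  by_contra hcon
  push Not at hcon
  obtain ⟨u, hu, h1⟩ := hxQ
  have hi := Q.inv_mem hu
  have h2 := h.cen (u⁻¹ * cz x 1 u) (Q.mul_mem hi (h.cz_mem _ hu)) fun r hr => by
    rw [← bt_zero, h.bt_mul hi (h.cz_mem _ hu) hr, hcon u hu r hr, cz_zero, ← h.bt_mul hi hu hr,
      bt_zero]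
    simp
  rcases h2 with h2 | h2
  · rw [cz_one] at h2
    apply h1
    calc x * u = u * (u⁻¹ * (x * u * x⁻¹)) * x := by group
      _ = u * x := by rw [h2, mul_one]
  · have h3 : cz x 1 u = u * t := by rw [← h2]; group
    have h4 : ∀ i, cz x (i + 1) u = cz x i u * t := fun i => by
      rw [← cz_cz hx, h3, cz_mul, h.cz_t]
    have h5 : ∀ i, cz x (i + 1 + 1) u = cz x i u := fun i => by
      rw [h4, h4, mul_assoc, h.t2, mul_one]
    have h6 := h4 (0 + 1 + 1 + 1 + 1 + 1 + 1)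
    rw [h5, h5, h5, h5, h5, h5, show (0 + 1 : ZMod 7) = 0 + 1 + 1 + 1 + 1 + 1 + 1 + 1 + 1 by decide,
      h5, h5, h5, h5] at h6
    exact h.t1 (by simpa using h6)

theorem ES.exists_pair (h : ES Q t) (hx : x ^ 7 = 1) (hxQ : ∃ u ∈ Q, x * u ≠ u * x) :
    ∃ w v, Kr Q x 1 3 w ∧ Kr Q x 6 4 v ∧ bt w v ≠ 0 := by
  obtain ⟨u, hu, c, hc, h1⟩ := h.moved hx hxQ
  have h2 := (by decide +kernel : ∀ s : ZMod 7 → ZMod 2, s 1 ≠ s 0 → ∃ i,
    s i + s (i + 1) + s (i + 2) + s (i + 4) ≠ 0 ∨ s i + s (i + 3) + s (i + 5) + s (i + 6) ≠ 0)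
    (fun i => bt (cz x i u) c) h1
  obtain ⟨i, h2 | h2⟩ := h2
  · rw [← h.bt_E4 hx _ _ _ _ hu hc, ← cz_zero (x := x) c, ← sub_zero i, ← bt_cz hx, bt_symm,
      bt_cz hx, cz_zero] at h2
    have hw := h.kr_F hx hu
    generalize E4 x 1 2 4 u = w at h2 hw
    have hc' := h.cz_mem (x := x) (0 - i) hc
    generalize cz x (0 - i) c = c' at h2 hc'
    refine ⟨w, _, hw, h.kr_G hx hc', ?_⟩
    rw [bt_symm, ← cz_zero (x := x) (E4 _ _ _ _ _), h.bt_E4 hx _ _ _ _ hc' hw.1, cz_zero]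
    have h3 := h.kr_seq hx hw hc' 1
    have h4 : ∀ k, bt (cz x k w) c' = bt (cz x (0 - k) c') w := fun k => by
      rw [bt_symm, ← bt_cz hx, cz_zero]
    simp only [h4] at h3
    revert h2 h3
    rw [show (0 - 1 : ZMod 7) = 0 + 6 by decide, show (0 - (1 + 1) : ZMod 7) = 0 + 5 by decide,
      show (0 - (1 + 3) : ZMod 7) = 0 + 3 by decide]
    generalize bt c' w = a, bt (cz x (0 + 6) c') w = b, bt (cz x (0 + 5) c') w = d,
      bt (cz x (0 + 3) c') w = f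
    revert a b d f
    decide
  · rw [← h.bt_E4 hx _ _ _ _ hu hc, ← cz_zero (x := x) c, ← sub_zero i, ← bt_cz hx, bt_symm,
      bt_cz hx, cz_zero] at h2
    have hv := h.kr_G hx hu
    generalize E4 x 3 5 6 u = v at h2 hv
    have hc' := h.cz_mem (x := x) (0 - i) hc
    generalize cz x (0 - i) c = c' at h2 hc'
    refine ⟨_, v, h.kr_F hx hc', hv, ?_⟩
    rw [← cz_zero (x := x) (E4 _ _ _ _ _), h.bt_E4 hx _ _ _ _ hc' hv.1, cz_zero]
    have h3 := h.kr_seq hx hv hc' 6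
    have h4 : ∀ k, bt (cz x k v) c' = bt (cz x (0 - k) c') v := fun k => by
      rw [bt_symm, ← bt_cz hx, cz_zero]
    simp only [h4] at h3
    revert h2 h3
    rw [show (0 - 6 : ZMod 7) = 0 + 1 by decide, show (0 - (6 + 6) : ZMod 7) = 0 + 2 by decide,
      show (0 - (6 + 4) : ZMod 7) = 0 + 4 by decide]
    generalize bt c' v = a, bt (cz x (0 + 1) c') v = b, bt (cz x (0 + 2) c') v = d,
      bt (cz x (0 + 4) c') v = f
    revert a b d f
    decide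

/-- the exact relation. -/
structure Ex (Q : Subgroup H) (x : H) (p q : ZMod 7) (w : H) : Prop where
  mem : w ∈ Q
  rel : ∀ i, cz x i w * cz x (i + p) w * cz x (i + q) w = 1
  com : ∀ i k, cz x i w * cz x k w = cz x k w * cz x i w
  sq : ∀ i, cz x i w * cz x i w = 1

theorem ES.exact (h : ES Q t) (hx : x ^ 7 = 1) {p q : ZMod 7}
    (hd : ∀ r : ZMod 7 → ZMod 2, (∀ i, r i + r (i + p) + r (i + q) = 0) →
      (∀ i, r i + r (i - p) + r (i - q) = 0) → ∀ i, r i = 0)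
    {w : H} (hw : Kr Q x p q w) : ∃ w', Ex Q x p q w' ∧ (w' = w ∨ w' = w * t) := by
  have m := fun i => h.cz_mem (x := x) i hw.1
  have key : ∀ w, Kr Q x p q w → w * cz x p w * cz x q w = 1 → Ex Q x p q w := fun w hw h1 => by
    have h2 : ∀ i, cz x i w * cz x (i + p) w * cz x (i + q) w = 1 := fun i => by
      rw [← cz_cz hx, ← cz_cz hx, ← cz_mul, ← cz_mul, h1, cz_id]
    have h3 : ∀ i k, cz x i w * cz x k w = cz x k w * cz x i w := fun i k => by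
      rw [← bt_zero, bt_cz hx]
      refine hd (fun i => bt (cz x i w) w) (h.kr_seq hx hw hw.1) (fun i => ?_) _
      have := hw.2 _ (h.cz_mem (x := x) i hw.1)
      rwa [bt_symm, bt_symm (cz x p w), bt_symm (cz x q w), bt_cz hx, bt_cz hx] at this
    refine ⟨hw.1, h2, h3, fun i => ?_⟩
    rcases h.sq hw.1 with h4 | h4
    · rw [← cz_mul, h4, cz_id]
    · have h5 : ∀ i, cz x i w * cz x i w = t := fun i => by rw [← cz_mul, h4, h.cz_t]
      have h6 : cz x 0 w * cz x (0 + p) w * cz x (0 + q) w *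
          (cz x 0 w * cz x (0 + p) w * cz x (0 + q) w) = t * t * t := by
        have c : ∀ i k, Commute (cz x i w) (cz x k w) := h3
        rw [(((c _ _).mul_left (c _ _)).symm.mul_mul_mul_comm _ _ :), ((c _ _).mul_mul_mul_comm _ _ :),
          h5, h5, h5]
      rw [h2, h.t2, one_mul, one_mul] at h6
      exact absurd h6.symm h.t1
  rcases h.cen _ (Q.mul_mem (Q.mul_mem hw.1 (m p)) (m q)) fun r hr => by
    rw [← bt_zero, h.bt_mul (Q.mul_mem hw.1 (m p)) (m q) hr, h.bt_mul hw.1 (m p) hr, hw.2 r hr]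
    with h1 | h1
  · exact ⟨w, key w hw h1, Or.inl rfl⟩
  · refine ⟨w * t, key _ ⟨Q.mul_mem hw.1 h.tQ, fun c hc => ?_⟩ ?_, Or.inr rfl⟩
    · simpa only [cz_mul, h.cz_t, h.bt_t] using hw.2 c hc
    · simp only [cz_mul, h.cz_t]
      calc _ = w * (t * cz x p w) * (t * cz x q w) * t := by simp only [mul_assoc]
        _ = w * cz x p w * (t * (cz x q w * t)) * t := by
          rw [← h.tc, ← h.tc (cz x q w)]; simp only [mul_assoc]
        _ = 1 := by rw [h.tc (cz x q w), ← mul_assoc t, h.t2, one_mul, h1, h.t2]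

/-- the data for the coordinates. -/
structure Dat (Q : Subgroup H) (x w v : H) : Prop where
  ew : Ex Q x 1 3 w
  ev : Ex Q x 6 4 v
  c0 : bt (cz x 0 w) v = 1
  c1 : bt (cz x 1 w) v = 0
  c2 : bt (cz x 2 w) v = 0

theorem Ex.shift (h : ES Q t) (hx : x ^ 7 = 1) {p q : ZMod 7} {w : H} (hw : Ex Q x p q w)
    (k : ZMod 7) : Ex Q x p q (cz x k w) :=
  ⟨h.cz_mem _ hw.mem, fun i => by
    simp only [cz_cz hx, add_right_comm i _ k, hw.rel], fun i l => by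
    simp only [cz_cz hx, hw.com (i + k)], fun i => by simp only [cz_cz hx, hw.sq]⟩

theorem Dat.shift (h : ES Q t) (hx : x ^ 7 = 1) {w v : H} (hd : Dat Q x w v) (k : ZMod 7) :
    Dat Q x (cz x k w) (cz x k v) :=
  ⟨hd.ew.shift h hx k, hd.ev.shift h hx k, by rw [cz_cz hx, bt_cz hx, add_sub_cancel_right, hd.c0],
    by rw [cz_cz hx, bt_cz hx, add_sub_cancel_right, hd.c1],
    by rw [cz_cz hx, bt_cz hx, add_sub_cancel_right, hd.c2]⟩

theorem ES.exists_dat (h : ES Q t) (hx : x ^ 7 = 1) (hxQ : ∃ u ∈ Q, x * u ≠ u * x) :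
    ∃ w v, Dat Q x w v := by
  obtain ⟨w, v, hw, hv, h1⟩ := h.exists_pair hx hxQ
  obtain ⟨k, h2⟩ := (by decide +kernel : ∀ s : ZMod 7 → ZMod 2, s 0 ≠ 0 →
    (∀ i, s i + s (i + 1) + s (i + 3) = 0) → ∃ k, s (0 + k) = 1 ∧ s (1 + k) = 0 ∧ s (2 + k) = 0)
    (fun i => bt (cz x i w) v) (by simpa [cz_zero] using h1) (h.kr_seq hx hw hv.1)
  obtain ⟨w', hw', e1⟩ := h.exact hx (by decide +kernel) hw
  obtain ⟨v', hv', e2⟩ := h.exact hx (by decide +kernel) hv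
  have h3 : ∀ i, bt (cz x i (cz x k w')) v' = bt (cz x (i + k) w) v := fun i => by
    have h4 : bt (cz x (i + k) w') v' = bt (cz x (i + k) w) v' := by
      rcases e1 with rfl | rfl
      · rfl
      · rw [cz_mul, h.cz_t, h.bt_t]
    rw [cz_cz hx, h4]
    rcases e2 with rfl | rfl
    · rfl
    · rw [bt_symm, h.bt_t, bt_symm]
  exact ⟨_, v', hw'.shift h hx k, hv', (h3 0).trans h2.1, (h3 1).trans h2.2.1, (h3 2).trans h2.2.2⟩

/-- the generators of the extraspecial group. -/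
def eD (x w v t : H) (i : ℕ) : H :=
  [cz x 0 w, cz x 1 w, cz x 2 w, cz x 0 v, cz x 5 v, cz x 6 v, t].getD i 1

theorem Dat.mem (h : ES Q t) {w v : H} (hd : Dat Q x w v) : ∀ i < 7, eD x w v t i ∈ Q := by
  intro i hi
  have m1 := fun i => h.cz_mem (x := x) i hd.ew.mem
  have m2 := fun i => h.cz_mem (x := x) i hd.ev.mem
  interval_cases i
  exacts [m1 _, m1 _, m1 _, m2 _, m2 _, m2 _, h.tQ]

theorem Dat.heis (h : ES Q t) (hx : x ^ 7 = 1) {w v : H} (hd : Dat Q x w v) :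
    Heis (eD x w v t) := by
  have m1 := fun i => h.cz_mem (x := x) i hd.ew.mem
  have m2 := fun i => h.cz_mem (x := x) i hd.ev.mem
  have hs : ∀ i, bt (cz x i w) v + bt (cz x (i + 1) w) v + bt (cz x (i + 3) w) v = 0 := fun i => by
    rw [← h.bt_mul (m1 _) (m1 _) hd.ev.mem, ← h.bt_mul (Q.mul_mem (m1 _) (m1 _)) (m1 _) hd.ev.mem,
      hd.ew.rel, bt_zero, one_mul, mul_one]
  obtain ⟨c3, c4⟩ := (by decide +kernel : ∀ s : ZMod 7 → ZMod 2,
    (∀ i, s i + s (i + 1) + s (i + 3) = 0) → s 0 = 1 → s 1 = 0 → s 2 = 0 → s 3 = 1 ∧ s 4 = 0)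
    (fun i => bt (cz x i w) v) hs hd.c0 hd.c1 hd.c2
  have z : ∀ i k : ZMod 7, i - k = 1 ∨ i - k = 2 ∨ i - k = 4 →
      cz x k v * cz x i w = cz x i w * cz x k v := fun i k hik => by
    rw [← bt_zero, bt_symm, bt_cz hx]
    rcases hik with e | e | e <;> rw [e]
    exacts [hd.c1, hd.c2, c4]
  have o : ∀ i k : ZMod 7, i - k = 0 ∨ i - k = 3 →
      cz x k v * cz x i w = cz x i w * (cz x k v * t) := fun i k hik => by
    rw [← mul_assoc, ← h.bt_one (m2 _) (m1 _), bt_symm, bt_cz hx]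
    rcases hik with e | e <;> rw [e]
    exacts [hd.c0, c3]
  refine ⟨fun i hi => ?_, fun i hi k hk hik => ?_, fun i hi => ?_⟩
  · interval_cases i
    exacts [hd.ew.sq _, hd.ew.sq _, hd.ew.sq _, hd.ev.sq _, hd.ev.sq _, hd.ev.sq _, h.t2]
  · interval_cases i <;> interval_cases k <;> first
      | exact hd.ew.com _ _
      | exact hd.ev.com _ _
      | exact (h.tc _).symm
      | exact absurd (hik rfl) (by decide)
      | exact z _ _ (by decide)
  · interval_cases i <;> exact o _ _ (by decide)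

theorem Ex.third {p q : ZMod 7} {w : H} (hw : Ex Q x p q w) (i : ZMod 7) :
    cz x (i + q) w = cz x i w * cz x (i + p) w := by
  rw [← mul_one (_ * _), ← hw.sq (i + q), ← mul_assoc, hw.rel, one_mul]

theorem Dat.ax (h : ES Q t) (hx : x ^ 7 = 1) {w v : H} (hd : Dat Q x w v) :
    Acts (eD x w v t) x SIG := by
  have hH := hd.heis h hx
  have h1 : ∀ i a, x * cz x i a = cz x (1 + i) a * x := fun i a => by
    rw [← cz_cz hx, cz_one]; group
  have h2 : ∀ i < 6, pk SIG 7 i =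
      [2 ^ 1, 2 ^ 2, mulQ (2 ^ 0) (2 ^ 1), mulQ (2 ^ 3) (2 ^ 4), 2 ^ 5, 2 ^ 3].getD i 0 := by
    decide +kernel
  refine ⟨fun i hi => ?_, h.tc x⟩
  rw [h2 i hi]
  interval_cases i <;>
    simp only [List.getD_cons_zero, List.getD_cons_succ, ← hH.th_mul, th_pow, Nat.reduceLT]
  · exact h1 _ _
  · exact h1 _ _
  · exact (h1 _ _).trans (congrArg (· * x) (hd.ew.third 0))
  · refine (h1 _ _).trans (congrArg (· * x) ?_)
    change cz x 1 v = cz x (1 + 6) v * cz x (1 + 4) v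
    rw [hd.ev.third 1, hd.ev.com 1, ← mul_assoc, hd.ev.sq, one_mul]
  · exact h1 _ _
  · exact h1 _ _

theorem cz_th {e : ℕ → H} (hH : Heis e) (ha : Acts e x SIG) (i : ZMod 7) (n : ℕ) :
    cz x i (th e n) = th e ((ap SIG)^[i.val] n) := by
  rw [cz, ha.pow hH]; group

theorem cz_y (hx : x ^ 7 = 1) (hy : y * x = x ^ 2 * y) (i : ZMod 7) (a : H) :
    y * cz x i a * y⁻¹ = cz x (2 * i) (y * a * y⁻¹) := by
  have h1 : ∀ c, y * x ^ c = x ^ (2 * c) * y := fun c => by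
    induction c with
    | zero => simp
    | succ c ih => rw [pow_succ, ← mul_assoc, ih, mul_assoc, hy, ← mul_assoc, ← pow_add, mul_add]
  have h2 : x ^ (2 * i).val = y * x ^ i.val * y⁻¹ := by
    rw [h1, ZMod.val_mul, ← pow_eq_pow_mod _ hx, mul_inv_cancel_right]; rfl
  rw [cz, cz, h2]; group

set_option synthInstance.maxSize 2000 in
theorem ES.exists_dat_y (h : ES Q t) (hc : Nat.card Q = 128) (hx : x ^ 7 = 1)
    (hxQ : ∃ u ∈ Q, x * u ≠ u * x) (hy : y * x = x ^ 2 * y) :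
    ∃ w v, Dat Q x w v ∧ y * w * y⁻¹ = w ∧ y * v * y⁻¹ = v := by
  obtain ⟨w, v, hd⟩ := h.exists_dat hx hxQ
  have hH := hd.heis h hx
  have hA := hd.ax h hx
  have hm := hH.th_mul
  have h6 : eD x w v t 6 ≠ 1 := h.t1
  obtain ⟨n, hn, e1⟩ := hH.th_surj h6 (hd.mem h) hc (h.nor.conj_mem _ hd.ew.mem y)
  obtain ⟨m, hm', e2⟩ := hH.th_surj h6 (hd.mem h) hc (h.nor.conj_mem _ hd.ev.mem y)
  have hz : ∀ i, ∀ n < 128, (ap SIG)^[i] n < 128 := fun i n hn => by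
    cases i with
    | zero => exact hn
    | succ a => rw [Function.iterate_succ_apply']; exact ap_lt _ _
  have r1 : ∀ (p q : ZMod 7) (w : H) (n : ℕ), n < 128 → Ex Q x p q w →
      th (eD x _ _ t) n = y * w * y⁻¹ →
      (ap SIG)^[(2 * (0 + q)).val] n = mulQ n ((ap SIG)^[(2 * (0 + p)).val] n) :=
    fun p q w n hn hw e => hH.th_inj h6 (hz _ _ hn) (mulQ_lt hn (hz _ _ hn)) (by
      rw [← hm, ← cz_th hH hA, ← cz_th hH hA, e, ← cz_y hx hy, ← cz_y hx hy, hw.third 0, cz_zero]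
      group)
  have r2 : ∀ i : ZMod 7, bt (cz x i w) v = 0 ↔
      mulQ ((ap SIG)^[(2 * i).val] n) m = mulQ m ((ap SIG)^[(2 * i).val] n) := fun i => by
    rw [← bt_conj y, cz_y hx hy, ← e1, ← e2, cz_th hH hA, bt_zero, hm, hm]
    exact ⟨hH.th_inj h6 (mulQ_lt (hz _ _ hn) hm') (mulQ_lt hm' (hz _ _ hn)), fun h => by rw [h]⟩
  have k1 : ∀ n < 128, (ap SIG)^[6] n = mulQ n ((ap SIG)^[2] n) → n < 8 := by decide +kernel
  have k2 : ∀ n < 128, (ap SIG)^[1] n = mulQ n ((ap SIG)^[5] n) → ∃ l < 8, n = 8 * l := by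
    decide +kernel
  have k3 : ∀ n < 8, ∀ l < 8, mulQ n (8 * l) ≠ mulQ (8 * l) n →
      mulQ ((ap SIG)^[2] n) (8 * l) = mulQ (8 * l) ((ap SIG)^[2] n) →
      mulQ ((ap SIG)^[4] n) (8 * l) = mulQ (8 * l) ((ap SIG)^[4] n) →
      ∃ k : ZMod 7, n = (ap SIG)^[k.val] (2 ^ 0) ∧ 8 * l = (ap SIG)^[k.val] (2 ^ 3) := by
    decide +kernel
  obtain ⟨l, hl, rfl⟩ := k2 m hm' (r1 _ _ _ m hm' hd.ev e2)
  obtain ⟨k, h1, h2⟩ := k3 n (k1 n hn (r1 _ _ _ n hn hd.ew e1)) l hl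
    (fun h3 => by have := (r2 0).2 h3; rw [hd.c0] at this; exact absurd this (by decide))
    ((r2 1).1 hd.c1) ((r2 2).1 hd.c2)
  rw [h1, ← cz_th hH hA, th_pow (by norm_num)] at e1
  rw [h2, ← cz_th hH hA, th_pow (by norm_num)] at e2
  change cz x k (cz x 0 w) = _ at e1
  change cz x k (cz x 0 v) = _ at e2
  refine ⟨_, _, hd.shift h hx (-k), ?_, ?_⟩
  · rw [cz_y hx hy, ← e1, cz_cz hx, cz_cz hx]; congr 1; ring
  · rw [cz_y hx hy, ← e2, cz_cz hx, cz_cz hx]; congr 1; ring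

theorem ES.exists_hypB (h : ES Q t) (hc : Nat.card Q = 128) (hx : x ^ 7 = 1)
    (hxQ : ∃ u ∈ Q, x * u ≠ u * x) (hy3 : y ^ 3 = 1) (hy : y * x = x ^ 2 * y) :
    ∃ e, HypB e x y ∧ e 6 = t ∧ ∀ i < 7, e i ∈ Q := by
  obtain ⟨w, v, hd, h1, h2⟩ := h.exists_dat_y hc hx hxQ hy
  have hH := hd.heis h hx
  refine ⟨_, ⟨hH, hd.ax h hx, ⟨fun i hi => ?_, h.tc y⟩, hx, hy3, hy⟩, rfl, hd.mem h⟩
  have h3 : ∀ i a, y * a * y⁻¹ = a → y * cz x i a = cz x (2 * i) a * y := fun i a ha => by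
    rw [← ha, ← cz_y hx hy, ha]; group
  have h4 : ∀ i < 6, pk TAU 7 i =
      [2 ^ 0, 2 ^ 2, mulQ (2 ^ 1) (2 ^ 2), 2 ^ 3, mulQ (2 ^ 4) (2 ^ 5), 2 ^ 4].getD i 0 := by
    decide +kernel
  rw [h4 i hi]
  interval_cases i <;>
    simp only [List.getD_cons_zero, List.getD_cons_succ, ← hH.th_mul, th_pow, Nat.reduceLT]
  · exact h3 _ _ h1
  · exact h3 _ _ h1
  · exact (h3 _ _ h1).trans (congrArg (· * y) (hd.ew.third 1))
  · exact h3 _ _ h2
  · exact (h3 _ _ h2).trans (congrArg (· * y) ((hd.ev.third 6).trans (hd.ev.com _ _)))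
  · exact h3 _ _ h2

end H14.He
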