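import Mathlib
import Cfsg.Agent.H14.HeT
import Cfsg.Agent.H22.SylIn
import Cfsg.Agent.H28.HeldTI
import Cfsg.Agent.S0215

/-! Exclusion of the wrong candidates for the centraliser of an involution. -/

set_option autoImplicit false

namespace H14.He

open H29 H7.Cay H22 Subgroup

variable {G : Type*} [Group G] [Finite G]

theorem fus_step {T : Subgroup G} {t : G} (hT : SylIn 2 T (centralizer {t})) (htT : t ∈ T)
    {a g : G} (ha : a ∈ T) (hg : g * a * g⁻¹ = t) : ∃ c ∈ centralizer ({t} : Set G),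
      c * g * t * (c * g)⁻¹ ∈ T ∧ gR T t a ≤ fR T (c * g * t * (c * g)⁻¹) ∧
        fR T a ≤ gR T t (c * g * t * (c * g)⁻¹) := by
  obtain ⟨c, hc, h1⟩ := hT.exists_cj_le (R := cj g (T ⊓ centralizer {a}))
    (by rw [← hg, ← cj_centralizer_singleton]; exact cj_mono inf_le_right)
    (isPGroup_cj (hT.isPGroup.to_le inf_le_left) g)
  rw [← cj_mul, cj_le_iff] at h1
  have h2 : ∀ u ∈ T, a * u = u * a → c * g * u * (c * g)⁻¹ ∈ T := fun u hu hau =>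
    h1 u ⟨hu, mem_centralizer_singleton_iff.2 hau.symm⟩
  have h3 : c * g * a * (c * g)⁻¹ = t := by
    rw [mem_centralizer_singleton_iff] at hc
    calc _ = c * (g * a * g⁻¹) * c⁻¹ := by group
      _ = t := by rw [hg, hc]; group
  have h4 : ∀ u ∈ T, u * t = t * u := fun u hu => mem_centralizer_singleton_iff.1 (hT.le hu)
  refine ⟨c, hc, h2 t htT (h4 a ha), ?_, ?_⟩ <;> generalize c * g = h at h2 h3
  · refine Set.ncard_le_ncard_of_injOn (fun u => h * u * h⁻¹) ?_ (fun u _ v _ huv => by simpa using huv)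
    rintro u ⟨hu, h5, h6⟩
    exact ⟨h2 u hu h6, by rw [← h5]; group⟩
  · refine Set.ncard_le_ncard_of_injOn (fun u => h * u * h⁻¹) ?_ (fun u _ v _ huv => by simpa using huv)
    rintro u ⟨hu, h5⟩
    refine ⟨h2 u hu (by rw [← h5, mul_assoc]), by rw [← h3, ← h5]; group, ?_⟩
    calc _ = h * (t * u) * h⁻¹ := by group
      _ = _ := by rw [← h4 u hu]; group

theorem fus_main {T : Subgroup G} {t : G} (hT : SylIn 2 T (centralizer {t})) (htT : t ∈ T)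
    (ht2 : t * t = 1) (ht1 : t ≠ 1)
    (hfg : ∀ b ∈ T, b * b = 1 → b ≠ 1 → b ≠ t → fR T b ≤ gR T t b) {d : G} (hd : IsConj t d)
    (hdt : d * t = t * d) (hne : d ≠ t) : ∃ c ∈ centralizer ({t} : Set G),
      c * d * c⁻¹ ∈ T ∧ gR T t (c * d * c⁻¹) ≤ fR T (c * d * c⁻¹) := by
  obtain ⟨g0, hg0⟩ := isConj_iff.1 hd.symm
  have hd2 : d ^ 2 ^ 1 = 1 := by
    obtain ⟨k, rfl⟩ := isConj_iff.1 hd
    rw [pow_one, conj_pow, sq, ht2]; group
  obtain ⟨c0, hc0, h0⟩ := hT.exists_cj_le (R := zpowers d)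
    (zpowers_le.2 (mem_centralizer_singleton_iff.2 hdt)) (isPGroup_zpowers hd2)
  obtain ⟨c, ⟨hc, hcT⟩, hmax⟩ := Set.exists_max_image
    {c | c ∈ centralizer ({t} : Set G) ∧ c * d * c⁻¹ ∈ T} (fun c => gR T t (c * d * c⁻¹))
    (Set.toFinite _) ⟨c0, hc0, h0 (conj_mem_cj (mem_zpowers d))⟩
  have hg : g0 * c⁻¹ * (c * d * c⁻¹) * (g0 * c⁻¹)⁻¹ = t := by rw [← hg0]; group
  obtain ⟨c1, hc1, hb, h1, -⟩ := fus_step hT htT hcT hg
  have h3 : c1 * (g0 * c⁻¹) * (c * d * c⁻¹) * (c1 * (g0 * c⁻¹))⁻¹ = t := by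
    rw [mem_centralizer_singleton_iff] at hc1
    calc _ = c1 * (g0 * c⁻¹ * (c * d * c⁻¹) * (g0 * c⁻¹)⁻¹) * c1⁻¹ := by group
      _ = t := by rw [hg, hc1]; group
  generalize c1 * (g0 * c⁻¹) = h at hb h1 h3
  obtain ⟨c2, hc2, ha, h4, -⟩ := fus_step hT htT hb (g := h⁻¹) (by group)
  have h5 : c2 * h⁻¹ * t * (c2 * h⁻¹)⁻¹ = c2 * c * d * (c2 * c)⁻¹ := by rw [← h3]; group
  rw [h5] at ha h4
  refine ⟨c2 * c, mul_mem hc2 hc, ha, (hmax _ ⟨mul_mem hc2 hc, ha⟩).trans (h1.trans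
    ((hfg _ hb ?_ ?_ ?_).trans h4))⟩
  · calc _ = h * (t * t) * h⁻¹ := by group
      _ = 1 := by rw [ht2]; group
  · simpa using ht1
  · intro h6
    apply hne
    have h7 : c * d * c⁻¹ = t := by simpa using h3.trans h6.symm
    rw [mem_centralizer_singleton_iff] at hc
    calc d = c⁻¹ * (c * d * c⁻¹) * c := by group
      _ = t := by rw [h7, mul_assoc, ← hc]; group

variable {e : ℕ → G} {x y j : G} {J n0 m : ℕ}

theorem Hyp.sylT (h : Hyp e x y j J n0 m) (h6 : e 6 ≠ 1) {S : ℕ} (hS : injC J S = true)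
    {A C Sq : ℕ} (hc : chkA J n0 m A C Sq = true) (hG : Nat.card G = 4030387200) :
    SylIn 2 (h.T hc) ⊤ := by
  have h1 := h.card_T h6 hS hc
  refine sylIn_of_not_dvd le_top (IsPGroup.of_card (n := 10) h1) ?_
  have := (h.T hc).card_mul_index
  rw [h1, hG] at this
  rw [relIndex_top_right]
  omega

theorem Hyp.key (h : Hyp e x y j J n0 m) (h6 : e 6 ≠ 1) {S : ℕ} (hS : injC J S = true)
    {A C Sq mask : ℕ} (hc : chkT J n0 m mask A C Sq = true) (hG : Nat.card G = 4030387200)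
    {d : G} (hd : IsConj (e 6) d) (hdt : d * e 6 = e 6 * d) (hne : d ≠ e 6) :
    ∃ c ∈ centralizer ({e 6} : Set G), ∃ u < 1024, u &&& mask = 0 ∧
      ps e x y j u = c * d * c⁻¹ := by
  rw [chkT, and2_true] at hc
  have hT : SylIn 2 (h.T hc.1) (centralizer {e 6}) :=
    (h.sylT h6 hS hc.1 hG).mono (by rintro _ ⟨u, -, rfl⟩; exact h.ph_cent _) le_top
  have h2 := h.heis.sq 6 (by norm_num)
  obtain ⟨c, hcc, hcT, h1⟩ := fus_main hT
    ⟨64, by norm_num, by rw [ps_small (by norm_num), th_64]⟩ h2 h6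
    (fun b hb h2 h1 ht => (h.fg h6 hS hc.1 hc.2 hb h2 h1 ht).elim le_of_lt And.left) hd hdt hne
  obtain ⟨k, rfl⟩ := isConj_iff.1 hd
  rcases h.fg h6 hS hc.1 hc.2 hcT (by
      calc _ = c * k * (e 6 * e 6) * (c * k)⁻¹ := by group
        _ = 1 := by rw [h2]; group) (by simpa using h6) (fun h7 => hne (by
      rw [mem_centralizer_singleton_iff] at hcc
      calc _ = c⁻¹ * (c * (k * e 6 * k⁻¹) * c⁻¹) * c := by group
        _ = _ := by rw [h7, mul_assoc, ← hcc]; group)) with h3 | h3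
  · omega
  · exact ⟨c, hcc, h3.2⟩

theorem Hyp.not_isol [IsSimpleGroup G] (h : Hyp e x y j J n0 m) (h6 : e 6 ≠ 1) {S : ℕ}
    (hS : injC J S = true) {A C Sq : ℕ} (hc : chkA J n0 m A C Sq = true)
    (hG : Nat.card G = 4030387200) : ∃ d, IsConj (e 6) d ∧ d * e 6 = e 6 * d ∧ d ≠ e 6 := by
  by_contra hcon
  obtain ⟨P, hP⟩ := (h.sylT h6 hS hc hG).exists_sylow
  have h2 : orderOf (e 6) = 2 :=
    orderOf_eq_prime (by rw [sq, h.heis.sq 6 (by norm_num)]) h6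
  obtain ⟨N, hN, ho, hg⟩ := Cfsg.Agent.S0215.result P (e 6) h2 (by
    change _ ∈ (P : Subgroup G)
    rw [hP]
    exact ⟨64, by norm_num, by rw [ps_small (by norm_num), th_64]⟩) fun g hg => by
      change _ ∈ (P : Subgroup G) at hg
      rw [hP] at hg
      obtain ⟨u, -, hu⟩ := hg
      by_contra h3
      exact hcon ⟨_, isConj_iff.2 ⟨g, rfl⟩,
        hu ▸ mem_centralizer_singleton_iff.1 (h.ph_cent _), h3⟩
  rcases hN.eq_bot_or_eq_top with rfl | rfl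
  · have h3 : e 6 ∈ center G := mem_center_iff.2 fun g => by
      have := mem_bot.1 (hg g)
      calc g * e 6 = (e 6 * g * (e 6)⁻¹ * g⁻¹) * (g * e 6) := by rw [this, one_mul]
        _ = _ := by group
    rcases (inferInstance : (center G).Normal).eq_bot_or_eq_top with h4 | h4
    · exact h6 (by simpa [h4] using h3)
    · have h5 := h.heis.pair 0 (by norm_num)
      rw [← mem_center_iff.1 (h4 ▸ mem_top (e (0 + 3))) (e 0)] at h5
      exact h6 (by simpa using h5)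
  · rw [card_top, hG] at ho
    exact absurd ho (by decide)

theorem Hyp.twisted [IsSimpleGroup G] (h : Hyp e x y j J n0 m) (h6 : e 6 ≠ 1) {S : ℕ}
    (hS : injC J S = true) {A C Sq : ℕ} (hc : chkT J n0 m 1023 A C Sq = true)
    (hG : Nat.card G = 4030387200) : False := by
  obtain ⟨d, h1, h2, h3⟩ := h.not_isol h6 hS (and2_true.1 hc).1 hG
  obtain ⟨c, -, u, hu, h4, h5⟩ := h.key h6 hS hc hG h1 h2 h3
  rw [show 1023 = 2 ^ 10 - 1 from rfl, Nat.and_two_pow_sub_one_eq_mod, Nat.mod_eq_of_lt hu] at h4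
  rw [h4, ps_small (by norm_num), th_zero] at h5
  obtain ⟨k, rfl⟩ := isConj_iff.1 h1
  exact h6 (by simpa using h5.symm)

/-- the conditions on the normal elementary subgroup of order 16. -/
def VOK (J mask τ : ℕ) : Prop :=
  (∀ u < 1024, u &&& mask = 0 → u < 128) ∧ 64 &&& mask = 0 ∧ τ < 128 ∧ τ &&& mask ≠ 0 ∧
  mulQ τ τ = 0 ∧
  (∀ n < 128, n &&& mask = 0 → invQ n &&& mask = 0 ∧ ap SIG n &&& mask = 0 ∧
    ap TAU n &&& mask = 0 ∧ ap J n &&& mask = 0 ∧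
    (∀ i < 7, mulQ (mulQ (2 ^ i) n) (2 ^ i) &&& mask = 0) ∧ ∀ k < 128, k &&& mask = 0 →
      mulQ n k &&& mask = 0 ∧ mulQ n k = mulQ k n ∧
      (mulQ τ n ≠ mulQ n τ → mulQ τ k ≠ mulQ k τ → mulQ τ (mulQ n k) = mulQ (mulQ n k) τ) ∧
      (n = 0 ∨ n = 64 ∨ k = 0 ∨ k = 64 ∨
        ∃ a < 7, ∃ q < 64, mulQ q ((ap SIG)^[a] n) = mulQ k q)) ∧
  (∃ n < 128, n &&& mask = 0 ∧ mulQ τ n ≠ mulQ n τ) ∧
  ∃ n < 128, n &&& mask = 0 ∧ n ≠ 0 ∧ n ≠ 64 ∧ mulQ τ n = mulQ n τ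

set_option synthInstance.maxSize 2000 in
set_option synthInstance.maxHeartbeats 200000 in
theorem vok2 : VOK J2 952 8 := by unfold VOK; decide +kernel
set_option synthInstance.maxSize 2000 in
set_option synthInstance.maxHeartbeats 200000 in
theorem vok3 : VOK J3 903 1 := by unfold VOK; decide +kernel

theorem Hyp.caseV [IsSimpleGroup G] (h : Hyp e x y j J n0 m) (h6 : e 6 ≠ 1) {S : ℕ}
    (hS : injC J S = true) {A C Sq mask τ : ℕ} (hc : chkT J n0 m mask A C Sq = true)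
    (hV : VOK J mask τ) (hG : Nat.card G = 4030387200)
    (hC : ∀ g ∈ centralizer ({e 6} : Set G), ∃ u, ph e x y j u = g) : False := by
  obtain ⟨v1, v2, v3, v4, v5, v6, v7, v8⟩ := hV
  have hm := h.heis.th_mul
  have hi : ∀ n < 128, ∀ k < 128, th e n = th e k ↔ n = k :=
    fun n hn k hk => ⟨h.heis.th_inj h6 hn hk, fun h => h ▸ rfl⟩
  let V : Subgroup G :=
    { carrier := th e '' {n | n < 128 ∧ n &&& mask = 0}
      one_mem' := ⟨0, ⟨by norm_num, by simp⟩, th_zero⟩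
      mul_mem' := by
        rintro _ _ ⟨n, hn, rfl⟩ ⟨k, hk, rfl⟩
        exact ⟨_, ⟨mulQ_lt hn.1 hk.1, ((v6 n hn.1 hn.2).2.2.2.2.2 k hk.1 hk.2).1⟩, (hm _ _).symm⟩
      inv_mem' := by
        rintro _ ⟨n, hn, rfl⟩
        exact ⟨_, ⟨invQ_lt hn.1, (v6 n hn.1 hn.2).1⟩, h.heis.th_inv hn.1⟩ }
  have hact : ∀ g T, Acts e g T → (∀ n < 128, n &&& mask = 0 → ap T n &&& mask = 0) →
      g ∈ normalizer (V : Set G) := fun g T hg hT => mem_normalizer_of_conj_mem <| by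
    rintro _ ⟨n, hn, rfl⟩
    exact ⟨_, ⟨ap_lt _ _, hT n hn.1 hn.2⟩, by rw [hg.th h.heis]; group⟩
  have he : ∀ i < 7, e i ∈ normalizer (V : Set G) := fun i hi => mem_normalizer_of_conj_mem <| by
    rintro _ ⟨n, hn, rfl⟩
    have h7 : 2 ^ i < 128 := Nat.pow_lt_pow_right (by norm_num) hi
    refine ⟨_, ⟨mulQ_lt (mulQ_lt h7 hn.1) h7, (v6 n hn.1 hn.2).2.2.2.2.1 i hi⟩, ?_⟩
    rw [← hm, ← hm, th_pow hi, inv_eq_of_mul_eq_one_right (h.heis.sq i hi)]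
  have hN : ∀ g ∈ centralizer ({e 6} : Set G), g ∈ normalizer (V : Set G) := fun g hg => by
    obtain ⟨u, rfl⟩ := hC g hg
    exact ph_mem he (hact _ _ h.ax fun n h1 h2 => (v6 n h1 h2).2.1)
      (hact _ _ h.ay fun n h1 h2 => (v6 n h1 h2).2.2.1)
      (hact _ _ h.aj fun n h1 h2 => (v6 n h1 h2).2.2.2.1) u
  have htV : e 6 ∈ V := ⟨64, ⟨by norm_num, v2⟩, th_64⟩
  have hk : ∀ d, IsConj (e 6) d → d * e 6 = e 6 * d → d ≠ e 6 → ∃ c ∈ centralizer ({e 6} : Set G),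
      c * d * c⁻¹ ∈ V := fun d h1 h2 h3 => by
    obtain ⟨c, hcc, u, hu, h4, h5⟩ := h.key h6 hS hc hG h1 h2 h3
    exact ⟨c, hcc, u, ⟨v1 u hu h4, h4⟩, by rw [← h5, ps_small (v1 u hu h4)]⟩
  have h2 : ∀ d, IsConj (e 6) d → d * e 6 = e 6 * d → d ∈ V := fun d h1 h2 => by
    by_cases h3 : d = e 6
    · exact h3 ▸ htV
    · obtain ⟨c, hcc, h4⟩ := hk d h1 h2 h3
      exact (mem_normalizer_iff.1 (hN c hcc) d).2 h4
  have hτ : ∀ n < 128, th e τ * th e n = th e n * th e τ ↔ mulQ τ n = mulQ n τ := fun n hn => by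
    rw [hm, hm, hi _ (mulQ_lt v3 hn) _ (mulQ_lt hn v3)]
  have hVc : ∀ v ∈ V, ∀ w ∈ V, v * w = w * v := by
    rintro _ ⟨n, hn, rfl⟩ _ ⟨k, hk, rfl⟩
    rw [hm, hm, ((v6 n hn.1 hn.2).2.2.2.2.2 k hk.1 hk.2).2.1]
  have hτV : th e τ ∉ V := by
    rintro ⟨n, hn, h7⟩
    exact v4 ((hi _ hn.1 _ v3).1 h7 ▸ hn.2)
  have hnorm : V.Normal := by
    refine H28.ti_normal (z := e 6) (τ := th e τ)
      (orderOf_eq_prime (by rw [sq, h.heis.sq 6 (by norm_num)]) h6) htV hVc ?_ h2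
      (orderOf_eq_prime (by rw [sq, hm, v5, th_zero]) fun h7 => hτV (h7 ▸ V.one_mem))
      (fun h7 => hτV (h2 _ h7 (h.heis.th_six τ).symm))
      (fun v hv => conj_mem_of_mem_normalizer (th_mem he τ) hv) ?_ ?_ ?_
    · obtain ⟨d, d1, d2, d3⟩ := h.not_isol h6 hS (and2_true.1 hc).1 hG
      obtain ⟨n, hn, rfl⟩ := h2 d d1 d2
      rintro _ ⟨k, hk, rfl⟩ hk1
      rcases ((v6 n hn.1 hn.2).2.2.2.2.2 k hk.1 hk.2).2.2.2 with
        rfl | rfl | rfl | rfl | ⟨a, -, q, -, h7⟩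
      · rw [th_zero, isConj_one_left] at d1; exact absurd d1 h6
      · exact absurd th_64 d3
      · exact absurd th_zero hk1
      · rw [th_64]
      · refine d1.trans (isConj_iff.2 ⟨th e q * x ^ a, ?_⟩)
        rw [mul_assoc _ _ (th e n), h.ax.pow h.heis, ← mul_assoc, hm, h7, ← hm]
        group
    · obtain ⟨n, hn, h7, h8⟩ := v7
      exact ⟨_, ⟨n, ⟨hn, h7⟩, rfl⟩, fun h9 => h8 ((hτ n hn).1 h9)⟩
    · rintro _ ⟨n, hn, rfl⟩ _ ⟨k, hk, rfl⟩ h7 h8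
      rw [hm, hτ _ (mulQ_lt hn.1 hk.1)]
      exact ((v6 n hn.1 hn.2).2.2.2.2.2 k hk.1 hk.2).2.2.1 (fun h9 => h7 ((hτ n hn.1).2 h9))
        fun h9 => h8 ((hτ k hk.1).2 h9)
    · obtain ⟨n, hn, h7, h8, h9, h10⟩ := v8
      refine ⟨_, htV, _, ⟨n, ⟨hn, h7⟩, rfl⟩, h6, fun h11 => h8 ?_, fun h11 => h9 ?_,
        (h.heis.th_six τ).symm, (hτ n hn).2 h10⟩
      · exact h.heis.th_eq_one h6 hn h11
      · exact (hi _ hn _ (by norm_num)).1 (h11.symm.trans th_64.symm)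
  rcases hnorm.eq_bot_or_eq_top with h7 | h7
  · exact h6 (by simpa [h7] using htV)
  · exact hτV (h7 ▸ mem_top _)

end H14.He
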