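import Mathlib
import Cfsg.Agent.H14.HeMul
import Cfsg.Agent.H28.M5

/-! The relations determine the group; the centraliser of a transvection in `L₅(2)`. -/

set_option autoImplicit false

namespace H14.He

open H29 H7.Cay

variable {H : Type*} [Group H] {e : ℕ → H} {x y j : H} {J n0 m : ℕ}

/-- the signature of a map on codes modulo the centre. -/
def sgn (f : ℕ → ℕ) : ℕ :=
  f 1 % 64 + 64 * (f 2 % 64 + 64 * (f 4 % 64 + 64 * (f 8 % 64 + 64 * (f 16 % 64 +
    64 * (f 32 % 64)))))

theorem Heis.mod_eq (h : Heis e) (h6 : e 6 ≠ 1) {D D' : H} {f f' : ℕ → ℕ} {n n' : ℕ}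
    (hD : ∀ k < 128, D * th e k = th e (f k) * D ∧ f k < 128)
    (hD' : ∀ k < 128, D' * th e k = th e (f' k) * D' ∧ f' k < 128) (hn : n < 128) (hn' : n' < 128)
    (hh : th e n * D = th e n' * D') {k : ℕ} (hk : k < 128) : f k % 64 = f' k % 64 := by
  have h1 : th e n * th e (f k) = th e n' * th e (f' k) * th e (invQ n') * th e n := by
    apply mul_right_cancel (b := D)
    rw [h.th_inv hn', mul_assoc, ← (hD k hk).1, ← mul_assoc, hh, mul_assoc, (hD' k hk).1,
      mul_assoc _ (th e n), hh]
    group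
  simp only [h.th_mul] at h1
  have h2 := h.th_inj h6 (mulQ_lt hn (hD k hk).2)
    (mulQ_lt (mulQ_lt (mulQ_lt hn' (hD' k hk).2) (invQ_lt hn')) hn) h1
  apply Nat.eq_of_testBit_eq
  intro i
  rw [show 64 = 2 ^ 6 from rfl, Nat.testBit_mod_two_pow, Nat.testBit_mod_two_pow]
  by_cases hi : i < 6
  · have h3 := congrArg (fun z => Nat.testBit z i) h2
    simp only [testBit_mulQ_lt _ _ hi.ne, invQ, xor_eq, Nat.testBit_xor] at h3
    revert h3
    cases n.testBit i <;> cases n'.testBit i <;> cases (f k).testBit i <;>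
      cases (f' k).testBit i <;> simp
  · simp [hi]

theorem Heis.sgn_eq (h : Heis e) (h6 : e 6 ≠ 1) {D D' : H} {f f' : ℕ → ℕ} {n n' : ℕ}
    (hD : ∀ k < 128, D * th e k = th e (f k) * D ∧ f k < 128)
    (hD' : ∀ k < 128, D' * th e k = th e (f' k) * D' ∧ f' k < 128) (hn : n < 128) (hn' : n' < 128)
    (hh : th e n * D = th e n' * D') : sgn f = sgn f' := by
  have key := fun k hk => h.mod_eq h6 hD hD' hn hn' hh (k := k) hk
  simp only [sgn, key 1 (by norm_num), key 2 (by norm_num), key 4 (by norm_num),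
    key 8 (by norm_num), key 16 (by norm_num), key 32 (by norm_num)]

theorem iter_lt (T a : ℕ) {n : ℕ} (hn : n < 128) : (ap T)^[a] n < 128 := by
  cases a with
  | zero => exact hn
  | succ a => rw [Function.iterate_succ_apply']; exact ap_lt _ _

theorem act_lt (a b : ℕ) {n : ℕ} (hn : n < 128) : act a b n < 128 := iter_lt _ _ (iter_lt _ _ hn)

/-- the action of a coset representative. -/
noncomputable def lin (J a b c k : ℕ) : ℕ :=
  act a b (cond (Nat.beq c 7) k (ap J ((ap SIG)^[c] k)))

theorem Hyp.ph_lin (h : Hyp e x y j J n0 m) (a b c : ℕ) {k : ℕ} (hk : k < 128) :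
    ph e x y j ((0, a, b), c) * th e k = th e (lin J a b c k) * ph e x y j ((0, a, b), c) ∧
      lin J a b c k < 128 := by
  have h1 : ∀ k, x ^ a * y ^ b * th e k = th e (act a b k) * (x ^ a * y ^ b) := fun k => by
    rw [mul_assoc, h.ay.pow h.heis, ← mul_assoc, h.ax.pow h.heis, mul_assoc, act]
  simp only [ph, be, lin, th_zero, one_mul]
  cases Nat.beq c 7
  · refine ⟨?_, act_lt _ _ (ap_lt _ _)⟩
    simp only [cond_false]
    rw [mul_assoc, mul_assoc j, h.ax.pow h.heis, ← mul_assoc j, h.aj.th h.heis, mul_assoc _ j,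
      ← mul_assoc, h1, mul_assoc]
  · exact ⟨by simpa using h1 k, act_lt _ _ hk⟩

theorem ph_split (n a b c : ℕ) :
    ph e x y j ((n, a, b), c) = th e n * ph e x y j ((0, a, b), c) := by
  simp [ph, be, th_zero, mul_assoc]

/-- the signature of the coset with number `k`. -/
noncomputable def sgC (J k : ℕ) : ℕ := sgn (lin J (k % 7) (k / 7 % 3) (k / 21))

/-- the cosets act differently. -/
noncomputable def injC (J S : ℕ) : Bool :=
  and2 (allF 168 fun k => Nat.beq (sgC J k) (pk S 36 k))
    (allF 168 fun k => allF k fun l => not (Nat.beq (pk S 36 k) (pk S 36 l)))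

theorem injC_spec {J S : ℕ} (h : injC J S = true) {k l : ℕ} (hk : k < 168) (hl : l < 168)
    (hkl : sgC J k = sgC J l) : k = l := by
  simp only [injC, and2_true, allF_true, nbeq, Bool.not_eq_true', ← Bool.not_eq_true] at h
  rw [h.1 k hk, h.1 l hl] at hkl
  rcases lt_trichotomy k l with h1 | h1 | h1
  · exact absurd hkl.symm (h.2 l hl k h1)
  · exact h1
  · exact absurd hkl (h.2 k hk l h1)

/-- the code with given indices. -/
def cd (s : Fin 128 × Fin 168) : CC := ((s.1, s.2 % 7, s.2 / 7 % 3), s.2 / 21)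

theorem Hyp.ph_inj (h : Hyp e x y j J n0 m) (h6 : e 6 ≠ 1) {S : ℕ} (hS : injC J S = true) :
    Function.Injective fun s => ph e x y j (cd s) := by
  rintro ⟨n, k⟩ ⟨n', k'⟩ hh
  simp only [cd] at hh
  rw [ph_split, ph_split (n := n')] at hh
  have h1 := h.heis.sgn_eq h6 (fun i hi => h.ph_lin _ _ _ hi) (fun i hi => h.ph_lin _ _ _ hi)
    n.2 n'.2 hh
  obtain rfl : k = k' := Fin.ext (injC_spec hS k.2 k'.2 h1)
  rw [Fin.ext (h.heis.th_inj h6 n.2 n'.2 (mul_right_cancel hh))]

theorem mB_lt1 {p q : CB} (hp : p.1 < 128) (hq : q.1 < 128) : (mB p q).1 < 128 :=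
  mulQ_lt hp (act_lt _ _ hq)

theorem PP_lt (hn : n0 < 128) (hm : m < 128) (J a : ℕ) : (PP J n0 m a).1 < 128 := by
  have h0 : (0 : ℕ) < 128 := by norm_num
  have h1 : (P1 n0 m).1 < 128 := mB_lt1 (mB_lt1 hm h0) (invQ_lt hn)
  have h6 : (P6 J n0 m).1 < 128 := mB_lt1 (mB_lt1 hn h0) (ap_lt _ _)
  have h2 : ∀ p : CB, p.1 < 128 → (nxt p).1 < 128 := fun p hp => mB_lt1 (mB_lt1 h0 hp) h0
  have h3 : ∀ (b : Bool) (p q : CB), p.1 < 128 → q.1 < 128 → (cond b p q).1 < 128 :=
    fun b p q hp hq => by cases b <;> assumption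
  exact h3 _ _ _ h1 (h3 _ _ _ (h2 _ (h2 _ h1)) (h3 _ _ _ (h2 _ h6) (h3 _ _ _ (h2 _ h1)
    (h3 _ _ _ (h2 _ (h2 _ h6)) h6))))

theorem mC_ok (hn : n0 < 128) (hm : m < 128) (J : ℕ) {u v : CC} (hu : u.1.1 < 128)
    (hv : v.1.1 < 128) (hv2 : v.2 < 8) : (mC J n0 m u v).1.1 < 128 ∧ (mC J n0 m u v).1.2.1 < 7 ∧
      (mC J n0 m u v).1.2.2 < 3 ∧ (mC J n0 m u v).2 < 8 := by
  have h0 : (0 : ℕ) < 128 := by norm_num
  have h7 : ∀ k, k % 7 < 8 := fun k => by omega
  have hr : (mB u.1 (ap J (mB (0, u.2, 0) v.1).1, 0, 0)).1 < 128 := mB_lt1 hu (ap_lt _ _)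
  simp only [mC]
  cases Nat.beq u.2 7
  · cases Nat.beq v.2 7
    · cases Nat.beq (mB (0, u.2, 0) v.1).2.1 0
      · exact ⟨mB_lt1 (mB_lt1 hr (PP_lt hn hm _ _)) h0, (mB_lt _ _).1, (mB_lt _ _).2, h7 _⟩
      · exact ⟨mB_lt1 (mB_lt1 (mB_lt1 hr h0) hn) h0, (mB_lt _ _).1, (mB_lt _ _).2, by norm_num⟩
    · exact ⟨mB_lt1 hr h0, (mB_lt _ _).1, (mB_lt _ _).2, h7 _⟩
  · exact ⟨mB_lt1 hu hv, (mB_lt _ _).1, (mB_lt _ _).2, hv2⟩

theorem exists_cd {u : CC} (h : u.1.1 < 128 ∧ u.1.2.1 < 7 ∧ u.1.2.2 < 3 ∧ u.2 < 8) :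
    ∃ s, cd s = u := by
  obtain ⟨⟨n, a, b⟩, c⟩ := u
  simp only at h
  refine ⟨(⟨n, h.1⟩, ⟨a + 7 * b + 21 * c, by omega⟩), ?_⟩
  simp only [cd, Prod.mk.injEq, true_and]
  omega

theorem Hyp.ph_bij (h : Hyp e x y j J n0 m) (h6 : e 6 ≠ 1) {S : ℕ} (hS : injC J S = true)
    (hc : Nat.card H = 21504) : Function.Bijective fun s => ph e x y j (cd s) := by
  haveI : Finite H := Nat.finite_of_card_ne_zero (by omega)
  rw [Nat.bijective_iff_injective_and_card]
  exact ⟨h.ph_inj h6 hS, by simp [hc]⟩

theorem Hyp.iso (h : Hyp e x y j J n0 m) (h6 : e 6 ≠ 1) {S : ℕ} (hS : injC J S = true)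
    (hc : Nat.card H = 21504) {K : Type*} [Group K] {e' : ℕ → K} {x' y' j' : K}
    (h' : Hyp e' x' y' j' J n0 m) (h6' : e' 6 ≠ 1) (hc' : Nat.card K = 21504) :
    Nonempty (H ≃* K) := by
  let E := Equiv.ofBijective _ (h.ph_bij h6 hS hc)
  let E' := Equiv.ofBijective _ (h'.ph_bij h6' hS hc')
  refine ⟨{ E.symm.trans E' with map_mul' := fun a b => ?_ }⟩
  obtain ⟨s, rfl⟩ := E.surjective a
  obtain ⟨r, rfl⟩ := E.surjective b
  obtain ⟨w, hw⟩ := exists_cd (mC_ok h.hn h.hm J (u := cd s) (v := cd r) s.1.2 r.1.2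
    (by have := r.2.2; simp only [cd]; omega))
  have h1 : E s * E r = E w := (h.ph_mul _ _).trans (by rw [← hw]; rfl)
  have h2 : E' s * E' r = E' w := (h'.ph_mul _ _).trans (by rw [← hw]; rfl)
  simp [h1, h2]

/-- the first action of the involution. -/
def J1 : ℕ := 558362558977
/-- the second action of the involution. -/
def J2 : ℕ := 2912541508097
/-- the third action of the involution. -/
def J3 : ℕ := 558364142081

theorem injC1 : injC J1 
    0xe108010c5628405107230a07086838c06043418e03144a086041c2c20202181a38803085c18404047e08a02146620c011c3210e051848286070c2430206101428802045a30401147c38a051c6e18c07183608e060c4220603102810204081e30401146638a051c3218c07184808e060c2420603101a10204085c28802047a18e03147c086041c6e202021836108010c4228405102830a07081438c06045408a02144a20c011c2c10e05181e286070c5630206107238803086818404043c28e05187e306070c6638206103218803084808404042420a02141a10c011c5610a051c4228c07182830e060c1438603105a18204087c08802046e20401143238405106818a07083408c06044a20e03142c106041c1e2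82021856308010c7a08c061c2c20e03181e106040c5628202107230801086838405043418a07144430607101a38206085c18803047e08404146620a021c3210c01184828e050c2e182041836088020c4220401102810a05081428c07045a30e06147c386031c6218a07084808c06042420e03141a106041c5c28202187e308010c6638405103c08404046e20a02143610c011c4228e051828306070c1438206105a18803087630e060c7238603106818204083408802044a20401142c10a051c1e28c07185620202103210801084828405042430a07141a38c061c5c18e03187e086040c6220c01182810e050c1428607105a30206087c38803046e18404143608a021c4c206031c1e102041856288020c7230401106838a05083418c07044a08e061428106040c1428202105a30801087c38405046e18a07143608c061c4220e03182838206083418803044a08404142c20a021c1e10c01185628e050c7230607106828c07042430e06141a386031c5c18204187e088020c6620401103210a05084438803045a18404147c08a021c6e20c01183610e050c4228607102830206081e288020c5630401107238a05086818c07043408e06144a206031c2c10204181a10801085c28405047e30a07146638c061c3218e031848086040c2420202101 = true := by decide +kernel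
theorem injC2 : injC J2 
    0xe108010c5628405107230a07086838c06043418e03144a086041c2c20202181a38803085c18404047e08a02146620c011c3210e051848286070c2430206101428802045a30401147c38a051c6e18c07183608e060c4220603102810204081ef144114673db451c329fdc718484ef860c25636c3101bd4304085daa882047a9bec3147c4c7041c6f622821837d18410c43ad5451028f7bc708153ed8604544aa82144b61c411c2dd5f45181faf7c70c56f638610733b8c308689c504043c6aec5187f717070c67fd28610339f8430848ce544042523bc2141a94d811c56d1a851c432dc471828b7f460c147e7c3105b5b384087dcc8c2046fa25011432bb44510685cb4708354adc6044be1f83142d956c41c1eef3021857368810c7a8ac461c2c61f43181f557c40c57ef3821073b68c10868fb50504351ca871444716c7101b7d306085ddf883047f8e4441466e3b421c3314dc11848aaf850c2edb28418370c8420c42a2541102851bc508156dd87045bf7ec6147dbe7031c629ba8708484cc46042562f43141bd17c41c5dad382187ef78c10c673e505103c4a444046f61b421437d5dc11c43aff851828f66c70c153b306105a9c8830876f1ec60c733d70310689f28408344e842044b63541142dd4bc51c1faad871856e02821033108410848a8545042470b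c7141b78d861c5dd8ec3187f887040c62a0c41182850f450c15687c7105bf0386087db88c3046ed8504143708a821c4c606c31c1f503041857e88820c73b04411068f8b45083518dc7044a88f861428116c40c142d302105a37881087c3e445046e1bb4714360cdc61c4222f8318283b28608341c843044a0a544142c21bc21c1e15d8118562fec50c723670710682ac47042431f46141a3d7c31c5c1f384187e0e8c20c6623501103214a8508447b803045b5c404147dcaa021c6fa1c011836d5e050c432f6071028b6206081eea8020c57314011072bda0508685fc0704354ee06144be36031c2d94204181a91801085c6d405047f77a071467fec061c339be031848cc6040c2522202101 = true := by decide +kernel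
theorem injC3 : injC J3 
    0xe108010c5628405107230a07086838c06043418e03144a086041c2c20202181a38803085c18404047e08a02146620c011c3210e051848286070c2430206101428802045a30401147c38a051c6e18c07183608e060c4220603102810204081e3041117e638a2d1db218c3718c808e3e0e242061b111a1020c0adc28822077a18e3b16fc0861c1f6e2020a1bb6108210dc22841510a830a2f0a1438c36055408a2a154a20c311eac10e3d1b1e2861f0fd63020e11f23882308e818414063c28e05fafe306076f663820633b21880389c80840444a420a02b61a10c01dd5610a05bd4228c07daa830e06ef143860373da1820429fc0880284ee2040156323840553e818a07a9b408c06c4ca20e03f62c106047d1e282023ad6308018f7a08c3ebeac20e1bdb1e1060cefd62822271f23081128e83842d863418a3755443062f511a38236aadc1883bc77e0841cf7e620a0a7db210c2138c828e158e2e18214fbb60882a6dc22043130a810a3d8a1428c1f455a30e0eb6fc38623df6218a2fa94808c36c6a420e3bf71a1061c7fdc2820a39fe308218ce638415523c0841447ee20a2ab5b610c31dcc228e3dfa283061f6d143820e32da188238b7630e3eeef23861b73681820c2bb40882285ca2041154ac10a2dbe1e28c37d9562022a53b210831a9c82843dc4a430a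1ff61a38c0e7d5c18e233afe086148f6220c11faa810e2d6f142863733da3023e89fc3881b44ee1840cb63608a22dd4c2063bbd1e1021cdad62880aef723042173e838a1529b418c2f84ca08e36562810614ed142822a72da308312b7c3843d87ee18a1f55b608c0ebcc220e23da283823eabb41881bc5ca0840cf4ac20a227e1e10c11395628e2d8ef230637536828c2f46a430e36b71a3863bdfdc1821cf9fe0880a6ce620421323210a1589443883b445a1841cb47c08a0adc6e20c21f83610e156c422862f302830236881e2882aec5630431707238a3d286818c1f843408e0e544a20623bc2c10214d81a10811a85c2842dc47e30a37f46638c3e7c3218e1b38480860c8c2420222501 = true := by decide +kernel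

open H28

/-- the generators of the extraspecial group in the centraliser of a transvection. -/
def eH (i : ℕ) : Hc := hc ([17044033, 17567809, 17059905, 17043523, 17043529, 17043525,
  17043537].getD i 0)

theorem hypH : Hyp eH (hc 16982145) (hc 16920641) (hc 16916545) J1 0 0 :=
  { heis := ⟨by decide +kernel, by decide +kernel, by decide +kernel⟩
    ax := ⟨by decide +kernel, by decide +kernel⟩
    ay := ⟨by decide +kernel, by decide +kernel⟩
    aj := ⟨by decide +kernel, by decide +kernel⟩
    x7 := by decide +kernel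
    y3 := by decide +kernel
    yx := by decide +kernel
    jy := by decide +kernel
    jj := by decide +kernel
    jx := by decide +kernel
    hn := by norm_num
    hm := by norm_num }

theorem Hyp.iso_Hc (h : Hyp e x y j J1 0 0) (h6 : e 6 ≠ 1) (hc : Nat.card H = 21504) :
    Nonempty (H ≃* Subgroup.centralizer ({s5} : Set L5)) := by
  obtain ⟨f⟩ := h.iso h6 injC1 hc hypH (by decide +kernel) Hc.card
  exact ⟨f.trans Hc.equiv⟩

end H14.He
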