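import Mathlib
import Cfsg.Agent.H14.HeIso

/-! The action of the involution on the extraspecial group: six sets of relations. -/

set_option autoImplicit false

namespace H14.He

open H29 H7.Cay

variable {H : Type*} [Group H] {e : ℕ → H} {x y j : H}

/-- the packed action with four given images. -/
noncomputable def pJ (a b c d : ℕ) : ℕ :=
  a + 128 * (c + 128 * (ap TAU (ap TAU c) + 128 * (b + 128 * (ap TAU (ap TAU d) + 128 * d))))

theorem pk7 (T i : ℕ) : pk T 7 i = T / 2 ^ (7 * i) % 128 := by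
  rw [pk, shr_eq, Nat.shiftRight_eq_div_pow]; rfl

/-- conjugation by a code. -/
def cq (q n : ℕ) : ℕ := mulQ (mulQ q n) (invQ q)

/-- the search for the action. -/
noncomputable def chkJ : Bool :=
  allL [0, 1, 8, 9, 64, 65, 72, 73] fun a => allL [0, 1, 8, 9, 64, 65, 72, 73] fun b =>
  allL [0, 2, 4, 6, 16, 22, 32, 36, 48, 50, 82, 84, 98, 102, 116, 118] fun c =>
  allL [0, 2, 4, 6, 16, 18, 32, 38, 48, 52, 84, 86, 98, 100, 114, 118] fun d =>
  lit (pJ a b c d) fun T =>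
  imp2 (allF 6 fun i => Nat.beq (ap T (ap T (2 ^ i)) % 64) (2 ^ i % 64))
    (imp2 (allF 6 fun i => Nat.beq
        (ap T (ap SIG (ap T (ap SIG (ap T (ap SIG (2 ^ i)))))) % 64) (2 ^ i % 64))
      (anyL [0, 1, 8, 9] fun q => anyL [J1, J2, J3] fun T' =>
        allF 6 fun i => Nat.beq (ap T (cq q (2 ^ i))) (pk T' 7 i)))

theorem chkJ_true : chkJ = true := by decide +kernel

theorem two_pow_lt {i : ℕ} (hi : i < 6) : 2 ^ i < 128 :=
  Nat.pow_lt_pow_right (by norm_num) (show i < 7 by omega)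

theorem cube {g : H} {f : ℕ → ℕ} (h : ∀ k, g * th e k = th e (f k) * g) (k : ℕ) :
    g ^ 3 * th e k = th e (f (f (f k))) * g ^ 3 := by
  rw [pow_three, mul_assoc, mul_assoc, h, ← mul_assoc g (th e _), h, mul_assoc (th e _),
    ← mul_assoc g (th e _), h, mul_assoc]

theorem HypB.action (h : HypB e x y) (h6 : e 6 ≠ 1) {Q : Subgroup H} [hN : Q.Normal]
    (hQ : ∀ i < 7, e i ∈ Q) (hc : Nat.card Q = 128) (hj6 : j * e 6 = e 6 * j)
    (hjy : j * y = y ^ 2 * j) (hjj : j * j ∈ Q) (hjx : (j * x) ^ 3 ∈ Q) :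
    ∃ q, y * th e q = th e q * y ∧
      (Acts e (j * th e q) J1 ∨ Acts e (j * th e q) J2 ∨ Acts e (j * th e q) J3) := by
  have hm := h.heis.th_mul
  have hs : ∀ i < 7, ∃ n < 128, j * e i = th e n * j := fun i hi => by
    obtain ⟨n, hn, h1⟩ := h.heis.th_surj h6 hQ hc (hN.conj_mem _ (hQ i hi) j)
    exact ⟨n, hn, by rw [h1]; group⟩
  obtain ⟨a, ha, h0⟩ := hs 0 (by norm_num)
  obtain ⟨b, hb, h3⟩ := hs 3 (by norm_num)
  obtain ⟨c, hc', h1⟩ := hs 1 (by norm_num)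
  obtain ⟨d, hd, h5⟩ := hs 5 (by norm_num)
  have hy : ∀ k n, j * th e k = th e n * j →
      j * th e (ap TAU k) = th e (ap TAU (ap TAU n)) * j := fun k n hk => by
    apply mul_right_cancel (b := y)
    rw [mul_assoc, ← h.ay.th h.heis, ← mul_assoc, hjy, mul_assoc, hk, sq, mul_assoc,
      ← mul_assoc y (th e n), h.ay.th h.heis, mul_assoc, ← mul_assoc y, h.ay.th h.heis,
      mul_assoc _ j, hjy, sq]
    simp only [mul_assoc]
  have h2 : j * e 2 = th e (ap TAU (ap TAU c)) * j := by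
    rw [← hy (2 ^ 1) c (by rwa [th_pow (by norm_num)]),
      show ap TAU (2 ^ 1) = 2 ^ 2 by decide +kernel, th_pow (by norm_num)]
  have h4 : j * e 4 = th e (ap TAU (ap TAU d)) * j := by
    rw [← hy (2 ^ 5) d (by rwa [th_pow (by norm_num)]),
      show ap TAU (2 ^ 5) = 2 ^ 4 by decide +kernel, th_pow (by norm_num)]
  have hA : Acts e j (pJ a b c d) := by
    have l1 := ap_lt TAU (ap TAU c)
    have l2 := ap_lt TAU (ap TAU d)
    refine ⟨fun i hi => ?_, hj6⟩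
    rw [pk7, pJ]
    interval_cases i
    · rw [h0]; congr 2; omega
    · rw [h1]; congr 2; omega
    · rw [h2]; congr 2; omega
    · rw [h3]; congr 2; omega
    · rw [h4]; congr 2; omega
    · rw [h5]; congr 2; omega
  have hfix : ∀ i a, a < 128 → i < 7 → ap TAU (2 ^ i) = 2 ^ i → j * e i = th e a * j →
      a ∈ [0, 1, 8, 9, 64, 65, 72, 73] := fun i a ha hi h7 h8 => by
    have h9 := hy (2 ^ i) a (by rwa [th_pow hi])
    rw [h7, th_pow hi, h8] at h9
    have h10 := h.heis.th_inj h6 ha (ap_lt _ _) (mul_right_cancel h9)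
    clear h8 h9
    revert a
    decide +kernel
  have hc2 : c ∈ [0, 2, 4, 6, 16, 22, 32, 36, 48, 50, 82, 84, 98, 102, 116, 118] := by
    have h7 := hy (2 ^ 2) (ap TAU (ap TAU c)) (by rwa [th_pow (by norm_num)])
    rw [show ap TAU (2 ^ 2) = mulQ (2 ^ 1) (2 ^ 2) by decide +kernel, ← hm, th_pow (by norm_num),
      th_pow (by norm_num), ← mul_assoc, h1, mul_assoc, h2, ← mul_assoc, hm] at h7
    have h8 := h.heis.th_inj h6 (mulQ_lt hc' (ap_lt _ _)) (ap_lt _ _) (mul_right_cancel h7)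
    clear h7 h1 h2 hA
    revert c
    decide +kernel
  have hd2 : d ∈ [0, 2, 4, 6, 16, 18, 32, 38, 48, 52, 84, 86, 98, 100, 114, 118] := by
    have h7 := hy (2 ^ 4) (ap TAU (ap TAU d)) (by rwa [th_pow (by norm_num)])
    rw [show ap TAU (2 ^ 4) = mulQ (2 ^ 4) (2 ^ 5) by decide +kernel, ← hm, th_pow (by norm_num),
      th_pow (by norm_num), ← mul_assoc, h4, mul_assoc, h5, ← mul_assoc, hm] at h7
    have h8 := h.heis.th_inj h6 (mulQ_lt (ap_lt _ _) hd) (ap_lt _ _) (mul_right_cancel h7)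
    clear h7 h4 h5 hA
    revert d
    decide +kernel
  have hk := chkJ_true
  simp only [chkJ, allL_true, lit_eq, imp2_true, allF_true, nbeq, anyL_true] at hk
  replace hk := hk a (hfix 0 a ha (by norm_num) (by decide +kernel) h0)
    b (hfix 3 b hb (by norm_num) (by decide +kernel) h3) c hc2 d hd2
  generalize pJ a b c d = T at hA hk
  obtain ⟨n, hn, hn'⟩ := h.heis.th_surj h6 hQ hc hjj
  obtain ⟨m, hm1, hm'⟩ := h.heis.th_surj h6 hQ hc hjx
  have hid : ∀ k < 128, 1 * th e k = th e (id k) * 1 ∧ id k < 128 := fun k hk => ⟨by simp, hk⟩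
  have hjx1 : ∀ k, j * x * th e k = th e (ap T (ap SIG k)) * (j * x) := fun k => by
    rw [mul_assoc, h.ax.th h.heis, ← mul_assoc, hA.th h.heis, mul_assoc]
  obtain ⟨q, hq, T', hT', hh⟩ := hk
    (fun i hi => h.heis.mod_eq h6 (D := j * j) (f := fun k => ap T (ap T k)) (n := 0)
      (fun k _ => ⟨by rw [mul_assoc, hA.th h.heis, ← mul_assoc, hA.th h.heis, mul_assoc],
        ap_lt _ _⟩) hid (by norm_num) hn (by rw [th_zero, hn']; simp) (two_pow_lt hi))
    (fun i hi => h.heis.mod_eq h6 (D := (j * x) ^ 3) (n := 0)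
      (f := fun k => ap T (ap SIG (ap T (ap SIG (ap T (ap SIG k))))))
      (fun k _ => ⟨cube hjx1 k, ap_lt _ _⟩)
      hid (by norm_num) hm1 (by rw [th_zero, hm']; simp) (two_pow_lt hi))
  have hq2 : q < 128 ∧ ap TAU q = q := by
    clear hh
    revert q
    decide +kernel
  have hA' : Acts e (j * th e q) T' := by
    refine ⟨fun i hi => ?_, by rw [mul_assoc, ← h.heis.th_six, ← mul_assoc, hj6, mul_assoc]⟩
    rw [← hh i hi, ← mul_assoc, ← hA.th h.heis, cq, ← hm, ← hm, h.heis.th_inv hq2.1,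
      th_pow (by omega)]
    group
  refine ⟨q, by rw [h.ay.th h.heis, hq2.2], ?_⟩
  simp only [List.mem_cons, List.not_mem_nil, or_false] at hT'
  rcases hT' with rfl | rfl | rfl
  exacts [Or.inl hA', Or.inr (Or.inl hA'), Or.inr (Or.inr hA')]

theorem HypB.signs (h : HypB e x y) (h6 : e 6 ≠ 1) {Q : Subgroup H}
    (hQ : ∀ i < 7, e i ∈ Q) (hc : Nat.card Q = 128) {J m0 : ℕ} (hA : Acts e j J)
    (hjy : j * y = y ^ 2 * j) (hjj : j * j ∈ Q) (hjx : (j * x) ^ 3 ∈ Q) (hm0 : m0 < 128)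
    (d1 : ∀ n < 128, (∀ i < 6, mulQ n (2 ^ i) = mulQ (ap J (ap J (2 ^ i))) n) → n = 0 ∨ n = 64)
    (d2 : ∀ m < 128, (∀ i < 6, mulQ m (2 ^ i) =
      mulQ (ap J (ap SIG (ap J (ap SIG (ap J (ap SIG (2 ^ i))))))) m) → m = m0 ∨ mulQ m 64 = m0) :
    ∃ j', Hyp e x y j' J 0 m0 ∨ Hyp e x y j' J 64 m0 := by
  have hm := h.heis.th_mul
  obtain ⟨n, hn, hn'⟩ := h.heis.th_surj h6 hQ hc hjj
  obtain ⟨m, hm1, hm'⟩ := h.heis.th_surj h6 hQ hc hjx
  have hjx1 : ∀ k, j * x * th e k = th e (ap J (ap SIG k)) * (j * x) := fun k => by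
    rw [mul_assoc, h.ax.th h.heis, ← mul_assoc, hA.th h.heis, mul_assoc]
  have h1 := d1 n hn fun i hi => h.heis.th_inj h6 (mulQ_lt hn (two_pow_lt hi))
    (mulQ_lt (ap_lt _ _) hn) (by
      rw [← hm, ← hm, hn', mul_assoc, hA.th h.heis, ← mul_assoc, hA.th h.heis, mul_assoc])
  have h2 := d2 m hm1 fun i hi => h.heis.th_inj h6 (mulQ_lt hm1 (two_pow_lt hi))
    (mulQ_lt (ap_lt _ _) hm1) (by rw [← hm, ← hm, hm', cube hjx1])
  have key : ∃ j', Hyp e x y j' J n m0 := by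
    rcases h2 with rfl | h2
    · exact ⟨j, h, hA, hjy, hn'.symm, hm'.symm, hn, hm0⟩
    · have h3 := h.heis.sq 6 (by norm_num)
      have cx : Commute (e 6) x := h.ax.six.symm
      have cy : Commute (e 6) y := h.ay.six.symm
      have cj : Commute (e 6) j := hA.six.symm
      refine ⟨e 6 * j, h, ⟨fun i hi => ?_, ?_⟩, ?_, ?_, ?_, hn, hm0⟩
      · rw [mul_assoc, hA.bas i hi, ← mul_assoc, h.heis.th_six, mul_assoc]
      · rw [mul_assoc, hA.six]
      · rw [mul_assoc, hjy, ← mul_assoc, (cy.pow_right 2).eq, mul_assoc]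
      · rw [hn', mul_assoc, ← mul_assoc j, ← cj.eq, ← mul_assoc, ← mul_assoc, h3, one_mul]
      · rw [mul_assoc, (cj.mul_right cx).mul_pow, ← h2, ← hm, hm', th_64, pow_three (e 6), h3,
          mul_one, ((cj.mul_right cx).pow_right 3).eq]
  obtain ⟨j', h4⟩ := key
  rcases h1 with rfl | rfl
  exacts [⟨j', Or.inl h4⟩, ⟨j', Or.inr h4⟩]

theorem HypB.six_cases (h : HypB e x y) (h6 : e 6 ≠ 1) {Q : Subgroup H} [hN : Q.Normal]
    (hQ : ∀ i < 7, e i ∈ Q) (hc : Nat.card Q = 128) (hj6 : j * e 6 = e 6 * j)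
    (hjy : j * y = y ^ 2 * j) (hjj : j * j ∈ Q) (hjx : (j * x) ^ 3 ∈ Q) :
    ∃ j', (Hyp e x y j' J1 0 0 ∨ Hyp e x y j' J1 64 0) ∨
      (Hyp e x y j' J2 0 2 ∨ Hyp e x y j' J2 64 2) ∨
      (Hyp e x y j' J3 0 16 ∨ Hyp e x y j' J3 64 16) := by
  obtain ⟨q, h1, h2⟩ := h.action h6 hQ hc hj6 hjy hjj hjx
  have h3 : j * th e q * y = y ^ 2 * (j * th e q) := by
    rw [mul_assoc, ← h1, ← mul_assoc, hjy, mul_assoc]
  have h4 : ((j * th e q : H) : H ⧸ Q) = j := by
    rw [QuotientGroup.mk_mul, (QuotientGroup.eq_one_iff _).2 (th_mem hQ q), mul_one]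
  have h5 : j * th e q * (j * th e q) ∈ Q := by
    rwa [← QuotientGroup.eq_one_iff, QuotientGroup.mk_mul, h4, ← QuotientGroup.mk_mul,
      QuotientGroup.eq_one_iff]
  have h7 : (j * th e q * x) ^ 3 ∈ Q := by
    rwa [← QuotientGroup.eq_one_iff, QuotientGroup.mk_pow, QuotientGroup.mk_mul, h4,
      ← QuotientGroup.mk_mul, ← QuotientGroup.mk_pow, QuotientGroup.eq_one_iff]
  rcases h2 with h2 | h2 | h2
  · obtain ⟨j', h8⟩ := h.signs h6 hQ hc h2 h3 h5 h7 (m0 := 0) (by norm_num) (by decide +kernel)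
      (by decide +kernel)
    exact ⟨j', Or.inl h8⟩
  · obtain ⟨j', h8⟩ := h.signs h6 hQ hc h2 h3 h5 h7 (m0 := 2) (by norm_num) (by decide +kernel)
      (by decide +kernel)
    exact ⟨j', Or.inr (Or.inl h8)⟩
  · obtain ⟨j', h8⟩ := h.signs h6 hQ hc h2 h3 h5 h7 (m0 := 16) (by norm_num) (by decide +kernel)
      (by decide +kernel)
    exact ⟨j', Or.inr (Or.inr h8)⟩

end H14.He
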