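import Mathlib
import Cfsg.Prelude.Def_Transfer
import Cfsg.Agent.H14.HeDat
import Cfsg.Agent.H14.HeJ
import Cfsg.Agent.H14.HeFus
import Cfsg.Agent.H7.SL

/-! In a simple group of Held type the centraliser of the involution is that of `L₅(2)`. -/

set_option autoImplicit false

namespace H14.He

open Subgroup

theorem conj_of_coset {H : Type*} [Group H] {Q : Subgroup H} [hN : Q.Normal]
    (hc : Nat.card Q = 128) {p : ℕ} [Fact p.Prime] (hp : ¬ p ∣ 128) {a b : H} (ha : a ^ p = 1)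
    (hb : b ^ p = 1) (hab : b * a⁻¹ ∈ Q) : ∃ q ∈ Q, q * a * q⁻¹ = b := by
  haveI : Finite Q := Nat.finite_of_card_ne_zero (by omega)
  haveI := Fintype.ofFinite Q
  have hab' : b⁻¹ * a ∈ Q := by
    have := hN.conj_mem _ (Q.inv_mem hab) b⁻¹
    simpa [mul_assoc] using this
  let σ : Equiv.Perm Q :=
    { toFun := fun q => ⟨b * q * a⁻¹, by
        have := Q.mul_mem (hN.conj_mem _ q.2 b) hab
        simpa [mul_assoc] using this⟩
      invFun := fun q => ⟨b⁻¹ * q * a, by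
        have := Q.mul_mem (hN.conj_mem _ q.2 b⁻¹) hab'
        simpa [mul_assoc] using this⟩
      left_inv := fun q => Subtype.ext (by simp [mul_assoc])
      right_inv := fun q => Subtype.ext (by simp [mul_assoc]) }
  have h1 : ∀ k (q : Q), ((σ ^ k) q : H) = b ^ k * q * (a ^ k)⁻¹ := fun k q => by
    induction k with
    | zero => simp
    | succ k ih =>
      rw [pow_succ', Equiv.Perm.mul_apply]
      change b * ((σ ^ k) q : H) * a⁻¹ = _
      rw [ih, pow_succ' b, pow_succ' a]; group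
  obtain ⟨q, hq⟩ := Equiv.Perm.exists_fixed_point_of_prime (p := p) (n := 1) (σ := σ)
    (by rwa [← Nat.card_eq_fintype_card, hc]) (by
      ext q; rw [pow_one, h1, ha, hb]; simp)
  refine ⟨q, q.2, ?_⟩
  have h2 : b * q * a⁻¹ = q := congrArg Subtype.val hq
  calc _ = b * q * a⁻¹ * a * (q : H)⁻¹ := by rw [h2]
    _ = b := by group

/-- the group `L₃(2)`. -/
abbrev L3 : Type := Matrix.SpecialLinearGroup (Fin 3) (ZMod 2)

/-- an element of order 7. -/
def X3 : L3 := ⟨!![0, 1, 0; 0, 0, 1; 1, 1, 0], by decide +kernel⟩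
/-- an element of order 3. -/
def Y3 : L3 := ⟨!![1, 0, 0; 0, 1, 1; 0, 1, 0], by decide +kernel⟩
/-- an involution. -/
def I3 : L3 := ⟨!![1, 0, 0; 0, 0, 1; 0, 1, 0], by decide +kernel⟩

theorem rel3 : X3 ^ 7 = 1 ∧ Y3 ^ 3 = 1 ∧ Y3 * X3 = X3 ^ 2 * Y3 ∧ I3 * Y3 = Y3 ^ 2 * I3 ∧
    I3 * I3 = 1 ∧ (I3 * X3) ^ 3 = 1 ∧ X3 ≠ 1 := by
  simp only [pow_succ, pow_zero, one_mul]
  decide +kernel

theorem card_L3 : Nat.card L3 = 168 := by
  have := H7.card_sl (F := ZMod 2) (q := 2) (by simp) 3 (by norm_num)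
  simpa [Fin.prod_univ_three] using this

theorem ES.lift {H : Type*} [Group H] {Q : Subgroup H} {t : H} (h : ES Q t)
    (hc : Nat.card Q = 128) (π : H →* L3) (hπ : Function.Surjective π)
    (hk : ∀ g, π g = 1 ↔ g ∈ Q) : ∃ x y j : H, x ^ 7 = 1 ∧ y ^ 3 = 1 ∧ y * x = x ^ 2 * y ∧
      j * y = y ^ 2 * j ∧ j * j ∈ Q ∧ (j * x) ^ 3 ∈ Q ∧ x ∉ Q := by
  haveI := h.nor
  haveI : Fact (Nat.Prime 7) := ⟨by norm_num⟩
  obtain ⟨r1, r2, r3, r4, r5, r6, r7⟩ := rel3
  obtain ⟨x, hx, hx7⟩ : ∃ x, π x = X3 ∧ x ^ 7 = 1 := by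
    obtain ⟨x, hx⟩ := hπ X3
    refine ⟨x ^ 8, by rw [map_pow, hx, pow_succ, r1, one_mul], ?_⟩
    have := h.pow_four ((hk (x ^ 7)).1 (by rw [map_pow, hx, r1]))
    rw [← pow_mul, show 8 * 7 = 7 * 4 * 2 from rfl, pow_mul, pow_mul, this, one_pow]
  have h3 : ∀ y, π y = Y3 → π (y ^ 4) = Y3 ∧ (y ^ 4) ^ 3 = 1 := fun y hy =>
    ⟨by rw [map_pow, hy, pow_succ, r2, one_mul], by
      rw [← pow_mul, mul_comm, pow_mul, h.pow_four ((hk (y ^ 3)).1 (by rw [map_pow, hy, r2]))]⟩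
  obtain ⟨y, hy, hy3, hyx⟩ : ∃ y, π y = Y3 ∧ y ^ 3 = 1 ∧ y * x = x ^ 2 * y := by
    obtain ⟨y, hy⟩ := hπ Y3
    obtain ⟨q, hq, h1⟩ := conj_of_coset hc (p := 7) (by norm_num) (a := y * x * y⁻¹) (b := x ^ 2)
      (by rw [conj_pow, hx7]; group) (by rw [← pow_mul, mul_comm, pow_mul, hx7, one_pow])
      ((hk _).1 (by simp only [map_mul, map_inv, map_pow, hx, hy, r3]; group))
    have h2 : π (q * y) = Y3 := by rw [map_mul, (hk q).2 hq, hy, one_mul]
    have h4 : ∀ k, q * y * x ^ k = x ^ (2 * k) * (q * y) := fun k => by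
      rw [pow_mul, ← h1, conj_pow, conj_pow]; group
    refine ⟨_, (h3 _ h2).1, (h3 _ h2).2, ?_⟩
    generalize q * y = z at h4
    calc z ^ 4 * x = z * (z * (z * (z * x ^ 1))) := by
          simp only [pow_succ, pow_zero, one_mul, mul_assoc]
      _ = x ^ (7 * 2 + 2) * z ^ 4 := by
          rw [h4, ← mul_assoc z (x ^ _), h4, mul_assoc, ← mul_assoc z (x ^ _), h4, mul_assoc,
            ← mul_assoc z (x ^ _), h4]
          simp only [pow_succ z, pow_zero, one_mul, mul_assoc]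
      _ = _ := by rw [pow_add, pow_mul, hx7, one_pow, one_mul]
  obtain ⟨j, hj⟩ := hπ I3
  obtain ⟨q, hq, h1⟩ := conj_of_coset hc (p := 3) (by norm_num) (a := j * y * j⁻¹) (b := y ^ 2)
    (by rw [conj_pow, hy3]; group) (by rw [← pow_mul, mul_comm, pow_mul, hy3, one_pow])
    ((hk _).1 (by simp only [map_mul, map_inv, map_pow, hj, hy, r4]; group))
  have h2 : π (q * j) = I3 := by rw [map_mul, (hk q).2 hq, hj, one_mul]
  refine ⟨x, y, q * j, hx7, hy3, hyx, by rw [← h1]; group, (hk _).1 (by rw [map_mul, h2, r5]),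
    (hk _).1 (by rw [map_pow, map_mul, h2, hx, r6]), fun h5 => r7 (by rw [← hx, (hk x).2 h5])⟩

theorem es_of {H : Type*} [Group H] {Q : Subgroup H} [hN : Q.Normal] {t : H}
    (hQ : Cfsg.IsExtraspecial 2 Q) (h2c : centralizer (Q : Set H) ≤ Q) (tc : ∀ g, g * t = t * g)
    (t2 : t * t = 1) (t1 : t ≠ 1) : ES Q t := by
  have tQ : t ∈ Q := h2c (mem_centralizer_iff.2 fun g _ => tc g)
  have hz : ∀ q : Q, q ∈ center Q → (q : H) = 1 ∨ q = t := fun q hq => by
    obtain ⟨z, -, hz⟩ := (Nat.card_eq_two_iff' (1 : center Q)).1 hQ.2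
    by_cases h1 : (q : H) = 1
    · exact Or.inl h1
    · have h2 := hz ⟨q, hq⟩ fun h => h1 (congrArg (fun z => z.1.1) h)
      have h3 := hz ⟨⟨t, tQ⟩, mem_center_iff.2 fun g => Subtype.ext (tc g)⟩
        fun h => t1 (congrArg (fun z => z.1.1) h)
      exact Or.inr (congrArg (fun z => z.1.1) (h2.trans h3.symm))
  refine ⟨hN, tc, t2, t1, tQ, fun q hq h => hz ⟨q, hq⟩
    (mem_center_iff.2 fun g => Subtype.ext (h g g.2).symm), fun a ha b hb => ?_⟩
  have h1 := hz _ (hQ.1.2.2.le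
    (commutator_mem_commutator (mem_top (⟨a, ha⟩ : Q)) (mem_top (⟨b, hb⟩ : Q))))
  change a * b * a⁻¹ * b⁻¹ = 1 ∨ a * b * a⁻¹ * b⁻¹ = t at h1
  refine h1.imp (fun h => ?_) fun h => ?_
  · calc a * b = a * b * a⁻¹ * b⁻¹ * (b * a) := by group
      _ = _ := by rw [h, one_mul]
  · calc a * b = a * b * a⁻¹ * b⁻¹ * (b * a) := by group
      _ = _ := by rw [h, tc]

theorem Hyp.map {H K : Type*} [Group H] [Group K] {e : ℕ → H} {x y j : H} {J n0 m : ℕ}
    (h : Hyp e x y j J n0 m) (f : H →* K) : Hyp (fun i => f (e i)) (f x) (f y) (f j) J n0 m :=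
  { heis := h.heis.map f
    ax := h.ax.map f
    ay := h.ay.map f
    aj := h.aj.map f
    x7 := by rw [← map_pow, h.x7, map_one]
    y3 := by rw [← map_pow, h.y3, map_one]
    yx := by rw [← map_mul, h.yx, map_mul, map_pow]
    jy := by rw [← map_mul, h.jy, map_mul, map_pow]
    jj := by rw [← map_mul, h.jj, th_map]
    jx := by rw [← map_mul, ← map_pow, h.jx, th_map]
    hn := h.hn
    hm := h.hm }

theorem ph_map {H K : Type*} [Group H] [Group K] (e : ℕ → H) (x y j : H) (f : H →* K) (u : CC) :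
    f (ph e x y j u) = ph (fun i => f (e i)) (f x) (f y) (f j) u := by
  simp only [ph, be, map_mul, map_pow, th_map]
  cases Nat.beq u.2 7 <;> simp

theorem cent_iso {G : Type*} [Group G] [Finite G] [IsSimpleGroup G] (t : G) (ht : orderOf t = 2)
    (Q : Subgroup (centralizer ({t} : Set G))) [Q.Normal] (hQ : Cfsg.IsExtraspecial 2 Q)
    (hcard : Nat.card Q = 2 ^ 7)
    (h2c : centralizer (Q : Set (centralizer ({t} : Set G))) ≤ Q)
    (e : (centralizer ({t} : Set G)) ⧸ Q ≃* L3) (hG : Nat.card G = 4030387200) :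
    Nonempty (centralizer ({t} : Set G) ≃* centralizer ({H28.s5} : Set H28.L5)) := by
  let t' : centralizer ({t} : Set G) := ⟨t, mem_centralizer_singleton_iff.2 rfl⟩
  have t1 : t ≠ 1 := by rintro rfl; simp at ht
  have h := es_of (t := t') hQ h2c
    (fun g => Subtype.ext (mem_centralizer_singleton_iff.1 g.2))
    (Subtype.ext (by change t * t = 1; rw [← sq, ← ht, pow_orderOf_eq_one]))
    fun h => t1 (congrArg Subtype.val h)
  obtain ⟨x, y, j, h1, h2, h3, h4, h5, h6, h7⟩ := h.lift hcard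
    (e.toMonoidHom.comp (QuotientGroup.mk' Q)) (e.surjective.comp (QuotientGroup.mk'_surjective Q))
    fun g => by simp
  obtain ⟨b, hB, b6, hb⟩ := h.exists_hypB hcard h1 (by
    by_contra hcon
    push Not at hcon
    exact h7 (h2c (mem_centralizer_iff.2 fun u hu => (hcon u hu).symm))) h2 h3
  have b1 : b 6 ≠ 1 := b6 ▸ h.t1
  have hc : Nat.card (centralizer ({t} : Set G)) = 21504 := by
    rw [card_eq_card_quotient_mul_card_subgroup Q, Nat.card_congr e.toEquiv, card_L3, hcard]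
    norm_num
  have b2 : (centralizer ({t} : Set G)).subtype (b 6) = t := by rw [b6]; rfl
  have b3 : (centralizer ({t} : Set G)).subtype (b 6) ≠ 1 := by rw [b2]; exact t1
  have hC : ∀ j J n0 m S, Hyp b x y j J n0 m → injC J S = true →
      ∀ g ∈ centralizer ({(centralizer ({t} : Set G)).subtype (b 6)} : Set G), ∃ u,
        ph (fun i => (centralizer ({t} : Set G)).subtype (b i)) (x : G) y j u = g :=
    fun j J n0 m S hh hS g hg => by
      rw [b2] at hg
      obtain ⟨s, hs⟩ := (hh.ph_bij b1 hS hc).2 ⟨g, hg⟩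
      exact ⟨cd s, (ph_map b x y j (centralizer ({t} : Set G)).subtype _).symm.trans
        (congrArg Subtype.val hs)⟩
  obtain ⟨j', (hh | hh) | (hh | hh) | hh | hh⟩ :=
    hB.six_cases b1 hb hcard (b6 ▸ h.tc j) h4 h5 h6
  · exact hh.iso_Hc b1 hc
  · exact ((hh.map _).twisted b3 injC1 chk1t hG).elim
  · exact ((hh.map _).caseV b3 injC2 chk2 vok2 hG (hC _ _ _ _ _ hh injC2)).elim
  · exact ((hh.map _).twisted b3 injC2 chk2t hG).elim
  · exact ((hh.map _).caseV b3 injC3 chk3 vok3 hG (hC _ _ _ _ _ hh injC3)).elim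
  · exact ((hh.map _).twisted b3 injC3 chk3t hG).elim

end H14.He
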