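import Mathlib
import Cfsg.Agent.H14.HeCent
import Cfsg.Agent.H28.HeldMain
import Cfsg.Agent.H9.M24

/-! A simple group of Held type is the Held group. -/

set_option autoImplicit false

namespace H14.He

open Subgroup

theorem isoHe {G : Type*} [Group G] [Finite G] [IsSimpleGroup G] (t : G) (ht : orderOf t = 2)
    (Q : Subgroup (centralizer ({t} : Set G))) [Q.Normal] (hQ : Cfsg.IsExtraspecial 2 Q)
    (hcard : Nat.card Q = 2 ^ 7)
    (h2c : centralizer (Q : Set (centralizer ({t} : Set G))) ≤ Q)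
    (e : (centralizer ({t} : Set G)) ⧸ Q ≃* L3) (hG : Nat.card G = 4030387200) :
    Cfsg.Spor.IsoHe G := by
  obtain ⟨f⟩ := cent_iso t ht Q hQ hcard h2c e hG
  rcases H28.held_simple H28.s5 rfl t ht f with ⟨⟨g⟩⟩ | ⟨⟨g⟩⟩ | h
  · have := H7.card_sl (F := ZMod 2) (q := 2) (by simp) 5 (by norm_num)
    rw [← Nat.card_congr g.toEquiv, hG] at this
    simp [Fin.prod_univ_five] at this
  · have := H9.card_M24
    rw [← Nat.card_congr g.toEquiv, hG] at this
    omega
  · exact h

theorem transport {G K : Type*} [Group G] [Group K] (f : G ≃* K) (H : Subgroup K) (N : Subgroup H)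
    (hN : N.Normal) : ∃ (H' : Subgroup G) (N' : Subgroup H'), N'.Normal ∧ N'.index = N.index ∧
      Nonempty (N' ≃* N) := by
  obtain ⟨g⟩ : Nonempty (H ≃* H.map (f.symm : K →* G)) := ⟨f.symm.subgroupMap H⟩
  generalize H.map (f.symm : K →* G) = H' at g
  exact ⟨H', N.map (g : H →* H'), hN.map _ g.surjective, N.index_map_equiv g,
    ⟨(g.subgroupMap N).symm⟩⟩

end H14.He
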