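import Mathlib
import Cfsg.Agent.H18.K3Num
import Cfsg.Agent.H16.K3T0
import Cfsg.Agent.H12.K3U1

/-!
# Thin groups with three primes: the order of `N(Q)`
-/

set_option autoImplicit false
set_option linter.unusedSectionVars false
set_option linter.unusedVariables false

open Cfsg H24 H26 H26.Gold H23.TC Subgroup H18.K3 H16.K3T

namespace H14.K3

universe u

variable {G : Type u} [Group G] [Finite G] {p a b m : ℕ} {H L M P Q : Subgroup G} {x y : G}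

theorem pi_of_order (hp : p.Prime) (h : orderOf x = p) : IsPi {p} (zpowers x) :=
  PiElt.isPi fun q hq hd => (Nat.prime_dvd_prime_iff_eq hq hp).1 (h ▸ hd)

/-- cyclic Sylow `3`-subgroups: a normal subgroup of order divisible by three contains every
element of order three -/
theorem three_mem (hL : L ⊴ M) (hc : ∀ A, A ≤ M → IsPi {3} A → Cyc A) (h3 : 3 ∣ ♯L)
    (hy : y ∈ M) (ho : orderOf y = 3) : y ∈ L := by
  have p3 := Nat.prime_three
  obtain ⟨R, hR, hyR⟩ := Sylow_superset p3 (pi_of_order p3 ho) (zpowers_le.2 hy)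
  obtain ⟨w, hw, hwo⟩ := exists_orderOf_eq p3 ((hR.inf_nml hL).prime_dvd p3 rfl h3)
  exact zpowers_le.2 hw.2 (H12.K3.mem_zp3 (hc R hR.le hR.pi) (hyR (mem_zpowers y)) ho hw.1 hwo)

theorem sylow_count (hp : p.Prime) (h : Syl p L P) : N[P].relIndex L % p = 1 := by
  have := Fact.mk hp
  obtain ⟨S, rfl⟩ := h.exists_sylow hp
  rw [relIndex, subgroupOf_normalizer_eq (map_subtype_le _), subgroupOf,
    comap_map_eq_self_of_injective L.subtype_injective, ← Nat.mod_eq_of_lt hp.one_lt]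
  exact S.card_eq_index_normalizer ▸ card_sylow_modEq_one p L

theorem syl_p (h : KT G p a b) (hx : orderOf x = p) (hH : x ∈ H) : Syl p H (zpowers x) := by
  refine Syl.mk' h.prime (zpowers_le.2 hH) (pi_of_order h.prime hx) fun hd => ?_
  have h1 := card_mul_relIndex (zpowers_le.2 hH)
  have h2 := card_subgroup_dvd_card H
  rw [← h1, card_zpowers', hx, h.card, mul_assoc] at h2
  have h3 := hd.trans (Nat.dvd_of_mul_dvd_mul_left h.prime.pos h2)
  rcases (Nat.Prime.dvd_mul h.prime).1 h3 with e | e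
  · exact h.ne3 ((Nat.prime_dvd_prime_iff_eq h.prime Nat.prime_three).1
      (h.prime.dvd_of_dvd_pow e)).symm
  · exact h.ne2 ((Nat.prime_dvd_prime_iff_eq h.prime Nat.prime_two).1
      (h.prime.dvd_of_dvd_pow e)).symm

/-- the Sylow count in a subgroup -/
theorem cnt (h : KT G p a b) (hx : orderOf x = p) (hH : x ∈ H) :
    ∃ e n, ♯(H ⊓ N[zpowers x] : Subgroup G) = p * e ∧ e ∣ p - 1 ∧ ♯H = p * (e * n) ∧ n % p = 1 := by
  obtain ⟨e, h0, h1, -⟩ := h.arith hx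
  have h2 : zpowers x ≤ H ⊓ N[zpowers x] := le_inf (zpowers_le.2 hH) le_normalizer
  obtain ⟨c, hc⟩ := card_dvd_of_le h2
  rw [card_zpowers', hx] at hc
  have h3 := card_dvd_of_le (inf_le_right : H ⊓ N[zpowers x] ≤ _)
  rw [hc, h0] at h3
  refine ⟨c, _, hc, (Nat.dvd_of_mul_dvd_mul_left h.prime.pos h3).trans h1, ?_,
    sylow_count h.prime (syl_p h hx hH)⟩
  rw [← mul_assoc, ← hc, inf_comm, card_inf_mul_relIndex]

/-- the automiser of `P` in `L` -/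
theorem aut_L (h : KT G p a b) (hQ : TwoG Q) (hL : L ≤ N[Q]) (hx : orderOf x = p) (hxL : x ∈ L)
    (hc : ♯L = ♯Q * (p * m)) :
    ∃ e, ♯(L ⊓ N[zpowers x] : Subgroup G) = p * e ∧ e ∣ p - 1 ∧ e % p = m % p := by
  obtain ⟨e, n, h1, h2, h3, h4⟩ := cnt h hx hxL
  refine ⟨e, h1, h2, ?_⟩
  obtain ⟨k, hk⟩ := H12.K3.p_dvd h hQ hx (hL hxL)
  have h5 : ♯Q = p * k + 1 := by have : 0 < ♯Q := Nat.card_pos; omega
  rw [hc, mul_left_comm] at h3
  have h6 := Nat.eq_of_mul_eq_mul_left h.prime.pos h3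
  have h7 : (e * n) % p = e % p := by rw [Nat.mul_mod, h4, mul_one, Nat.mod_mod]
  rw [← h7, ← h6, h5, add_mul, mul_assoc, one_mul, Nat.mul_add_mod]

/-- Frattini -/
theorem idx (h : KT G p a b) (hL : L ⊴ M) (hx : orderOf x = p) (hxL : x ∈ L) {e : ℕ}
    (he : ♯(L ⊓ N[zpowers x] : Subgroup G) = p * e) :
    ∃ k, ♯(M ⊓ N[zpowers x] : Subgroup G) = p * (e * k) ∧ e * k ∣ p - 1 ∧ ♯M = ♯L * k := by
  obtain ⟨e', n, h1, h2, -, -⟩ := cnt h hx (hL.le hxL)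
  have h3 := card_dvd_of_le (inf_le_inf_right N[zpowers x] hL.le)
  rw [he, h1] at h3
  obtain ⟨k, rfl⟩ := Nat.dvd_of_mul_dvd_mul_left h.prime.pos h3
  refine ⟨k, h1, h2, ?_⟩
  have h4 := (Frattini_arg h.prime hL (syl_p h hx hxL)).card
  rw [← inf_assoc, inf_eq_left.2 hL.le, he, h1] at h4
  have h5 : 0 < p * e := he ▸ Nat.card_pos
  exact Nat.eq_of_mul_eq_mul_right h5 (by rw [h4]; ring)

theorem eq504 (h : KT G 7 a b) (hQ : TwoG Q) (hM : M ≤ N[Q]) (hL : L ⊴ M)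
    (hc : ∀ A, A ≤ M → IsPi {3} A → Cyc A) (cL : ♯L = ♯Q * 504) : M = L := by
  obtain ⟨x, hxL, hx⟩ := exists_orderOf_eq h.prime (H := L) (by rw [cL]; omega)
  obtain ⟨e, h1, h2, h3⟩ := aut_L (m := 72) h hQ (hL.le.trans hM) hx hxL cL
  have he : e = 2 := by
    have := Nat.le_of_dvd (by norm_num) h2
    omega
  subst he
  obtain ⟨k, h4, h5, h6⟩ := idx h hL hx hxL h1
  have hk : k = 1 ∨ k = 3 := by
    have := Nat.le_of_dvd (by norm_num) h5
    have h7 : k ≤ 3 := by omega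
    interval_cases k <;> simp_all
  rcases hk with rfl | rfl
  · exact (eq_of_card_eq hL.le (by rw [h6, mul_one])).symm
  · obtain ⟨y, hy, ho⟩ := exists_orderOf_eq Nat.prime_three
      (H := M ⊓ N[zpowers x]) (by rw [h4]; norm_num)
    have h7 := orderOf_dvd_card' (H := L ⊓ N[zpowers x])
      ⟨three_mem hL hc (by rw [cL]; omega) hy.1 ho, hy.2⟩
    rw [ho, h1] at h7
    omega

theorem idx168 (h : KT G 7 a b) (hQ : TwoG Q) (hM : M ≤ N[Q]) (hL : L ⊴ M) (cL : ♯L = ♯Q * 168) :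
    (♯M = ♯L ∨ ♯M = ♯L * 2) ∧ ∀ x ∈ L, orderOf x = 7 →
      ♯(L ⊓ N[zpowers x] : Subgroup G) = 21 ∧ ∃ y ∈ L, y ∈ N[zpowers x] ∧ orderOf y = 3 := by
  have k : ∀ x ∈ L, orderOf x = 7 → ♯(L ⊓ N[zpowers x] : Subgroup G) = 7 * 3 := fun x hxL hx => by
    obtain ⟨e, h1, h2, h3⟩ := aut_L (m := 24) h hQ (hL.le.trans hM) hx hxL cL
    have he : e = 3 := by
      have := Nat.le_of_dvd (by norm_num) h2
      omega
    rw [h1, he]
  refine ⟨?_, fun x hxL hx => ⟨k x hxL hx, ?_⟩⟩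
  · obtain ⟨x, hxL, hx⟩ := exists_orderOf_eq h.prime (H := L) (by rw [cL]; omega)
    obtain ⟨n, h4, h5, h6⟩ := idx h hL hx hxL (k x hxL hx)
    have := Nat.le_of_dvd (by norm_num) h5
    have h7 : n ≤ 2 := by omega
    interval_cases n <;> simp_all
  · obtain ⟨y, hy, ho⟩ := exists_orderOf_eq Nat.prime_three
      (H := L ⊓ N[zpowers x]) (by rw [k x hxL hx]; norm_num)
    exact ⟨y, hy.1, hy.2, ho⟩

theorem idx60 (h : KT G 5 a b) (hQ : TwoG Q) (hM : M ≤ N[Q]) (hL : L ⊴ M) (cL : ♯L = ♯Q * 60) :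
    (♯M = ♯L ∨ ♯M = ♯L * 2) ∧ ∀ x ∈ L, orderOf x = 5 → ♯(L ⊓ N[zpowers x] : Subgroup G) = 10 := by
  have k : ∀ x ∈ L, orderOf x = 5 → ♯(L ⊓ N[zpowers x] : Subgroup G) = 5 * 2 := fun x hxL hx => by
    obtain ⟨e, h1, h2, h3⟩ := aut_L (m := 12) h hQ (hL.le.trans hM) hx hxL cL
    have he : e = 2 := by
      have := Nat.le_of_dvd (by norm_num) h2
      omega
    rw [h1, he]
  refine ⟨?_, k⟩
  obtain ⟨x, hxL, hx⟩ := exists_orderOf_eq h.prime (H := L) (by rw [cL]; omega)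
  obtain ⟨n, h4, h5, h6⟩ := idx h hL hx hxL (k x hxL hx)
  have := Nat.le_of_dvd (by norm_num) h5
  have h7 : n ≤ 2 := by omega
  interval_cases n <;> simp_all

variable {X : Type} [Group X] {φ : L →* X}

theorem mem3 (F : Fm Q L φ) (hc : ∀ A, A ≤ N[Q] → IsPi {3} A → Cyc A) (h3 : 3 ∣ Nat.card X) :
    ∀ y ∈ N[Q], orderOf y = 3 → y ∈ L := fun y hy ho =>
  three_mem F.nml hc (F.card ▸ h3.mul_left _) hy ho

theorem eq8 (h : KT G 7 a b) (F : Fm Q L φ) (hc : ∀ A, A ≤ N[Q] → IsPi {3} A → Cyc A)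
    (hX : Nat.card X = 504) : N[Q] = L :=
  eq504 h F.two le_rfl F.nml hc (hX ▸ F.card)

theorem card8 (h : KT G 7 a b) (F : Fm Q L φ) (hc : ∀ A, A ≤ N[Q] → IsPi {3} A → Cyc A)
    (hX : Nat.card X = 504) : ♯N[Q] = ♯Q * 504 := by
  rw [eq8 h F hc hX, F.card, hX]

theorem card7 (h : KT G 7 a b) (F : Fm Q L φ) (hX : Nat.card X = 168) :
    ♯N[Q] = ♯Q * 168 ∨ ♯N[Q] = ♯Q * 336 := by
  rcases (idx168 h F.two le_rfl F.nml (hX ▸ F.card)).1 with e | e <;> rw [e, F.card, hX]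
  exacts [.inl rfl, .inr (mul_assoc _ _ _)]

theorem card5 (h : KT G 5 a b) (F : Fm Q L φ) (hX : Nat.card X = 60) :
    ♯N[Q] = ♯Q * 60 ∨ ♯N[Q] = ♯Q * 120 := by
  rcases (idx60 h F.two le_rfl F.nml (hX ▸ F.card)).1 with e | e <;> rw [e, F.card, hX]
  exacts [.inl rfl, .inr (mul_assoc _ _ _)]

end H14.K3
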