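import Mathlib

/-! Abelian normal subgroups of linear groups transitive on non-zero vectors. -/

set_option autoImplicit false
set_option linter.unusedSectionVars false

namespace H14

open Subgroup Module
open scoped IsMulCommutative

universe u

variable {p : ℕ} [Fact p.Prime] {V : Type u} [AddCommGroup V] [Module (ZMod p) V] [Finite V]
  {H : Type*} [Group H] (ρ : Representation (ZMod p) H V)

theorem exists_field [Nontrivial V] (hρ : Function.Injective ρ)
    (htr : ∀ v w : V, v ≠ 0 → w ≠ 0 → ∃ h, ρ h v = w ∨ ρ h v = -w) (A : Subgroup H) [hA : A.Normal]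
    [IsMulCommutative A] :
    ∃ (K : Type u) (_ : Field K) (_ : Finite K) (_ : Algebra (ZMod p) K) (_ : Module K V)
      (φ : H →* (K ≃ₐ[ZMod p] K)), (∀ h (c : K) v, ρ h (c • v) = φ h c • ρ h v) ∧
      (∀ a ∈ A, ∃ c : K, ∀ v, ρ a v = c • v) ∧
      (∀ W : Submodule (ZMod p) V, (∀ a ∈ A, ∀ v ∈ W, ρ a v ∈ W) → ∀ (c : K), ∀ v ∈ W, c • v ∈ W) ∧
      φ.ker = centralizer (A : Set H) := by
  classical
  let R := Algebra.adjoin (ZMod p) (ρ '' A)
  have : IsMulCommutative R := Algebra.isMulCommutative_adjoin _ (by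
    rintro _ ⟨a, ha, rfl⟩ _ ⟨b, hb, rfl⟩
    rw [← map_mul, ← map_mul, setLike_mul_comm ha hb])
  have : Finite (End (ZMod p) V) := Finite.of_injective _ DFunLike.coe_injective
  have hi : ∀ h, ρ h * ρ h⁻¹ = 1 := fun h => by rw [← map_mul, mul_inv_cancel, map_one]
  have hi' : ∀ h, ρ h⁻¹ * ρ h = 1 := fun h => by rw [← map_mul, inv_mul_cancel, map_one]
  have hconj : ∀ h, ∀ r ∈ R, ρ h * r * ρ h⁻¹ ∈ R := fun h r hr => by
    induction hr using Algebra.adjoin_induction with
    | mem x hx =>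
      obtain ⟨a, ha, rfl⟩ := hx
      exact Algebra.subset_adjoin ⟨_, hA.conj_mem a ha h, by simp⟩
    | algebraMap r => rw [← Algebra.commutes, mul_assoc, hi, mul_one]; exact R.algebraMap_mem r
    | add x y _ _ hx hy => rw [mul_add, add_mul]; exact add_mem hx hy
    | mul x y _ _ hx hy =>
      convert mul_mem hx hy using 1
      simp only [mul_assoc]; rw [← mul_assoc (ρ h⁻¹), hi', one_mul]
  let O : V → Set V := fun v => Set.range fun r : R => (r : End (ZMod p) V) v
  have hO : ∀ v w, v ≠ 0 → w ≠ 0 → (O v).ncard ≤ (O w).ncard := fun v w hv hw => by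
    obtain ⟨h, hh⟩ := htr v w hv hw
    refine Set.ncard_le_ncard_of_injOn (ρ h) ?_ (fun a _ b _ e => ?_)
    · rintro _ ⟨r, rfl⟩
      have e : ρ h (r.1 v) = (ρ h * r * ρ h⁻¹) (ρ h v) := by
        rw [← End.mul_apply _ (ρ h), mul_assoc, hi', mul_one, End.mul_apply]
      rcases hh with hh | hh
      · exact ⟨⟨_, hconj h r r.2⟩, by rw [e, hh]⟩
      · exact ⟨-⟨_, hconj h r r.2⟩, by rw [e, hh, map_neg]; rfl⟩
    · simpa [← End.mul_apply, hi'] using congrArg (ρ h⁻¹) e
  have hO' : ∀ (r : R) v, r.1 v ≠ 0 → O (r.1 v) = O v := fun r v h => by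
    refine Set.eq_of_subset_of_ncard_le ?_ (hO _ _ (fun e => h (by rw [e, map_zero])) h)
    rintro _ ⟨s, rfl⟩
    exact ⟨s * r, rfl⟩
  have hinj : ∀ (r : R) w, r ≠ 0 → r.1 w = 0 → w = 0 := fun r w hr hw => by
    obtain ⟨v, hv⟩ : ∃ v, r.1 v ≠ 0 := by
      by_contra h; push Not at h
      exact hr (Subtype.ext (LinearMap.ext h))
    have h1 := hO' r (v + w) (by rwa [map_add, hw, add_zero])
    rw [map_add, hw, add_zero] at h1
    obtain ⟨s, hs⟩ : v + w ∈ O (r.1 v) := h1 ▸ ⟨1, rfl⟩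
    obtain ⟨t, ht⟩ : v ∈ O (r.1 v) := (hO' r v hv).symm ▸ ⟨1, rfl⟩
    have h2 : w = ((s - t) * r).1 v := by
      show w = (s.1 - t.1) (r.1 v)
      rw [LinearMap.sub_apply, show s.1 (r.1 v) = _ from hs, show t.1 (r.1 v) = _ from ht]; abel
    have h3 : ((s - t) * r).1 v = (t * (r * ((s - t) * r))).1 v := by
      rw [show t * (r * ((s - t) * r)) = ((s - t) * r) * (t * r) by ring]
      exact congrArg ((s - t) * r).1 ht.symm
    rw [h2, h3]
    show t.1 (r.1 (((s - t) * r).1 v)) = 0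
    rw [← h2, hw, map_zero]
  have : NoZeroDivisors R := ⟨fun {r s} h => or_iff_not_imp_left.2 fun hr =>
    Subtype.ext (LinearMap.ext fun v => hinj r _ hr (DFunLike.congr_fun (congrArg Subtype.val h) v))⟩
  have : IsDomain R := NoZeroDivisors.to_isDomain R
  let : Field R := (Finite.isField_of_domain R).toField
  let : MulSemiringAction H R :=
    { smul := fun h r => ⟨_, hconj h r r.2⟩
      one_smul := fun r => Subtype.ext (by
        show ρ 1 * r.1 * ρ 1⁻¹ = r.1
        simp)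
      mul_smul := fun g h r => Subtype.ext (by
        show ρ (g * h) * r.1 * ρ (g * h)⁻¹ = ρ g * (ρ h * r.1 * ρ h⁻¹) * ρ g⁻¹
        simp [mul_assoc])
      smul_zero := fun h => Subtype.ext (by
        show ρ h * 0 * ρ h⁻¹ = 0
        simp)
      smul_add := fun h r s => Subtype.ext (by
        show ρ h * (r.1 + s.1) * ρ h⁻¹ = ρ h * r.1 * ρ h⁻¹ + ρ h * s.1 * ρ h⁻¹
        rw [mul_add, add_mul])
      smul_one := fun h => Subtype.ext (by
        show ρ h * 1 * ρ h⁻¹ = 1
        rw [mul_one, hi])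
      smul_mul := fun h r s => Subtype.ext (by
        show ρ h * (r.1 * s.1) * ρ h⁻¹ = ρ h * r.1 * ρ h⁻¹ * (ρ h * s.1 * ρ h⁻¹)
        simp only [mul_assoc]; rw [← mul_assoc (ρ h⁻¹), hi', one_mul]) }
  have : SMulCommClass H (ZMod p) R := ⟨fun h c r => Subtype.ext (by
    show ρ h * (c • r.1) * ρ h⁻¹ = c • (ρ h * r.1 * ρ h⁻¹)
    simp)⟩
  refine ⟨R, inferInstance, inferInstance, inferInstance, inferInstance,
    MulSemiringAction.toAlgAut H (ZMod p) R, fun h c v => ?_,
    fun a ha => ⟨⟨ρ a, Algebra.subset_adjoin ⟨a, ha, rfl⟩⟩, fun v => rfl⟩,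
    fun W hW ⟨c, hc⟩ => ?_, ?_⟩
  · show ρ h (c.1 v) = (ρ h * c.1 * ρ h⁻¹) (ρ h v)
    rw [← End.mul_apply _ (ρ h), mul_assoc, hi', mul_one, End.mul_apply]
  · show ∀ v ∈ W, c v ∈ W
    induction hc using Algebra.adjoin_induction with
    | mem x hx => obtain ⟨a, ha, rfl⟩ := hx; exact hW a ha
    | algebraMap r => exact fun v hv => W.smul_mem r hv
    | add x y _ _ hx hy => exact fun v hv => W.add_mem (hx v hv) (hy v hv)
    | mul x y _ _ hx hy => exact fun v hv => hx _ (hy v hv)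
  · ext h
    rw [MonoidHom.mem_ker, mem_centralizer_iff]
    constructor
    · intro e a ha
      have h0 := congrArg Subtype.val
        (DFunLike.congr_fun e (⟨ρ a, Algebra.subset_adjoin ⟨a, ha, rfl⟩⟩ : R))
      have h1 : ρ h * ρ a * ρ h⁻¹ = ρ a := h0
      rw [← map_mul, ← map_mul] at h1
      exact (mul_inv_eq_iff_eq_mul.1 (hρ h1)).symm
    · intro e
      refine AlgEquiv.ext fun r => Subtype.ext ?_
      show ρ h * r.1 * ρ h⁻¹ = r.1
      rw [(Algebra.commute_of_mem_adjoin_of_forall_mem_commute r.2 (a := ρ h) ?_).eq, mul_assoc, hi,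
        mul_one]
      rintro _ ⟨a, ha, rfl⟩
      rw [Commute, SemiconjBy, ← map_mul, ← map_mul, e a ha]

theorem exists_field_data [Nontrivial V] (hρ : Function.Injective ρ)
    (htr : ∀ v w : V, v ≠ 0 → w ≠ 0 → ∃ h, ρ h v = w ∨ ρ h v = -w) (A : Subgroup H) [hA : A.Normal]
    [IsMulCommutative A] :
    ∃ k d : ℕ, 0 < k ∧ 0 < d ∧ Nat.card V = (p ^ k) ^ d ∧ (centralizer (A : Set H)).index ∣ k ∧
      Nat.card A ∣ p ^ k - 1 ∧ (d = 1 → IsMulCommutative (centralizer (A : Set H)) ∧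
      ∀ W : Submodule (ZMod p) V, (∀ a ∈ A, ∀ v ∈ W, ρ a v ∈ W) → W = ⊥ ∨ W = ⊤) := by
  obtain ⟨K, _, _, _, _, φ, h1, h2, h3, h4⟩ := exists_field ρ hρ htr A
  have : Module.Finite (ZMod p) K := Module.Finite.of_finite
  have : Module.Finite K V := Module.Finite.of_finite
  have hK : Nat.card K = p ^ finrank (ZMod p) K := by
    rw [Module.natCard_eq_pow_finrank (K := ZMod p), Nat.card_zmod]
  refine ⟨finrank (ZMod p) K, finrank K V, finrank_pos, finrank_pos,
    by rw [Module.natCard_eq_pow_finrank (K := K), hK], ?_, ?_, fun hd => ⟨⟨⟨fun g h => ?_⟩⟩,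
      fun W hW => ?_⟩⟩
  · rw [← h4, index_ker, ← IsGalois.card_aut_eq_finrank]
    exact card_subgroup_dvd_card _
  · choose c hc using fun a : A => h2 a a.2
    obtain ⟨v, hv⟩ := exists_ne (0 : V)
    let f : A →* K := ⟨⟨c, smul_left_injective K hv (by simp only [← hc]; simp)⟩, fun a b =>
      smul_left_injective K hv (by simp only [mul_smul, ← hc]; simp)⟩
    rw [← hK, ← Nat.card_units]
    refine card_dvd_of_injective f.toHomUnits fun a b e => Subtype.ext (hρ (LinearMap.ext fun v => ?_))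
    rw [hc, hc, show c a = c b from congrArg Units.val e]
  · obtain ⟨v, -, hv⟩ := finrank_eq_one_iff'.1 hd
    have hl : ∀ g : centralizer (A : Set H), ∀ (c : K) w, ρ g (c • w) = c • ρ g w := fun g c w => by
      rw [h1, show φ g = 1 from MonoidHom.mem_ker.1 (h4.ge g.2)]; rfl
    refine Subtype.ext (hρ (LinearMap.ext fun w => ?_))
    obtain ⟨c, rfl⟩ := hv w
    obtain ⟨a, ha⟩ := hv (ρ g v)
    obtain ⟨b, hb⟩ := hv (ρ h v)
    simp only [coe_mul, map_mul, End.mul_apply, hl, ← ha, ← hb, smul_smul]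
    congr 1; ring
  · refine or_iff_not_imp_left.2 fun hne => eq_top_iff.2 fun v _ => ?_
    obtain ⟨w, hw, hw0⟩ := (Submodule.ne_bot_iff W).1 hne
    obtain ⟨c, rfl⟩ := (finrank_eq_one_iff_of_nonzero' w hw0).1 hd v
    exact h3 W hW c w hw

end H14
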