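import Mathlib
import Cfsg.Prelude.Def_Perm
import Cfsg.Agent.H21.Huppert
import Cfsg.Agent.H14.SemiLin
import Cfsg.Agent.H14.Homog
import Cfsg.Agent.H14.NormalMT

/-! Kantor: solvable 2-homogeneous groups of odd order are semi-affine of dimension one. -/

set_option autoImplicit false
set_option linter.unusedSectionVars false

namespace H14

open Subgroup Module MulAction Cfsg
open scoped IsMulCommutative

theorem fitting_cyclic_pm {P E : Type*} [Group P] [AddCommGroup E] [DistribMulAction P E]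
    [Finite P] [Finite E] [FaithfulSMul P E]
    (hodd : Odd (Nat.card P)) {q : ℕ} (hq : q.Prime) (hE : ∀ e : E, q • e = 0)
    (htrans : ∀ a b : E, a ≠ 0 → b ≠ 0 → ∃ d : P, d • a = b ∨ d • a = -b) :
    IsCyclic ↥(fittingSubgroup P) := by
  have hcore : ∀ (p : ℕ) [Fact p.Prime], IsCyclic (pCore p P) := by
    intro p hp
    by_cases hp2 : p = 2
    · subst hp2
      have : pCore 2 P = ⊥ := H2.IsPGroup.eq_bot_of_coprime (H2.pCore_isPGroup 2 P)
        (Nat.Coprime.coprime_dvd_left (card_subgroup_dvd_card _) hodd.coprime_two_right)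
      rw [this]
      infer_instance
    refine (H21.Hup.s1160 (P := pCore p P) (E := E) hp2 (H2.pCore_isPGroup p P) hq hE ?_).1
    intro a b ha hb
    obtain ⟨d, h | h⟩ := htrans a b ha hb
    · rw [← h]; exact (H21.Hup.card_stabilizer_normal _ d a).symm
    · have : stabilizer (pCore p P) b = stabilizer (pCore p P) (-b) := by
        ext x; simp only [mem_stabilizer_iff, smul_neg, neg_inj]
      rw [this, ← h]; exact (H21.Hup.card_stabilizer_normal _ d a).symm
  have hZ : IsZGroup (fittingSubgroup P) := ⟨fun p hp S => by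
    haveI := Fact.mk hp
    have h1 : (S : Subgroup (fittingSubgroup P)).map (fittingSubgroup P).subtype ≤ pCore p P :=
      H2.le_pCore_of_le_fitting (S.2.map _) (map_subtype_le _)
    have := hcore p
    have := isCyclic_of_injective (inclusion h1) (inclusion_injective h1)
    exact isCyclic_of_surjective _ (equivMapOfInjective _ _ (subtype_injective _)).symm.surjective⟩
  infer_instance

theorem card_orbit_pm {P E : Type*} [Group P] [AddCommGroup E] [DistribMulAction P E]
    [Finite P] [Finite E] (hodd : Odd (Nat.card P)) (h2 : ∀ e : E, e = -e → e = 0)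
    (htrans : ∀ a b : E, a ≠ 0 → b ≠ 0 → ∃ d : P, d • a = b ∨ d • a = -b) {v : E} (hv : v ≠ 0) :
    Nat.card E = 2 * Nat.card (orbit P v) + 1 := by
  have hneg : ∀ w ∈ orbit P v, -w ∉ orbit P v := by
    rintro _ ⟨g, rfl⟩ ⟨h, hh⟩
    simp only at hh
    have h1 : (g⁻¹ * h) • v = -v := by rw [mul_smul, hh, smul_neg, inv_smul_smul]
    have h3 : (g⁻¹ * h) ^ 2 ∈ stabilizer P v := by
      rw [mem_stabilizer_iff, sq, mul_smul, h1, smul_neg, h1, neg_neg]
    obtain ⟨m, hm⟩ := hodd
    have h4 : g⁻¹ * h ∈ stabilizer P v := by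
      have := (stabilizer P v).inv_mem ((stabilizer P v).pow_mem h3 m)
      rwa [← pow_mul, inv_eq_of_mul_eq_one_right (by rw [← pow_succ, ← hm, pow_card_eq_one'])]
        at this
    exact hv (h2 v ((mem_stabilizer_iff.1 h4).symm.trans h1))
  have h0 : (0 : E) ∉ orbit P v := fun ⟨g, hg⟩ => hv ((smul_eq_zero_iff_eq g).1 hg)
  have hu : (Set.univ : Set E) = insert 0 (orbit P v ∪ Neg.neg '' orbit P v) := by
    refine (Set.eq_univ_of_forall fun w => ?_).symm
    by_cases hw : w = 0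
    · exact Or.inl hw
    obtain ⟨d, h | h⟩ := htrans v w hv hw
    · exact Or.inr (Or.inl ⟨d, h⟩)
    · exact Or.inr (Or.inr ⟨-w, ⟨d, h⟩, neg_neg w⟩)
  rw [← Set.ncard_univ, hu, Set.ncard_insert_of_notMem, Set.ncard_union_eq,
    Set.ncard_image_of_injective _ neg_injective, two_mul, Nat.card_coe_set_eq]
  · rw [Set.disjoint_left]
    rintro _ hw ⟨u, hu, rfl⟩
    exact hneg u hu hw
  · rintro (h | ⟨u, hu, h⟩)
    · exact h0 h
    · exact h0 (neg_eq_zero.1 h ▸ hu)

theorem kantor_linear {p : ℕ} [hp : Fact p.Prime] {V : Type*} [AddCommGroup V]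
    [Module (ZMod p) V] [Finite V] [Nontrivial V] {H : Type*} [Group H] [Finite H]
    [Group.IsSolvable H] (ρ : Representation (ZMod p) H V) (hρ : Function.Injective ρ)
    (hodd : Odd (Nat.card H)) (hp2 : p ≠ 2)
    (htr : ∀ v w : V, v ≠ 0 → w ≠ 0 → ∃ h, ρ h v = w ∨ ρ h v = -w) :
    ∃ f : ℕ, Nat.card V = p ^ f ∧ p ^ f % 4 = 3 ∧ ∃ e : V ≃+ GaloisField p f,
      ∀ h, ∃ (a : (GaloisField p f)ˣ) (φ : GaloisField p f ≃+* GaloisField p f),
        ∀ v, e (ρ h v) = a * φ (e v) := by
  letI : DistribMulAction H V := DistribMulAction.compHom V (ρ : H →* End (ZMod p) V)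
  haveI : FaithfulSMul H V := ⟨fun {g h} e => hρ (LinearMap.ext e)⟩
  have hE : ∀ e : V, p • e = 0 := fun e => by
    rw [← Nat.cast_smul_eq_nsmul (ZMod p), ZMod.natCast_self, zero_smul]
  have hc := fitting_cyclic_pm hodd hp.out hE htr
  obtain ⟨v, hv⟩ := exists_ne (0 : V)
  have hV := card_orbit_pm hodd (fun e he => by
    have h2 : (2 : ZMod p) • e = 0 := by rw [two_smul]; exact add_eq_zero_iff_eq_neg.2 he
    refine (smul_eq_zero.1 h2).resolve_left fun h => hp2 ?_
    exact (Nat.prime_dvd_prime_iff_eq hp.out Nat.prime_two).1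
      ((ZMod.natCast_eq_zero_iff 2 p).1 (by exact_mod_cast h))) htr hv
  have hO : Nat.card (orbit H v) ∣ Nat.card H := by
    rw [Nat.card_coe_set_eq, ← index_stabilizer]; exact index_dvd_card _
  obtain ⟨K, _, _, _, _, φ, h1, h2, -, h4⟩ := exists_field ρ hρ htr (fittingSubgroup H)
  have : Module.Finite (ZMod p) K := Module.Finite.of_finite
  have : Module.Finite K V := Module.Finite.of_finite
  have hK : Nat.card K = p ^ finrank (ZMod p) K := by
    rw [Module.natCard_eq_pow_finrank (K := ZMod p), Nat.card_zmod]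
  have hk : 0 < finrank (ZMod p) K := finrank_pos
  have hi : (fittingSubgroup H).index ≤ finrank (ZMod p) K := by
    refine le_trans (Nat.le_of_dvd (Nat.pos_of_ne_zero FiniteIndex.index_ne_zero) ?_)
      (Nat.le_of_dvd hk (show φ.ker.index ∣ _ from ?_))
    · have : fittingSubgroup H ≤ φ.ker := h4 ▸ le_centralizer _
      have h5 : φ.ker = fittingSubgroup H :=
        le_antisymm (h4 ▸ H2.centralizer_fitting_le H) this
      rw [h5]
    · rw [index_ker, ← IsGalois.card_aut_eq_finrank]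
      exact card_subgroup_dvd_card _
  have hF : Nat.card (fittingSubgroup H) ≤ Nat.card K - 1 := by
    choose c hc using fun a : fittingSubgroup H => h2 a a.2
    rw [← Nat.card_units]
    refine Nat.card_le_card_of_injective (fun a => Units.mk0 (c a) fun e => ?_) fun a b e => ?_
    · have := hc a v
      rw [e, zero_smul] at this
      exact hv ((smul_eq_zero_iff_eq (a : H)).1 this)
    · refine Subtype.ext (hρ (LinearMap.ext fun v => ?_))
      rw [hc, hc, show c a = c b from congrArg Units.val e]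
  have hd : finrank K V = 1 := by
    by_contra hd
    have hd2 : 2 ≤ finrank K V := by have : 0 < finrank K V := finrank_pos; omega
    have h5 : Nat.card K ^ 2 ≤ Nat.card V := by
      rw [Module.natCard_eq_pow_finrank (K := K) (V := V)]
      exact Nat.pow_le_pow_right Nat.card_pos hd2
    have h6 := Nat.le_of_dvd Nat.card_pos hO
    rw [← (fittingSubgroup H).card_mul_index] at h6
    have h7 := h6.trans (Nat.mul_le_mul hF hi)
    have h8 : 2 * finrank (ZMod p) K ≤ Nat.card K := by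
      rw [hK]
      obtain ⟨k, hk⟩ : ∃ k, finrank (ZMod p) K = k + 1 := ⟨_, (Nat.succ_pred_eq_of_pos hk).symm⟩
      rw [hk, pow_succ, mul_comm]
      exact Nat.mul_le_mul (Nat.lt_pow_self hp.out.one_lt) hp.out.two_le
    obtain ⟨n, hn⟩ : ∃ n, Nat.card K = n + 1 := ⟨_, (Nat.succ_pred_eq_of_pos Nat.card_pos).symm⟩
    rw [hn] at h5 h7 h8
    simp only [Nat.add_sub_cancel] at h7
    nlinarith
  have hVK : Nat.card V = p ^ finrank (ZMod p) K := by
    rw [Module.natCard_eq_pow_finrank (K := K) (V := V), hd, pow_one, hK]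
  refine ⟨finrank (ZMod p) K, hVK, ?_, ?_⟩
  · obtain ⟨m, hm⟩ := hodd.of_dvd_nat hO
    omega
  have := Fintype.ofFinite K
  let ψ : K ≃ₐ[ZMod p] GaloisField p (finrank (ZMod p) K) :=
    GaloisField.algEquivGaloisField p _ hK
  let L : K ≃ₗ[K] V := LinearEquiv.ofBijective (LinearMap.toSpanSingleton K V v)
    ⟨smul_left_injective K hv, (finrank_eq_one_iff_of_nonzero' v hv).1 hd⟩
  refine ⟨L.symm.toAddEquiv.trans ψ.toAddEquiv, fun h => ⟨Units.mk0 (ψ (L.symm (ρ h v))) ?_,
    (ψ.symm.trans ((φ h).trans ψ)).toRingEquiv, fun w => ?_⟩⟩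
  · rw [map_ne_zero, LinearEquiv.map_ne_zero_iff]
    exact fun e => hv ((smul_eq_zero_iff_eq h).1 e)
  · obtain ⟨c, rfl⟩ := L.surjective w
    have : ρ h (L c) = φ h c • ρ h v := h1 h c v
    simp [this, mul_comm]

theorem exists_rep_of_hom {p : ℕ} [hp : Fact p.Prime] {V : Type*} [AddCommGroup V]
    (hV : ∀ v : V, p • v = 0) {H : Type*} [Group H] (σ : H → V →+ V) (h1 : ∀ v, σ 1 v = v)
    (h2 : ∀ g h v, σ (g * h) v = σ g (σ h v)) :
    ∃ (_ : Module (ZMod p) V) (ρ : Representation (ZMod p) H V), ∀ h v, ρ h v = σ h v := by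
  obtain ⟨i⟩ : Nonempty (Module (ZMod p) V) := ⟨AddCommGroup.zmodModule hV⟩
  exact ⟨i, ⟨⟨fun h => (σ h).toZModLinearMap p, LinearMap.ext h1⟩,
    fun g h => LinearMap.ext (h2 g h)⟩, fun _ _ => rfl⟩

theorem kantor_mul {p : ℕ} [hp : Fact p.Prime] {M : Type*} [CommGroup M] [Finite M] [Nontrivial M]
    (hM : ∀ x : M, x ^ p = 1) {H : Type*} [Group H] [Finite H]
    [Group.IsSolvable H] (σ : H →* MulAut M) (hσ : Function.Injective σ)
    (hodd : Odd (Nat.card H)) (hp2 : p ≠ 2)
    (htr : ∀ v w : M, v ≠ 1 → w ≠ 1 → ∃ h, σ h v = w ∨ σ h v = w⁻¹) :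
    ∃ f : ℕ, Nat.card M = p ^ f ∧ p ^ f % 4 = 3 ∧ ∃ e : M ≃ GaloisField p f,
      (∀ x y, e (x * y) = e x + e y) ∧
      ∀ h, ∃ (a : (GaloisField p f)ˣ) (φ : GaloisField p f ≃+* GaloisField p f),
        ∀ v, e (σ h v) = a * φ (e v) := by
  obtain ⟨_, ρ, hρ⟩ := exists_rep_of_hom (V := Additive M) (fun x => hM (Additive.toMul x))
    (fun h => MonoidHom.toAdditive (σ h).toMonoidHom) (fun x => by simp) (fun g h x => by simp)
  obtain ⟨f, h3, h4, e, he⟩ := kantor_linear ρ (fun g h hgh => hσ (MulEquiv.ext fun x =>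
    (hρ g (Additive.ofMul x)).symm.trans ((DFunLike.congr_fun hgh _).trans (hρ h _)))) hodd hp2
    (by simp only [hρ]; exact htr)
  simp only [hρ] at he
  exact ⟨f, h3, h4, Additive.ofMul.trans e.toEquiv, fun x y => map_add e _ _, he⟩

theorem kantor_solvable {G α : Type*} [Group G] [MulAction G α] [FaithfulSMul G α] [Finite α]
    [DecidableEq α] [Nontrivial G] [Group.IsSolvable G] (hodd : Odd (Nat.card G))
    (h2 : Hom G α 2) :
    ∃ (p f : ℕ) (_ : Fact p.Prime), p ≠ 2 ∧ Nat.card α = p ^ f ∧ p ^ f % 4 = 3 ∧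
      ∃ e : α ≃ GaloisField p f, (∀ g : G, ∃ (a : (GaloisField p f)ˣ) (b : GaloisField p f)
        (φ : GaloisField p f ≃+* GaloisField p f), ∀ x, e (g • x) = a * φ (e x) + b) ∧
        ∀ b : GaloisField p f, ∃ g : G, ∀ x : α, e (g • x) = e x + b := by
  have : Finite G := Finite.of_injective _ (toPerm_injective (α := G) (β := α))
  obtain ⟨t, ht⟩ := exists_ne (1 : G)
  obtain ⟨a, ha⟩ := exists_smul_ne (α := α) ht
  have hprim := h2.isPreprimitive ha
  obtain ⟨N, p, hp, hN, -, hNc, -, hNp⟩ :=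
    H2.exists_elementary_abelian_normal_le (N := (⊤ : Subgroup G)) inferInstance inferInstance
      top_ne_bot
  have := hN.1
  have := Fact.mk hp
  have htrans : IsPretransitive N α := by
    refine IsQuasiPreprimitive.isPretransitive_of_normal fun h => hN.2.1 ?_
    refine eq_bot_iff.2 fun g hg => FaithfulSMul.eq_of_smul_eq_smul (α := α) fun x => ?_
    rw [one_smul]
    exact (h.ge (Set.mem_univ x) : x ∈ fixedPoints N α) ⟨g, hg⟩
  have hreg : ∀ x : α, stabilizer N x = ⊥ := fun x => by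
    refine eq_bot_iff.2 fun g hg => Subtype.ext (FaithfulSMul.eq_of_smul_eq_smul (α := α) fun y => ?_)
    obtain ⟨n, rfl⟩ := exists_smul_eq N x y
    change g • n • x = (1 : G) • n • x
    rw [one_smul, ← mul_smul, mul_comm, mul_smul, mem_stabilizer_iff.1 hg]
  obtain ⟨k, hk1, hk2, hk3⟩ := exists_regular_coord N htrans hreg a
  have hk4 : ∀ (n : N) x, k ((n : G) • x) = n * k x := fun n x => by
    rw [← k.apply_symm_apply (n * k x)]
    congr 1
    rw [← hk1 (k.symm _), k.apply_symm_apply, coe_mul, mul_smul, hk1]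
  have hp2 : p ≠ 2 := by
    rintro rfl
    obtain ⟨x, hx, hx1⟩ := (bot_or_exists_ne_one N).resolve_left hN.2.1
    have : orderOf x = 2 := orderOf_eq_prime (hNp x hx) hx1
    exact (Nat.not_even_iff_odd.2 hodd) (even_iff_two_dvd.2 (this ▸ orderOf_dvd_natCard x))
  let σ : stabilizer G a →* MulAut N := MulAut.conjNormal.comp (stabilizer G a).subtype
  have hσ : ∀ (h : stabilizer G a) x, σ h (k x) = k ((h : G) • x) :=
    fun h x => Subtype.ext (hk3 h h.2 x).symm
  have : Nontrivial N := (nontrivial_iff_ne_bot N).2 hN.2.1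
  obtain ⟨f, h3, h4, e, hadd, he⟩ := kantor_mul (M := N) (fun x => Subtype.ext (hNp x x.2)) σ
    (fun g h hgh => Subtype.ext
      (FaithfulSMul.eq_of_smul_eq_smul (α := α) fun x => k.injective (by rw [← hσ, ← hσ, hgh])))
      (hodd.of_dvd_nat (card_subgroup_dvd_card _)) hp2 (by
    intro v w hv hw
    obtain ⟨x, rfl⟩ := k.surjective v
    obtain ⟨y, rfl⟩ := k.surjective w
    have hx : a ≠ x := by rintro rfl; exact hv hk2
    have hy : a ≠ y := by rintro rfl; exact hw hk2
    obtain ⟨g, ⟨g1, g2⟩ | ⟨g1, g2⟩⟩ := h2.pair hx hy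
    · exact ⟨⟨g, g1⟩, Or.inl (by rw [hσ, g2])⟩
    · refine ⟨⟨(k y : G)⁻¹ * g, by rw [mem_stabilizer_iff, mul_smul, g1, inv_smul_eq_iff, hk1]⟩,
        Or.inr ?_⟩
      rw [hσ, mul_smul, g2, ← coe_inv, hk4, hk2, mul_one])
  refine ⟨p, f, inferInstance, hp2, ?_, h4, k.trans e, fun g => ?_, fun b => ?_⟩
  · rw [← h3, Nat.card_congr k]
  · let h : stabilizer G a := ⟨(k (g • a) : G)⁻¹ * g, by
      rw [mem_stabilizer_iff, mul_smul, inv_smul_eq_iff, hk1]⟩
    obtain ⟨c, φ, hc⟩ := he h
    refine ⟨c, e (k (g • a)), φ, fun x => ?_⟩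
    have : g • x = (k (g • a) : G) • (h : G) • x := by simp [h, mul_smul]
    simp only [Equiv.trans_apply]
    rw [← hc, hσ, add_comm, ← hadd, ← hk4, ← this]
  · refine ⟨(e.symm b : N), fun x => ?_⟩
    simp only [Equiv.trans_apply]
    rw [hk4, hadd, add_comm, e.apply_symm_apply]

end H14
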