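import Mathlib
import Cfsg.Agent.H14.Hall4
import Cfsg.Agent.H14.NormalMT
import Cfsg.Agent.H14.Homog
import Cfsg.Agent.H14.Jordan

/-! Groups induced on subsets by multiply transitive groups. -/

set_option autoImplicit false
set_option linter.unusedSectionVars false

namespace H14

open MulAction Subgroup SubMulAction Equiv H22
open scoped Pointwise

variable {G : Type*} [Group G] {Ω : Type*} [MulAction G Ω] [DecidableEq Ω]

variable (G) in
/-- Every permutation of `Δ` is induced. -/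
def SymOn (Δ : Finset Ω) : Prop := ∀ σ : Perm Δ, ∃ g : G, ∀ x : Δ, g • (x : Ω) = σ x

variable (G) in
/-- Every even permutation of `Δ` is induced. -/
def AltOn (Δ : Finset Ω) : Prop :=
  ∀ σ : Perm Δ, Perm.sign σ = 1 → ∃ g : G, ∀ x : Δ, g • (x : Ω) = σ x

/-- `g` induces the transposition `(u v)` on `Δ`. -/
def IsTr (Δ : Finset Ω) (u v : Ω) (g : G) : Prop :=
  g • u = v ∧ g • v = u ∧ ∀ x ∈ Δ, x ≠ u → x ≠ v → g • x = x

theorem SymOn.altOn {Δ : Finset Ω} (h : SymOn G Δ) : AltOn G Δ := fun σ _ => h σ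

theorem symOn_of_swaps {Δ : Finset Ω}
    (h : ∀ u ∈ Δ, ∀ v ∈ Δ, u ≠ v → ∃ g : G, IsTr Δ u v g) : SymOn G Δ := by
  intro σ
  induction σ using Perm.swap_induction_on with
  | one => exact ⟨1, by simp⟩
  | swap_mul f x y hxy ih =>
    obtain ⟨g, hg⟩ := ih
    obtain ⟨u, h1, h2, h3⟩ := h x x.2 y y.2 (fun e => hxy (Subtype.ext e))
    refine ⟨u * g, fun z => ?_⟩
    rw [mul_smul, hg, Perm.mul_apply]
    by_cases e1 : f z = x
    · rw [e1, swap_apply_left, h1]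
    by_cases e2 : f z = y
    · rw [e2, swap_apply_right, h2]
    rw [swap_apply_of_ne_of_ne e1 e2]
    exact h3 _ (f z).2 (fun e => e1 (Subtype.ext e)) (fun e => e2 (Subtype.ext e))

theorem symOn_of_star {Δ : Finset Ω} {o : Ω}
    (h : ∀ v ∈ Δ, v ≠ o → ∃ g : G, IsTr Δ o v g) : SymOn G Δ := by
  refine symOn_of_swaps fun u hu v hv huv => ?_
  by_cases h1 : u = o
  · subst h1; exact h v hv huv.symm
  by_cases h2 : v = o
  · subst h2
    obtain ⟨g, g1, g2, g3⟩ := h u hu h1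
    exact ⟨g, g2, g1, fun x hx x1 x2 => g3 x hx x2 x1⟩
  obtain ⟨g, g1, g2, g3⟩ := h u hu h1
  obtain ⟨k, k1, k2, k3⟩ := h v hv h2
  refine ⟨g * k * g, by rw [mul_smul, mul_smul, g2, k1, g3 v hv h2 huv.symm],
    by rw [mul_smul, mul_smul, g3 v hv h2 huv.symm, k2, g1], fun x hx x1 x2 => ?_⟩
  by_cases h3 : x = o
  · rw [h3, mul_smul, mul_smul, g1, k3 u hu h1 huv, g2]
  · rw [mul_smul, mul_smul, g3 x hx h3 x1, k3 x hx h3 x2, g3 x hx h3 x1]

theorem MT.symOn {k : ℕ} (h : MT (⊤ : Subgroup G) (Set.univ : Set Ω) k) {Δ : Finset Ω}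
    (hΔ : Δ.card ≤ k) : SymOn G Δ := fun σ => by
  obtain ⟨g, -, hg⟩ := h.tuple (ι := Δ) (by simpa using hΔ) (fun x => x) (fun x => σ x)
    Subtype.val_injective (Subtype.val_injective.comp σ.injective) (fun _ => trivial)
    (fun _ => trivial)
  exact ⟨g, hg⟩

theorem MT.exists_isTr {k : ℕ} (h : MT (⊤ : Subgroup G) (Set.univ : Set Ω) k) {Δ : Finset Ω}
    (hΔ : Δ.card ≤ k) {u v : Ω} (hu : u ∈ Δ) (hv : v ∈ Δ) : ∃ g : G, IsTr Δ u v g := by
  obtain ⟨g, -, hg⟩ := h Δ (swap u v) (Set.subset_univ _) hΔ (swap u v).injective.injOn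
    (Set.mapsTo_univ _ _)
  exact ⟨g, by rw [hg u hu, swap_apply_left], by rw [hg v hv, swap_apply_right],
    fun x hx h1 h2 => by rw [hg x hx, swap_apply_of_ne_of_ne h1 h2]⟩

theorem Hom.mt_of_symOn [Finite Ω] {Δ : Finset Ω} (h : Hom G Ω Δ.card) (hΔ : SymOn G Δ) :
    MT (⊤ : Subgroup G) (Set.univ : Set Ω) Δ.card := by
  refine MT_of_exact' (by rw [← Set.ncard_coe_finset]; exact Set.ncard_le_ncard (by simp))
    fun s f _ hs hi _ => ?_
  obtain ⟨a, ha⟩ := h Δ s rfl hs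
  obtain ⟨b, hb⟩ := h (s.image f) Δ (by rw [Finset.card_image_of_injOn hi, hs]) rfl
  have h1 : ∀ x ∈ Δ, a • x ∈ s := fun x hx => ha ▸ Finset.smul_mem_smul_finset hx
  have h2 : ∀ x ∈ Δ, b • f (a • x) ∈ Δ := fun x hx =>
    hb.le (Finset.smul_mem_smul_finset (Finset.mem_image_of_mem f (h1 x hx)))
  let φ : Δ → Δ := fun x => ⟨b • f (a • x), h2 x x.2⟩
  have hφ : Function.Injective φ := fun x y e => Subtype.ext (smul_left_cancel a
    (hi (h1 x x.2) (h1 y y.2) (smul_left_cancel b (congrArg Subtype.val e))))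
  obtain ⟨g, hg⟩ := hΔ (Equiv.ofBijective φ (Finite.injective_iff_bijective.1 hφ))
  refine ⟨b⁻¹ * g * a⁻¹, trivial, fun x hx => ?_⟩
  rw [← ha] at hx
  obtain ⟨y, hy, rfl⟩ := Finset.mem_smul_finset.1 hx
  rw [mul_smul, mul_smul, inv_smul_smul, inv_smul_eq_iff]
  exact hg ⟨y, hy⟩

theorem AltOn.of_equiv {G' Ω' : Type*} [Group G'] [MulAction G' Ω'] [DecidableEq Ω']
    {Δ' : Finset Ω'} {Δ : Finset Ω} (e : Δ' ≃ Δ)
    (he : ∀ g' : G', ∃ g : G, ∀ x y : Δ', g' • (x : Ω') = y → g • (e x : Ω) = e y)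
    (h : AltOn G' Δ') : AltOn G Δ := fun σ hσ => by
  obtain ⟨g', hg'⟩ := h (e.symm.permCongr σ) (by rw [Perm.sign_permCongr, hσ])
  obtain ⟨g, hg⟩ := he g'
  exact ⟨g, fun x => by simpa using hg (e.symm x) _ (hg' _)⟩

theorem Hom.altOn {Δ Δ' : Finset Ω} (h : Hom G Ω Δ.card) (hΔ : AltOn G Δ) (hc : Δ'.card = Δ.card) :
    AltOn G Δ' := by
  obtain ⟨a, rfl⟩ := h Δ Δ' rfl hc
  let φ : Δ → ↥(a • Δ) := fun x => ⟨a • x, Finset.smul_mem_smul_finset x.2⟩
  refine hΔ.of_equiv (Equiv.ofBijective φ ⟨fun x y e => Subtype.ext (smul_left_cancel a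
    (congrArg Subtype.val e)), fun ⟨y, hy⟩ => ?_⟩) fun g => ⟨a * g * a⁻¹, fun x y e => ?_⟩
  · obtain ⟨x, hx, rfl⟩ := Finset.mem_smul_finset.1 hy
    exact ⟨⟨x, hx⟩, rfl⟩
  · change (a * g * a⁻¹) • a • (x : Ω) = a • (y : Ω)
    rw [mul_smul, mul_smul, inv_smul_smul, e]

theorem MT.sub {H : Subgroup G} {F : Set Ω} {k : ℕ} (h : MT H F k) (S : SubMulAction H Ω)
    (hS : ∀ x ∈ S, x ∈ F) : MT (⊤ : Subgroup H) (Set.univ : Set S) k := by
  intro s f _ hc hi _
  obtain ⟨g, hg, h1⟩ := h.tuple (ι := s) (by simpa using hc) (fun x => x.1.1) (fun x => (f x).1)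
    (fun x y e => Subtype.ext (Subtype.ext e))
    (fun x y e => Subtype.ext (hi x.2 y.2 (Subtype.ext e))) (fun x => hS _ x.1.2)
    (fun x => hS _ (f x).2)
  exact ⟨⟨g, hg⟩, trivial, fun a ha => Subtype.ext (h1 ⟨a, ha⟩)⟩

theorem MT.ofFixing {m : ℕ} (s : Finset Ω)
    (h : MT (⊤ : Subgroup G) (Set.univ : Set Ω) (s.card + m)) :
    MT (⊤ : Subgroup (fixingSubgroup G (s : Set Ω)))
      (Set.univ : Set (ofFixingSubgroup G (s : Set Ω))) m :=
  ((h.fixing s (Set.subset_univ _) le_rfl).mono_le inf_le_right).sub _ fun _ hx => ⟨trivial, hx⟩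

theorem exists_fix_ofFixing (s : Finset Ω) (g : fixingSubgroup G (s : Set Ω))
    (t : Finset (ofFixingSubgroup G (s : Set Ω))) (h : ∀ x ∈ t, g • x = x) :
    ∃ u : Finset Ω, u.card = s.card + t.card ∧ ∀ x ∈ u, (g : G) • x = x := by
  refine ⟨s ∪ t.map (Function.Embedding.subtype _), ?_, fun x hx => ?_⟩
  · rw [Finset.card_union_of_disjoint, Finset.card_map]
    rw [Finset.disjoint_right]
    intro x hx
    obtain ⟨y, -, rfl⟩ := Finset.mem_map.1 hx
    exact y.2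
  · rcases Finset.mem_union.1 hx with hx | hx
    · exact mem_fixing.1 g.2 x hx
    · obtain ⟨y, hy, rfl⟩ := Finset.mem_map.1 hx
      exact congrArg Subtype.val (h y hy)

theorem NoFix.ofFixing {m : ℕ} (s : Finset Ω) (h : NoFix G Ω (s.card + m)) :
    NoFix (fixingSubgroup G (s : Set Ω)) (ofFixingSubgroup G (s : Set Ω)) m := fun g t ht hg => by
  obtain ⟨u, hu, h1⟩ := exists_fix_ofFixing s g t hg
  exact Subtype.ext (h g u (by rw [hu, ht]) h1)

theorem InvFix.ofFixing {m : ℕ} (s : Finset Ω) (h : InvFix G Ω (s.card + m)) :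
    InvFix (fixingSubgroup G (s : Set Ω)) (ofFixingSubgroup G (s : Set Ω)) m :=
  fun g t hgg ht hg => by
  obtain ⟨u, hu, h1⟩ := exists_fix_ofFixing s g t hg
  exact Subtype.ext (h g u (congrArg Subtype.val hgg) (by rw [hu, ht]) h1)

theorem NoFix.of_le {k : ℕ} (h : NoFix G Ω k) {g : G} {s : Finset Ω} (hs : k ≤ s.card)
    (hg : ∀ x ∈ s, g • x = x) : g = 1 := by
  obtain ⟨t, ht, hc⟩ := Finset.exists_subset_card_eq hs
  exact h g t hc fun x hx => hg x (ht hx)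

theorem InvFix.of_le {k l : ℕ} (h : InvFix G Ω k) (hkl : k ≤ l) : InvFix G Ω l :=
  fun g s hgg hs hg => by
  obtain ⟨t, ht, hc⟩ := Finset.exists_subset_card_eq (hs ▸ hkl : k ≤ s.card)
  exact h g t hgg hc fun x hx => hg x (ht hx)

theorem exists_finset_card [Finite Ω] {k : ℕ} (h : k ≤ Nat.card Ω) : ∃ s : Finset Ω, s.card = k := by
  have := Fintype.ofFinite Ω
  obtain ⟨s, -, hs⟩ := Finset.exists_subset_card_eq (s := (Finset.univ : Finset Ω)) (n := k)
    (by rwa [Finset.card_univ, ← Nat.card_eq_fintype_card])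
  exact ⟨s, hs⟩

theorem card_of_invFix [Finite G] [Finite Ω] {k : ℕ} (hk : 4 ≤ k) (hn : k ≤ Nat.card Ω)
    (h : MT (⊤ : Subgroup G) (Set.univ : Set Ω) k) (hN : NoFix G Ω (k + 1)) (hi : InvFix G Ω k) :
    Nat.card Ω ≤ k + 3 ∨ Nat.card Ω = k + 7 := by
  obtain ⟨s, hs⟩ := exists_finset_card (Ω := Ω) (k := k - 4) (by omega)
  have := hall_four (MT.ofFixing (m := 4) s (by rwa [hs, Nat.sub_add_cancel hk]))
    (by rw [card_ofFixing]; omega)
    (NoFix.ofFixing s (by rwa [hs, show k - 4 + 5 = k + 1 by omega]))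
    (InvFix.ofFixing s (by rwa [hs, Nat.sub_add_cancel hk]))
  rw [card_ofFixing] at this
  omega

theorem symOn_of_not_invFix [Finite Ω] {k : ℕ}
    (h : MT (⊤ : Subgroup G) (Set.univ : Set Ω) (k + 1)) (hN : NoFix G Ω (k + 2))
    (hi : ¬ InvFix G Ω (k + 1)) {Δ : Finset Ω} (hΔ : Δ.card = k + 2) : SymOn G Δ := by
  unfold InvFix at hi
  push Not at hi
  obtain ⟨z, s, hzz, hs, hz, hz1⟩ := hi
  refine symOn_of_swaps fun u hu v hv huv => ?_
  set Λ := (Δ.erase u).erase v with hΛ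
  have hc : Λ.card = k := by
    rw [Finset.card_erase_of_mem (by simp [hv, huv.symm]), Finset.card_erase_of_mem hu, hΔ]; rfl
  have huΛ : u ∉ Λ := by simp [hΛ]
  have key : ∀ γ : {γ // γ ∉ insert u Λ}, ∃ w : G, w * w = 1 ∧ w ≠ 1 ∧ w • γ.1 = γ ∧
      ∀ x ∈ Λ, w • x = x := fun γ => by
    obtain ⟨g, -, hg⟩ := h.exists_image (s := s) (t := insert γ.1 Λ) (Set.subset_univ _)
      (Set.subset_univ _) hs.le (by
        rw [Finset.card_insert_of_notMem fun h => γ.2 (Finset.mem_insert_of_mem h), hs, hc])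
    have h1 : ∀ x ∈ insert γ.1 Λ, (g * z * g⁻¹) • x = x := fun x hx => by
      rw [← hg] at hx
      obtain ⟨y, hy, rfl⟩ := Finset.mem_image.1 hx
      rw [mul_smul, mul_smul, inv_smul_smul, hz y hy]
    exact ⟨g * z * g⁻¹, by rw [conj_mul, hzz]; group, by simpa using hz1, h1 _ (by simp),
      fun x hx => h1 x (by simp [hx])⟩
  choose w w1 w2 w3 w4 using key
  have hfix : ∀ (g : G) (a b : Ω), a ≠ b → a ∉ Λ → b ∉ Λ → g • a = a → g • b = b →
      (∀ x ∈ Λ, g • x = x) → g = 1 := fun g a b hab ha hb h1 h2 h3 =>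
    hN g (insert a (insert b Λ)) (by
      rw [Finset.card_insert_of_notMem (by simp [hab, ha]), Finset.card_insert_of_notMem hb, hc])
      (by simpa [h1, h2] using h3)
  have hw : ∀ γ x, w γ • w γ • x = (x : Ω) := fun γ x => by rw [← mul_smul, w1, one_smul]
  have hne : ∀ γ, w γ • u ≠ u := fun γ e => w2 γ (hfix _ u γ (fun e => γ.2 (by simp [← e])) huΛ
    (fun e => γ.2 (by simp [e])) e (w3 γ) (w4 γ))
  have hΛ' : ∀ γ, w γ • u ∉ Λ := fun γ e => huΛ (by rwa [← hw γ u, w4 γ _ e])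
  let φ : {γ // γ ∉ insert u Λ} → {γ // γ ∉ insert u Λ} := fun γ =>
    ⟨w γ • u, by simp [hne γ, hΛ' γ]⟩
  have hφ : Function.Injective φ := fun γ δ e => by
    have e : w γ • u = w δ • u := congrArg Subtype.val e
    have h1 := hfix (w γ * w δ) u (w γ • u) (hne γ).symm huΛ (hΛ' γ)
      (by rw [mul_smul, ← e, hw]) (by rw [mul_smul, e, hw, e])
      fun x hx => by rw [mul_smul, w4 δ x hx, w4 γ x hx]
    have h2 : w γ = w δ := mul_right_cancel (h1.trans (w1 δ).symm)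
    by_contra hh
    exact w2 γ (hfix _ γ δ (fun e => hh (Subtype.ext e)) (fun e => γ.2 (by simp [e]))
      (fun e => δ.2 (by simp [e])) (w3 γ) (h2 ▸ w3 δ) (w4 γ))
  obtain ⟨γ, hγ⟩ := Finite.injective_iff_surjective.1 hφ ⟨v, by simp [hΛ, huv.symm]⟩
  have hγ : w γ • u = v := congrArg Subtype.val hγ
  exact ⟨w γ, hγ, by rw [← hγ, hw], fun x hx h1 h2 => w4 γ x (by simp [hΛ, hx, h1, h2])⟩

theorem pres_fixing_compl (s : Finset Ω) :
    Pres (⊤ ⊓ fixingSubgroup G (s : Set Ω)) ((s : Set Ω)ᶜ) := fun g hg x hx h =>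
  hx ((fixing_le_setStab _ hg.2 x).1 h)

theorem NoFix.free {s : Finset Ω} (hN : NoFix G Ω (s.card + 1)) :
    ∀ g ∈ ⊤ ⊓ fixingSubgroup G (s : Set Ω), ∀ x ∈ (s : Set Ω)ᶜ, g • x = x → g = 1 :=
  fun g hg x hx h => hN g (insert x s) (Finset.card_insert_of_notMem hx)
    (by simpa [h] using mem_fixing.1 hg.2)

theorem NoFix.card_dvd [Finite Ω] {s : Finset Ω} (hN : NoFix G Ω (s.card + 1)) :
    Nat.card ↥(⊤ ⊓ fixingSubgroup G (s : Set Ω)) ∣ Nat.card Ω - s.card := by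
  have := card_dvd_ncard_of_free (pres_fixing_compl s) hN.free
  rwa [Set.ncard_compl, Set.ncard_coe_finset] at this

theorem MT.succ_of_card [Finite Ω] {s : Finset Ω}
    (h : MT (⊤ : Subgroup G) (Set.univ : Set Ω) s.card) (hN : NoFix G Ω (s.card + 1))
    (hc : Nat.card ↥(⊤ ⊓ fixingSubgroup G (s : Set Ω)) = Nat.card Ω - s.card) :
    MT (⊤ : Subgroup G) (Set.univ : Set Ω) (s.card + 1) := by
  refine h.succ' (Pres.univ _) s (Set.subset_univ _) rfl fun a _ b _ ha hb => ?_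
  have h1 := ncard_orbit_mul (⊤ ⊓ fixingSubgroup G (s : Set Ω)) a
  rw [show (⊤ ⊓ fixingSubgroup G (s : Set Ω)) ⊓ stabilizer G a = ⊥ from
    eq_bot_iff.2 fun g hg => hN.free g hg.1 a ha hg.2, card_bot, mul_one, hc] at h1
  have h2 := Set.eq_of_subset_of_ncard_le ((pres_fixing_compl (G := G) s).orbit_subset ha)
    (by rw [h1, Set.ncard_compl, Set.ncard_coe_finset])
  obtain ⟨g, hg, hab⟩ := mem_orb.1 (h2.ge hb)
  exact ⟨g, trivial, mem_fixing.1 hg.2, hab⟩

theorem IsTr.mem {Γ : Finset Ω} {o u : Ω} {g : G} (h : IsTr Γ o u g) (ho : o ∈ Γ) (hu : u ∈ Γ)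
    {x : Ω} (hx : x ∈ Γ) : g • x ∈ Γ ∧ g • g • x = x := by
  by_cases h1 : x = o
  · rw [h1, h.1, h.2.1]; exact ⟨hu, rfl⟩
  by_cases h2 : x = u
  · rw [h2, h.2.1, h.1]; exact ⟨ho, rfl⟩
  rw [h.2.2 x hx h1 h2, h.2.2 x hx h1 h2]; exact ⟨hx, rfl⟩

section sharp
variable [Finite Ω] {Γ : Finset Ω} (hN : NoFix G Ω Γ.card) (hn : Nat.card Ω = Γ.card + 7)
  {o u : Ω} {g : G} (hg : IsTr Γ o u g) (ho : o ∈ Γ) (hu : u ∈ Γ) (hou : u ≠ o)
include hN hg ho hu

theorem IsTr.sq : g * g = 1 := hN _ Γ rfl fun x hx => by rw [mul_smul, (hg.mem ho hu hx).2]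

theorem IsTr.compl {x : Ω} (hx : x ∉ Γ) : g • x ∉ Γ := fun h =>
  hx (by simpa [← mul_smul, hg.sq hN ho hu] using (hg.mem ho hu h).1)

include hn in
theorem IsTr.exists_fix : ∃ y ∉ Γ, g • y = y := by
  have : Fact (Nat.Prime 2) := ⟨Nat.prime_two⟩
  have h := ncard_modEq_fixed_elt (p := 2) (n := 1) (t := g)
    (by rw [pow_one, pow_two, hg.sq hN ho hu]) (F := (Γ : Set Ω)ᶜ) (Set.toFinite _)
    fun x hx => hg.compl hN ho hu hx
  rw [Set.ncard_compl, Set.ncard_coe_finset, hn, Nat.add_sub_cancel_left] at h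
  exact Set.nonempty_of_ncard_ne_zero (s := {x ∈ (Γ : Set Ω)ᶜ | g • x = x}) fun h0 => by
    rw [h0] at h; exact absurd h (by decide)

include hn hou in
theorem IsTr.fix_of_fix {v : Ω} {g' : G} (hg' : IsTr Γ o v g') (hv : v ∈ Γ) (hov : v ≠ o)
    {y : Ω} (hy : y ∉ Γ) (h : g • y = y) : g' • y = y := by
  have hgg := hg.sq hN ho hu
  have hgg' := hg'.sq hN ho hv
  by_cases huv : u = v
  · subst huv
    have : g * g' = 1 := hN _ Γ rfl fun x hx => by
      by_cases h1 : x = o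
      · rw [h1, mul_smul, hg'.1, hg.2.1]
      by_cases h2 : x = u
      · rw [h2, mul_smul, hg'.2.1, hg.1]
      rw [mul_smul, hg'.2.2 x hx h1 h2, hg.2.2 x hx h1 h2]
    rwa [← mul_left_cancel (hgg.trans this.symm)]
  have c1 : (g * g') • o = v := by rw [mul_smul, hg'.1, hg.2.2 v hv hov (Ne.symm huv)]
  have c2 : (g * g') • v = u := by rw [mul_smul, hg'.2.1, hg.1]
  have c3 : (g * g') • u = o := by rw [mul_smul, hg'.2.2 u hu hou huv, hg.2.1]
  have c4 : ∀ x ∈ Γ, x ≠ o → x ≠ u → x ≠ v → (g * g') • x = x := fun x hx h1 h2 h3 => by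
    rw [mul_smul, hg'.2.2 x hx h1 h3, hg.2.2 x hx h1 h2]
  have hc : (g * g') ^ 3 ^ 1 = 1 := hN _ Γ rfl fun x hx => by
    rw [pow_one, pow_three, mul_smul (g * g'), mul_smul (g * g')]
    by_cases h1 : x = o
    · rw [h1, c1, c2, c3]
    by_cases h2 : x = u
    · rw [h2, c3, c1, c2]
    by_cases h3 : x = v
    · rw [h3, c2, c3, c1]
    rw [c4 x hx h1 h2 h3, c4 x hx h1 h2 h3, c4 x hx h1 h2 h3]
  have : Fact (Nat.Prime 3) := ⟨Nat.prime_three⟩
  have h3 := ncard_modEq_fixed_elt (p := 3) hc (F := (Γ : Set Ω)ᶜ) (Set.toFinite _)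
    fun x hx => by rw [mul_smul]; exact hg.compl hN ho hu (hg'.compl hN ho hv hx)
  rw [Set.ncard_compl, Set.ncard_coe_finset, hn, Nat.add_sub_cancel_left] at h3
  set E := {x ∈ (Γ : Set Ω)ᶜ | (g * g') • x = x} with hE
  have h4 : E.ncard < 3 := by
    by_contra hlt
    have := hN.of_le (g := g * g') (s := ((Γ.erase o).erase u).erase v ∪ (Set.toFinite E).toFinset)
      (by
        rw [Finset.card_union_of_disjoint (Finset.disjoint_left.2 fun x hx hx' =>
          ((Set.Finite.mem_toFinset _).1 hx').1 (Finset.mem_of_mem_erase (Finset.mem_of_mem_erase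
            (Finset.mem_of_mem_erase hx)))), ← Set.ncard_eq_toFinset_card]
        have := Finset.pred_card_le_card_erase (s := Γ) (a := o)
        have := Finset.pred_card_le_card_erase (s := Γ.erase o) (a := u)
        have := Finset.pred_card_le_card_erase (s := (Γ.erase o).erase u) (a := v)
        omega)
      fun x hx => by
        rcases Finset.mem_union.1 hx with hx | hx
        · simp only [Finset.mem_erase] at hx
          exact c4 x hx.2.2.2 hx.2.2.1 hx.2.1 hx.1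
        · exact ((Set.Finite.mem_toFinset _).1 hx).2
    rw [this, one_smul] at c1
    exact hov c1.symm
  obtain ⟨z, hz⟩ := Set.ncard_eq_one.1 (show E.ncard = 1 by unfold Nat.ModEq at h3; omega)
  have hzE : z ∈ E := hz.ge rfl
  have e1 : g' • z = g • z := by
    rw [← one_smul G (g' • z), ← hgg, mul_smul, ← mul_smul g g', hzE.2]
  have e2 : g • z = z := hz.le ⟨hg.compl hN ho hu hzE.1, by
    rw [mul_smul, ← e1, ← mul_smul g', hgg', one_smul, e1]⟩
  by_cases hyz : y = z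
  · rw [hyz, e1, e2]
  have := hN.of_le (g := g) (s := insert y (insert z ((Γ.erase o).erase u))) (by
      rw [Finset.card_insert_of_notMem (by simp [hyz, hy]),
        Finset.card_insert_of_notMem (by simp [show z ∉ Γ from hzE.1])]
      have := Finset.pred_card_le_card_erase (s := Γ) (a := o)
      have := Finset.pred_card_le_card_erase (s := Γ.erase o) (a := u)
      omega) fun x hx => by
    simp only [Finset.mem_insert, Finset.mem_erase] at hx
    rcases hx with rfl | rfl | hx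
    exacts [h, e2, hg.2.2 x hx.2.2 hx.2.1 hx.1]
  exact absurd (by rw [← hg.1, this, one_smul]) hou

end sharp

theorem exists_symOn_sharp [Finite Ω] {k : ℕ} (hk : 3 ≤ k) (hn : Nat.card Ω = k + 7)
    (h : MT (⊤ : Subgroup G) (Set.univ : Set Ω) k) (hN : NoFix G Ω k) :
    ∃ Δ : Finset Ω, Δ.card = k + 1 ∧ SymOn G Δ := by
  obtain ⟨Γ, rfl⟩ := exists_finset_card (Ω := Ω) (k := k) (by omega)
  obtain ⟨o, l, y, ho, hl, hy, hol, hoy, hly⟩ := Finset.two_lt_card_iff.1 hk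
  obtain ⟨g, hg⟩ := h.exists_isTr le_rfl ho hl
  obtain ⟨x, hx, hgx⟩ := hg.exists_fix hN hn ho hl
  refine ⟨insert x Γ, Finset.card_insert_of_notMem hx, symOn_of_star (o := o) fun v hv hvo => ?_⟩
  rcases Finset.mem_insert.1 hv with rfl | hv'
  · have hc : (insert v (Γ.erase y)).card = Γ.card := by
      rw [Finset.card_insert_of_notMem (by simp [hx]), Finset.card_erase_add_one hy]
    have ho' : o ∈ insert v (Γ.erase y) := by simp [ho, hoy]
    obtain ⟨g', hg'⟩ := h.exists_isTr hc.le ho' (Finset.mem_insert_self _ _)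
    have h1 := IsTr.fix_of_fix (Γ := insert v (Γ.erase y)) (hc ▸ hN) (hc ▸ hn) (g := g)
      ⟨hg.1, hg.2.1, fun z hz h1 h2 => by
        rcases Finset.mem_insert.1 hz with rfl | hz
        exacts [hgx, hg.2.2 z (Finset.mem_of_mem_erase hz) h1 h2]⟩ ho' (by simp [hl, hly])
      hol.symm hg' (Finset.mem_insert_self _ _) hvo (y := y)
      (by simp [show y ≠ v from fun e => hx (e ▸ hy)]) (hg.2.2 y hy hoy.symm hly.symm)
    refine ⟨g', hg'.1, hg'.2.1, fun z hz h2 h3 => ?_⟩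
    by_cases hzy : z = y
    · rw [hzy, h1]
    · exact hg'.2.2 z (by simpa [hzy, h3] using hz) h2 h3
  · obtain ⟨g', hg'⟩ := h.exists_isTr le_rfl ho hv'
    refine ⟨g', hg'.1, hg'.2.1, fun z hz h2 h3 => ?_⟩
    rcases Finset.mem_insert.1 hz with rfl | hz
    exacts [hg.fix_of_fix hN hn ho hl hol.symm hg' hv' hvo hx hgx, hg'.2.2 z hz h2 h3]

end H14
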