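import Mathlib
import Cfsg.Agent.H14.LW1
import Cfsg.Agent.H14.Sharp2
import Cfsg.Agent.H1.CoprimeAbelian
import Cfsg.Agent.S0744

/-! The Livingstone–Wagner theorems. -/

set_option autoImplicit false
set_option linter.unusedSectionVars false

namespace H14

open MulAction Subgroup SubMulAction Equiv H22
open scoped Pointwise

universe u

theorem alt_le_of_small {α : Type*} [Fintype α] [DecidableEq α] {G : Subgroup (Perm α)} {k : ℕ}
    (h : MT (⊤ : Subgroup G) (Set.univ : Set α) k) (hk : 3 ≤ k) (hn : k ≤ Nat.card α)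
    (hs : Nat.card α + 4 < 3 * k) : alternatingGroup α ≤ G := by
  obtain ⟨s, rfl⟩ := exists_finset_card hn
  obtain ⟨a, ha, b, hb, hab⟩ := Finset.one_lt_card.1 (by omega : 1 < s.card)
  obtain ⟨g, hg⟩ := h.exists_isTr le_rfl ha hb
  have h1 := card_support_le_of_fix (g := (g : Perm α)) ((s.erase a).erase b) fun x hx => by
    simp only [Finset.mem_erase] at hx
    exact hg.2.2 x hx.2.2 hx.2.1 hx.1
  have := Finset.pred_card_le_card_erase (s := s) (a := a)
  have := Finset.pred_card_le_card_erase (s := s.erase a) (a := b)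
  rw [Nat.card_eq_fintype_card] at hs
  obtain ⟨u, hu, h2, h3⟩ := exists_support_le_three hk (MT_of_top h) _ g g.2
    (fun e => hab (by rw [← hg.1, Subgroup.smul_def, e, one_smul])) rfl (by omega)
  exact alt_le_of_support_le_three (isPreprimitive_of_is_two_pretransitive
    (h.mono (by omega)).isMultiplyPretransitive_top) hu h2 h3

theorem exists_altOn_base {α : Type*} [Fintype α] [DecidableEq α] {G : Subgroup (Perm α)} {k : ℕ}
    (h : MT (⊤ : Subgroup G) (Set.univ : Set α) k) (hk : 4 ≤ k) (hn : k < Nat.card α)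
    (hN : NoFix G α (k + 1)) : ∃ Δ : Finset α, Δ.card = k + 1 ∧ AltOn G Δ := by
  obtain ⟨Δ, hΔ⟩ := exists_finset_card (k := k + 1) hn
  by_cases hi : InvFix G α k
  swap
  · obtain ⟨k, rfl⟩ : ∃ j, k = j + 1 := ⟨k - 1, by omega⟩
    exact ⟨Δ, hΔ, (symOn_of_not_invFix h hN hi hΔ).altOn⟩
  rcases card_of_invFix hk hn.le h hN hi with h1 | h1
  · have := alt_le_of_small h (by omega) hn.le (by omega)
    exact ⟨Δ, hΔ, fun σ hσ => ⟨⟨Perm.ofSubtype σ, this (by
      rw [Perm.mem_alternatingGroup, Perm.sign_ofSubtype, hσ])⟩, Perm.ofSubtype_apply_coe σ⟩⟩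
  by_cases hs : NoFix G α k
  · exact (exists_symOn_sharp (by omega) h1 h hs).imp fun _ h => ⟨h.1, h.2.altOn⟩
  unfold NoFix at hs
  push Not at hs
  obtain ⟨g, s, rfl, hg, hg1⟩ := hs
  have h2 := hN.card_dvd
  rw [h1, Nat.add_sub_cancel_left] at h2
  refine ⟨Δ, hΔ, ((h.succ_of_card hN ?_).symOn hΔ.le).altOn⟩
  rw [h1, Nat.add_sub_cancel_left]
  refine ((Nat.dvd_prime (by norm_num)).1 h2).resolve_left fun h3 => hg1 ?_
  exact (card_eq_one.1 h3).le ⟨trivial, mem_fixing.2 hg⟩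

theorem exists_altOn {k : ℕ} (hk : 4 ≤ k) (n : ℕ) : ∀ {α : Type u} [Fintype α] [DecidableEq α]
    (G : Subgroup (Perm α)), Nat.card α = n → k < n →
    MT (⊤ : Subgroup G) (Set.univ : Set α) k → ∃ Δ : Finset α, Δ.card = k + 1 ∧ AltOn G Δ := by
  induction n using Nat.strong_induction_on with | _ n ih => ?_
  intro α _ _ G hn hkn h
  classical
  by_cases hN : NoFix G α (k + 1)
  · exact exists_altOn_base h hk (hn ▸ hkn) hN
  unfold NoFix at hN
  push Not at hN
  obtain ⟨g, s, hs, hg, hg1⟩ := hN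
  obtain ⟨m, hp, -⟩ := exists_pow_orderOf_prime (isOfFinOrder_of_finite g) hg1
  set p := orderOf (g ^ m) with hpdef
  have := Fact.mk hp
  obtain ⟨Q, ⟨hQ, hQF⟩, hmax⟩ := Set.exists_max_image
    {Q : Subgroup G | IsPGroup p Q ∧ k + 1 ≤ (fixedPoints Q α).ncard} (fun Q => Nat.card Q)
    (Set.toFinite _) ⟨⊥, IsPGroup.of_bot, by
      rw [show fixedPoints (⊥ : Subgroup G) α = Set.univ from Set.eq_univ_of_forall fun x =>
        mem_fix.2 fun g hg => by rw [mem_bot.1 hg, one_smul], Set.ncard_univ]; omega⟩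
  have hQ1 : p ≤ Nat.card Q := by
    have := hmax (zpowers (g ^ m)) ⟨IsPGroup.of_card (n := 1) (by rw [Nat.card_zpowers, pow_one]), by
      rw [← hs, ← Set.ncard_coe_finset]
      exact Set.ncard_le_ncard fun x hx =>
        mem_fix_zpowers.2 ((stabilizer G x).pow_mem (hg x hx) m)⟩
    rwa [Nat.card_zpowers] at this
  have hlt : (fixedPoints Q α).ncard < n := by
    rw [← hn, ← Set.ncard_univ]
    refine Set.ncard_lt_ncard (Set.ssubset_univ_iff.2 fun e => ?_)
    have : Q = ⊥ := eq_bot_iff.2 fun x hx => eq_of_smul_eq_smul (α := α) fun y => by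
      rw [one_smul]; exact mem_fix.1 (e.ge (Set.mem_univ y)) x hx
    rw [this, card_bot] at hQ1
    exact hp.one_lt.not_ge hQ1
  have hP := pres_fix_of_le_normalizer (α := α) (le_refl (normalizer (Q : Set G)))
  have hMT : MT (normalizer (Q : Set G)) (fixedPoints Q α) k := by
    by_cases hc : ∃ t : Finset α, t.card = k ∧ SylIn p Q (⊤ ⊓ fixingSubgroup G (t : Set α))
    · obtain ⟨t, ht, hS⟩ := hc
      simpa using h.witt (Set.subset_univ _) ht hS
    refine gleason (p := p) (Set.toFinite _) hP (by omega) fun t htF ht => ?_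
    have hle : Q ≤ ⊤ ⊓ fixingSubgroup G (t : Set α) := fun x hx =>
      ⟨trivial, mem_fixing.2 fun y hy => mem_fix.1 (htF hy) x hx⟩
    obtain ⟨R, hR, hQR⟩ := exists_sylIn hle hQ
    have h1 := lt_inf_normalizer hR.2.1 (lt_of_le_of_ne hQR fun e => hc ⟨t, ht, e ▸ hR⟩)
    have h2 := hR.2.1.to_le (inf_le_left : R ⊓ normalizer (Q : Set G) ≤ R)
    have h3 : (t : Set α) ⊆ fixedPoints ↥(R ⊓ normalizer (Q : Set G)) α := fun y hy =>
      mem_fix.2 fun x hx => mem_fixing.1 (hR.1 hx.1).2 y hy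
    refine ⟨R ⊓ normalizer (Q : Set G), inf_le_right, h2,
      Set.Subset.antisymm (fun y hy => by_contra fun hyt => ?_) (Set.subset_inter htF h3)⟩
    refine h1.ne (eq_of_le_of_card_ge h1.le (hmax _ ⟨h2, ?_⟩))
    rw [← ht, ← Finset.card_insert_of_notMem hyt, ← Set.ncard_coe_finset]
    exact Set.ncard_le_ncard (by rw [Finset.coe_insert]; exact Set.insert_subset hy.2 h3)
  let S : SubMulAction (normalizer (Q : Set G)) α := ⟨fixedPoints Q α, fun g _ hx => hP g g.2 _ hx⟩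
  obtain ⟨Δ, hΔ, hA⟩ := ih _ hlt (toPermHom (normalizer (Q : Set G)) S).range rfl hQF (by
    intro t f h1 h2 h3 h4
    obtain ⟨g, -, hg⟩ := hMT.sub S (fun _ hx => hx) t f h1 h2 h3 h4
    exact ⟨⟨_, g, rfl⟩, trivial, hg⟩)
  let φ : Δ → ↥(Δ.map (Function.Embedding.subtype _)) := fun x =>
    ⟨x.1.1, Finset.mem_map_of_mem _ x.2⟩
  refine ⟨Δ.map (Function.Embedding.subtype _), by rw [Finset.card_map, hΔ], hA.of_equiv
    (Equiv.ofBijective φ ⟨fun x y e => Subtype.ext (Subtype.ext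
      (show (φ x : α) = φ y by rw [e])), fun ⟨y, hy⟩ => ?_⟩) ?_⟩
  · obtain ⟨x, hx, rfl⟩ := Finset.mem_map.1 hy
    exact ⟨⟨x, hx⟩, rfl⟩
  · rintro ⟨_, g, rfl⟩
    exact ⟨g, fun x y e => congrArg Subtype.val e⟩

variable {G : Type*} [Group G] {Ω : Type*} [MulAction G Ω] [DecidableEq Ω]

theorem Hom.card_fixing {k : ℕ} (h : Hom G Ω k) {s t : Finset Ω} (hs : s.card = k)
    (ht : t.card = k) : Nat.card (fixingSubgroup G (s : Set Ω)) =
      Nat.card (fixingSubgroup G (t : Set Ω)) := by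
  obtain ⟨g, rfl⟩ := h s t hs ht
  have := cj_fixing (mem_top g) s
  rw [top_inf_eq, top_inf_eq] at this
  rw [Finset.smul_finset_def, ← this, card_cj]

theorem Hom.choose_dvd [Finite Ω] {k : ℕ} (h : Hom G Ω k) (hk : k ≤ Nat.card Ω) :
    (Nat.card Ω).choose k ∣ Nat.card G := by
  have := hom_iff.1 h
  obtain ⟨s, hs⟩ := exists_finset_card hk
  rw [← Set.powersetCard.card, ← index_stabilizer_of_transitive G (⟨s, hs⟩ : Set.powersetCard Ω k)]
  exact index_dvd_card _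

theorem two_trans_excl [Finite Ω] [FaithfulSMul G Ω]
    (h : MT (⊤ : Subgroup G) (Set.univ : Set Ω) 2) :
    ¬ (Nat.card Ω = 11 ∧ Nat.card G = 330) ∧ ¬ (Nat.card Ω = 23 ∧ Nat.card G = 3542) ∧
      ¬ (Nat.card Ω = 6 ∧ Nat.card G = 30) := by
  have : IsPretransitive G Ω := ⟨fun a b =>
    (h.one (by norm_num) (Set.mem_univ a) (Set.mem_univ b)).imp fun _ h => h.2⟩
  refine ⟨fun ⟨h1, h2⟩ => ?_, fun ⟨h1, h2⟩ => ?_, fun ⟨h1, h2⟩ => ?_⟩
  · have : Fact (Nat.Prime 11) := ⟨by norm_num⟩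
    obtain ⟨P⟩ : Nonempty (Sylow 11 G) := inferInstance
    obtain ⟨d, n, hd, hn, -, hG, -⟩ := card_eq_prime_deg h1 P
    have h3 : d ≤ 10 := Nat.le_of_dvd (by norm_num) hd
    rw [h2] at hG
    unfold Nat.ModEq at hn
    interval_cases d <;> omega
  · have : Fact (Nat.Prime 23) := ⟨by norm_num⟩
    obtain ⟨P⟩ : Nonempty (Sylow 23 G) := inferInstance
    obtain ⟨d, n, hd, hn, -, hG, -⟩ := card_eq_prime_deg h1 P
    have h3 : d ≤ 22 := Nat.le_of_dvd (by norm_num) hd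
    rw [h2] at hG
    unfold Nat.ModEq at hn
    interval_cases d <;> omega
  · have : Nontrivial Ω := Finite.one_lt_card_iff_nontrivial.1 (by omega)
    obtain ⟨p, j, hp, -, h3, -⟩ := Sharp2.sylow (G := G) (α := Ω)
      ⟨fun a b c d hab hcd => (h.two le_rfl trivial trivial trivial trivial hab hcd).imp
        fun _ h => h.2, fun g a b hab ha hb => by
        have h4 := MT.card_fixing_mul {a, b} (by rwa [Finset.card_pair hab]) (Pres.univ ⊤)
          (Set.subset_univ _)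
        rw [Finset.card_pair hab, Set.ncard_univ, h1, card_top, h2] at h4
        exact (card_eq_one.1 (by simpa using h4 : Nat.card ↥(⊤ ⊓ fixingSubgroup G
          (({a, b} : Finset Ω) : Set Ω)) = 1)).le ⟨trivial, mem_fixing.2 (by simp [ha, hb])⟩⟩
    rw [h1] at h3
    have h4 := (Nat.prime_dvd_prime_iff_eq Nat.prime_two hp).1
      (Nat.prime_two.dvd_of_dvd_pow (n := j) (by rw [← h3]; norm_num))
    have h5 := (Nat.prime_dvd_prime_iff_eq Nat.prime_three hp).1
      (Nat.prime_three.dvd_of_dvd_pow (n := j) (by rw [← h3]; norm_num))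
    omega

set_option synthInstance.maxSize 100000 in
theorem lw_num0 : ∀ t ≤ Nat.factorial 2, ∀ m ≤ 3, t ≠ 1 → 2 ≤ m → ¬ 2 ∣ (m + 1) / t →
    t * m ∣ Nat.factorial 3 → ¬ t ∣ m + 1 := by decide +kernel

set_option synthInstance.maxSize 100000 in
theorem lw_num1 : ∀ t ≤ Nat.factorial 3, ∀ m ≤ 12, t ≠ 1 → 2 ≤ m → ¬ 2 ∣ (m + 1) / t →
    t ∣ Nat.factorial 3 → t * m ∣ Nat.factorial 4 → t ∣ m + 1 →
    (t = 3 ∧ m = 2) ∨ (t = 3 ∧ m = 8) := by decide +kernel

set_option synthInstance.maxSize 100000 in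
theorem lw_num2 : ∀ t ≤ Nat.factorial 4, ∀ m ≤ 60, t ≠ 1 → 2 ≤ m → ¬ 2 ∣ (m + 1) / t →
    t ∣ Nat.factorial 4 → t * m ∣ Nat.factorial 5 → t ∣ m + 1 →
    (t = 3 ∧ m = 2) ∨ (t = 2 ∧ m = 5) ∨ (t = 6 ∧ m = 5) ∨ (t = 3 ∧ m = 8) ∨ (t = 3 ∧ m = 20) ∨
      (t = 4 ∧ m = 3) := by decide +kernel

theorem lw_exceptions {α : Type*} [Fintype α] [DecidableEq α] {G : Subgroup (Perm α)} {j : ℕ}
    (hn : j + 3 ≤ Nat.card α) (h : MT (⊤ : Subgroup G) (Set.univ : Set α) (j + 1))
    (hnt : ¬ IsMultiplyPretransitive G α (j + 2)) (h1 : Hom G α (j + 2)) (h2 : Hom G α (j + 3)) :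
    (j + 3 = Nat.card α ∧ G = alternatingGroup α) ∨ (Nat.card α = 5 ∧ j = 1 ∧ Nat.card G = 20) ∨
    (Nat.card α = 6 ∧ j = 2 ∧ Nat.card G = 120) ∨
    (Nat.card α = 9 ∧ j = 2 ∧ (Nat.card G = 504 ∨ Nat.card G = 1512)) := by
  have hN : NoFix G α (j + 2) := fun g s hs hg => by
    by_contra hg1
    obtain ⟨t, ht⟩ := exists_finset_card hn
    refine hnt (Cfsg.Agent.S0744.result G (k := j + 3) (by omega)
      (by rwa [← Nat.card_eq_fintype_card]) _ _ (one_lt_card_iff_ne_bot _ |>.2 fun e => hg1 ?_)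
      (fun u hu => h1.card_fixing hu hs) (fun u hu => h2.card_fixing hu ht))
    exact e.le (mem_fixing.2 hg)
  have hi : InvFix G α (j + 1) := by
    by_contra hi
    obtain ⟨Δ, hΔ⟩ := exists_finset_card (Ω := α) (k := j + 2) (by omega)
    exact hnt (hΔ ▸ (Hom.mt_of_symOn (hΔ ▸ h1)
      (symOn_of_not_invFix h hN hi hΔ)).isMultiplyPretransitive_top)
  rcases hn.eq_or_lt with hn' | hn'
  · refine Or.inl ⟨hn', ?_⟩
    have h3 := IsMultiplyPretransitive.alternatingGroup_le α G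
      (by rw [← hn']; exact h.isMultiplyPretransitive_top)
    refine le_antisymm ((card_inf_alternating G).resolve_right fun h4 => hnt ?_) h3
    have : Nontrivial α := Finite.one_lt_card_iff_nontrivial.1 (by omega)
    rw [inf_of_le_right h3, two_mul_nat_card_alternatingGroup] at h4
    rw [eq_top_of_card_eq G h4]
    exact MT.isMultiplyPretransitive fun s f _ hs hi _ => by
      obtain ⟨σ, hσ⟩ := Perm.exists_extending_pair (f := ((↑) : s → α)) (g := fun x : s => f x)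
        Subtype.val_injective (fun x y e => Subtype.ext (hi x.2 y.2 e))
      exact ⟨σ, trivial, fun a ha => hσ ⟨a, ha⟩⟩
  right
  have halt : ¬ (3 ≤ j + 1 ∧ Nat.card α + 4 < 3 * (j + 1)) := fun ⟨h3, h4⟩ => by
    have h5 := alt_le_of_small h h3 (by omega) h4
    have := alternatingGroup.isMultiplyPretransitive α
    have h6 : IsMultiplyPretransitive (alternatingGroup α) α (j + 2) :=
      isMultiplyPretransitive_of_le (n := Nat.card α - 2) (by omega) (by omega)
    exact hnt ((MT_of_isMultiplyPretransitive (by omega) h6).mono_le h5).isMultiplyPretransitive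
  obtain ⟨Γ, hΓ⟩ := exists_finset_card (Ω := α) (k := j + 1) (by omega)
  obtain ⟨t, ht⟩ := NoFix.card_dvd (G := G) (s := Γ) (by rwa [hΓ])
  have hG := MT.card_fixing_mul Γ (hΓ ▸ h) (Pres.univ _) (Set.subset_univ _)
  have ht1 : t ≠ 1 := by
    rintro rfl
    have := MT.succ_of_card (s := Γ) (hΓ ▸ h) (by rwa [hΓ]) (by rw [ht, mul_one])
    rw [hΓ] at this
    exact hnt this.isMultiplyPretransitive_top
  have hd : ¬ 2 ∣ Nat.card ↥(⊤ ⊓ fixingSubgroup G (Γ : Set α)) := fun h => by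
    obtain ⟨g, hg, hg2⟩ := exists_mem_orderOf_eq Nat.prime_two h
    have := hi.odd hΓ (mem_fixing.1 hg.2)
    rw [hg2] at this
    exact absurd this (by decide)
  have hex : 1 ≤ j → ∀ n' x, Nat.card α = n' + (j - 1) →
      x * (Nat.card α).descFactorial (j - 1) = Nat.card G →
      ¬ (n' = 11 ∧ x = 330) ∧ ¬ (n' = 23 ∧ x = 3542) ∧ ¬ (n' = 6 ∧ x = 30) := fun hj n' x e1 e2 => by
    obtain ⟨s, hs⟩ := exists_finset_card (Ω := α) (k := j - 1) (by omega)
    have := faithful_ofFixing (G := G) (s : Set α)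
    have h3 := two_trans_excl (MT.ofFixing (m := 2) s (by rwa [hs, show j - 1 + 2 = j + 1 by omega]))
    have h4 := MT.card_fixing_mul s (h.mono (by omega)) (Pres.univ _) (Set.subset_univ _)
    rw [top_inf_eq, Set.ncard_univ, card_top, ← e2, hs] at h4
    rwa [card_ofFixing, Nat.eq_of_mul_eq_mul_right (Nat.descFactorial_pos.2 (by omega)) h4,
      show Nat.card α - s.card = n' by omega] at h3
  rw [Set.ncard_univ, card_top, hΓ] at hG
  rw [hΓ] at ht
  obtain ⟨x, hx⟩ := h1.choose_dvd (by omega)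
  obtain ⟨y, hy⟩ := h2.choose_dvd (by omega)
  generalize Nat.card ↥(⊤ ⊓ fixingSubgroup G (Γ : Set α)) = d at *
  have e1 : t ∣ (j + 2).factorial := ⟨x, Nat.eq_of_mul_eq_mul_right (Nat.choose_pos
      (show j + 2 ≤ Nat.card α by omega)) (by
    rw [← Nat.descFactorial_eq_factorial_mul_choose, Nat.descFactorial_succ, ht, mul_assoc t,
      mul_comm x, ← hx, ← hG]; ring)⟩
  have e2 : t * (Nat.card α - (j + 2)) ∣ (j + 3).factorial := ⟨y, Nat.eq_of_mul_eq_mul_right
      (Nat.choose_pos hn) (by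
    rw [← Nat.descFactorial_eq_factorial_mul_choose, Nat.descFactorial_succ,
      Nat.descFactorial_succ, ht, mul_assoc _ y, mul_comm y, ← hy, ← hG]; ring)⟩
  by_cases hj : 3 ≤ j
  · exfalso
    rcases card_of_invFix (by omega) (by omega) h hN hi with h3 | h3
    · omega
    have h4 : t = 7 := ((Nat.dvd_prime (by norm_num : Nat.Prime 7)).1
      ⟨d, by rw [mul_comm, ← ht]; omega⟩).resolve_left ht1
    rw [h4, (by norm_num : Nat.Prime 7).dvd_factorial] at e1
    omega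
  obtain ⟨m, hm⟩ : ∃ m, Nat.card α = m + (j + 2) := ⟨Nat.card α - (j + 2), by omega⟩
  have hm2 : 2 ≤ m := by omega
  have ht' : d * t = m + 1 := by omega
  rw [hm, Nat.add_sub_cancel] at e2
  rw [hm] at hG hex ⊢
  rw [← hG] at hex ⊢
  have b1 := Nat.le_of_dvd (Nat.factorial_pos _) e1
  have b2 := Nat.le_of_dvd (Nat.factorial_pos _) e2
  have ht0 : 0 < t := Nat.pos_of_dvd_of_pos e1 (Nat.factorial_pos _)
  have b3 : 2 * m ≤ t * m := Nat.mul_le_mul_right m (by omega)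
  have hd' : d = (m + 1) / t := by rw [← ht', Nat.mul_div_cancel _ ht0]
  have e3 : t ∣ m + 1 := Dvd.intro_left d ht'
  subst hd'
  clear hx hy hG halt ht hn hn' hm hΓ hi hN h2 h1 hnt h
  have : j = 0 ∨ j = 1 ∨ j = 2 := by omega
  rcases this with rfl | rfl | rfl
  · exact absurd e3 (lw_num0 t b1 m (by change _ ≤ 6 at b2; omega) ht1 hm2 hd e2)
  · rcases lw_num1 t b1 m (by change _ ≤ 24 at b2; omega) ht1 hm2 hd e1 e2 e3 with
      ⟨rfl, rfl⟩ | ⟨rfl, rfl⟩
    · simp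
    · exact absurd ⟨rfl, rfl⟩ (hex le_rfl 11 330 rfl rfl).1
  · rcases lw_num2 t b1 m (by change _ ≤ 120 at b2; omega) ht1 hm2 hd e1 e2 e3 with
      ⟨rfl, rfl⟩ | ⟨rfl, rfl⟩ | ⟨rfl, rfl⟩ | ⟨rfl, rfl⟩ | ⟨rfl, rfl⟩ | ⟨rfl, rfl⟩
    · simp
    · simp
    · simp
    · exact absurd ⟨rfl, rfl⟩ (hex (by norm_num) 11 330 rfl rfl).1
    · exact absurd ⟨rfl, rfl⟩ (hex (by norm_num) 23 3542 rfl rfl).2.1
    · exact absurd ⟨rfl, rfl⟩ (hex (by norm_num) 6 30 rfl rfl).2.2

end H14
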