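import Mathlib
import Cfsg.Agent.H14.LW2

/-! The Livingstone–Wagner theorems, conclusion. -/

set_option autoImplicit false
set_option linter.unusedSectionVars false

namespace H14

open MulAction Subgroup SubMulAction Equiv H22
open scoped Pointwise

theorem lw_pred {α : Type*} [Fintype α] [DecidableEq α] {G : Subgroup (Perm α)} (k : ℕ)
    (hn : 2 * (k + 2) ≤ Nat.card α) (h : Hom G α (k + 2)) :
    MT (⊤ : Subgroup G) (Set.univ : Set α) (k + 1) := by
  have hp : ∀ j, 2 * (j + 1) ≤ Nat.card α → Hom G α (j + 1) → Hom G α j := fun j h1 h2 => by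
    rw [Nat.card_eq_fintype_card] at h1
    exact h2.pred (by omega) fun q _ hq => by have := Nat.le_of_dvd (by omega) hq; omega
  induction k with
  | zero =>
    refine MT.of_one (Pres.univ _) fun a _ b _ => ?_
    obtain ⟨g, hg⟩ := hp 1 hn h {a} {b} rfl rfl
    exact ⟨g, trivial, by simpa using hg⟩
  | succ k ih =>
    have h1 := hp _ hn h
    by_contra h2
    have := lw_exceptions (by omega) (ih (by omega) h1)
      (fun h3 => h2 (MT_top_of_isMultiplyPretransitive (by omega) h3)) h1 h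
    omega

variable {G : Type*} [Group G] {Ω : Type*} [MulAction G Ω] [DecidableEq Ω]

theorem mem_iff_of_supp {Δ : Finset Ω} {τ : Perm Ω} (h : ∀ x ∉ Δ, τ x = x) (x : Ω) :
    τ x ∈ Δ ↔ x ∈ Δ :=
  ⟨fun h1 => by_contra fun h2 => h2 (h x h2 ▸ h1),
    fun h1 => by_contra fun h2 => h2 ((τ.injective (h _ h2)).symm ▸ h1)⟩

theorem sign_of_supp [Fintype Ω] {Δ : Finset Ω} {τ : Perm Ω} (h : ∀ x ∉ Δ, τ x = x) :
    Perm.sign (τ.subtypePerm (mem_iff_of_supp h) : Perm Δ) = Perm.sign τ := by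
  convert Perm.sign_subtypePerm τ (mem_iff_of_supp h) fun x hx => by_contra fun h' => hx (h x h')

theorem AltOn.exists [Fintype Ω] {Δ : Finset Ω} (hA : AltOn G Δ) (τ : Perm Ω)
    (h : ∀ x ∉ Δ, τ x = x) (hs : Perm.sign τ = 1) : ∃ g : G, ∀ x ∈ Δ, g • x = τ x := by
  obtain ⟨g, hg⟩ := hA (τ.subtypePerm (mem_iff_of_supp h)) ((sign_of_supp h).trans hs)
  exact ⟨g, fun x hx => hg ⟨x, hx⟩⟩

theorem AltOn.symOn [Fintype Ω] {Δ : Finset Ω} (hA : AltOn G Δ) (τ : Perm Ω)
    (h : ∀ x ∉ Δ, τ x = x) (hs : Perm.sign τ = -1) {g : G} (hg : ∀ x ∈ Δ, g • x = τ x) :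
    SymOn G Δ := fun σ => by
  rcases Int.units_eq_one_or (Perm.sign σ) with h1 | h1
  · exact hA σ h1
  obtain ⟨u, hu⟩ := hA (σ * (τ.subtypePerm (mem_iff_of_supp h))⁻¹) (by
    rw [map_mul, map_inv, sign_of_supp h, hs, h1]; rfl)
  refine ⟨u * g, fun x => ?_⟩
  rw [mul_smul, hg x x.2]
  simpa using hu (τ.subtypePerm (mem_iff_of_supp h) x)

theorem exists_inv_finset [Finite Ω] {a : G} (haa : a * a = 1) (j : ℕ)
    (hj : 2 * j ≤ {y : Ω | a • y = y}ᶜ.ncard + 1) :
    ∃ E : Finset Ω, E.card = 2 * j ∧ ∀ x ∈ E, a • x ∈ E ∧ a • x ≠ x := by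
  induction j with
  | zero => exact ⟨∅, rfl, by simp⟩
  | succ j ih =>
    obtain ⟨E, h1, h2⟩ := ih (by omega)
    obtain ⟨x, hx, hxE⟩ := Set.exists_mem_notMem_of_ncard_lt_ncard (s := (E : Set Ω))
      (t := {y : Ω | a • y = y}ᶜ) (by rw [Set.ncard_coe_finset]; omega)
    have haa' : ∀ y : Ω, a • a • y = y := fun y => by rw [← mul_smul, haa, one_smul]
    have hx : a • x ≠ x := hx
    have hxE : x ∉ E := hxE
    have h3 : a • x ∉ E := fun h => hxE (haa' x ▸ (h2 _ h).1)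
    refine ⟨insert x (insert (a • x) E), by
      rw [Finset.card_insert_of_notMem (by simp [hx.symm, hxE]), Finset.card_insert_of_notMem h3, h1]
      rfl, fun y hy => ?_⟩
    simp only [Finset.mem_insert] at hy ⊢
    rcases hy with rfl | rfl | hy
    · exact ⟨Or.inr (Or.inl rfl), hx⟩
    · exact ⟨Or.inl (haa' x), by rw [haa']; exact hx.symm⟩
    · exact ⟨Or.inr (Or.inr (h2 y hy).1), (h2 y hy).2⟩

theorem mt_of_invol [Fintype Ω] {k : ℕ} (h : Hom G Ω k)
    (hA : ∀ Δ : Finset Ω, Δ.card = k → AltOn G Δ) {a : G} (haa : a * a = 1) {j : ℕ} (hj : Odd j)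
    (hj' : 2 * j ≤ {y : Ω | a • y = y}ᶜ.ncard + 1) {t : Finset Ω} (ht : 2 * j + t.card = k)
    (hat : ∀ x ∈ t, a • x = x) : MT (⊤ : Subgroup G) (Set.univ : Set Ω) k := by
  obtain ⟨E, h1, h2⟩ := exists_inv_finset haa j hj'
  have haa' : ∀ y : Ω, a • a • y = y := fun y => by rw [← mul_smul, haa, one_smul]
  have hc : (E ∪ t).card = k := by
    rw [Finset.card_union_of_disjoint (Finset.disjoint_left.2 fun x hx hx' =>
      (h2 x hx).2 (hat x hx')), h1, ht]
  let τ : Perm Ω := Perm.ofSubtype ((toPerm a).subtypePerm (p := (· ∈ E)) fun x =>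
    ⟨fun h => haa' x ▸ (h2 _ h).1, fun h => (h2 x h).1⟩)
  have t1 : ∀ x ∈ E, τ x = a • x := fun x hx => Perm.ofSubtype_subtypePerm_of_mem _ hx
  have t2 : ∀ x ∉ E, τ x = x := fun x hx => Perm.ofSubtype_subtypePerm_of_not_mem _ hx
  have t3 : τ.support = E := by
    ext x
    rw [Perm.mem_support]
    exact ⟨fun h => by_contra fun h' => h (t2 x h'), fun h => t1 x h ▸ (h2 x h).2⟩
  subst hc
  refine h.mt_of_symOn ((hA _ rfl).symOn τ (fun x hx => t2 x fun h => hx (by simp [h])) ?_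
    (g := a) fun x hx => ?_)
  · rw [sign_of_sq, t3, h1, Nat.mul_div_cancel_left _ two_pos, hj.neg_one_pow]
    ext x
    by_cases hx : x ∈ E
    · rw [sq, Perm.mul_apply, t1 x hx, t1 _ (h2 x hx).1, haa']; rfl
    · rw [sq, Perm.mul_apply, t2 x hx, t2 x hx]; rfl
  · by_cases hxE : x ∈ E
    · rw [t1 x hxE]
    · rw [t2 x hxE, hat x ((Finset.mem_union.1 hx).resolve_left hxE)]

theorem noFix_four [Finite G] [Fintype Ω] [FaithfulSMul G Ω] (hi : InvFix G Ω 3)
    (hA : ∀ Δ : Finset Ω, Δ.card = 5 → AltOn G Δ) : NoFix G Ω 4 := by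
  intro z Γ hΓ hz
  refine eq_of_smul_eq_smul (α := Ω) fun x => ?_
  rw [one_smul]
  by_cases hx : x ∈ Γ
  · exact hz x hx
  obtain ⟨p, q, r, s, hpq, hpr, hps, hqr, hqs, hrs, rfl⟩ := Finset.card_eq_four.1 hΓ
  have hΔ := hA _ ((Finset.card_insert_of_notMem hx).trans (by rw [hΓ]))
  simp only [Finset.mem_insert, Finset.mem_singleton, not_or] at hx
  obtain ⟨xp, xq, xr, xs⟩ := hx
  have hi4 := hi.of_le (by norm_num : 3 ≤ 4)
  have key : ∀ p q r s : Ω, p ≠ q → p ≠ r → p ≠ s → q ≠ r → q ≠ s → r ≠ s → x ≠ p → x ≠ q →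
      x ≠ r → x ≠ s → AltOn G {x, p, q, r, s} → ∃ g : G, g • p = q ∧ g • q = p ∧ g • r = s ∧
        g • s = r ∧ g • x = x := fun p q r s hpq hpr hps hqr hqs hrs xp xq xr xs h => by
    obtain ⟨g, hg⟩ := h.exists (swap p q * swap r s) (fun y hy => by
      simp only [Finset.mem_insert, Finset.mem_singleton, not_or] at hy
      simp [swap_apply_of_ne_of_ne, hy]) (by simp [hpq, hrs])
    refine ⟨g, ?_, ?_, ?_, ?_, ?_⟩ <;> rw [hg _ (by simp)] <;>
      simp [swap_apply_of_ne_of_ne, *, hpr.symm, hps.symm, hqr.symm, hqs.symm]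
  obtain ⟨g, g1, g2, g3, g4, g5⟩ := key p q r s hpq hpr hps hqr hqs hrs xp xq xr xs hΔ
  obtain ⟨f, f1, f2, f3, f4, f5⟩ := key p r q s hpr hpq hps hqr.symm hrs hqs xp xr xq xs
    (by rwa [Finset.insert_comm r q])
  obtain ⟨a, haa, ha⟩ := exists_invol_of_odd (Ω := Ω) (g := g) (hi4.odd_four hpq hpr hps hqr hqs hrs
    (by rw [mul_smul, g1, g2]) (by rw [mul_smul, g2, g1]) (by rw [mul_smul, g3, g4])
    (by rw [mul_smul, g4, g3]))
  have a1 : a • p = q := by rw [ha p (by rw [g1, g2]), g1]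
  have a2 : a • q = p := by rw [ha q (by rw [g2, g1]), g2]
  have a3 : a • r = s := by rw [ha r (by rw [g3, g4]), g3]
  have a4 : a • s = r := by rw [ha s (by rw [g4, g3]), g4]
  have a5 : a • x = x := by rw [ha x (by rw [g5, g5]), g5]
  have e1 : (a * (f⁻¹ * a * f)) • p = p := by
    rw [mul_smul, mul_smul, mul_smul, f1, a3, ← f3, inv_smul_smul, a2]
  have e2 : (a * (f⁻¹ * a * f)) • q = q := by
    rw [mul_smul, mul_smul, mul_smul, f3, a4, ← f1, inv_smul_smul, a1]
  have e3 : (a * (f⁻¹ * a * f)) • r = r := by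
    rw [mul_smul, mul_smul, mul_smul, f2, a1, ← f4, inv_smul_smul, a4]
  have e4 : (a * (f⁻¹ * a * f)) • s = s := by
    rw [mul_smul, mul_smul, mul_smul, f4, a2, ← f2, inv_smul_smul, a3]
  have e5 : (a * (f⁻¹ * a * f)) • x = x := by
    rw [mul_smul, mul_smul, mul_smul, f5, a5, inv_smul_eq_iff.2 f5.symm, a5]
  obtain ⟨n, hn⟩ := exists_conj_invol haa (b := f⁻¹ * a * f)
    (by rw [show f⁻¹ * a * f * (f⁻¹ * a * f) = f⁻¹ * (a * a) * f by group, haa]; group)
    (hi4.odd_four hpq hpr hps hqr hqs hrs e1 e2 e3 e4)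
  let c : centralizer ({a} : Set G) := ⟨f * (a * (f⁻¹ * a * f)) ^ n,
    mem_centralizer_singleton_iff.2 (by rw [mul_assoc, hn]; group)⟩
  have hc : ∀ y : Ω, (a * (f⁻¹ * a * f)) • y = y → c • y = f • y := fun y hy => by
    change (f * _) • y = _
    rw [mul_smul, mem_stabilizer_iff.1 ((stabilizer G y).pow_mem hy n)]
  have c1 := (hc p e1).trans f1
  have c2 := (hc r e3).trans f2
  have c3 := (hc q e2).trans f3
  have c4 := (hc s e4).trans f4
  have c5 := (hc x e5).trans f5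
  obtain ⟨⟨b, hba⟩, hbb, hb⟩ := exists_invol_of_odd (Ω := Ω) (g := c) (by
    rw [← Subgroup.orderOf_coe]
    exact hi4.odd_four hpq hpr hps hqr hqs hrs (show (c * c) • p = p by rw [mul_smul, c1, c2])
      (show (c * c) • q = q by rw [mul_smul, c3, c4]) (show (c * c) • r = r by rw [mul_smul, c2, c1])
      (show (c * c) • s = s by rw [mul_smul, c4, c3]))
  replace hbb : b * b = 1 := congrArg Subtype.val hbb
  replace hba : b * a = a * b := mem_centralizer_singleton_iff.1 hba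
  have b1 : b • p = r := (hb p (by rw [c1, c2])).trans c1
  have b2 : b • r = p := (hb r (by rw [c2, c1])).trans c2
  have b3 : b • q = s := (hb q (by rw [c3, c4])).trans c3
  have b4 : b • s = q := (hb s (by rw [c4, c3])).trans c4
  have b5 : b • x = x := (hb x (by rw [c5, c5])).trans c5
  let A := closure ({a, b} : Set G)
  have hAc : IsMulCommutative A := isMulCommutative_closure (by
    rintro _ (rfl | rfl) _ (rfl | rfl)
    exacts [rfl, hba.symm, hba, rfl])
  have hA2 : ∀ w ∈ A, w * w = 1 := fun w hw => by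
    induction hw using closure_induction with
    | mem w hw => rcases hw with rfl | rfl <;> assumption
    | one => simp
    | mul u v hu hv h1 h2 =>
      rw [mul_assoc, ← mul_assoc v, setLike_mul_comm (s := A) hv hu, mul_assoc, h2, mul_one, h1]
    | inv u _ h1 => rw [← mul_inv_rev, h1, inv_one]
  let D := ⊤ ⊓ fixingSubgroup G (({p, q, r, s} : Finset Ω) : Set Ω)
  have hD : ∀ y ∈ D, Odd (orderOf y) := fun y hy => hi4.odd hΓ (mem_fixing.1 hy.2)
  refine H1.le_of_centralizer_le A D (stabilizer G x) (fun hc => ?_)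
    (le_trans ?_ (setStab_le_normalizer ⊤ _)) ?_ (fun w hw hw1 y hy => ?_)
    ⟨trivial, mem_fixing.2 hz⟩
  · obtain ⟨w, hw⟩ := hc.exists_generator
    have h1 : ∀ v : A, v = 1 ∨ v = w := fun v => by
      obtain ⟨k, rfl⟩ := mem_zpowers_iff.1 (hw v)
      have : w ^ (2 : ℤ) = 1 := by rw [zpow_two]; exact Subtype.ext (hA2 w w.2)
      rcases Int.even_or_odd' k with ⟨m, rfl | rfl⟩ <;> simp [zpow_add, zpow_mul, this]
    rcases h1 ⟨a, subset_closure (by simp)⟩ with h2 | h2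
    · exact hpq (by rw [← a1, show a = 1 from congrArg Subtype.val h2, one_smul])
    rcases h1 ⟨b, subset_closure (by simp)⟩ with h3 | h3
    · exact hpr (by rw [← b1, show b = 1 from congrArg Subtype.val h3, one_smul])
    exact hqr (by rw [← a1, ← b1, show a = b from congrArg Subtype.val (h2.trans h3.symm)])
  · refine le_inf le_top ((closure_le _).2 ?_)
    rintro _ (rfl | rfl) <;> refine mem_setStab_of_mapsTo (Set.toFinite _) ?_ <;> simp [*]
  · obtain ⟨m, hm⟩ := IsPGroup.iff_card.1 (show IsPGroup 2 A from fun w =>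
      ⟨1, by rw [pow_one, sq]; exact Subtype.ext (hA2 w w.2)⟩)
    rw [hm]
    refine Nat.Coprime.pow_left _ ((Nat.Prime.coprime_iff_not_dvd Nat.prime_two).2 fun h => ?_)
    obtain ⟨y, hy, hy2⟩ := exists_mem_orderOf_eq Nat.prime_two h
    exact absurd (hy2 ▸ hD y hy) (by decide)
  · have hwx : w • x = x := (closure_le (stabilizer G x)).2 (by
      rintro _ (rfl | rfl) <;> assumption) hw
    have hy' : ∀ v : Ω, w • v = v → w • y • v = y • v := fun v hv => by
      rw [← mul_smul, ← mem_centralizer_singleton_iff.1 hy.2, mul_smul, hv]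
    by_contra h1
    have h1 : y • x ≠ x := h1
    refine hw1 (hi w {x, y • x, y • y • x} (hA2 w hw) (Finset.card_eq_three.2 ⟨_, _, _, h1.symm,
      fun h => h1 (smul_eq_of_odd (hD y hy.1) h.symm), fun h => h1 (smul_left_cancel y h).symm,
      rfl⟩) ?_)
    simp [hwx, hy' x hwx, hy' _ (hy' x hwx)]

theorem lw_full {α : Type*} [Fintype α] [DecidableEq α] {G : Subgroup (Perm α)} (k : ℕ)
    (hn : 2 * (k + 5) ≤ Nat.card α) (h : Hom G α (k + 5)) :
    MT (⊤ : Subgroup G) (Set.univ : Set α) (k + 5) := by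
  have h1 := lw_pred (k + 3) hn h
  obtain ⟨Δ, hΔ, hA⟩ := exists_altOn (k := k + 4) (by omega) _ G rfl (by omega) h1
  replace hA : ∀ Δ' : Finset α, Δ'.card = k + 5 → AltOn G Δ' := fun Δ' h' =>
    Hom.altOn (hΔ ▸ h) hA (h'.trans hΔ.symm)
  by_contra hnt
  have hi : InvFix G α (k + 3) := fun g s hgg hs hg => by
    by_contra hg1
    obtain ⟨x, hx⟩ := exists_smul_ne (α := α) hg1
    have : 0 < {y : α | g • y = y}ᶜ.ncard := (Set.ncard_pos).2 ⟨x, hx⟩
    exact hnt (mt_of_invol h hA hgg odd_one (by omega) (by omega) hg)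
  obtain ⟨Γ, hΓ⟩ := exists_finset_card (Ω := α) (k := k + 4) (by omega)
  obtain ⟨p, hp, q, hq, hpq⟩ := Finset.one_lt_card.1 (by omega : 1 < Γ.card)
  obtain ⟨g, hg⟩ := h1.exists_isTr hΓ.le hp hq
  obtain ⟨a, haa, ha⟩ := exists_invol_of_odd (Ω := α) (g := g)
    ((hi.of_le (Nat.le_succ _)).odd hΓ fun x hx => by rw [mul_smul, (hg.mem hp hq hx).2])
  have h2 := hi.ncard_le haa (fun e => hpq (by
    rw [← hg.1, ← ha p (hg.mem hp hq hp).2, e, one_smul]))
  have h3 : ∀ x ∈ (Γ.erase p).erase q, a • x = x := fun x hx => by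
    simp only [Finset.mem_erase] at hx
    rw [ha x (hg.mem hp hq hx.2.2).2, hg.2.2 x hx.2.2 hx.2.1 hx.1]
  have := Finset.pred_card_le_card_erase (s := Γ) (a := p)
  have := Finset.pred_card_le_card_erase (s := Γ.erase p) (a := q)
  rcases Nat.eq_zero_or_pos k with rfl | hk
  · have h4 := noFix_four hi hA
    have h5 := hall_four h1 (by omega) (fun g s hs hg => h4.of_le (by omega) hg)
      (hi.of_le (by norm_num))
    have h6 := ncard_fix_modEq (Ω := α) haa
    have h7 : ((Γ.erase p).erase q).card ≤ {y : α | a • y = y}.ncard := by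
      rw [← Set.ncard_coe_finset]
      exact Set.ncard_le_ncard h3
    unfold Nat.ModEq at h6
    omega
  · obtain ⟨t, ht, htc⟩ := Finset.exists_subset_card_eq (s := (Γ.erase p).erase q) (n := k - 1)
      (by omega)
    exact hnt (mt_of_invol h hA haa (j := 3) (by decide) (by rw [Set.ncard_compl]; omega)
      (by omega) fun x hx => h3 x (ht hx))

end H14
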