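import Mathlib
import Cfsg.Agent.H7.Cay
import Cfsg.Agent.H14.OnTab

/-! Normal forms in a central extension of `L₃(4)` by a group of exponent 4. -/

set_option autoImplicit false

namespace H14.On

open H29 H7.Cay Subgroup

/-- sum of vectors over `ℤ/4`. -/
def addZ (u v : ℕ) : ℕ :=
  Nat.xor (Nat.add (Nat.land u 85) (Nat.land v 85)) (Nat.land (Nat.xor u v) 170)

theorem addZ_chk : (allF 256 fun u => allF 256 fun v => lit (addZ u v) fun w => and2 (lt w 256)
    (allF 4 fun i => Nat.beq (pk w 2 i) (Nat.mod (Nat.add (pk u 2 i) (pk v 2 i)) 4))) = true := by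
  decide +kernel

theorem addZ_spec {u v : ℕ} (hu : u < 256) (hv : v < 256) :
    addZ u v < 256 ∧ ∀ i < 4, pk (addZ u v) 2 i = (pk u 2 i + pk v 2 i) % 4 := by
  have := addZ_chk
  simp only [allF_true, lit_eq, and2_true, lt_true, nbeq] at this
  exact this u hu v hv

/-- the relators of `L₃(4)`. -/
def RL : List (List ℕ) := [[0, 0], [1, 2], [2, 1], [1, 1, 1, 1, 1, 1, 1],
  [0, 1, 0, 1, 0, 1, 0, 1, 0, 1], [0, 1, 1, 1, 0, 1, 1, 1, 0, 1, 1, 1, 0, 1, 1, 1],
  [0, 1, 1, 0, 1, 1, 0, 1, 1, 0, 1, 1, 0, 1, 1, 0, 1, 1, 0, 1, 1],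
  [0, 1, 1, 1, 0, 1, 0, 1, 1, 0, 1, 1, 0, 2, 0, 1, 1, 0, 2, 0, 2, 2, 0, 2, 2]]

/-- the values of the relators. -/
def TAG (k : ℕ) : ℕ := pk 0x4010040000000001 8 k

variable {H : Type*} [Group H]

/-- the three basic letters. -/
def gl (s x : H) (c : ℕ) : H := if c = 0 then s else if c = 1 then x else x⁻¹

/-- the value of a relator. -/
noncomputable def rv (s x : H) (k : ℕ) : H := ev (gl s x) (nth [] RL k)

/-- the relations. -/
structure Rel (s x : H) : Prop where
  x7 : x ^ 7 = 1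
  sx5 : (s * x) ^ 5 = 1
  cen : ∀ k, rv s x k ∈ center H
  z4 : ∀ z ∈ center H, z ^ 4 = 1

/-- a central element. -/
noncomputable def zT (s x : H) (u : ℕ) : H :=
  rv s x 0 ^ pk u 2 0 * (rv s x 5 ^ pk u 2 1 * (rv s x 6 ^ pk u 2 2 * rv s x 7 ^ pk u 2 3))

/-- all letters. -/
noncomputable def el (s x : H) (c : ℕ) : H := if c < 3 then gl s x c else zT s x ((c - 3) % 256)

/-- coset representatives. -/
noncomputable def tau (s x : H) (n : ℕ) : H :=
  if pk PT 14 n % 4096 < n then tau s x (pk PT 14 n % 4096) * gl s x (pk PT 14 n / 4096) else 1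
termination_by n

/-- the element with a given normal form. -/
noncomputable def Ph (s x : H) (n : ℕ) : H :=
  x ^ (n / 4096 % 8) * zT s x (n / 32768) * tau s x (n % 4096)

/-- valid normal forms. -/
def V (n : ℕ) : Prop := n % 4096 < 2880 ∧ n / 4096 % 8 < 7 ∧ n / 32768 < 256

/-- one step in the table. -/
def stp (n E : ℕ) : ℕ :=
  Nat.add (Nat.add (Nat.mod E 4096) (Nat.mul 4096 (Nat.mod (Nat.add (Nat.mod (Nat.div n 4096) 8)
    (Nat.mod (Nat.div E 4096) 8)) 7)))
    (Nat.mul 32768 (addZ (Nat.div n 32768) (Nat.mod (Nat.div E 32768) 256)))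

/-- multiply by a central element. -/
def stz (n u : ℕ) : ℕ := Nat.add (Nat.mod n 32768) (Nat.mul 32768 (addZ (Nat.div n 32768) u))

/-- the entry of the table. -/
noncomputable def ent (v c : ℕ) : ℕ := pk TB 46 (Nat.add (Nat.mul 3 v) c)

/-- the time of an entry. -/
def tmE (E : ℕ) : ℕ := Nat.mod (Nat.div E 8388608) 16384

/-- follow a word along entries older than `t`. -/
noncomputable def tr (t : ℕ) (w : List ℕ) : ℕ → ℕ :=
  List.rec (motive := fun _ => ℕ → ℕ) (fun n => n) (fun c _ ih n =>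
    Bool.rec (lit (stz n (Nat.mod (Nat.sub c 3) 256)) ih)
      (lit (ent (Nat.mod n 4096) c) fun E => Bool.rec 8388608 (lit (stp n E) ih) (lt (tmE E) t))
      (lt c 3)) w

/-- the test of one entry. -/
noncomputable def chkE (v c : ℕ) : Bool :=
  lit (ent v c) fun E => lit (Nat.mod E 8388608) fun n => lit (Nat.mod (Nat.div E 137438953472) 16)
    fun k => and2 (and2 (lt (Nat.mod n 4096) 2880) (lt (Nat.mod (Nat.div n 4096) 8) 7))
      (Bool.rec (Bool.rec
        (List.rec (motive := fun _ => Bool) false (fun c' u _ => and2 (Nat.beq c c')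
          (Nat.beq (tr (tmE E) u n) (Nat.add v (Nat.mul 32768 (TAG (Nat.sub k 2))))))
          ((nth [] RL (Nat.sub k 2)).drop (Nat.div E 2199023255552) ++
            (nth [] RL (Nat.sub k 2)).take (Nat.div E 2199023255552)))
        (and2 (and2 (Nat.beq v 0) (Nat.beq c 1)) (Nat.beq n 4096)) (Nat.beq k 1))
      (and2 (and2 (lt v n) (lt n 4096)) (Nat.beq (pk PT 14 n) (Nat.add v (Nat.mul 4096 c))))
      (Nat.beq k 0))

theorem chkE_all : (allF 2880 fun v => allF 3 fun c => chkE v c) = true := by decide +kernel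

variable {s x : H}

theorem Rel.zT_mem (h : Rel s x) (u : ℕ) : zT s x u ∈ center H :=
  mul_mem (pow_mem (h.cen _) _) (mul_mem (pow_mem (h.cen _) _)
    (mul_mem (pow_mem (h.cen _) _) (pow_mem (h.cen _) _)))

theorem Rel.zT_comm (h : Rel s x) (u : ℕ) (g : H) : g * zT s x u = zT s x u * g :=
  mem_center_iff.1 (h.zT_mem u) g

theorem Rel.zT_add (h : Rel s x) {u v : ℕ} (hu : u < 256) (hv : v < 256) :
    zT s x (addZ u v) = zT s x u * zT s x v := by
  have h1 := (addZ_spec hu hv).2
  have h2 : ∀ k a, rv s x k ^ (a % 4) = rv s x k ^ a := fun k a =>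
    (pow_eq_pow_mod _ (h.z4 _ (h.cen k))).symm
  rw [zT, h1 0 (by decide), h1 1 (by decide), h1 2 (by decide), h1 3 (by decide)]
  simp only [h2, pow_add, zT]
  have := fun k a => pow_mem (h.cen k) a
  have key : ∀ a b c d a' b' c' d' : center H, a * a' * (b * b' * (c * c' * (d * d'))) =
      a * (b * (c * d)) * (a' * (b' * (c' * d'))) := fun _ _ _ _ _ _ _ _ => by ac_rfl
  exact congrArg Subtype.val (key ⟨_, this 0 _⟩ ⟨_, this 5 _⟩ ⟨_, this 6 _⟩ ⟨_, this 7 _⟩
    ⟨_, this 0 _⟩ ⟨_, this 5 _⟩ ⟨_, this 6 _⟩ ⟨_, this 7 _⟩)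

theorem pk_eq (T b i : ℕ) : pk T b i = T / 2 ^ (b * i) % 2 ^ b := by
  rw [pk, shr_eq, Nat.shiftRight_eq_div_pow]; rfl

theorem zT_zero : zT s x 0 = 1 := by simp [zT, pk_eq]

theorem tau_zero : tau s x 0 = 1 := by rw [tau]; simp

theorem Ph_zero : Ph s x 0 = 1 := by simp [Ph, zT_zero, tau_zero]

theorem V_zero : V 0 := by unfold V; decide

theorem el_lt {c : ℕ} (hc : c < 3) : el s x c = gl s x c := if_pos hc

theorem el_zero : el s x 0 = s := rfl
theorem el_one : el s x 1 = x := rfl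
theorem el_two : el s x 2 = x⁻¹ := rfl

theorem el_cen {u : ℕ} (hu : u < 256) : el s x (u + 3) = zT s x u := by
  rw [el, if_neg (by omega), Nat.add_sub_cancel, Nat.mod_eq_of_lt hu]

theorem Rel.rv_eq (h : Rel s x) (k : ℕ) : ev (el s x) (nth [] RL k) = zT s x (TAG k) := by
  have h1 : ev (el s x) (nth [] RL k) = rv s x k := ev_congr fun c hc => el_lt
    (nth_forall (p := fun w : List ℕ => ∀ c ∈ w, c < 3) (by simp) (by decide) k c hc)
  rw [h1]
  by_cases hk : k < 8
  · have h7 := h.x7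
    have h5 := h.sx5
    simp only [pow_succ, pow_zero, one_mul, mul_assoc] at h7 h5
    interval_cases k
    · simp [zT, show TAG 0 = 1 from rfl, pk_eq]
    · simp [zT, show TAG 1 = 0 from rfl, pk_eq, rv, show nth [] RL 1 = [1, 2] from rfl, gl]
    · simp [zT, show TAG 2 = 0 from rfl, pk_eq, rv, show nth [] RL 2 = [2, 1] from rfl, gl]
    · simpa [zT, show TAG 3 = 0 from rfl, pk_eq, rv,
        show nth [] RL 3 = [1, 1, 1, 1, 1, 1, 1] from rfl, gl] using h7
    · simpa [zT, show TAG 4 = 0 from rfl, pk_eq, rv,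
        show nth [] RL 4 = [0, 1, 0, 1, 0, 1, 0, 1, 0, 1] from rfl, gl] using h5
    · simp [zT, show TAG 5 = 4 from rfl, pk_eq]
    · simp [zT, show TAG 6 = 16 from rfl, pk_eq]
    · simp [zT, show TAG 7 = 64 from rfl, pk_eq]
  · have : TAG k = 0 := by
      rw [TAG, pk_eq, Nat.div_eq_of_lt (lt_of_lt_of_le
        (show 0x4010040000000001 < 2 ^ 64 by norm_num)
        (Nat.pow_le_pow_right (by norm_num) (show 64 ≤ 8 * k by omega))), Nat.zero_mod]
    rw [this, zT_zero, rv, nth_default _ (by simpa [RL] using hk), ev_nil]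

/-- the entry is right. -/
def Edge (s x : H) (v c : ℕ) : Prop := tau s x v * gl s x c = Ph s x (ent v c % 8388608)

theorem ent_V {v c : ℕ} (hv : v < 2880) (hc : c < 3) : V (ent v c % 8388608) := by
  have := allF_true.1 (allF_true.1 chkE_all v hv) c hc
  simp only [chkE, lit_eq, and2_true, lt_true] at this
  exact ⟨this.1.1, this.1.2, by omega⟩

theorem Rel.stz_spec (h : Rel s x) {n u : ℕ} (hn : V n) (hu : u < 256) :
    V (stz n u) ∧ Ph s x (stz n u) = Ph s x n * zT s x u := by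
  have h1 := (addZ_spec hn.2.2 hu).1
  have h2 := h.zT_add hn.2.2 hu
  obtain ⟨a1, a2, a3⟩ := hn
  have e : stz n u = n % 32768 + 32768 * addZ (n / 32768) u := rfl
  generalize addZ (n / 32768) u = w at *
  rw [e]
  refine ⟨⟨by omega, by omega, by omega⟩, ?_⟩
  rw [Ph, Ph, show (n % 32768 + 32768 * w) / 4096 % 8 = n / 4096 % 8 by omega,
    show (n % 32768 + 32768 * w) / 32768 = w by omega,
    show (n % 32768 + 32768 * w) % 4096 = n % 4096 by omega, h2, mul_assoc _ (tau _ _ _),
    h.zT_comm u (tau _ _ _)]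
  simp only [mul_assoc]

theorem Rel.stp_spec (h : Rel s x) {n c : ℕ} (hn : V n) (hc : c < 3)
    (he : Edge s x (n % 4096) c) :
    V (stp n (ent (n % 4096) c)) ∧ Ph s x (stp n (ent (n % 4096) c)) = Ph s x n * gl s x c := by
  have hE := ent_V hn.1 hc
  rw [Ph.eq_1 s x n, mul_assoc _ (tau _ _ _), he]
  generalize ent (n % 4096) c = E at *
  have h0 : E / 32768 % 256 < 256 := Nat.mod_lt _ (by norm_num)
  have h1 := (addZ_spec hn.2.2 h0).1
  have h2 := h.zT_add hn.2.2 h0
  obtain ⟨a1, a2, a3⟩ := hE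
  have e : stp n E = E % 4096 + 4096 * ((n / 4096 % 8 + E / 4096 % 8) % 7) +
    32768 * addZ (n / 32768) (E / 32768 % 256) := rfl
  generalize addZ (n / 32768) (E / 32768 % 256) = w at *
  have h3 : (n / 4096 % 8 + E / 4096 % 8) % 7 < 7 := Nat.mod_lt _ (by norm_num)
  have h4 := pow_eq_pow_mod (n / 4096 % 8 + E / 4096 % 8) h.x7
  generalize (n / 4096 % 8 + E / 4096 % 8) % 7 = a at *
  rw [e]
  refine ⟨⟨by omega, by omega, by omega⟩, ?_⟩
  rw [Ph, Ph, show (E % 4096 + 4096 * a + 32768 * w) / 4096 % 8 = a by omega,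
    show (E % 4096 + 4096 * a + 32768 * w) / 32768 = w by omega,
    show (E % 4096 + 4096 * a + 32768 * w) % 4096 = E % 4096 by omega, h2, ← h4, pow_add,
    show E % 8388608 / 4096 % 8 = E / 4096 % 8 by omega,
    show E % 8388608 / 32768 = E / 32768 % 256 by omega,
    show E % 8388608 % 4096 = E % 4096 by omega]
  simp only [mul_assoc]
  rw [← mul_assoc (x ^ (E / 4096 % 8)), h.zT_comm, mul_assoc]

theorem Rel.tr_spec (h : Rel s x) {t : ℕ}
    (he : ∀ v < 2880, ∀ c < 3, tmE (ent v c) < t → Edge s x v c) : ∀ (w : List ℕ) (n : ℕ), V n →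
      (V (tr t w n) ∧ Ph s x (tr t w n) = Ph s x n * ev (el s x) w) ∨
        (tr t w n = 8388608 ∧ t < 16384)
  | [], n, hn => Or.inl ⟨hn, (mul_one _).symm⟩
  | c :: w, n, hn => by
    have e : tr t (c :: w) n = Bool.rec (tr t w (stz n ((c - 3) % 256)))
      (Bool.rec 8388608 (tr t w (stp n (ent (n % 4096) c))) (lt (tmE (ent (n % 4096) c)) t))
      (lt c 3) := rfl
    rw [e, ev_cons, ← mul_assoc]
    cases hc : lt c 3
    · have h1 := h.stz_spec hn (Nat.mod_lt (c - 3) (by norm_num : 0 < 256))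
      rw [el, if_neg (by rw [← lt_true, hc]; simp), ← h1.2]
      exact h.tr_spec he w _ h1.1
    · rw [lt_true] at hc
      cases ht : lt (tmE (ent (n % 4096) c)) t
      · refine Or.inr ⟨rfl, ?_⟩
        have : tmE (ent (n % 4096) c) < 16384 := Nat.mod_lt _ (by norm_num)
        rw [← Bool.not_eq_true, lt_true] at ht
        omega
      · have h1 := h.stp_spec hn hc (he _ hn.1 _ hc (lt_true.1 ht))
        rw [el_lt hc, ← h1.2]
        exact h.tr_spec he w _ h1.1

theorem Rel.edge (h : Rel s x) : ∀ t, ∀ v < 2880, ∀ c < 3, tmE (ent v c) < t → Edge s x v c := by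
  intro t
  induction t with
  | zero => intro _ _ _ _ h; omega
  | succ t ih =>
    intro v hv c hc ht
    have h1 := allF_true.1 (allF_true.1 chkE_all v hv) c hc
    have hV := ent_V hv hc
    have h2 := fun w => h.tr_spec (t := tmE (ent v c))
      (fun v' hv' c' hc' h' => ih v' hv' c' hc' (by omega)) w _ hV
    simp only [chkE, lit_eq, and2_true] at h1
    rw [Edge]
    generalize ent v c = E at *
    change _ ∧ Bool.rec (Bool.rec _ _ (Nat.beq (E / 137438953472 % 16) 1)) _
      (Nat.beq (E / 137438953472 % 16) 0) = true at h1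
    change V (Nat.mod E 8388608) at hV
    change _ = Ph s x (Nat.mod E 8388608)
    change ∀ w, V (tr _ w (Nat.mod E 8388608)) ∧ Ph s x (tr _ w (Nat.mod E 8388608)) =
      Ph s x (Nat.mod E 8388608) * _ ∨ tr _ w (Nat.mod E 8388608) = _ ∧ _ at h2
    generalize Nat.mod E 8388608 = n at *
    replace h1 := h1.2
    cases h0 : Nat.beq (E / 137438953472 % 16) 0 <;> rw [h0] at h1
    · cases h0' : Nat.beq (E / 137438953472 % 16) 1 <;> rw [h0'] at h1
      · have h3 := h.rv_eq (Nat.sub (Nat.mod (Nat.div E 137438953472) 16) 2)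
        have h6 : TAG (Nat.sub (Nat.mod (Nat.div E 137438953472) 16) 2) < 256 := pk_lt _ _ _
        generalize TAG (Nat.sub (Nat.mod (Nat.div E 137438953472) 16) 2) = T at *
        generalize nth [] RL (Nat.sub (Nat.mod (Nat.div E 137438953472) 16) 2) = w at *
        generalize Nat.div E 2199023255552 = k at *
        have h4 : ev (el s x) (w.drop k ++ w.take k) = zT s x T := by
          rw [← List.take_append_drop k w, ev_append] at h3
          rw [ev_append, eq_inv_mul_of_mul_eq h3, h.zT_comm, inv_mul_cancel_right]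
        generalize w.drop k ++ w.take k = u at *
        rcases u with _ | ⟨c', u⟩
        · exact absurd h1 (by simp)
        · change and2 (Nat.beq c c') (Nat.beq (tr (tmE E) u n) (v + 32768 * T)) = true at h1
          rw [and2_true, nbeq, nbeq] at h1
          obtain ⟨rfl, h1⟩ := h1
          rcases h2 u with h5 | h5
          · rw [h1, Ph, show (v + 32768 * T) / 4096 % 8 = 0 by omega,
              show (v + 32768 * T) / 32768 = T by omega,
              show (v + 32768 * T) % 4096 = v by omega, pow_zero, one_mul, ← h.zT_comm, ← h4,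
              ev_cons, el_lt hc, ← mul_assoc] at h5
            exact mul_right_cancel h5.2
          · omega
      · change and2 (and2 _ _) _ = true at h1
        simp only [and2_true, nbeq] at h1
        obtain ⟨⟨rfl, rfl⟩, rfl⟩ := h1
        simp [Ph, tau_zero, zT_zero, gl]
    · change and2 (and2 _ _) (Nat.beq _ (v + 4096 * c)) = true at h1
      simp only [and2_true, nbeq, lt_true] at h1
      rw [Ph, show n / 4096 % 8 = 0 by omega, show n / 32768 = 0 by omega,
        show n % 4096 = n by omega, tau.eq_1 s x n, h1.2, show (v + 4096 * c) % 4096 = v by omega,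
        if_pos h1.1.1, show (v + 4096 * c) / 4096 = c by omega, zT_zero]
      simp

/-- multiply a normal form by a word. -/
noncomputable def run (w : List ℕ) (n : ℕ) : ℕ := tr 16384 w n

theorem Rel.run_spec (h : Rel s x) (w : List ℕ) {n : ℕ} (hn : V n) :
    V (run w n) ∧ Ph s x (run w n) = Ph s x n * ev (el s x) w :=
  (h.tr_spec (h.edge _) w n hn).resolve_right (by omega)

theorem Rel.run_zero (h : Rel s x) (w : List ℕ) :
    V (run w 0) ∧ Ph s x (run w 0) = ev (el s x) w := by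
  simpa [Ph_zero] using h.run_spec w V_zero

theorem Ph_split {a u : ℕ} (ha : a < 32768) (h : Rel s x) :
    Ph s x (a + 32768 * u) = Ph s x a * zT s x u := by
  rw [Ph, Ph, show (a + 32768 * u) / 4096 % 8 = a / 4096 % 8 by omega,
    show (a + 32768 * u) / 32768 = u by omega, show (a + 32768 * u) % 4096 = a % 4096 by omega,
    show a / 32768 = 0 by omega, zT_zero, mul_one, mul_assoc, ← h.zT_comm, mul_assoc]

theorem Ph_split' (n : ℕ) (h : Rel s x) :
    Ph s x n = Ph s x (n % 32768) * zT s x (n / 32768) := by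
  rw [← Ph_split (Nat.mod_lt _ (by norm_num)) h, Nat.mod_add_div]

theorem Rel.zT_eq (h : Rel s x) (u : ℕ) : zT s x u =
    rv s x 6 ^ (2 * pk u 2 0 + 2 * pk u 2 1 + pk u 2 2) * rv s x 7 ^ pk u 2 3 := by
  have h1 : ∀ v u, V v → v < 32768 → run (nth [] RL 5) v = v + 32768 * u →
      zT s x u = zT s x (TAG 5) := fun v u hv hv' h2 => by
    have := (h.run_spec (nth [] RL 5) hv).2
    rw [h2, Ph_split hv' h, h.rv_eq] at this
    exact mul_left_cancel this
  have h2 := h1 251 37 (by unfold V; decide) (by norm_num) (by decide +kernel)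
  have h3 := h1 94 40 (by unfold V; decide) (by norm_num) (by decide +kernel)
  simp only [zT, show TAG 5 = 4 from rfl, pk_eq] at h2 h3
  norm_num at h2 h3
  have h4 := h.z4 _ (h.cen 6)
  have h5 : rv s x 5 = rv s x 6 ^ 2 := by
    rw [sq, mul_assoc, mul_eq_left, mul_eq_one_iff_eq_inv] at h3
    rw [h3, inv_eq_iff_mul_eq_one, ← pow_add, h4]
  have h6 : rv s x 0 = rv s x 6 ^ 2 := by
    rw [h5, ← pow_add, h4, mul_one] at h2
    exact h2
  rw [zT, h5, h6, pow_add, pow_add, pow_mul, pow_mul, mul_assoc, mul_assoc]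

/-- the reduced central part. -/
def cz (u : ℕ) : ℕ :=
  Nat.add (Nat.mul 16 (Nat.mod (Nat.add (Nat.add (Nat.mul 2 (pk u 2 0)) (Nat.mul 2 (pk u 2 1)))
    (pk u 2 2)) 4)) (Nat.mul 64 (pk u 2 3))

theorem Rel.zT_cz (h : Rel s x) (u : ℕ) : zT s x (cz u) = zT s x u := by
  have e : cz u = 16 * ((2 * pk u 2 0 + 2 * pk u 2 1 + pk u 2 2) % 4) + 64 * pk u 2 3 := rfl
  have h1 : ∀ a < 4, ∀ d < 4, 2 * pk (16 * a + 64 * d) 2 0 + 2 * pk (16 * a + 64 * d) 2 1 +
    pk (16 * a + 64 * d) 2 2 = a ∧ pk (16 * a + 64 * d) 2 3 = d := by decide +kernel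
  have h2 := h1 _ (Nat.mod_lt (2 * pk u 2 0 + 2 * pk u 2 1 + pk u 2 2) (by norm_num)) _
    (pk_lt u 2 3)
  rw [e, h.zT_eq, h2.1, h2.2, ← pow_eq_pow_mod _ (h.z4 _ (h.cen 6)), h.zT_eq]

/-- the normal form with a reduced central part. -/
noncomputable def nf (n : ℕ) : ℕ :=
  Nat.add (Nat.mod n 32768) (Nat.mul 32768 (lit (Nat.div n 32768) cz))

theorem Rel.Ph_nf (h : Rel s x) (n : ℕ) : Ph s x (nf n) = Ph s x n := by
  rw [show nf n = n % 32768 + 32768 * cz (n / 32768) from rfl,
    Ph_split (Nat.mod_lt _ (by norm_num)) h, h.zT_cz, ← Ph_split' n h]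

/-- test of the equality of two words. -/
noncomputable def weq (u w : List ℕ) : Bool := lit (run u 0) fun a => lit (run w 0) fun b =>
  Nat.beq (nf a) (nf b)

theorem Rel.ev_eq (h : Rel s x) {u w : List ℕ} (h1 : weq u w = true) :
    ev (el s x) u = ev (el s x) w := by
  rw [weq, lit_eq, lit_eq, nbeq] at h1
  rw [← (h.run_zero u).2, ← h.Ph_nf, h1, h.Ph_nf, (h.run_zero w).2]

end H14.On
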