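import Mathlib
import Cfsg.Agent.H14.OnLab
import Cfsg.Agent.H9.M21
import Cfsg.Agent.S0820

/-! Perfect central extensions of `L₃(4)` by a cyclic group of order 4: generators. -/

set_option autoImplicit false

namespace H14.On

open H29 H7.Cay Subgroup
open scoped MatrixGroups

theorem map_gl {H K : Type*} [Group H] [Group K] (f : H →* K) (s x : H) (c : ℕ) :
    f (gl s x c) = gl (f s) (f x) c := by
  unfold gl; split_ifs <;> simp

theorem map_rv {H K : Type*} [Group H] [Group K] (f : H →* K) (s x : H) (k : ℕ) :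
    f (rv s x k) = rv (f s) (f x) k := by
  rw [rv, map_ev, rv]; simp only [map_gl]

theorem psl_pow {F : Type*} [Field F] [Fintype F] (hF : Fintype.card F = 4) (g : PSL(3, F)) :
    g ^ 3 = 1 ∨ g ^ 4 = 1 ∨ g ^ 5 = 1 ∨ g ^ 7 = 1 := by
  let e := H7.pslCongr (ι := Fin 3) (FiniteField.ringEquivOfCardEq (hF.trans H16.F4.card.symm))
  simp only [← e.map_eq_one_iff, map_pow]
  obtain ⟨g, hg⟩ := QuotientGroup.mk_surjective (e g)
  rw [← hg]
  obtain ⟨t, s, h⟩ := H16.cayley_three g.1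
  rw [g.2, one_smul] at h
  have key : ∀ t s : H16.F4, ∃ k ∈ [3, 4, 5, 7],
      (H16.chCoef t s k).1 = 0 ∧ (H16.chCoef t s k).2.1 = 0 := by decide
  obtain ⟨k, hk, h1, h2⟩ := key t s
  have h3 := H16.pow_eq_chCoef g.1 t s h k
  rw [h1, h2, zero_smul, zero_smul, zero_add, zero_add] at h3
  have h4 : (g : PSL(3, H16.F4)) ^ k = 1 := by
    rw [← QuotientGroup.mk_pow, QuotientGroup.eq_one_iff, Subgroup.mem_center_iff]
    intro a
    apply Subtype.ext
    change a.1 * g.1 ^ k = g.1 ^ k * a.1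
    rw [h3]
    simp
  simp only [List.mem_cons, List.not_mem_nil, or_false] at hk
  rcases hk with rfl | rfl | rfl | rfl <;> simp [h4]

/-- the three letters as permutations of 24 points. -/
def g3 : List ℕ := [958572796407684634971422541721229344, 973868160776965824955542448407743520,
  981765688623706819229926493902671904]

theorem m21_gens : ∃ s x : H9.Stab [1, 0, 23] [], (∀ k, rv s x k = 1) ∧ closure {s, x} = ⊤ := by
  have h1 : H9.GensIn g3 (H9.Stab [1, 0, 23] []) := H9.gensIn_Stab (by decide +kernel)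
  have h0 := h1 _ (List.mem_cons_self ..)
  have h2 := h1 973868160776965824955542448407743520 (by decide)
  have h3 := h1 981765688623706819229926493902671904 (by decide)
  have h4 : H9.pm 981765688623706819229926493902671904 =
      (H9.pm 973868160776965824955542448407743520)⁻¹ := by
    rw [eq_inv_iff_mul_eq_one, ← H9.pm_mulP h3.1 h2.1, ← H9.pm_idP]
    exact congrArg _ (by decide +kernel)
  have h5 : ∀ w : List ℕ, (∀ c ∈ w, c < 3) → H9.pm (H9.evalW g3 w) =
      ev (gl (H9.pm 958572796407684634971422541721229344)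
        (H9.pm 973868160776965824955542448407743520)) w := by
    intro w hw
    induction w with
    | nil => exact H9.pm_idP
    | cons c w ih =>
      have hc := hw c (by simp)
      rw [show H9.evalW g3 (c :: w) = H9.mulP (g3.getD c H9.idP) (H9.evalW g3 w) from
        H9.force_eq _ _, ev_cons, ← ih fun c hc => hw c (by simp [hc])]
      interval_cases c
      · exact H9.pm_mulP h0.1 (h1.evalW w).1
      · exact H9.pm_mulP h2.1 (h1.evalW w).1
      · exact (H9.pm_mulP h3.1 (h1.evalW w).1).trans (by rw [h4]; rfl)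
  refine ⟨⟨_, h0.2⟩, ⟨_, h2.2⟩, fun k => Subtype.ext ?_, ?_⟩
  · refine (map_rv (H9.Stab [1, 0, 23] []).subtype _ _ k).trans ?_
    refine nth_forall (p := fun w => ev (gl _ _) w = 1) rfl (fun w hw => ?_) k
    have : ∀ w ∈ RL, (∀ c ∈ w, c < 3) ∧ H9.evalW g3 w = H9.idP := by decide +kernel
    exact (h5 w (this w hw).1).symm.trans (by rw [(this w hw).2, H9.pm_idP])
  · apply map_injective (H9.Stab [1, 0, 23] []).subtype_injective
    rw [MonoidHom.map_closure, ← MonoidHom.range_eq_map, range_subtype]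
    refine le_antisymm ((closure_le _).2 ?_) ?_
    · rintro _ ⟨y, -, rfl⟩; exact y.2
    · conv_lhs => rw [← H9.cl_g21]
      refine H9.GensIn.cl_le (H9.GensIn.of_words (gens := g3) ?_
        [[1, 0, 2, 2, 0, 2, 0, 1, 0, 2, 2, 2, 0, 1], [2, 0, 2, 2, 2, 0, 1, 1, 0, 2]]
        (by decide +kernel))
      intro c hc
      refine ⟨(h1 c hc).1, ?_⟩
      simp only [g3, List.mem_cons, List.not_mem_nil, or_false] at hc
      rcases hc with rfl | rfl | rfl
      · exact subset_closure ⟨_, Or.inl rfl, rfl⟩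
      · exact subset_closure ⟨_, Or.inr rfl, rfl⟩
      · rw [h4]; exact inv_mem (subset_closure ⟨_, Or.inr rfl, rfl⟩)

variable {M : Type*} [Group M]

/-- the quotient map. -/
abbrev mq (M : Type*) [Group M] : M →* M ⧸ center M := QuotientGroup.mk' _

theorem mq_eq_one {g : M} : mq M g = 1 ↔ g ∈ center M := QuotientGroup.eq_one_iff g

/-- what is used of the covering group. -/
structure Cov (M : Type*) [Group M] : Prop where
  cz : Nat.card (center M) = 4
  cyc : IsCyclic (center M)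
  cq : Nat.card (M ⧸ center M) = 20160
  inv : ∀ a b : M ⧸ center M, orderOf a = 2 → orderOf b = 2 → IsConj a b
  pw : ∀ a : M ⧸ center M, a ^ 3 = 1 ∨ a ^ 4 = 1 ∨ a ^ 5 = 1 ∨ a ^ 7 = 1

/-- generators. -/
structure Gen (s x : M) : Prop extends Rel s x where
  top : closure {s, x} = ⊤

theorem Cov.card (h : Cov M) : Nat.card M = 80640 := by
  rw [card_eq_card_quotient_mul_card_subgroup (center M), h.cq, h.cz]

theorem Cov.z4 (h : Cov M) : ∀ z ∈ center M, z ^ 4 = 1 := fun z hz =>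
  congrArg Subtype.val (h.cz ▸ pow_card_eq_one' (x := (⟨z, hz⟩ : center M)))

theorem cov_of_iso (hc : IsCyclic (center M)) (h4 : Nat.card (center M) = 4)
    (hp : commutator M = ⊤) {F : Type*} [Field F] [Fintype F] (hF : Fintype.card F = 4)
    (e : M ⧸ center M ≃* PSL(3, F)) : Cov M ∧ ∃ s x : M, Gen s x := by
  obtain ⟨f⟩ := H9.m21_iso_psl F hF
  have hC : Cov M := ⟨h4, hc, by rw [Nat.card_congr (e.trans f.symm).toEquiv, H9.card_s3],
    fun a b ha hb => by
      simpa using e.symm.toMonoidHom.map_isConj (Cfsg.Agent.S0820.result hF (e a) (e b)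
        (by rw [e.orderOf_eq, ha]) (by rw [e.orderOf_eq, hb])),
    fun a => by simpa only [← map_pow, e.map_eq_one_iff] using psl_pow hF (e a)⟩
  refine ⟨hC, ?_⟩
  obtain ⟨s1, x1, h1, h2⟩ := m21_gens
  let g := (f.trans e.symm).toMonoidHom
  have h3 : ∀ k, rv (g s1) (g x1) k = 1 := fun k => by rw [← map_rv, h1, map_one]
  have h5 : closure {g s1, g x1} = ⊤ := by
    rw [← Set.image_pair, ← MonoidHom.map_closure, h2]
    exact map_top_of_surjective _ (f.trans e.symm).surjective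
  generalize g s1 = s2, g x1 = x2 at h3 h5
  obtain ⟨s0, rfl⟩ := QuotientGroup.mk'_surjective _ s2
  obtain ⟨x0, rfl⟩ := QuotientGroup.mk'_surjective _ x2
  have h6 : ∀ (y z : M) (n k : ℕ), mq M y ^ n = 1 → 4 ∣ 1 + k * n →
      mq M (z * (y ^ n) ^ k) = mq M z ∧ (y * (y ^ n) ^ k) ^ n = 1 := fun y z n k hn hk => by
    refine ⟨by rw [map_mul, map_pow, map_pow, hn, one_pow, mul_one], ?_⟩
    obtain ⟨m, hm⟩ := hk
    rw [← map_pow, mq_eq_one] at hn
    rw [← pow_mul, ← pow_succ', ← pow_mul, show (n * k + 1) * n = n * (1 + k * n) by ring,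
      pow_mul, hm, pow_mul, hC.z4 _ hn, one_pow]
  have h7 := h3 3
  have h8 := h3 4
  simp only [rv, show nth [] RL 3 = [1, 1, 1, 1, 1, 1, 1] from rfl, gl, ev_cons, ev_nil,
    show nth [] RL 4 = [0, 1, 0, 1, 0, 1, 0, 1, 0, 1] from rfl] at h7 h8
  norm_num at h7 h8
  obtain ⟨h9, h10⟩ := h6 x0 x0 7 1 (by simpa [pow_succ, mul_assoc] using h7) (by norm_num)
  generalize x0 * (x0 ^ 7) ^ 1 = x at h9 h10
  have h11 : mq M (s0 * x) ^ 5 = 1 := by
    rw [map_mul, h9]; simpa [pow_succ, mul_assoc] using h8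
  obtain ⟨h12, h13⟩ := h6 (s0 * x) s0 5 3 h11 (by norm_num)
  rw [← map_pow, mq_eq_one] at h11
  rw [mul_assoc, mem_center_iff.1 (pow_mem h11 3) x, ← mul_assoc] at h13
  generalize s0 * ((s0 * x) ^ 5) ^ 3 = s at h12 h13
  change ∀ k, rv (mq M s0) (mq M x0) k = 1 at h3
  change closure {mq M s0, mq M x0} = ⊤ at h5
  rw [← h9, ← h12] at h3 h5
  refine ⟨s, x, ⟨h10, h13, fun k => by rw [← mq_eq_one, map_rv, h3], hC.z4⟩, ?_⟩
  have h14 : closure {s, x} ⊔ center M = ⊤ := by
    rw [← Set.image_pair, ← MonoidHom.map_closure] at h5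
    rw [← QuotientGroup.ker_mk' (center M), ← comap_map_eq, h5, comap_top]
  haveI : (closure {s, x} : Subgroup M).Normal := normalizer_eq_top_iff.1
    (top_le_iff.1 (h14 ▸ sup_le le_normalizer (center_le_normalizer _)))
  exact top_le_iff.1 (hp ▸ Normal.commutator_le_of_self_sup_commutative_eq_top h14 inferInstance)

variable {s x : M}

theorem Gen.word (h : Gen s x) (g : M) : ∃ w, ev (el s x) w = g := by
  have hg : g ∈ closure {s, x} := h.top ▸ mem_top g
  induction hg using closure_induction'' with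
  | mem y hy =>
    rcases hy with rfl | rfl
    exacts [⟨[0], mul_one _⟩, ⟨[1], mul_one _⟩]
  | inv_mem y hy =>
    rcases hy with rfl | rfl
    · refine ⟨[0, 6], eq_inv_of_mul_eq_one_right ?_⟩
      exact h.ev_eq (u := [0, 0, 6]) (w := []) (by decide +kernel)
    · exact ⟨[2], mul_one _⟩
  | one => exact ⟨[], rfl⟩
  | mul a b _ _ ha hb =>
    obtain ⟨u, rfl⟩ := ha
    obtain ⟨w, rfl⟩ := hb
    exact ⟨u ++ w, ev_append _ _ _⟩

theorem Rel.mq_Ph (h : Rel s x) (n : ℕ) : mq M (Ph s x n) = mq M (Ph s x (n % 32768)) := by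
  rw [Ph_split' n h, map_mul, mq_eq_one.2 (h.zT_mem _), mul_one]

theorem Gen.Ph_inj (h : Gen s x) (hC : Cov M) {n m : ℕ} (hn : V n) (hm : V m) :
    mq M (Ph s x n) = mq M (Ph s x m) ↔ n % 32768 = m % 32768 := by
  refine ⟨fun h1 => ?_, fun h1 => by rw [h.mq_Ph n, h1, ← h.mq_Ph m]⟩
  have h2 : ∀ n (hn : V n), n % 32768 = (⟨n % 4096, hn.1⟩ : Fin 2880) +
    4096 * (⟨n / 4096 % 8, hn.2.1⟩ : Fin 7) := fun n _ => by simp only; omega
  have hb : Function.Bijective fun a : Fin 2880 × Fin 7 => mq M (Ph s x (a.1 + 4096 * a.2)) := by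
    haveI : Finite (M ⧸ center M) := Nat.finite_of_card_ne_zero (by rw [hC.cq]; norm_num)
    rw [Nat.bijective_iff_surjective_and_card]
    refine ⟨fun g => ?_, by simp [hC.cq]⟩
    obtain ⟨g, rfl⟩ := QuotientGroup.mk'_surjective _ g
    obtain ⟨w, rfl⟩ := h.word g
    obtain ⟨h3, h4⟩ := h.run_zero w
    exact ⟨(⟨_, h3.1⟩, ⟨_, h3.2.1⟩), by rw [← h4, h.mq_Ph (run w 0), h2 _ h3]⟩
  rw [h.mq_Ph n, h.mq_Ph m, h2 n hn, h2 m hm] at h1
  have := hb.1 (a₁ := (_, _)) (a₂ := (_, _)) h1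
  simp only [Prod.mk.injEq, Fin.mk.injEq] at this
  omega

/-- the normal form modulo the centre. -/
noncomputable def rl (w : List ℕ) : ℕ := Nat.mod (run w 0) 32768

theorem Gen.rl_eq (h : Gen s x) (hC : Cov M) {u w : List ℕ} :
    mq M (ev (el s x) u) = mq M (ev (el s x) w) ↔ rl u = rl w := by
  rw [← (h.run_zero u).2, ← (h.run_zero w).2, h.Ph_inj hC (h.run_zero u).1 (h.run_zero w).1]
  rfl

theorem Gen.rl_zero (h : Gen s x) (hC : Cov M) {u : List ℕ} :
    ev (el s x) u ∈ center M ↔ rl u = 0 := by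
  rw [← mq_eq_one, show (0 : ℕ) = rl [] from rfl, ← h.rl_eq hC, ev_nil, map_one]

theorem Rel.cen_of_rl (h : Rel s x) {u : List ℕ} (hu : rl u = 0) : ev (el s x) u ∈ center M := by
  rw [← (h.run_zero u).2, Ph_split' _ h, show run u 0 % 32768 = 0 from hu, Ph_zero, one_mul]
  exact h.zT_mem _

theorem Gen.center_eq (h : Gen s x) (hC : Cov M) {z : M} (hz : z ∈ center M) :
    ∃ a b : ℕ, z = rv s x 6 ^ a * rv s x 7 ^ b := by
  obtain ⟨w, rfl⟩ := h.word z
  rw [h.rl_zero hC] at hz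
  refine ⟨_, _, Eq.trans ?_ (h.zT_eq (run w 0 / 32768))⟩
  rw [← (h.run_zero w).2, Ph_split' _ h.toRel, show run w 0 % 32768 = 0 from hz, Ph_zero, one_mul]

end H14.On
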