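import Mathlib
import Cfsg.Agent.H14.OnCov
import Cfsg.Agent.H14.OnAutD
import Cfsg.Agent.H22.SylIn

/-! The automorphisms of a covering group of `L₃(4)`. -/

set_option autoImplicit false

namespace H14.On

open H29 H7.Cay H22 Subgroup

/-- multiply a normal form by a word in which the letters are replaced by words. -/
noncomputable def rsb (a b c w : List ℕ) : ℕ → ℕ :=
  List.rec (motive := fun _ => ℕ → ℕ) (fun n => n) (fun y _ ih n =>
    lit (run (Bool.rec (Bool.rec c b (Nat.beq y 1)) a (Nat.beq y 0)) n) ih) w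

variable {M : Type*} [Group M] {s x : M}

theorem Rel.rsb_spec (h : Rel s x) {a b c : List ℕ} (hc : ev (el s x) c = (ev (el s x) b)⁻¹) :
    ∀ (w : List ℕ) {n : ℕ}, V n → V (rsb a b c w n) ∧
      Ph s x (rsb a b c w n) = Ph s x n * ev (gl (ev (el s x) a) (ev (el s x) b)) w
  | [], n, hn => ⟨hn, (mul_one _).symm⟩
  | y :: w, n, hn => by
    have h1 := h.run_spec (Bool.rec (Bool.rec c b (Nat.beq y 1)) a (Nat.beq y 0)) hn
    have h2 := h.rsb_spec (a := a) hc w h1.1
    refine ⟨h2.1, h2.2.trans ?_⟩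
    rw [h1.2, ev_cons, mul_assoc]
    congr 2
    unfold gl
    simp only [← nbeq]
    cases Nat.beq y 0 <;> cases Nat.beq y 1 <;> simp [hc]

theorem Rel.rsb_zero (h : Rel s x) {a b c : List ℕ} (hc : ev (el s x) c = (ev (el s x) b)⁻¹)
    (w : List ℕ) : V (rsb a b c w 0) ∧
      Ph s x (rsb a b c w 0) = ev (gl (ev (el s x) a) (ev (el s x) b)) w := by
  simpa [Ph_zero] using h.rsb_spec (a := a) hc w V_zero

theorem Rel.Ph_eq (h : Rel s x) {n m : ℕ} (h1 : nf n = nf m) : Ph s x n = Ph s x m := by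
  rw [← h.Ph_nf, h1, h.Ph_nf]

theorem Rel.Ph_cen (h : Rel s x) {n : ℕ} (h1 : n % 32768 = 0) :
    Ph s x n = zT s x (n / 32768) := by rw [Ph_split' n h, h1, Ph_zero, one_mul]

/-- the image of a word under an automorphism of the list. -/
noncomputable def rd (d : ℕ) (w : List ℕ) : ℕ := rsb (nth [] WS d) (nth [] WX d) (nth [] WY d) w 0

/-- the image of `s`. -/
noncomputable def sD (s x : M) (d : ℕ) : M := ev (el s x) (nth [] WS d)

/-- the image of `x`. -/
noncomputable def xD (s x : M) (d : ℕ) : M := ev (el s x) (nth [] WX d)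

theorem chkD : (allF 12 fun d => and2 (weq (nth [] WY d ++ nth [] WX d) [])
    (and2 (and2 (Nat.beq (lit (rd d (nth [] RL 3)) nf) 0) (Nat.beq (lit (rd d (nth [] RL 4)) nf) 0))
      (allL RL fun w => Nat.beq (Nat.mod (rd d w) 32768) 0))) = true := by decide +kernel

theorem Rel.rd_spec (h : Rel s x) {d : ℕ} (hd : d < 12) (w : List ℕ) :
    V (rd d w) ∧ Ph s x (rd d w) = ev (gl (sD s x d) (xD s x d)) w := by
  have := h.ev_eq (and2_true.1 (allF_true.1 chkD d hd)).1
  rw [ev_append] at this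
  exact h.rsb_zero (eq_inv_of_mul_eq_one_left this) w

theorem rv_three (s x : M) : rv s x 3 = x ^ 7 := by
  simp [rv, show nth [] RL 3 = [1, 1, 1, 1, 1, 1, 1] from rfl, gl, pow_succ, mul_assoc]

theorem rv_four (s x : M) : rv s x 4 = (s * x) ^ 5 := by
  simp [rv, show nth [] RL 4 = [0, 1, 0, 1, 0, 1, 0, 1, 0, 1] from rfl, gl, pow_succ, mul_assoc]

theorem rv_zero (s x : M) : rv s x 0 = s * s := by
  simp [rv, show nth [] RL 0 = [0, 0] from rfl, gl]

theorem Rel.relD (h : Rel s x) {d : ℕ} (hd : d < 12) : Rel (sD s x d) (xD s x d) := by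
  have h1 := (and2_true.1 (allF_true.1 chkD d hd)).2
  simp only [and2_true, nbeq, lit_eq, allL_true] at h1
  refine ⟨?_, ?_, fun k => ?_, h.z4⟩
  · rw [← rv_three, rv, ← (h.rd_spec hd _).2, ← h.Ph_nf, h1.1.1, Ph_zero]
  · rw [← rv_four, rv, ← (h.rd_spec hd _).2, ← h.Ph_nf, h1.1.2, Ph_zero]
  · refine nth_forall (p := fun w => ev (gl _ _) w ∈ center M) (one_mem _) (fun w hw => ?_) k
    rw [← (h.rd_spec hd _).2, h.Ph_cen (h1.2 w hw)]
    exact h.zT_mem _

theorem Gen.genD (h : Gen s x) {d : ℕ} (hd : d < 12) {u w : List ℕ}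
    (hu : lit (rd d u) nf = nf (run [0] 0)) (hw : lit (rd d w) nf = nf (run [1] 0)) :
    Gen (sD s x d) (xD s x d) := by
  refine ⟨h.relD hd, top_le_iff.1 (h.top ▸ (closure_le _).2 ?_)⟩
  have h1 : ∀ w, ev (gl (sD s x d) (xD s x d)) w ∈ closure {sD s x d, xD s x d} := fun w =>
    ev_mem fun c _ => by
      unfold gl
      split_ifs
      exacts [subset_closure (Or.inl rfl), subset_closure (Or.inr rfl),
        inv_mem (subset_closure (Or.inr rfl))]
  rintro y (rfl | rfl)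
  · have := h1 u
    rwa [← (h.rd_spec hd _).2, h.Ph_eq hu, (h.run_zero _).2, ev_cons, ev_nil, mul_one] at this
  · have := h1 w
    rwa [← (h.rd_spec hd _).2, h.Ph_eq hw, (h.run_zero _).2, ev_cons, ev_nil, mul_one] at this

theorem Cov.sq_eq (hC : Cov M) {y z : M} (hy : y ∈ center M) (hz : z ∈ center M) (y2 : y ^ 2 = 1)
    (z2 : z ^ 2 = 1) (y1 : y ≠ 1) (z1 : z ≠ 1) : y = z := by
  classical
  haveI := hC.cyc
  haveI : Finite (center M) := Nat.finite_of_card_ne_zero (by rw [hC.cz]; norm_num)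
  haveI := Fintype.ofFinite (center M)
  have h1 := IsCyclic.card_pow_eq_one_le (α := center M) (n := 2) (by norm_num)
  by_contra h2
  refine absurd h1 (not_le.2 (Finset.two_lt_card_iff.2
    ⟨1, ⟨y, hy⟩, ⟨z, hz⟩, by simp, ?_, ?_, ?_, ?_, ?_⟩))
  · simpa [Subtype.ext_iff] using y2
  · simpa [Subtype.ext_iff] using z2
  · simpa [Subtype.ext_iff] using y1.symm
  · simpa [Subtype.ext_iff] using z1.symm
  · simpa [Subtype.ext_iff] using h2

theorem Gen.exists_good (h : Gen s x) (hC : Cov M) : ∃ s x : M, Gen s x ∧ rv s x 6 ^ 2 = 1 := by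
  have h4 := h.genD (d := 4) (by norm_num)
    (u := [0, 0, 2, 2, 0, 1, 1, 0, 2, 2, 0, 1, 1, 1, 0, 2, 0, 1, 0, 2])
    (w := [0, 0, 0, 2, 2, 0, 1, 0, 2, 2, 0, 1, 0, 2, 0, 2, 2, 0, 2, 0, 1])
    (by decide +kernel) (by decide +kernel)
  have h8 := h.genD (d := 8) (by norm_num)
    (u := [0, 1, 0, 2, 0, 1, 0, 2, 2, 2, 0, 1, 1, 0, 2, 2, 0, 1, 1])
    (w := [0, 2, 0, 1, 1, 1, 0, 1, 0, 2, 0, 1, 1, 0, 2, 2, 0, 2, 2, 0])
    (by decide +kernel) (by decide +kernel)
  have h5 : ∀ d < 12, ∀ u, lit (rd d (nth [] RL 6)) nf = 32768 * u →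
      rv (sD s x d) (xD s x d) 6 = zT s x u := fun d hd u hu => by
    rw [rv, ← (h.rd_spec hd _).2, ← h.Ph_nf, show nf _ = 0 + 32768 * u by rw [zero_add]; exact hu,
      Ph_split (by norm_num) h.toRel, Ph_zero, one_mul]
  have h6 := h5 4 (by norm_num) 96 (by decide +kernel)
  have h7 := h5 8 (by norm_num) 208 (by decide +kernel)
  simp only [h.zT_eq, pk_eq] at h6 h7
  norm_num at h6 h7
  have hp := h.cen 6
  have hq := h.cen 7
  have c : Commute (rv s x 6) (rv s x 7) := mem_center_iff.1 hq _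
  by_cases h1 : rv s x 6 ^ 2 = 1
  · exact ⟨s, x, h, h1⟩
  by_cases h2 : rv s x 7 ^ 2 = 1
  · exact ⟨_, _, h4, by rw [h6, (c.pow_left 2).mul_pow, ← pow_mul, h.z4 _ hp, h2, one_mul]⟩
  refine ⟨_, _, h8, ?_⟩
  rw [h7, (c.pow_right 3).mul_pow, hC.sq_eq (pow_mem hp 2) (pow_mem hq 2)
    (by rw [← pow_mul, h.z4 _ hp]) (by rw [← pow_mul, h.z4 _ hq]) h1 h2, ← pow_mul, ← pow_add,
    show 2 + 3 * 2 = 4 * 2 from rfl, pow_mul, h.z4 _ hq, one_pow]

/-- the word of an involution. -/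
noncomputable def iw (i : ℕ) : List ℕ := (nth ([], 0) IWL i).1

/-- the test of an involution. -/
noncomputable def chkI (r : List ℕ × ℕ) : Bool :=
  and2 (allF 3 fun c => lit (pk r.2 9 c) fun i => and2 (lt i 315)
    (Nat.beq (rl (c :: r.1)) (rl (iw i ++ [c]))))
  (allF 7 fun k => imp2 (lt 0 k) (imp2 (Nat.beq (Nat.mod
    (rsb r.1 (List.replicate k 1) (List.replicate k 2) (nth [] RL 4) 0) 32768) 0)
    (imp2 (Nat.beq (Nat.mod
      (rsb r.1 (List.replicate k 1) (List.replicate k 2) (nth [] RL 5) 0) 32768) 0)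
      (lit (pk r.2 9 (Nat.add 3 k)) fun j => lit (Nat.mod j 16) fun d => lit (Nat.div j 16) fun i =>
        and2 (lt d 12) (and2
          (Nat.beq (rl (nth [] MW d ++ nth [] NW i ++ r.1))
            (rl (nth [] WS d ++ (nth [] MW d ++ nth [] NW i))))
          (Nat.beq (rl (nth [] MW d ++ nth [] NW i ++ List.replicate k 1))
            (rl (nth [] WX d ++ (nth [] MW d ++ nth [] NW i)))))))))

theorem chkI_all : allL IWL chkI = true := by decide +kernel

theorem chkI_nth {i : ℕ} (hi : i < 315) : chkI (nth ([], 0) IWL i) = true := by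
  refine allL_true.1 chkI_all _ ?_
  rw [nth_eq, List.getD_eq_getElem _ _ (by rwa [show IWL.length = 315 by decide +kernel])]
  exact List.getElem_mem _

theorem Gen.conj_iw (h : Gen s x) (hC : Cov M) (g : M) {i : ℕ} (hi : i < 315) :
    ∃ k < 315, mq M (g * ev (el s x) (iw i) * g⁻¹) = mq M (ev (el s x) (iw k)) := by
  obtain ⟨w, rfl⟩ := h.word g
  induction w with
  | nil => exact ⟨i, hi, by simp⟩
  | cons c w ih =>
    obtain ⟨k, hk, h1⟩ := ih
    have h2 : mq M (ev (el s x) (c :: w) * ev (el s x) (iw i) * (ev (el s x) (c :: w))⁻¹) =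
        mq M (el s x c * ev (el s x) (iw k) * (el s x c)⁻¹) := by
      simp only [map_mul, map_inv, ev_cons] at h1 ⊢
      rw [← h1]; group
    rw [h2]
    by_cases hc : c < 3
    · have h3 := allF_true.1 (and2_true.1 (chkI_nth hk)).1 c hc
      simp only [lit_eq, and2_true, lt_true, nbeq, ← h.rl_eq hC, ev_append, ev_cons, ev_nil,
        mul_one] at h3
      exact ⟨_, h3.1, by rw [map_mul, map_inv, mul_inv_eq_iff_eq_mul, ← map_mul]; exact h3.2⟩
    · exact ⟨k, hk, by rw [el, if_neg hc, ← h.zT_comm, mul_inv_cancel_right]⟩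

theorem Rel.eq_of_mq (h : Rel s x) {u v a : M} {n : ℕ} (hn : n % 2 = 1) (h1 : mq M u = mq M v)
    (hu : (u * a) ^ n = 1) (hv : (v * a) ^ n = 1) : u = v := by
  rw [← mul_inv_eq_one, ← map_inv, ← map_mul, mq_eq_one] at h1
  have h2 : u * a = u * v⁻¹ * (v * a) := by group
  rw [h2, Commute.mul_pow (mem_center_iff.1 h1 _).symm, hv, mul_one] at hu
  have h3 := Nat.dvd_gcd (orderOf_dvd_of_pow_eq_one hu) (orderOf_dvd_of_pow_eq_one (h.z4 _ h1))
  rw [show Nat.gcd n 4 = 1 from (Nat.coprime_two_right.2 (Nat.odd_iff.2 hn)).pow_right 2,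
    Nat.dvd_one, orderOf_eq_one_iff, mul_inv_eq_one] at h3
  exact h3

theorem Gen.s_ne (h : Gen s x) (hC : Cov M) : s ∉ center M := by
  have := (h.rl_zero hC (u := [0])).not.2 (by decide +kernel)
  rwa [ev_cons, ev_nil, mul_one] at this

theorem Gen.x_ne (h : Gen s x) (hC : Cov M) : x ∉ center M := by
  have := (h.rl_zero hC (u := [1])).not.2 (by decide +kernel)
  rwa [ev_cons, ev_nil, mul_one] at this

theorem Rel.conj (h : Rel s x) (f : M ≃* M) : Rel (f s) (f x) := by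
  refine ⟨by rw [← map_pow, h.x7, map_one], by rw [← map_mul, ← map_pow, h.sx5, map_one],
    fun k => ?_, h.z4⟩
  have := map_rv (f : M →* M) s x k
  simp only [MonoidHom.coe_coe] at this
  rw [← this, mem_center_iff]
  intro g
  obtain ⟨g, rfl⟩ := f.surjective g
  rw [← map_mul, mem_center_iff.1 (h.cen k), map_mul]

theorem Gen.aut_class (h : Gen s x) (hC : Cov M) {y z : M} (h' : Rel y z) (hy : y ∉ center M)
    (hz : z ≠ 1) : ∃ m : M, ∃ d < 12, m * y * m⁻¹ = sD s x d ∧ m * z * m⁻¹ = xD s x d := by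
  classical
  haveI : Finite M := Nat.finite_of_card_ne_zero (by rw [hC.card]; norm_num)
  haveI : Fact (Nat.Prime 7) := ⟨by norm_num⟩
  haveI : Fact (Nat.Prime 2) := ⟨by norm_num⟩
  have hx : orderOf x = 7 := orderOf_eq_prime h.x7 fun h1 => h.x_ne hC (h1 ▸ one_mem _)
  have hS : SylIn 7 (zpowers x) ⊤ := by
    refine sylIn_of_not_dvd le_top (isPGroup_zpowers (k := 1) h.x7) ?_
    have := (zpowers x).card_mul_index
    rw [Nat.card_zpowers, hx, hC.card] at this
    rw [relIndex_top_right]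
    omega
  obtain ⟨m1, -, h1⟩ := hS.exists_cj_le (R := zpowers z) le_top (isPGroup_zpowers (k := 1) h'.x7)
  obtain ⟨k, hk, h2⟩ := (mem_powers_iff_mem_range_orderOf (x := x)).1
    (mem_powers_iff_mem_zpowers.2 (h1 (conj_mem_cj (mem_zpowers z)))) |> Finset.mem_image.1
  rw [Finset.mem_range, hx] at hk
  have h3 := h'.conj (MulAut.conj m1)
  simp only [MulAut.conj_apply] at h3
  have h4 : orderOf (mq M (m1 * y * m1⁻¹)) = 2 := orderOf_eq_prime
    (by rw [← map_pow, sq, ← rv_zero _ (m1 * z * m1⁻¹), mq_eq_one]; exact h3.cen 0)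
    fun h4 => hy (by
      have := (inferInstance : (center M).Normal).conj_mem _ (mq_eq_one.1 h4) m1⁻¹
      simpa [mul_assoc] using this)
  obtain ⟨g, hg⟩ := isConj_iff.1 (hC.inv (mq M s) _ (orderOf_eq_prime
    (by rw [← map_pow, sq, ← rv_zero _ x, mq_eq_one]; exact h.cen 0)
    fun h4 => h.s_ne hC (mq_eq_one.1 h4)) h4)
  obtain ⟨g, rfl⟩ := QuotientGroup.mk'_surjective _ g
  obtain ⟨i, hi, h5⟩ := h.conj_iw hC g (i := 0) (by norm_num)
  rw [show iw 0 = [0] from rfl, ev_cons, ev_nil, mul_one, map_mul, map_mul, map_inv, el_zero] at h5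
  replace h5 := hg.symm.trans h5
  have h6 := allF_true.1 (and2_true.1 (chkI_nth hi)).2 k hk
  have h7 : ∀ l, Nat.mod (rsb (iw i) (List.replicate k 1) (List.replicate k 2) (nth [] RL l) 0)
      32768 = 0 := fun l => by
    have h8 := h.rsb_zero (a := iw i) (b := List.replicate k 1) (c := List.replicate k 2)
      (by rw [ev_replicate, ev_replicate, el_two, el_one, inv_pow]) (nth [] RL l)
    refine (h.Ph_inj hC h8.1 V_zero).1 ?_
    rw [h8.2, Ph_zero, map_one, ← rv, map_rv, ← h5, ev_replicate, el_one, h2, ← map_rv, mq_eq_one]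
    exact h3.cen l
  simp only [lit_eq, and2_true, imp2_true, lt_true, nbeq, ← h.rl_eq hC] at h6
  obtain ⟨h8, h9, h10⟩ := h6 (Nat.pos_of_ne_zero (by rintro rfl; exact hz (by simpa using h2.symm)))
    (h7 4) (h7 5)
  generalize Nat.mod (pk _ 9 _) 16 = d at h8 h9 h10
  generalize nth [] MW d ++ nth [] NW _ = w at h9 h10
  rw [ev_append, ev_append] at h9 h10
  generalize ev (el s x) w = n at h9 h10
  rw [ev_replicate, el_one, h2] at h10
  have h11 := h3.conj (MulAut.conj n)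
  have h12 := h.relD h8
  simp only [MulAut.conj_apply] at h11
  have h13 : n * (m1 * z * m1⁻¹) * n⁻¹ = xD s x d := h.eq_of_mq (n := 7) (a := 1) rfl
    (by rw [map_mul, h10, map_mul, map_inv, mul_inv_cancel_right]; rfl)
    (by rw [mul_one, h11.x7]) (by rw [mul_one, h12.x7])
  refine ⟨n * m1, d, h8, Eq.trans (by group) (h.eq_of_mq (u := n * (m1 * y * m1⁻¹) * n⁻¹) (n := 5)
    (a := xD s x d) rfl ?_ (h13 ▸ h11.sx5) h12.sx5), Eq.trans (by group) h13⟩
  rw [map_mul, map_mul, h5, ← map_mul]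
  exact (congrArg (· * _) h9).trans (by rw [map_mul, map_inv, mul_inv_cancel_right]; rfl)

end H14.On
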