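import Mathlib
import Cfsg.Agent.H14.OnAut
import Cfsg.Agent.H14.OnTD

/-! A Sylow 2-subgroup of a covering group of `L₃(4)` on codes. -/

set_option autoImplicit false

namespace H14.On

open H29 H7.Cay H22 Subgroup

/-- normal form of a representative. -/
noncomputable def sl (l : ℕ) : ℕ := pk SL 23 l

/-- product of two representatives. -/
noncomputable def ml (l m : ℕ) : ℕ := pk ML 14 (Nat.add (Nat.mul 64 l) m)

/-- image of a representative. -/
noncomputable def jt (d l : ℕ) : ℕ := pk JT 14 (Nat.add (Nat.mul 64 d) l)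

theorem chkM1 : (allF 64 fun l => lit (sl l) fun n => and2 (and2 (lt (Nat.mod n 4096) 2880)
    (lt (Nat.mod (Nat.div n 4096) 8) 7)) (and2 (Nat.beq (ml l 0) l) (and2
      (allF 64 fun m => imp2 (Nat.beq (Nat.mod n 32768) (Nat.mod (sl m) 32768)) (Nat.beq l m))
      (allF 6 fun i => lit (ml l (Nat.pow 2 i)) fun E => Nat.beq (lit (run (nth [] GW i) n) nf)
        (lit (stz (sl (Nat.mod E 64)) (Nat.div E 64)) nf))))) = true := by decide +kernel

theorem chkM2 : (allF 6 fun i => lit (Nat.pow 2 i) fun b => allF b fun m =>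
    and2 (Nat.beq (ml m b) (Nat.add m b)) (allF 64 fun l => lit (ml l m) fun E =>
      lit (ml (Nat.mod E 64) b) fun F => Nat.beq (ml l (Nat.add m b))
        (Nat.add (Nat.mod F 64) (Nat.mul 64 (addZ (Nat.div E 64) (Nat.div F 64)))))) = true := by
  decide +kernel

theorem chkJ : (allF 4 fun d => imp2 (lt 0 d) (and2 (and2 (Nat.beq (jt d 0) 0)
    (and2 (and2 (weq (nth [] PS d) (nth [] WS d)) (weq (nth [] PX d) (nth [] WX d)))
      (and2 (Nat.beq (lit (rd d (nth [] PS d)) nf) (nf (run [0] 0)))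
        (Nat.beq (lit (rd d (nth [] PX d)) nf) (nf (run [1] 0))))))
    (allF 6 fun i => lit (Nat.pow 2 i) fun b => lit (jt d b) fun J => and2
      (Nat.beq (lit (rd d (nth [] GW i)) nf) (lit (stz (sl (Nat.mod J 64)) (Nat.div J 64)) nf))
      (allF b fun m => lit (jt d m) fun K => lit (ml (Nat.mod K 64) (Nat.mod J 64)) fun E =>
        Nat.beq (jt d (Nat.add m b)) (Nat.add (Nat.mod E 64)
          (Nat.mul 64 (addZ (addZ (Nat.div K 64) (Nat.div J 64)) (Nat.div E 64)))))))) = true := by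
  decide +kernel

theorem chkPQ : (allF 12 fun d =>
    and2 (Nat.beq (lit (rd d (nth [] RL 6)) nf) (Nat.mul 32768 (pk PD 8 d)))
      (Nat.beq (lit (rd d (nth [] RL 7)) nf) (Nat.mul 32768 (pk QD 8 d)))) = true := by
  decide +kernel

variable {M : Type*} [Group M] {s x : M}

/-- a representative. -/
noncomputable def gT (s x : M) (l : ℕ) : M := Ph s x (sl l)

theorem nmod (a b : ℕ) : Nat.mod a b = a % b := rfl
theorem ndiv (a b : ℕ) : Nat.div a b = a / b := rfl
theorem npow (a b : ℕ) : Nat.pow a b = a ^ b := rfl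

theorem div_lt {T i : ℕ} : pk T 14 i / 64 < 256 := by have := pk_lt T 14 i; omega
theorem ml_lt (l m : ℕ) : ml l m / 64 < 256 := div_lt
theorem jt_lt (l m : ℕ) : jt l m / 64 < 256 := div_lt

theorem sl_V {l : ℕ} (hl : l < 64) : V (sl l) := by
  have := allF_true.1 chkM1 l hl
  simp only [lit_eq, and2_true, lt_true] at this
  exact ⟨this.1.1, this.1.2, by have := pk_lt SL 23 l; unfold sl; omega⟩

theorem gT_zero : gT s x 0 = 1 := by rw [gT, show sl 0 = 0 by decide +kernel, Ph_zero]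

theorem Rel.gT_gen (h : Rel s x) {l i : ℕ} (hl : l < 64) (hi : i < 6) :
    gT s x l * ev (el s x) (nth [] GW i) =
      gT s x (ml l (2 ^ i) % 64) * zT s x (ml l (2 ^ i) / 64) := by
  have := allF_true.1 chkM1 l hl
  simp only [lit_eq, and2_true, lt_true, allF_true, nbeq] at this
  rw [gT, ← (h.run_spec _ (sl_V hl)).2, h.Ph_eq (this.2.2.2 i hi), gT]
  exact (h.stz_spec (sl_V (Nat.mod_lt _ (by norm_num))) div_lt).2

theorem Rel.gT_add (h : Rel s x) {m i : ℕ} (hi : i < 6) (hm : m < 2 ^ i) :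
    gT s x (m + 2 ^ i) = gT s x m * ev (el s x) (nth [] GW i) := by
  have h1 := allF_true.1 (allF_true.1 chkM2 i hi) m hm
  have h2 : 2 ^ i ≤ 2 ^ 5 := Nat.pow_le_pow_right (by norm_num) (by omega)
  simp only [lit_eq, and2_true, nbeq] at h1
  rw [h.gT_gen (by omega) hi, show ml m (2 ^ i) = m + 2 ^ i from h1.1,
    Nat.mod_eq_of_lt (by omega), Nat.div_eq_of_lt (by omega), zT_zero, mul_one]

theorem bit_ind {p : ℕ → Prop} (h0 : p 0) (h1 : ∀ i < 6, ∀ m < 2 ^ i, p m → p (m + 2 ^ i)) :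
    ∀ m < 64, p m := by
  have : ∀ i ≤ 6, ∀ m < 2 ^ i, p m := by
    intro i
    induction i with
    | zero => intro _ m hm; rwa [show m = 0 by omega]
    | succ i ih =>
      intro hi m hm
      by_cases h : m < 2 ^ i
      · exact ih (by omega) m h
      · have h2 : m - 2 ^ i < 2 ^ i := by rw [pow_succ] at hm; omega
        have := h1 i (by omega) _ h2 (ih (by omega) _ h2)
        rwa [Nat.sub_add_cancel (not_lt.1 h)] at this
  exact this 6 le_rfl

theorem Rel.gT_mul (h : Rel s x) {l m : ℕ} (hl : l < 64) (hm : m < 64) :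
    gT s x l * gT s x m = gT s x (ml l m % 64) * zT s x (ml l m / 64) := by
  refine bit_ind (p := fun m => gT s x l * gT s x m = gT s x (ml l m % 64) * zT s x (ml l m / 64))
    ?_ (fun i hi m hm ih => ?_) m hm
  · have := allF_true.1 chkM1 l hl
    simp only [lit_eq, and2_true, nbeq] at this
    rw [this.2.1, Nat.mod_eq_of_lt hl, Nat.div_eq_of_lt hl, gT_zero, zT_zero]
  · have h1 := allF_true.1 (and2_true.1 (allF_true.1 (allF_true.1 chkM2 i hi) m hm)).2 l hl
    simp only [lit_eq, nbeq] at h1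
    have h2 := (addZ_spec (u := ml l m / 64) (v := ml (ml l m % 64) (2 ^ i) / 64) div_lt div_lt).1
    have h3 : ml (ml l m % 64) (2 ^ i) % 64 < 64 := Nat.mod_lt _ (by norm_num)
    rw [h.gT_add hi hm, ← mul_assoc, ih, mul_assoc, ← h.zT_comm, ← mul_assoc,
      h.gT_gen (Nat.mod_lt _ (by norm_num)) hi,
      show ml l (m + 2 ^ i) = ml (ml l m % 64) (2 ^ i) % 64 + 64 * addZ (ml l m / 64)
        (ml (ml l m % 64) (2 ^ i) / 64) from h1, Nat.add_mul_mod_self_left, Nat.mod_mod,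
      Nat.add_mul_div_left _ _ (by norm_num), Nat.div_eq_of_lt h3, zero_add,
      h.zT_add (ml_lt _ _) (ml_lt _ _), mul_assoc, h.zT_comm (ml l m / 64)]

theorem Gen.gT_inj (h : Gen s x) (hC : Cov M) {l m : ℕ} (hl : l < 64) (hm : m < 64)
    (h1 : mq M (gT s x l) = mq M (gT s x m)) : l = m := by
  have := allF_true.1 chkM1 l hl
  simp only [lit_eq, and2_true, lt_true, allF_true, nbeq, imp2_true] at this
  exact this.2.2.1 m hm ((h.Ph_inj hC (sl_V hl) (sl_V hm)).1 h1)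

theorem ev_el_gl {w : List ℕ} (hw : ∀ c ∈ w, c < 3) : ev (el s x) w = ev (gl s x) w :=
  ev_congr fun c hc => el_lt (hw c hc)

theorem Rel.map_ev (h : Rel s x) {d : ℕ} (hd : d < 12) {f : M →* M} (fs : f s = sD s x d)
    (fx : f x = xD s x d) {w : List ℕ} (hw : ∀ c ∈ w, c < 3) :
    f (ev (el s x) w) = Ph s x (rd d w) := by
  rw [ev_el_gl hw, H29.map_ev, (h.rd_spec hd w).2, ← fs, ← fx]
  simp only [map_gl]

theorem Rel.map_gT (h : Rel s x) {d : ℕ} (d0 : 0 < d) (hd : d < 4) {f : M →* M}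
    (fs : f s = sD s x d) (fx : f x = xD s x d) {l : ℕ} (hl : l < 64) :
    f (gT s x l) = gT s x (jt d l % 64) * zT s x (jt d l / 64) := by
  have h1 := allF_true.1 chkJ d hd
  simp only [lit_eq, and2_true, lt_true, allF_true, nbeq, imp2_true, nmod, ndiv, npow] at h1
  replace h1 := h1 d0
  refine bit_ind (p := fun l => f (gT s x l) = gT s x (jt d l % 64) * zT s x (jt d l / 64))
    ?_ (fun i hi m hm ih => ?_) l hl
  · rw [h1.1.1, gT_zero, map_one]; simp [gT_zero, zT_zero]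
  · obtain ⟨h2, h3⟩ := h1.2 i hi
    have h4 : ∀ a, a % 64 < 64 := fun a => Nat.mod_lt _ (by norm_num)
    have h5 := (addZ_spec (u := jt d m / 64) (v := jt d (2 ^ i) / 64) div_lt div_lt).1
    rw [h.gT_add hi hm, map_mul, ih, h.map_ev (by omega) fs fx
      (nth_forall (p := fun w : List ℕ => ∀ c ∈ w, c < 3) (by simp) (by decide) i), h.Ph_eq h2,
      (h.stz_spec (sl_V (h4 _)) (jt_lt _ _)).2,
      show jt d (m + 2 ^ i) = ml (jt d m % 64) (jt d (2 ^ i) % 64) % 64 + 64 * addZ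
        (addZ (jt d m / 64) (jt d (2 ^ i) / 64)) (ml (jt d m % 64) (jt d (2 ^ i) % 64) / 64) from
        h3 m hm, Nat.add_mul_mod_self_left, Nat.mod_mod, Nat.add_mul_div_left _ _ (by norm_num),
      Nat.div_eq_of_lt (h4 _), zero_add, h.zT_add h5 (ml_lt _ _), h.zT_add (jt_lt _ _) (jt_lt _ _),
      h.zT_comm (ml _ _ / 64), ← mul_assoc (gT _ _ _) (zT _ _ (ml _ _ / 64)),
      ← h.gT_mul (h4 _) (h4 _), mul_assoc, mul_assoc, ← mul_assoc (zT _ _ _), ← h.zT_comm,
      mul_assoc]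
    rfl

theorem Rel.map_pq (h : Rel s x) {d : ℕ} (hd : d < 12) {f : M →* M}
    (fs : f s = sD s x d) (fx : f x = xD s x d) :
    f (rv s x 6) = zT s x (pk PD 8 d) ∧ f (rv s x 7) = zT s x (pk QD 8 d) := by
  have h1 := allF_true.1 chkPQ d hd
  simp only [lit_eq, and2_true, nbeq] at h1
  have h2 : ∀ k u, nf (rd d (nth [] RL k)) = 32768 * u → f (rv s x k) = zT s x u := fun k u hu => by
    rw [map_rv, fs, fx, rv, ← (h.rd_spec hd _).2, ← h.Ph_nf, hu, ← zero_add (32768 * u),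
      Ph_split (by norm_num) h, Ph_zero, one_mul]
  exact ⟨h2 _ _ h1.1, h2 _ _ h1.2⟩

theorem Gen.map_map (h : Gen s x) {d : ℕ} (d0 : 0 < d) (hd : d < 4) {f : M →* M}
    (fs : f s = sD s x d) (fx : f x = xD s x d) (m : M) : f (f m) = m := by
  have h1 := allF_true.1 chkJ d hd
  simp only [lit_eq, and2_true, lt_true, nbeq, imp2_true] at h1
  obtain ⟨⟨-, ⟨h2, h3⟩, h4, h5⟩, -⟩ := h1 d0
  refine DFunLike.congr_fun (MonoidHom.eq_of_eqOn_dense (f := f.comp f) (g := MonoidHom.id M)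
    h.top ?_) m
  rintro y (rfl | rfl)
  · rw [MonoidHom.comp_apply, fs, sD, ← h.ev_eq h2, h.map_ev (by omega) fs fx
      (nth_forall (p := fun w : List ℕ => ∀ c ∈ w, c < 3) (by simp) (by decide) d), h.Ph_eq h4,
      (h.run_zero _).2]
    exact mul_one _
  · rw [MonoidHom.comp_apply, fx, xD, ← h.ev_eq h3, h.map_ev (by omega) fs fx
      (nth_forall (p := fun w : List ℕ => ∀ c ∈ w, c < 3) (by simp) (by decide) d), h.Ph_eq h5,
      (h.run_zero _).2]
    exact mul_one _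

/-- the exponent of a central element. -/
def ch (pp u : ℕ) : ℕ := Nat.add (Nat.mul (Nat.mul 2 pp) (Nat.div u 16)) (Nat.div u 64)

theorem Rel.zT_ch (h : Rel s x) {pp : ℕ} (hp : rv s x 6 = rv s x 7 ^ (2 * pp)) (u : ℕ) :
    zT s x u = rv s x 7 ^ ch pp u := by
  have h4 := h.z4 _ (h.cen 7)
  rw [h.zT_eq, hp, ← pow_mul, ← pow_add, pow_eq_pow_mod _ h4, pow_eq_pow_mod (ch pp u) h4]
  congr 1
  simp only [pk_eq]
  rw [show ch pp u = 2 * pp * (u / 16) + u / 64 from rfl]
  have : u / 16 = u / 16 % 4 + 4 * (u / 64) := by omega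
  conv_rhs => rw [this]
  norm_num
  generalize u % 4 = a, u / 4 % 4 = b, u / 16 % 4 = c, u / 64 = d
  rw [show 2 * pp * (2 * a + 2 * b + c) + d = 2 * pp * c + d + 4 * (pp * (a + b)) by ring,
    show 2 * pp * (c + 4 * d) + d = 2 * pp * c + d + 4 * (2 * pp * d) by ring]
  simp

/-- product of codes. -/
noncomputable def mT (pp d k u v : ℕ) : ℕ :=
  Bool.rec (lit (jt d (Nat.mod v 64)) fun J => lit (ml (Nat.mod u 64) (Nat.mod J 64)) fun E =>
    lit (Nat.div v 256) fun b => Nat.add (Nat.add (Nat.mod E 64) (Nat.mul 64 (Nat.mod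
      (Nat.add (Nat.add (Nat.add (Nat.add (Nat.div u 64) (ch pp (Nat.div J 64)))
        (Nat.mul (ch pp (pk QD 8 d)) (Nat.div v 64))) (ch pp (Nat.div E 64))) (Nat.mul b k)) 4)))
      (Nat.mul 256 (Nat.sub 1 b)))
    (lit (ml (Nat.mod u 64) (Nat.mod v 64)) fun E => Nat.add (Nat.add (Nat.mod E 64) (Nat.mul 64
      (Nat.mod (Nat.add (Nat.add (Nat.div u 64) (Nat.div v 64)) (ch pp (Nat.div E 64))) 4)))
      (Nat.mul 256 (Nat.mod (Nat.div v 256) 2))) (lt u 256)

theorem mT_lt (pp d k u v : ℕ) : mT pp d k u v < 512 := by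
  unfold mT
  cases lt u 256 <;> simp only [lit_eq, Nat.add_eq, Nat.mul_eq, Nat.sub_eq] <;>
    change _ % 64 + 64 * (_ % 4) + 256 * _ < 512
  · omega
  · change _ + 256 * (_ % 2) < 512
    omega

variable {G : Type*} [Group G]

/-- the centraliser of `t` contains `M` with index 2. -/
structure Base (t : G) (ι : M →* G) : Prop where
  cov : Cov M
  inj : Function.Injective ι
  ht : orderOf t = 2
  ct : ∀ m, ι m * t = t * ι m
  nrm : ∀ y, y * t = t * y → ∃ f : M ≃* M, ∀ m, ι (f m) = y * ι m * y⁻¹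
  idx : ∀ y z, y * t = t * y → z * t = t * z → y ∉ ι.range → z ∉ ι.range → y * z ∈ ι.range
  ex : ∃ y, y * t = t * y ∧ y ∉ ι.range
  out : ∀ y, y * t = t * y → (∀ m, y * ι m = ι m * y) → y ∈ ι.range
  card : Nat.card (centralizer ({t} : Set G)) = 161280

/-- a candidate for the centraliser. -/
structure Cand (t : G) (ι : M →* G) (s x : M) (j : G) (pp d k : ℕ) : Prop
    extends Base t ι, Gen s x where
  hp : rv s x 6 = rv s x 7 ^ (2 * pp)
  tq : ι (rv s x 7 ^ 2) = t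
  jc : j * t = t * j
  jM : j ∉ ι.range
  js : j * ι s * j⁻¹ = ι (sD s x d)
  jx : j * ι x * j⁻¹ = ι (xD s x d)
  jj : j * j = ι (rv s x 7 ^ k)
  d0 : 0 < d
  d4 : d < 4

variable {t j : G} {ι : M →* G} {pp d k : ℕ}

theorem Base.t_ne (h : Base t ι) : t ≠ 1 := fun h1 => by simpa [h1] using h.ht

theorem Base.tt (h : Base t ι) : t * t = 1 := by rw [← sq, ← h.ht, pow_orderOf_eq_one]

theorem Base.exists_cand (h : Base t ι) (hg : Gen s x) :
    ∃ (s x : M) (j : G), ∃ pp < 2, ∃ d, ∃ k < 4, Cand t ι s x j pp d k := by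
  obtain ⟨s, x, hg, hp⟩ := hg.exists_good h.cov
  have hq : rv s x 7 ^ 2 ≠ 1 := fun hq => by
    haveI := h.cov.cyc
    obtain ⟨z, hz⟩ := IsCyclic.exists_ofOrder_eq_natCard (α := center M)
    obtain ⟨a, b, h1⟩ := hg.center_eq h.cov z.2
    have h2 : z ^ 2 = 1 := Subtype.ext (by
      rw [SubmonoidClass.coe_pow, h1, Commute.mul_pow (mem_center_iff.1 (pow_mem (hg.cen 7) b) _),
        ← pow_mul, ← pow_mul, mul_comm a, mul_comm b, pow_mul, pow_mul, hp, hq]
      simp)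
    have := orderOf_dvd_of_pow_eq_one h2
    rw [hz, h.cov.cz] at this
    omega
  have q4 : (rv s x 7 ^ 2) ^ 2 = 1 := by rw [← pow_mul, hg.z4 _ (hg.cen 7)]
  obtain ⟨pp, hpp, hp'⟩ : ∃ pp < 2, rv s x 6 = rv s x 7 ^ (2 * pp) := by
    by_cases h1 : rv s x 6 = 1
    · exact ⟨0, by norm_num, by simpa using h1⟩
    · exact ⟨1, by norm_num, h.cov.sq_eq (hg.cen 6) (pow_mem (hg.cen 7) 2) hp q4 h1 hq⟩
  have hZ : ∀ y, y * t = t * y → (∀ m, y * ι m = ι m * y) → ∃ k < 4, y = ι (rv s x 7 ^ k) := by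
    intro y h1 h2
    obtain ⟨m, rfl⟩ := h.out y h1 h2
    obtain ⟨a, b, h3⟩ := hg.center_eq h.cov (z := m) (mem_center_iff.2 fun g => h.inj (by
      rw [map_mul, map_mul, h2]))
    exact ⟨_, Nat.mod_lt _ (by norm_num), by
      rw [h3, hp', ← pow_mul, ← pow_add, pow_eq_pow_mod _ (hg.z4 _ (hg.cen 7))]⟩
  have tq : ι (rv s x 7 ^ 2) = t := by
    obtain ⟨k, -, h1⟩ := hZ t rfl fun m => (h.ct m).symm
    rw [h1, h.cov.sq_eq (pow_mem (hg.cen 7) 2) (pow_mem (hg.cen 7) k) q4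
      (h.inj (by rw [map_pow, ← h1, sq, h.tt, map_one])) hq
      fun h2 => h.t_ne (by rw [h1, h2, map_one])]
  obtain ⟨y, y1, y2⟩ := h.ex
  obtain ⟨f, hf⟩ := h.nrm y y1
  obtain ⟨m, d, hd, h1, h2⟩ := hg.aut_class h.cov (hg.conj f) (fun h1 => hg.s_ne h.cov
    (mem_center_iff.2 fun g => f.injective (by rw [map_mul, map_mul, mem_center_iff.1 h1])))
    fun h1 => hg.x_ne h.cov (by rw [f.map_eq_one_iff.1 h1]; exact one_mem _)
  have j1 : ι m * y * t = t * (ι m * y) := by rw [mul_assoc, y1, ← mul_assoc, h.ct, mul_assoc]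
  have j2 : ι m * y ∉ ι.range := fun h3 => y2 ((mul_mem_cancel_left (MonoidHom.mem_range.2 ⟨m, rfl⟩)).1 h3)
  have j3 : ι m * y * ι s * (ι m * y)⁻¹ = ι (sD s x d) := by
    rw [← h1, map_mul, map_mul, hf, map_inv]; group
  have j4 : ι m * y * ι x * (ι m * y)⁻¹ = ι (xD s x d) := by
    rw [← h2, map_mul, map_mul, hf, map_inv]; group
  generalize ι m * y = j at j1 j2 j3 j4
  obtain ⟨g, hj⟩ := h.nrm j j1
  have gs : (g : M →* M) s = sD s x d := h.inj ((hj s).trans j3)
  have gx : (g : M →* M) x = xD s x d := h.inj ((hj x).trans j4)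
  have d0 : 0 < d := Nat.pos_of_ne_zero (by
    rintro rfl
    refine j2 (h.out j j1 fun m => ?_)
    have := DFunLike.congr_fun (MonoidHom.eq_of_eqOn_dense (f := (g : M →* M))
      (g := MonoidHom.id M) hg.top (by
        rintro y (rfl | rfl)
        exacts [gs.trans (mul_one _), gx.trans (mul_one _)])) m
    rw [← mul_inv_eq_iff_eq_mul, ← hj]
    exact congrArg ι this)
  have d4 : d < 4 := by
    by_contra h3
    have h4 := congrArg (· ^ 2) (hg.map_pq hd gs gx).1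
    have h5 : ∀ d < 12, ¬ d < 4 → ∀ pp < 2, ch pp (pk PD 8 d) * 2 % 4 = 2 := by decide +kernel
    simp only [← map_pow, hp, map_one, hg.zT_ch hp'] at h4
    rw [← pow_mul, pow_eq_pow_mod _ (hg.z4 _ (hg.cen 7)), h5 d hd h3 pp hpp] at h4
    exact hq h4.symm
  obtain ⟨k, hk, j5⟩ := hZ (j * j) (by rw [mul_assoc, j1, ← mul_assoc, j1, mul_assoc]) fun m => by
    have := congrArg ι (hg.map_map d0 d4 gs gx m)
    rw [MonoidHom.coe_coe, hj, hj] at this
    conv_rhs => rw [← this]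
    group
  exact ⟨s, x, j, pp, hpp, d, k, hk, h, hg, hp', tq, j1, j2, j3, j4, j5, d0, d4⟩

/-- the element with a given code. -/
noncomputable def ps (ι : M →* G) (s x : M) (j : G) (u : ℕ) : G :=
  ι (gT s x (u % 64) * rv s x 7 ^ (u / 64)) * j ^ (u / 256)

theorem Cand.exists_aut (h : Cand t ι s x j pp d k) : ∃ f : M →* M, f s = sD s x d ∧
    f x = xD s x d ∧ ∀ m, j * ι m = ι (f m) * j := by
  obtain ⟨g, hj⟩ := h.nrm j h.jc
  exact ⟨g, h.inj ((hj s).trans h.js), h.inj ((hj x).trans h.jx), fun m => by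
    rw [MonoidHom.coe_coe, hj, inv_mul_cancel_right]⟩

theorem Cand.ps_mul (h : Cand t ι s x j pp d k) {u v : ℕ} (hu : u < 512) (hv : v < 512) :
    ps ι s x j (mT pp d k u v) = ps ι s x j u * ps ι s x j v := by
  have h4 : ∀ a, a % 64 < 64 := fun a => Nat.mod_lt _ (by norm_num)
  have q4 := h.z4 _ (h.cen 7)
  have hc : ∀ a (g r : M), rv s x 7 ^ a * (g * r) = g * (rv s x 7 ^ a * r) := fun a g r => by
    rw [← mul_assoc, ← mem_center_iff.1 (pow_mem (h.cen 7) a) g, mul_assoc]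
  have key : ∀ a b c, a < 64 → c < 2 → ps ι s x j (a + 64 * (b % 4) + 256 * c) =
      ι (gT s x a * rv s x 7 ^ b) * j ^ c := fun a b c ha hc => by
    rw [ps, show (a + 64 * (b % 4) + 256 * c) % 64 = a by omega,
      show (a + 64 * (b % 4) + 256 * c) / 256 = c by omega, pow_eq_pow_mod _ q4,
      show (a + 64 * (b % 4) + 256 * c) / 64 % 4 = b % 4 by omega, ← pow_eq_pow_mod _ q4]
  unfold mT
  cases h1 : lt u 256
  · rw [← Bool.not_eq_true, lt_true] at h1
    obtain ⟨f, fs, fx, hf⟩ := h.exists_aut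
    refine (key _ _ _ (h4 _) (by change 1 - _ < 2; omega)).trans ?_
    simp only [nmod, ndiv, Nat.sub_eq]
    rw [ps, ps, show u / 256 = 1 by omega, pow_one, mul_assoc, ← mul_assoc j, hf, map_mul f,
      h.map_gT h.d0 h.d4 fs fx (h4 v), map_pow f, (h.map_pq (by have := h.d4; omega) fs fx).2,
      mul_assoc _ j, ← mul_assoc, ← map_mul]
    have h2 : j * j ^ (v / 256) = ι (rv s x 7 ^ (v / 256 * k)) * j ^ (1 - v / 256) := by
      rcases show v / 256 = 0 ∨ v / 256 = 1 by omega with h2 | h2 <;> simp [h2, h.jj]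
    rw [h2, ← mul_assoc, ← map_mul]
    congr 2
    simp only [h.zT_ch h.hp, mul_assoc]
    rw [hc, ← mul_assoc, h.gT_mul (h4 _) (h4 _)]
    simp only [h.zT_ch h.hp, mul_assoc, ← pow_mul, ← pow_add, Nat.add_eq, Nat.mul_eq]
    congr 2
    ring
  · rw [lt_true] at h1
    refine (key _ _ _ (h4 _) (Nat.mod_lt _ (by norm_num))).trans ?_
    simp only [nmod, ndiv]
    rw [ps, ps, show u / 256 = 0 by omega, pow_zero, mul_one, ← mul_assoc, ← map_mul,
      show v / 256 % 2 = v / 256 by omega]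
    congr 2
    rw [mul_assoc, hc, ← mul_assoc, h.gT_mul (h4 _) (h4 _)]
    simp only [h.zT_ch h.hp, mul_assoc, ← pow_add, Nat.add_eq]
    congr 2
    ring

theorem Cand.q_ord (h : Cand t ι s x j pp d k) : orderOf (rv s x 7) = 4 := by
  haveI : Fact (Nat.Prime 2) := ⟨by norm_num⟩
  exact orderOf_eq_prime_pow (p := 2) (n := 1)
    (fun h1 => h.t_ne (by rw [← h.tq, show rv s x 7 ^ 2 = 1 from h1, map_one])) (h.z4 _ (h.cen 7))

theorem Cand.ps_mem (h : Cand t ι s x j pp d k) {u : ℕ} (hu : u < 512) :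
    ps ι s x j u ∈ ι.range ↔ u < 256 := by
  rw [ps, mul_mem_cancel_left (MonoidHom.mem_range.2 ⟨_, rfl⟩)]
  rcases show u / 256 = 0 ∨ u / 256 = 1 by omega with h2 | h2 <;> rw [h2]
  · simpa using by omega
  · simpa [h.jM] using by omega

theorem Cand.ps_inj (h : Cand t ι s x j pp d k) {u v : ℕ} (hu : u < 512) (hv : v < 512)
    (h1 : ps ι s x j u = ps ι s x j v) : u = v := by
  have h2 := h.ps_mem hu
  rw [h1, h.ps_mem hv] at h2
  rw [ps, ps, show u / 256 = v / 256 by omega, mul_left_inj] at h1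
  have h3 := h.inj h1
  have h4 := congrArg (mq M) h3
  have h5 : mq M (rv s x 7) = 1 := mq_eq_one.2 (h.cen 7)
  simp only [map_mul, map_pow, h5, one_pow, mul_one] at h4
  have h6 := h.gT_inj h.cov (Nat.mod_lt _ (by norm_num)) (Nat.mod_lt _ (by norm_num)) h4
  rw [h6, mul_right_inj, pow_eq_pow_iff_modEq, h.q_ord, Nat.ModEq] at h3
  omega

theorem ps_zero : ps ι s x j 0 = 1 := by simp [ps, gT_zero]

theorem ps_64 : ps ι s x j 64 = ι (rv s x 7) := by simp [ps, gT_zero]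

theorem Cand.ps_128 (h : Cand t ι s x j pp d k) : ps ι s x j 128 = t := by
  simp [ps, gT_zero, ← h.tq]

theorem Cand.ps_cent (h : Cand t ι s x j pp d k) (u : ℕ) : ps ι s x j u * t = t * ps ι s x j u :=
  Commute.mul_left (h.ct _) (Commute.pow_left h.jc _)

end H14.On
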