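import Mathlib
import Cfsg.Agent.H14.OnT
import Cfsg.Agent.H22.Isolated
import Cfsg.Agent.S0215

/-! Fusion of involutions excludes all candidates but one. -/

set_option autoImplicit false

namespace H14.On

open H29 H7.Cay H22 Subgroup

/-- count. -/
noncomputable def cnt (n : ℕ) (f : ℕ → Bool) : ℕ :=
  Nat.rec (motive := fun _ => ℕ) 0
    (fun k ih => lit k fun k => Bool.rec (motive := fun _ => ℕ) ih (Nat.succ ih) (f k)) n

theorem cnt_eq (n : ℕ) (f : ℕ → Bool) :
    cnt n f = ((Finset.range n).filter fun k => f k = true).card := by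
  induction n with
  | zero => rfl
  | succ n ih =>
    rw [show cnt (n + 1) f = Bool.rec (motive := fun _ => ℕ) (cnt n f) (Nat.succ (cnt n f)) (f n)
      from rfl, Finset.range_add_one, Finset.filter_insert, ih]
    cases f n <;> simp

/-- inequality test. -/
noncomputable def nq (a b : ℕ) : Bool := Bool.rec true false (Nat.beq a b)

theorem nq_true {a b : ℕ} : nq a b = true ↔ a ≠ b := by
  rw [nq, Ne, ← nbeq]; cases Nat.beq a b <;> simp

/-- commutation test. -/
noncomputable def cmT (pp d k u v : ℕ) : Bool := Nat.beq (mT pp d k u v) (mT pp d k v u)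

/-- the test of a candidate. -/
noncomputable def chkK (pp d k : ℕ) (sv on : Bool) : Bool :=
  lit (nth 0 SQL (16 * pp + 4 * d + k)) fun S => and2
    (allF 512 fun u => Nat.beq (mT pp d k u u) (pk S 9 u))
    (and2 (imp2 sv (and2 (and2 (Nat.beq (pk S 9 16) 0) (Nat.beq (mT pp d k 16 128) 144))
      (and2 (Nat.beq (cnt 512 (cmT pp d k 16)) 256) (allF 512 fun u => or2 (lt u 256)
        (Nat.beq (mT pp d k 64 u) (lit (mT pp d k u 128) fun v => mT pp d k v 64))))))
    (allF 512 fun a => imp2 (and2 (Nat.beq (pk S 9 a) 0) (and2 (nq a 0) (nq a 128)))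
      (lit (cnt 512 fun u => Nat.beq (pk S 9 u) a) fun f =>
        lit (cnt 512 fun u => and2 (Nat.beq (pk S 9 u) 128) (cmT pp d k a u)) fun g =>
          and2 (Nat.ble f g) (imp2 (Nat.ble g f) (and2 sv (or2
            (and2 (or2 (Nat.beq a 16) (Nat.beq a 144)) (or2 on (and2 (cmT pp d k 16 10)
              (allF 512 fun u => imp2 (Nat.beq (pk S 9 u) a) (and2
                (nq (mT pp d k 10 u) (mT pp d k u 10))
                (nq (lit (mT pp d k u 10) fun v => mT pp d k v u) 10))))))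
            (and2 (and2 (Nat.ble 256 a) (lt (cnt 512 (cmT pp d k a)) 256))
              (anyL [2, 32, 256, 261] fun m => and2 (Nat.beq (pk S 9 m) 0)
                (lit (lit (mT pp d k m a) fun v => mT pp d k v m) fun b =>
                  and2 (and2 (nq b a) (nq b (mT pp d k a 128))) (cmT pp d k a b))))))))))

/-- the test of the candidates with given first parameters. -/
noncomputable def chkC (pp d : ℕ) : Bool :=
  allF 4 fun k => imp2 (Nat.beq (Nat.mod (Nat.mul (ch pp (pk QD 8 d)) k) 4) k)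
    (chkK pp d k (Nat.beq k 0) (and2 (Nat.beq pp 1) (Nat.beq d 3)))

theorem chk01 : chkK 0 1 0 false false = true ∧ chkK 0 1 1 false false = true ∧
    chkK 0 1 2 false false = true ∧ chkK 0 1 3 false false = true := by
  refine ⟨?_, ?_, ?_, ?_⟩ <;> decide +kernel
theorem chk12 : chkK 1 2 0 false false = true ∧ chkK 1 2 1 false false = true ∧
    chkK 1 2 2 false false = true ∧ chkK 1 2 3 false false = true := by
  refine ⟨?_, ?_, ?_, ?_⟩ <;> decide +kernel
theorem chk02 : chkC 0 2 = true := by decide +kernel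
theorem chk03 : chkC 0 3 = true := by decide +kernel
theorem chk11 : chkC 1 1 = true := by decide +kernel
theorem chk13 : chkC 1 3 = true := by decide +kernel

theorem chk_all {pp d k : ℕ} (hp : pp < 2) (d0 : 0 < d) (d4 : d < 4) (hk : k < 4)
    (h : ch pp (pk QD 8 d) * k % 4 = k) : ∃ sv on, chkK pp d k sv on = true ∧
      (sv = true → on = true → pp = 1 ∧ d = 3 ∧ k = 0) := by
  have h1 : chkC pp d = true → ∃ sv on, chkK pp d k sv on = true ∧
      (sv = true → on = true → pp = 1 ∧ d = 3 ∧ k = 0) := fun h1 =>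
    ⟨_, _, imp2_true.1 (allF_true.1 h1 k hk) (nbeq.2 h), fun h2 h3 => by
      simp only [and2_true, nbeq] at h2 h3; exact ⟨h3.1, h3.2, h2⟩⟩
  interval_cases pp <;> interval_cases d
  · interval_cases k
    exacts [⟨_, _, chk01.1, by simp⟩, ⟨_, _, chk01.2.1, by simp⟩, ⟨_, _, chk01.2.2.1, by simp⟩,
      ⟨_, _, chk01.2.2.2, by simp⟩]
  · exact h1 chk02
  · exact h1 chk03
  · exact h1 chk11
  · interval_cases k
    exacts [⟨_, _, chk12.1, by simp⟩, ⟨_, _, chk12.2.1, by simp⟩, ⟨_, _, chk12.2.2.1, by simp⟩,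
      ⟨_, _, chk12.2.2.2, by simp⟩]
  · exact h1 chk13

variable {G : Type*} [Group G] [Finite G]

theorem not_isol [IsSimpleGroup G] {t : G} (ht : orderOf t = 2) (hc : t ∉ center G) :
    ∃ d, IsConj t d ∧ d * t = t * d ∧ d ≠ t := by
  by_contra hcon
  have hz : Cfsg.IsIsolatedInvolution t := ⟨ht, fun g hg => by
    by_contra h1
    exact hcon ⟨_, isConj_iff.2 ⟨g, rfl⟩, hg.eq.symm, h1⟩⟩
  obtain ⟨P, hP⟩ := (isPGroup_zpowers (p := 2) (k := 1) (a := t)
    (by rw [pow_one, sq]; exact isolated_mul_self hz)).exists_le_sylow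
  have hzP : t ∈ P := hP (mem_zpowers t)
  obtain ⟨N, hN, hodd, h1⟩ := Cfsg.Agent.S0215.result P t ht hzP fun g hg => by
    obtain ⟨k, hk⟩ := isPGroup_iff_forall_mem.1 P.isPGroup' _ (P.mul_mem hzP hg)
    have h3 : orderOf (t * (g * t * g⁻¹)) = 1 :=
      (Nat.coprime_self _).1 ((Nat.Coprime.pow_right k (Nat.coprime_two_right.2
        (isolated_odd hz g))).coprime_dvd_right (orderOf_dvd_of_pow_eq_one hk))
    exact mul_left_cancel ((orderOf_eq_one_iff.1 h3).trans (isolated_mul_self hz).symm)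
  rcases hN.eq_bot_or_eq_top with rfl | rfl
  · exact hc (mem_center_iff.2 fun g =>
      (commutatorElement_eq_one_iff_mul_comm.1 (mem_bot.1 (h1 g))).symm)
  · rw [card_top] at hodd
    exact Nat.not_even_iff_odd.2 hodd (even_iff_two_dvd.2 (ht ▸ orderOf_dvd_natCard t))

theorem fus_iso {T : Subgroup G} {t : G} (hT : SylIn 2 T (centralizer {t})) (htT : t ∈ T)
    (ht2 : t * t = 1) {d : G} (hd : IsConj t d) (hdt : d * t = t * d) (hne : d ≠ t) :
    ∃ a g, a ∈ T ∧ a ≠ t ∧ g * a * g⁻¹ = t ∧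
      cj g (T ⊓ centralizer {a}) = T ⊓ centralizer {g * t * g⁻¹} ∧
      ∀ c ∈ T, IsConj t c → c ≠ t →
        Nat.card ↥(T ⊓ centralizer {c}) ≤ Nat.card ↥(T ⊓ centralizer {a}) := by
  have hd2 : d ^ 2 ^ 1 = 1 := by
    obtain ⟨k, rfl⟩ := isConj_iff.1 hd
    rw [pow_one, conj_pow, sq, ht2]; group
  obtain ⟨c0, hc0, h0⟩ := hT.exists_cj_le (R := zpowers d)
    (zpowers_le.2 (mem_centralizer_singleton_iff.2 hdt)) (isPGroup_zpowers hd2)
  rw [mem_centralizer_singleton_iff] at hc0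
  obtain ⟨a, ⟨a1, a2, a3⟩, hmax⟩ := Set.exists_max_image {c | c ∈ T ∧ IsConj t c ∧ c ≠ t}
    (fun c => Nat.card ↥(T ⊓ centralizer {c})) (Set.toFinite _)
    ⟨_, h0 (conj_mem_cj (mem_zpowers d)), hd.trans (isConj_iff.2 ⟨c0, rfl⟩), fun h => hne (by
      rw [mul_inv_eq_iff_eq_mul, ← hc0] at h
      exact mul_left_cancel h)⟩
  obtain ⟨g, hg⟩ := isConj_iff.1 a2.symm
  obtain ⟨c, hc, h1⟩ := hT.exists_cj_le (R := cj g (T ⊓ centralizer {a}))
    (by rw [← hg, ← cj_centralizer_singleton]; exact cj_mono inf_le_right)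
    (isPGroup_cj (hT.isPGroup.to_le inf_le_left) g)
  rw [← cj_mul] at h1
  have h3 : c * g * a * (c * g)⁻¹ = t := by
    rw [mem_centralizer_singleton_iff] at hc
    calc _ = c * (g * a * g⁻¹) * c⁻¹ := by group
      _ = t := by rw [hg, hc]; group
  generalize c * g = h at h1 h3
  have h4 : h * t * h⁻¹ ∈ T := h1 (conj_mem_cj ⟨htT, mem_centralizer_singleton_iff.2
    (mem_centralizer_singleton_iff.1 (hT.le a1)).symm⟩)
  refine ⟨a, h, a1, a3, h3, eq_of_le_of_card_ge (le_inf h1 ?_) ?_,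
    fun c c1 c2 c3 => hmax c ⟨c1, c2, c3⟩⟩
  · rw [← cj_centralizer_singleton]
    exact cj_mono (inf_le_left.trans hT.le)
  · rw [card_cj]
    exact hmax _ ⟨h4, isConj_iff.2 ⟨h, rfl⟩, fun h5 => a3 (by simpa using h3.trans h5.symm)⟩

/-- the number of square roots of `a` in `T`. -/
noncomputable def fR (T : Subgroup G) (a : G) : ℕ := {g | g ∈ T ∧ g * g = a}.ncard

/-- the number of square roots of `t` in `T` that commute with `a`. -/
noncomputable def gR (T : Subgroup G) (t a : G) : ℕ :=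
  {g | g ∈ T ∧ (g * g = t ∧ a * g = g * a)}.ncard

theorem fg_le {T : Subgroup G} {t a b h : G} (hT : T ≤ centralizer {t}) (h1 : h * a * h⁻¹ = t)
    (h3 : h * t * h⁻¹ = b) (h2 : cj h (T ⊓ centralizer {a}) ≤ T) :
    gR T t a ≤ fR T b ∧ fR T a ≤ gR T t b := by
  replace h2 : ∀ u ∈ T, a * u = u * a → h * u * h⁻¹ ∈ T := fun u hu hau =>
    h2 (conj_mem_cj ⟨hu, mem_centralizer_singleton_iff.2 hau.symm⟩)
  subst h3
  constructor <;> refine Set.ncard_le_ncard_of_injOn (fun u => h * u * h⁻¹) ?_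
    (fun u _ v _ huv => by simpa using huv)
  · rintro u ⟨hu, h5, h6⟩
    exact ⟨h2 u hu h6, by rw [← h5]; group⟩
  · rintro u ⟨hu, h5⟩
    refine ⟨h2 u hu (by rw [← h5, mul_assoc]), by rw [← h1, ← h5]; group, ?_⟩
    calc _ = h * (t * u) * h⁻¹ := by group
      _ = _ := by rw [← mem_centralizer_singleton_iff.1 (hT hu)]; group

variable {M : Type*} [Group M] {s x : M} {t j : G} {ι : M →* G} {pp d k : ℕ}

/-- the Sylow subgroup. -/
def Cand.T (h : Cand t ι s x j pp d k) : Subgroup G :=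
  let S : Submonoid G :=
    { carrier := ps ι s x j '' {u | u < 512}
      one_mem' := ⟨0, by norm_num, ps_zero⟩
      mul_mem' := by
        rintro _ _ ⟨u, hu, rfl⟩ ⟨v, hv, rfl⟩
        exact ⟨_, mT_lt pp d k u v, h.ps_mul hu hv⟩ }
  { S with
    inv_mem' := fun {g} hg => by
      have : g⁻¹ = g ^ (orderOf g - 1) := by
        rw [inv_eq_iff_mul_eq_one, ← pow_succ', Nat.sub_add_cancel (orderOf_pos g),
          pow_orderOf_eq_one]
      rw [this]
      exact S.pow_mem hg _ }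

theorem Cand.mem_T (h : Cand t ι s x j pp d k) {g : G} : g ∈ h.T ↔ ∃ u < 512, ps ι s x j u = g :=
  Iff.rfl

theorem Cand.ncard_T (h : Cand t ι s x j pp d k) (p : G → Prop) (f : ℕ → Bool)
    (hf : ∀ u < 512, p (ps ι s x j u) ↔ f u = true) : {g | g ∈ h.T ∧ p g}.ncard = cnt 512 f := by
  have : {g | g ∈ h.T ∧ p g} =
      ps ι s x j '' ((Finset.range 512).filter fun k => f k = true) := by
    ext g
    simp only [Set.mem_setOf_eq, h.mem_T, Finset.coe_filter, Finset.mem_range, Set.mem_image]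
    constructor
    · rintro ⟨⟨u, hu, rfl⟩, hp⟩
      exact ⟨u, ⟨hu, (hf u hu).1 hp⟩, rfl⟩
    · rintro ⟨u, ⟨hu, hp⟩, rfl⟩
      exact ⟨⟨u, hu, rfl⟩, (hf u hu).2 hp⟩
  rw [this, Set.ncard_image_of_injOn, Set.ncard_coe_finset, cnt_eq]
  intro u hu v hv huv
  simp only [Finset.coe_filter, Finset.mem_range, Set.mem_setOf_eq] at hu hv
  exact h.ps_inj hu.1 hv.1 huv

theorem Cand.card_T (h : Cand t ι s x j pp d k) : Nat.card h.T = 512 := by
  have := h.ncard_T (fun _ => True) (fun _ => true) (by simp)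
  rw [cnt_eq] at this
  simp only [and_true, Finset.filter_true, Finset.card_range] at this
  rw [← this]; rfl

theorem Cand.T_le (h : Cand t ι s x j pp d k) : h.T ≤ centralizer {t} := by
  rintro _ ⟨u, -, rfl⟩
  exact mem_centralizer_singleton_iff.2 (h.ps_cent u)

theorem Cand.sylT (h : Cand t ι s x j pp d k) : SylIn 2 h.T (centralizer {t}) := by
  refine sylIn_of_not_dvd h.T_le (IsPGroup.of_card (n := 9) h.card_T) ?_
  have := (h.T.subgroupOf (centralizer {t})).card_mul_index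
  rw [Nat.card_congr (subgroupOfEquivOfLe h.T_le).toEquiv, h.card_T, h.card] at this
  rw [relIndex]
  omega

omit [Finite G] in
theorem Cand.eq_iff (h : Cand t ι s x j pp d k) {u v : ℕ} (hu : u < 512) (hv : v < 512) :
    ps ι s x j u = ps ι s x j v ↔ u = v := ⟨h.ps_inj hu hv, fun h => h ▸ rfl⟩

omit [Finite G] in
theorem Cand.cm_iff (h : Cand t ι s x j pp d k) {u v : ℕ} (hu : u < 512) (hv : v < 512) :
    cmT pp d k u v = true ↔ ps ι s x j u * ps ι s x j v = ps ι s x j v * ps ι s x j u := by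
  rw [← h.ps_mul hu hv, ← h.ps_mul hv hu, h.eq_iff (mT_lt ..) (mT_lt ..), cmT, nbeq]

theorem Cand.card_cm (h : Cand t ι s x j pp d k) {u : ℕ} (hu : u < 512) :
    Nat.card ↥(h.T ⊓ centralizer {ps ι s x j u}) = cnt 512 (cmT pp d k u) := by
  rw [← h.ncard_T (fun g => g ∈ centralizer {ps ι s x j u}) _ fun v hv => by
    rw [h.cm_iff hu hv, mem_centralizer_singleton_iff, eq_comm]]
  rfl

omit [Finite G] in
theorem inf_mul_t {T : Subgroup G} (hT : T ≤ centralizer {t}) (y : G) :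
    T ⊓ centralizer {y * t} = T ⊓ centralizer {y} := by
  ext g
  simp only [mem_inf, mem_centralizer_singleton_iff]
  refine and_congr_right fun hg => ?_
  rw [mul_assoc, ← mem_centralizer_singleton_iff.1 (hT hg), ← mul_assoc, ← mul_assoc,
    mul_left_inj]

omit [Finite G] in
theorem Cand.inner_conj (h : Cand t ι s x j pp d k) (h16 : mT pp d k 16 16 = 0) {v : G}
    (hv : v ∈ ι.range) (v2 : v * v = 1) (v1 : v ≠ 1) (vt : v ≠ t) :
    ∃ n, ι n * v * (ι n)⁻¹ = ps ι s x j 16 ∨ ι n * v * (ι n)⁻¹ = ps ι s x j 16 * t := by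
  haveI : Fact (Nat.Prime 2) := ⟨by norm_num⟩
  obtain ⟨m, rfl⟩ := hv
  have q4 : (rv s x 7 ^ 2) ^ 2 = 1 := by rw [← pow_mul, h.z4 _ (h.cen 7)]
  have h1 : ∀ z ∈ center M, z * z = 1 → z = 1 ∨ ι z = t := fun z hz z2 => by
    by_cases z1 : z = 1
    · exact Or.inl z1
    · exact Or.inr (by rw [h.cov.sq_eq hz (pow_mem (h.cen 7) 2) (by rw [sq, z2]) q4 z1
        fun h1 => h.t_ne (by rw [← h.tq, h1, map_one]), h.tq])
  have m2 : m * m = 1 := h.inj (by rw [map_mul, v2, map_one])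
  have h2 : ps ι s x j 16 = ι (gT s x 16) := by simp [ps]
  have h3 : gT s x 16 * gT s x 16 = 1 := h.inj (by
    rw [map_mul, ← h2, ← h.ps_mul (by norm_num) (by norm_num), h16, ps_zero, map_one])
  obtain ⟨n, hn⟩ := isConj_iff.1 (h.cov.inv (mq M m) (mq M (gT s x 16))
    (orderOf_eq_prime (by rw [sq, ← map_mul, m2, map_one]) fun h4 =>
      (h1 m (mq_eq_one.1 h4) m2).elim (fun h5 => v1 (by rw [h5, map_one])) vt)
    (orderOf_eq_prime (by rw [sq, ← map_mul, h3, map_one]) fun h4 => absurd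
      (h.gT_inj h.cov (l := 16) (m := 0) (by norm_num) (by norm_num) (by rw [h4, gT_zero, map_one]))
      (by norm_num)))
  obtain ⟨n, rfl⟩ := QuotientGroup.mk'_surjective _ n
  rw [← inv_mul_eq_one, ← map_inv, ← map_mul, ← map_mul, ← map_inv, ← map_mul, mq_eq_one] at hn
  have h4 : gT s x 16 = n * m * n⁻¹ * ((n * m * n⁻¹)⁻¹ * gT s x 16) := by group
  generalize (n * m * n⁻¹)⁻¹ * gT s x 16 = z at hn h4
  have h5 : z * z = 1 := by
    rw [h4, mul_assoc, ← mul_assoc z, ← mem_center_iff.1 hn, mul_assoc _ z, ← mul_assoc,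
      show n * m * n⁻¹ * (n * m * n⁻¹) = n * (m * m) * n⁻¹ by group, m2] at h3
    simpa using h3
  refine ⟨n, (h1 z hn h5).imp (fun h6 => ?_) fun h6 => ?_⟩
  · rw [h2, h4, h6]; simp
  · rw [h2, h4, map_mul, h6, mul_assoc _ t, h.tt]; simp

theorem Cand.fusion [IsSimpleGroup G] (h : Cand t ι s x j pp d k) (hp : pp < 2) (hk : k < 4) :
    pp = 1 ∧ d = 3 ∧ k = 0 ∧
      ∃ g, g * ps ι s x j 16 * g⁻¹ = t ∧ g * t * g⁻¹ = ps ι s x j 16 := by
  obtain ⟨sv, on, hc, hon⟩ := chk_all hp h.d0 h.d4 hk (by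
    obtain ⟨f, fs, fx, hf⟩ := h.exists_aut
    have h1 := hf (rv s x 7 ^ k)
    rw [map_pow f, (h.map_pq (by have := h.d4; omega) fs fx).2, h.zT_ch h.hp, ← h.jj,
      ← mul_assoc, mul_left_inj, h.jj, ← pow_mul] at h1
    have h2 := h.inj h1
    rw [pow_eq_pow_iff_modEq, h.q_ord, Nat.ModEq, Nat.mod_eq_of_lt hk] at h2
    exact h2.symm)
  simp only [chkK, lit_eq, and2_true, allF_true, nbeq, imp2_true, or2_true, nq_true, lt_true,
    Nat.ble_eq, anyL_true] at hc
  generalize nth 0 SQL _ = S at hc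
  obtain ⟨hS, hsv, hc⟩ := hc
  have hm := @h.ps_mul
  have t128 := h.ps_128
  obtain ⟨d0, d1, d2, d3⟩ := not_isol h.ht fun h1 => by
    rcases (inferInstance : (center G).Normal).eq_bot_or_eq_top with h2 | h2
    · exact h.t_ne (by simpa [h2] using h1)
    · exact h.s_ne h.cov (mem_center_iff.2 fun g => h.inj (by
        rw [map_mul, map_mul]; exact mem_center_iff.1 (h2 ▸ mem_top (ι s)) _))
  have tT : t ∈ h.T := ⟨128, by norm_num, t128⟩
  obtain ⟨_, g, ⟨a, ha, rfl⟩, a1, a2, a3, hmax⟩ := fus_iso h.sylT tT h.tt d1 d2 d3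
  obtain ⟨b, hb, b2⟩ : g * t * g⁻¹ ∈ h.T := (a3.le (conj_mem_cj (show t ∈ _ from
    ⟨tT, mem_centralizer_singleton_iff.2 (h.ps_cent a).symm⟩))).1
  rw [← b2] at a3
  have key : ∀ c < 512, IsConj t (ps ι s x j c) → ps ι s x j c ≠ t →
      pk S 9 c = 0 ∧ c ≠ 0 ∧ c ≠ 128 := fun c hc c1 c2 => by
    obtain ⟨n, hn⟩ := isConj_iff.1 c1
    refine ⟨?_, ?_, ?_⟩
    · rw [← hS c hc, ← h.eq_iff (mT_lt ..) (by norm_num), hm hc hc, ps_zero, ← hn,
        show n * t * n⁻¹ * (n * t * n⁻¹) = n * (t * t) * n⁻¹ by group, h.tt]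
      simp
    · rintro rfl
      exact h.t_ne (by simpa [ps_zero] using hn)
    · rintro rfl
      exact c2 t128
  have hf : ∀ c < 512, fR h.T (ps ι s x j c) = cnt 512 fun u => Nat.beq (pk S 9 u) c :=
    fun c hc => h.ncard_T _ _ fun u hu => by
      rw [← hm hu hu, h.eq_iff (mT_lt ..) hc, hS u hu, nbeq]
  have hg : ∀ c < 512, gR h.T t (ps ι s x j c) =
      cnt 512 fun u => and2 (Nat.beq (pk S 9 u) 128) (cmT pp d k c u) :=
    fun c hc => h.ncard_T _ _ fun u hu => by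
      rw [and2_true, h.cm_iff hc hu, ← hm hu hu, ← t128, h.eq_iff (mT_lt ..) (by norm_num),
        hS u hu, nbeq]
  have ca : IsConj t (ps ι s x j a) := (isConj_iff.2 ⟨g, a2⟩).symm
  have cb : IsConj t (ps ι s x j b) := isConj_iff.2 ⟨g, b2.symm⟩
  have b1 : ps ι s x j b ≠ t := fun h1 => a1 (by simpa using a2.trans (h1.symm.trans b2))
  have i1 := fg_le h.T_le a2 b2.symm (a3.le.trans inf_le_left)
  have i2 := fg_le (h := g⁻¹) (a := ps ι s x j b) (b := ps ι s x j a) h.T_le (by rw [b2]; group)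
    (by rw [← a2]; group) (by rw [← a3, cj_inv_cj]; exact inf_le_left)
  have ka := hc a ha (key a ha ca a1)
  have kb := hc b hb (key b hb cb b1)
  rw [← hf a ha, ← hg a ha] at ka
  rw [← hf b hb, ← hg b hb] at kb
  have ka' := ka.2 (by omega)
  have kb' := (kb.2 (by omega)).2
  clear ka kb
  obtain ⟨hsv', ka⟩ := ka'
  have kb := kb'
  subst hsv'
  obtain ⟨⟨s1, s2⟩, s3, s4⟩ := hsv rfl
  have s5 : ps ι s x j 144 = ps ι s x j 16 * t := by
    rw [← s2, hm (by norm_num) (by norm_num), t128]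
  have s6 : ∀ c, c = 16 ∨ c = 144 → h.T ⊓ centralizer {ps ι s x j c} =
      h.T ⊓ centralizer {ps ι s x j 16} := by
    rintro c (rfl | rfl)
    exacts [rfl, by rw [s5, inf_mul_t h.T_le]]
  have s7 : ∀ c < 512, ¬ c < 256 →
      ps ι s x j 64 * ps ι s x j c = ps ι s x j c * t * ps ι s x j 64 := fun c hc c1 => by
    rw [← t128, ← hm hc (by norm_num), ← hm (mT_lt ..) (by norm_num), ← hm (by norm_num) hc,
      (s4 c hc).resolve_left c1]
  rw [← h.card_cm (by norm_num)] at s3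
  rcases ka with ⟨ka, -⟩ | ⟨⟨k1, k2⟩, m, hm0, k3, ⟨k4, k5⟩, k6⟩
  · rcases kb with ⟨kb, rfl | ⟨k1, k2⟩⟩ | ⟨⟨-, k2⟩, -⟩
    · obtain ⟨rfl, rfl, rfl⟩ := hon rfl rfl
      refine ⟨rfl, rfl, rfl, ?_⟩
      have u1 : ps ι s x j 2 * ps ι s x j 16 * (ps ι s x j 2)⁻¹ = ps ι s x j 144 := by
        rw [mul_inv_eq_iff_eq_mul, ← hm (by norm_num) (by norm_num),
          ← hm (by norm_num) (by norm_num)]
        exact congrArg _ (by decide +kernel)
      have u2 : ps ι s x j 2 * t * (ps ι s x j 2)⁻¹ = t := by rw [h.ps_cent]; group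
      generalize ps ι s x j 2 = τ at u1 u2
      have u3 : τ⁻¹ * t * τ = t := by
        conv_lhs => rw [← u2]
        group
      rcases ka with rfl | rfl <;> rcases kb with rfl | rfl
      · exact ⟨g, a2, b2.symm⟩
      · refine ⟨τ⁻¹ * g, ?_, ?_⟩
        · calc _ = τ⁻¹ * (g * ps ι s x j 16 * g⁻¹) * τ := by group
            _ = t := by rw [a2, u3]
        · calc _ = τ⁻¹ * (g * t * g⁻¹) * τ := by group
            _ = _ := by rw [← b2, ← u1]; group
      · refine ⟨g * τ, by rw [← a2, ← u1]; group, ?_⟩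
        calc _ = g * (τ * t * τ⁻¹) * g⁻¹ := by group
          _ = _ := by rw [u2, b2]
      · refine ⟨τ⁻¹ * g * τ, ?_, ?_⟩
        · calc _ = τ⁻¹ * (g * (τ * ps ι s x j 16 * τ⁻¹) * g⁻¹) * τ := by group
            _ = t := by rw [u1, a2, u3]
        · calc _ = τ⁻¹ * (g * (τ * t * τ⁻¹) * g⁻¹) * τ := by group
            _ = _ := by rw [u2, ← b2, ← u1]; group
    · exfalso
      have z2 : ps ι s x j 64 * ps ι s x j 64 = t := by rw [ps_64, ← map_mul, ← sq, h.tq]
      have z3 : ∀ c < 256, ps ι s x j 64 * ps ι s x j c = ps ι s x j c * ps ι s x j 64 :=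
        fun c hc => by
          obtain ⟨m, hm⟩ := (h.ps_mem (u := c) (by omega)).2 hc
          rw [← hm, ps_64, ← map_mul, ← map_mul, mem_center_iff.1 (h.cen 7)]
      obtain ⟨u, hu, u1⟩ := (a3.le (conj_mem_cj (show ps ι s x j 64 ∈ _ from ⟨⟨64, by norm_num, rfl⟩,
        mem_centralizer_singleton_iff.2 (z3 a (by omega))⟩))).1
      obtain ⟨k3, k4⟩ := k2 u hu (by
        rw [← hS u hu, ← h.eq_iff (mT_lt ..) hb, hm hu hu, u1, b2, ← z2]; group)
      have h1 : ps ι s x j 10 ∈ cj g (h.T ⊓ centralizer {ps ι s x j a}) := by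
        rw [a3, s6 b kb]
        exact ⟨⟨10, by norm_num, rfl⟩, mem_centralizer_singleton_iff.2
          ((h.cm_iff (by norm_num) (by norm_num)).1 k1).symm⟩
      obtain ⟨y, hy, y1⟩ := (mem_cj.1 h1).1
      have y2 : ps ι s x j 10 = g * ps ι s x j y * g⁻¹ := by rw [y1]; group
      by_cases y3 : y < 256
      · refine k3 (h.ps_inj (mT_lt ..) (mT_lt ..) ?_)
        rw [hm (by norm_num) hu, hm hu (by norm_num), u1, y2]
        calc _ = g * (ps ι s x j y * ps ι s x j 64) * g⁻¹ := by group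
          _ = _ := by rw [← z3 y y3]; group
      · refine k4 (h.ps_inj (mT_lt ..) (by norm_num) ?_)
        rw [hm (mT_lt ..) hu, hm hu (by norm_num), u1, y2]
        calc _ = g * (ps ι s x j 64 * ps ι s x j y * ps ι s x j 64) * g⁻¹ := by group
          _ = _ := by rw [s7 y hy y3, mul_assoc _ _ (ps ι s x j 64), z2, mul_assoc _ t, h.tt, mul_one]
    · exfalso
      rw [← h.card_cm hb, ← a3, card_cj, s6 a ka] at k2
      omega
  · exfalso
    rw [← h.card_cm ha] at k2
    have H : ∀ v ∈ ι.range, IsConj t v → v = t := fun v hv v1 => by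
      by_contra v2
      obtain ⟨w, hw⟩ := isConj_iff.1 v1
      obtain ⟨n, hn⟩ := h.inner_conj ((hS 16 (by norm_num)).trans s1) hv
        (by rw [← hw, show w * t * w⁻¹ * (w * t * w⁻¹) = w * (t * t) * w⁻¹ by group, h.tt]; simp)
        (fun h1 => h.t_ne (by simpa [h1] using hw)) v2
      rw [← s5] at hn
      obtain ⟨c, c1, c2⟩ : ∃ c, (c = 16 ∨ c = 144) ∧ ι n * v * (ι n)⁻¹ = ps ι s x j c :=
        hn.elim (fun h => ⟨_, Or.inl rfl, h⟩) fun h => ⟨_, Or.inr rfl, h⟩
      have := hmax _ ⟨c, show c < 512 by omega, rfl⟩ (v1.trans (isConj_iff.2 ⟨_, c2⟩)) fun h1 => by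
        have := h.ps_inj (by omega) (by norm_num) (h1.trans t128.symm)
        omega
      rw [s6 c c1] at this
      omega
    have m0 : m < 512 := by
      simp only [List.mem_cons, List.not_mem_nil, or_false] at hm0
      omega
    have m2 : ps ι s x j m * ps ι s x j m = 1 := by rw [← hm m0 m0, hS m m0, k3, ps_zero]
    have e0 := mT_lt pp d k (mT pp d k m a) m
    have e1 : ps ι s x j (mT pp d k (mT pp d k m a) m) =
        ps ι s x j m * ps ι s x j a * (ps ι s x j m)⁻¹ := by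
      rw [hm (mT_lt ..) m0, hm m0 ha, inv_eq_of_mul_eq_one_right m2]
    generalize mT pp d k (mT pp d k m a) m = e at e0 e1 k4 k5 k6
    have ce : IsConj t (ps ι s x j e) := ca.trans (isConj_iff.2 ⟨_, e1.symm⟩)
    have aM : ps ι s x j a ∉ ι.range := by rw [h.ps_mem ha]; omega
    have eM : ps ι s x j e ∉ ι.range := fun h1 => a1 (by
      have h2 := e1.symm.trans (H _ h1 ce)
      rw [mul_inv_eq_iff_eq_mul, ← h.ps_cent] at h2
      exact mul_left_cancel h2)
    obtain ⟨y, hy, y1⟩ := (a3.le (conj_mem_cj (show ps ι s x j e ∈ _ from ⟨⟨e, e0, rfl⟩,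
      mem_centralizer_singleton_iff.2 ((h.cm_iff ha e0).1 k6).symm⟩))).1
    have cy : IsConj t (ps ι s x j y) := ce.trans (isConj_iff.2 ⟨g, y1.symm⟩)
    have y2 : ¬ y < 256 := fun y2 => k4 (h.ps_inj e0 ha (by
      simpa using (y1.symm.trans (H _ ((h.ps_mem hy).2 y2) cy)).trans a2.symm))
    have y3 : IsConj t (ps ι s x j e * ps ι s x j a) := (cy.trans (isConj_iff.2
      ⟨ps ι s x j 64, by rw [s7 y hy y2, mul_inv_cancel_right]⟩)).trans
        (isConj_iff.2 ⟨g⁻¹, by rw [y1, ← a2]; group⟩)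
    refine k5 (h.ps_inj e0 (mT_lt ..) ?_)
    have a4 : ps ι s x j a * ps ι s x j a = 1 := by
      rw [← hm ha ha, hS a ha, (key a ha ca a1).1, ps_zero]
    rw [hm ha (by norm_num), t128, h.ps_cent,
      ← H _ (h.idx _ _ (h.ps_cent e) (h.ps_cent a) eM aM) y3, mul_assoc, a4, mul_one]

end H14.On
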