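import Mathlib
import Cfsg.Agent.H14.OnFus

/-! Words in the centraliser of the involution. -/

set_option autoImplicit false

namespace H14.On

open H29 H7.Cay H22 Subgroup

/-- the parts of the letters in the covering group. -/
def CA : List (List ℕ) := [[1, 0, 1, 0, 2, 0, 2, 2, 2, 0, 2, 0, 1, 0, 1],
  [0, 1, 0, 2, 2, 2, 0, 1, 0, 1, 1, 1, 0], [2, 0, 1, 1, 1, 0, 1, 0, 2, 2, 2, 0, 1, 0, 1],
  [1, 0, 1, 0, 2, 0, 2, 2, 2, 0, 2, 0, 1, 0, 1], [],
  [0, 1, 1, 0, 1, 1, 0, 1, 1, 0, 1, 1, 0, 1, 1, 0, 1, 1, 0, 1, 1],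
  [0, 2, 0, 1, 1, 0, 2, 2, 0, 1, 0, 2, 0, 1, 1], [2, 0, 1, 1, 1, 0, 1, 0, 2, 2, 0, 1, 0, 2, 0, 2, 0],
  [0], [1], [2], []]

/-- their images under the outer automorphism. -/
def CB : List (List ℕ) := [[1, 0, 1, 0, 2, 0, 2, 2, 2, 0, 2, 0, 1, 0, 1],
  [1, 1, 1, 0, 2, 0, 1, 0, 1, 1, 1, 0, 1, 0, 2, 0, 1, 1],
  [0, 2, 0, 1, 1, 1, 0, 2, 2, 0, 1, 1, 0, 2, 2, 2, 0, 1, 0],
  [1, 0, 1, 0, 2, 0, 2, 2, 2, 0, 2, 0, 1, 0, 1], [],
  [0, 1, 1, 0, 1, 1, 0, 1, 1, 0, 1, 1, 0, 1, 1, 0, 1, 1, 0, 1, 1],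
  [0, 1, 0, 1, 0, 2, 0, 1, 1, 0, 2, 0, 2, 2, 2, 0, 1], [2, 2, 0, 1, 0, 2, 0, 1, 1, 0, 2, 2, 0, 1, 0],
  [0, 1, 0, 1, 0, 2, 0, 2, 2, 2, 0, 2, 0, 1, 0, 1],
  [2, 0, 1, 1, 1, 0, 2, 0, 1, 1, 0, 2, 2, 2, 0, 1, 0],
  [0, 2, 0, 1, 1, 1, 0, 2, 2, 0, 1, 0, 2, 2, 2, 0, 1], []]

/-- the canonical form. -/
def cn (n e : ℕ) : ℕ := Nat.add (Nat.add (Nat.mod n 32768)
  (Nat.mul 32768 (Nat.mod (ch 1 (Nat.div n 32768)) 4))) (Nat.mul 131072 e)

/-- multiply by a word. -/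
noncomputable def evC (w : List ℕ) : ℕ → ℕ → ℕ :=
  List.rec (motive := fun _ => ℕ → ℕ → ℕ) cn (fun c _ ih n e =>
    lit (run (Bool.rec (nth [] CB c) (nth [] CA c) (Nat.beq e 0)) n) fun n' =>
      lit (Nat.xor e (pk 2248 1 c)) (ih n')) w

/-- test of the equality of two words. -/
noncomputable def weC (u w : List ℕ) : Bool := Nat.beq (evC u 0 0) (evC w 0 0)

/-- test of the equality of a word and a code. -/
noncomputable def wT (w : List ℕ) (u : ℕ) : Bool := Nat.beq (evC w 0 0)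
  (lit (stz (sl (Nat.mod u 64)) (Nat.mul 64 (Nat.mod (Nat.div u 64) 4))) fun n =>
    cn n (Nat.div u 256))

theorem chkCB : (allF 12 fun c => Nat.beq (lit (rd 3 (nth [] CA c)) fun n => cn n 0)
    (evC [c] 0 1 % 131072)) = true := by decide +kernel

variable {G : Type*} [Group G] {M : Type*} [Group M] {s x : M} {t j : G} {ι : M →* G}

/-- the letters. -/
noncomputable def sg0 (ι : M →* G) (s x : M) (j : G) (c : ℕ) : G :=
  ι (ev (el s x) (nth [] CA c)) * j ^ pk 2248 1 c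

/-- the element with a given canonical form. -/
noncomputable def PhC (ι : M →* G) (s x : M) (j : G) (N : ℕ) : G :=
  ι (Ph s x (N % 32768) * rv s x 7 ^ (N / 32768 % 4)) * j ^ (N / 131072)

theorem Cand.PhC_cn (h : Cand t ι s x j 1 3 0) (n e : ℕ) :
    PhC ι s x j (cn n e) = ι (Ph s x n) * j ^ e := by
  have e1 : cn n e = n % 32768 + 32768 * (ch 1 (n / 32768) % 4) + 131072 * e := rfl
  rw [Ph_split' n h.toRel, h.zT_ch h.hp, pow_eq_pow_mod _ (h.z4 _ (h.cen 7)), e1]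
  generalize ch 1 (n / 32768) = a
  rw [PhC, show (n % 32768 + 32768 * (a % 4) + 131072 * e) % 32768 = n % 32768 by omega,
    show (n % 32768 + 32768 * (a % 4) + 131072 * e) / 32768 % 4 = a % 4 by omega,
    show (n % 32768 + 32768 * (a % 4) + 131072 * e) / 131072 = e by omega]

theorem Cand.j2 (h : Cand t ι s x j 1 3 0) : j * j = 1 := by simpa using h.jj

theorem Cand.j_CA (h : Cand t ι s x j 1 3 0) (c : ℕ) :
    j * ι (ev (el s x) (nth [] CA c)) = ι (ev (el s x) (nth [] CB c)) * j := by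
  by_cases hc : c < 12
  · obtain ⟨f, fs, fx, hf⟩ := h.exists_aut
    have h1 := congrArg (PhC ι s x j) (nbeq.1 (allF_true.1 chkCB c hc))
    have h2 : ∀ n e, cn n e % 131072 = cn n 0 := fun n e => by
      change (n % 32768 + 32768 * (_ % 4) + 131072 * e) % 131072 =
        n % 32768 + 32768 * (_ % 4) + 131072 * 0
      omega
    rw [show evC [c] 0 1 = cn (run (nth [] CB c) 0) (Nat.xor 1 (pk 2248 1 c)) from rfl, h2, lit_eq,
      h.PhC_cn, h.PhC_cn, (h.run_zero _).2] at h1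
    rw [hf, h.map_ev (by norm_num) fs fx
      (nth_forall (p := fun w : List ℕ => ∀ c ∈ w, c < 3) (by simp) (by decide) c)]
    simpa using h1
  · rw [nth_default _ (by simpa [CA] using hc), nth_default _ (by simpa [CB] using hc)]
    simp

theorem Cand.evC_spec (h : Cand t ι s x j 1 3 0) : ∀ (w : List ℕ) {n e : ℕ}, V n → e < 2 →
    PhC ι s x j (evC w n e) = ι (Ph s x n) * j ^ e * ev (sg0 ι s x j) w
  | [], n, e, _, _ => by rw [ev_nil, mul_one]; exact h.PhC_cn n e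
  | c :: w, n, e, hn, he => by
    have h1 := h.run_spec (Bool.rec (nth [] CB c) (nth [] CA c) (Nat.beq e 0)) hn
    have h2 := pk_lt 2248 1 c
    rw [show evC (c :: w) n e = evC w (run (Bool.rec (nth [] CB c) (nth [] CA c) (Nat.beq e 0)) n)
      (e ^^^ pk 2248 1 c) from rfl, h.evC_spec w h1.1 (Nat.xor_lt_two_pow (n := 1) he h2), h1.2,
      ev_cons, ← mul_assoc, sg0, map_mul]
    congr 1
    generalize pk 2248 1 c = b at h2
    interval_cases e
    · simp [mul_assoc]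
    · simp only [show Nat.beq 1 0 = false from rfl, pow_one, mul_assoc]
      rw [← mul_assoc j, h.j_CA, mul_assoc]
      interval_cases b <;> simp [h.j2]

theorem Cand.evC_zero (h : Cand t ι s x j 1 3 0) (w : List ℕ) :
    PhC ι s x j (evC w 0 0) = ev (sg0 ι s x j) w := by
  simpa [Ph_zero] using h.evC_spec w V_zero (e := 0) (by norm_num)

theorem Cand.weC (h : Cand t ι s x j 1 3 0) {u w : List ℕ} (h1 : weC u w = true) :
    ev (sg0 ι s x j) u = ev (sg0 ι s x j) w := by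
  rw [← h.evC_zero, nbeq.1 h1, h.evC_zero]

theorem Cand.wT (h : Cand t ι s x j 1 3 0) {w : List ℕ} {u : ℕ} (h1 : wT w u = true) :
    ev (sg0 ι s x j) w = ps ι s x j u := by
  have h2 : u / 64 % 4 < 4 := Nat.mod_lt _ (by norm_num)
  rw [← h.evC_zero, nbeq.1 h1, lit_eq, h.PhC_cn]
  simp only [nmod, ndiv, Nat.mul_eq]
  rw [(h.stz_spec (u := 64 * (u / 64 % 4))
    (sl_V (Nat.mod_lt _ (by norm_num))) (by omega)).2, h.zT_ch h.hp, ps,
    pow_eq_pow_mod (u / 64) (h.z4 _ (h.cen 7)), pow_eq_pow_mod _ (h.z4 _ (h.cen 7))]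
  generalize u / 64 % 4 = a at h2
  rw [show ch 1 (64 * a) % 4 = a by interval_cases a <;> rfl]
  rfl

theorem sg0_el {w : List ℕ} (hw : ∀ c ∈ w, c < 3) :
    ev (sg0 ι s x j) (w.map (· + 8)) = ι (ev (el s x) w) := by
  induction w with
  | nil => simp
  | cons c w ih =>
    have hc := hw c (by simp)
    rw [List.map_cons, ev_cons, ev_cons, map_mul, ih fun c hc => hw c (by simp [hc])]
    congr 1
    have h1 : nth [] CA (c + 8) = [c] ∧ pk 2248 1 (c + 8) = 0 := by interval_cases c <;> decide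
    rw [sg0, h1.1, h1.2]
    simp

theorem Cand.sg0_cent (h : Cand t ι s x j 1 3 0) (w : List ℕ) :
    ev (sg0 ι s x j) w * t = t * ev (sg0 ι s x j) w :=
  mem_centralizer_singleton_iff.1 (ev_mem fun _ _ => mem_centralizer_singleton_iff.2
    (Commute.mul_left (h.ct _) (Commute.pow_left h.jc _)))

end H14.On
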