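import Mathlib
import Cfsg.Agent.H14.OnE

/-! The action of the fusing element on the subgroup `4³`. -/

set_option autoImplicit false

namespace H14.On

open H29 H7.Cay H22 Subgroup

/-- product of codes. -/
noncomputable def mu (u v : ℕ) : ℕ := lit u fun u => lit v fun v => mT 1 3 0 u v

/-- commutation of codes. -/
noncomputable def cm (u v : ℕ) : Bool := Nat.beq (mu u v) (mu v u)

/-- the code of a vector. -/
def io (i : ℕ) : ℕ := pk 0x25029948a1fbfd7e7f2d069b49a17bbd5e6f7aad4ea35782c0e03072a94ca2570280c020350a9d4aa0fb7d3e5f3d0e9f4ba07b3d1e4f6aa54aa1568240a01062a148a05602008000 9 i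

/-- the vector of a code. -/
def co (u : ℕ) : ℕ := pk 0xe80000015000000bc000002bc8000001d0000009c00000236800000350000003c000000b48000003d0000001c0000003e40000014000000b8000002ac4000001c00000098000002264000003400000038000000a44000003c000000180000002e00000017000000b40000029c0000001f00000094000002160000003700000034000000940000003f000000140000001ec0000016000000b00000028cc000001e0000009000000206c00000360000003000000084c000003e000000100000000 6 u

/-- multiple of a vector. -/
def sc (k u : ℕ) : ℕ := pk 0x5565d465a6d875e7dc4524d09669e4a6aae8b6ebec8628e0d76df4e7aef8f7effcc72cf01461c424a2c834e3cc0420c0aa8aa88a08a0aa8aa88a08a0288288080080288288080080aa8aa88a08a0aa8aa88a08a0288288080080288288080080ffef7cefae78df6d74cf2c70beeb6caeaa689e69648e28607de75c6da6585d65544d24503ce34c2ca2481c61440c2040000000000000000000000000000000000000000000000000000000000000000000000000000000000000000000000000 6 (Nat.add (Nat.mul 64 k) u)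

/-- a matrix applied to a vector. -/
noncomputable def lin (X i : ℕ) : ℕ :=
  lit (sc (Nat.mod i 4) (pk X 6 0)) fun a => lit (sc (Nat.mod (Nat.div i 4) 4) (pk X 6 1)) fun b =>
    lit (sc (Nat.mod (Nat.div i 16) 4) (pk X 6 2)) fun c => lit (addZ a b) fun d => addZ d c

theorem chkW : (allF 64 fun i => and2 (and2 (Nat.beq (co (io i)) i) (Nat.beq (lin 65793 i) i))
    (and2 (and2 (Nat.beq (sc 0 i) 0) (allF 3 fun k => Nat.beq (sc (Nat.succ k) i) (addZ (sc k i) i)))
      (allF 64 fun k => lit (addZ i k) fun l => and2 (and2 (lt l 64) (Nat.beq l (addZ k i)))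
        (Nat.beq (io l) (mu (io i) (io k)))))) = true := by decide +kernel

theorem chkT : (allF 512 fun u => and2 (or2 (cm u 16) (Nat.beq (mu u 16) (mu 144 u)))
    (imp2 (cm u 16) (and2 (imp2 (cm u 32) (Nat.beq (io (co u)) u))
      (lit (mu u u) fun v => Nat.beq (io (co v)) v)))) = true := by decide +kernel

/-- the matrices of four elements. -/
def XL : List ℕ := [234369, 90883, 104769, 254977]

/-- a word applied to a vector. -/
noncomputable def apW (X : ℕ) (w : List ℕ) (i : ℕ) : ℕ :=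
  List.rec (motive := fun _ => ℕ) i (fun c _ ih => lit ih (lin (nth X XL c))) w

/-- a word that is trivial modulo 2 is trivial. -/
noncomputable def okW (X : ℕ) (w : List ℕ) : Bool :=
  lit (apW X w 1) fun a => imp2 (Nat.beq (addZ a a) 2) (lit (apW X w 4) fun b =>
    imp2 (Nat.beq (addZ b b) 8) (lit (apW X w 16) fun c => imp2 (Nat.beq (addZ c c) 32)
      (and2 (Nat.beq a 1) (and2 (Nat.beq b 4) (Nat.beq c 16)))))

theorem chk1 : (allF 64 fun a => imp2 (Nat.beq (addZ a a) 8) (allF 64 fun b =>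
    imp2 (Nat.beq (addZ b b) 2) (allF 64 fun c => imp2 (allL [0, 2, 8, 10] (nq (addZ c c)))
      (lit (Nat.add (Nat.add a (Nat.mul 64 b)) (Nat.mul 4096 c)) fun X =>
        imp2 (allL [[4, 0, 4, 4, 4, 1], [4, 2, 4, 2, 4, 2], [4, 0, 1, 4], [4, 4], [4, 3, 4, 3, 4, 3],
          [4, 3, 4, 3, 4, 3, 4, 3], [4, 3, 0, 4, 3, 0, 4, 3, 0], [4, 0, 3, 4, 0, 3, 4, 0, 3]] (okW X))
        (anyL [[4], [0, 4], [1, 4], [0, 1, 4]] fun w => and2 (Nat.beq (apW X w 1) 36)
          (and2 (Nat.beq (apW X w 4) 33) (Nat.beq (apW X w 16) 17))))))) = true := by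
  decide +kernel

variable {G : Type*} [Group G] {M : Type*} [Group M] {s x : M} {t j : G} {ι : M →* G}

theorem mu_lt (u v : ℕ) : mu u v < 512 := mT_lt ..

theorem io_lt (i : ℕ) : io i < 512 := pk_lt _ 9 _

theorem sc_lt (k i : ℕ) : sc k i < 64 := pk_lt _ 6 _

theorem co_lt (i : ℕ) : co i < 64 := pk_lt _ 6 _

theorem Cand.ps_mu (h : Cand t ι s x j 1 3 0) {u v : ℕ} (hu : u < 512) (hv : v < 512) :
    ps ι s x j (mu u v) = ps ι s x j u * ps ι s x j v := h.ps_mul hu hv

theorem Cand.mu_eq (h : Cand t ι s x j 1 3 0) {u v u' v' : ℕ} (hu : u < 512) (hv : v < 512)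
    (hu' : u' < 512) (hv' : v' < 512) : mu u v = mu u' v' ↔
      ps ι s x j u * ps ι s x j v = ps ι s x j u' * ps ι s x j v' := by
  rw [← h.ps_mu hu hv, ← h.ps_mu hu' hv', h.eq_iff (mu_lt ..) (mu_lt ..)]

theorem Cand.cm (h : Cand t ι s x j 1 3 0) {u v : ℕ} (hu : u < 512) (hv : v < 512) :
    cm u v = true ↔ ps ι s x j u * ps ι s x j v = ps ι s x j v * ps ι s x j u := by
  rw [On.cm, nbeq, h.mu_eq hu hv hv hu]

theorem Cand.ps_144 (h : Cand t ι s x j 1 3 0) : ps ι s x j 144 = ps ι s x j 16 * t := by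
  rw [← h.ps_128, ← h.ps_mu (by norm_num) (by norm_num)]
  exact congrArg _ (by decide +kernel)

theorem Cand.a2 (h : Cand t ι s x j 1 3 0) : ps ι s x j 16 * ps ι s x j 16 = 1 := by
  rw [← h.ps_mu (by norm_num) (by norm_num), show mu 16 16 = 0 by decide +kernel, ps_zero]

theorem Cand.centV [Finite G] (h : Cand t ι s x j 1 3 0) {g : G} (h1 : g * t = t * g)
    (h2 : g * ps ι s x j 16 = ps ι s x j 16 * g) :
    ∃ u < 512, On.cm u 16 = true ∧ ps ι s x j u = g := by
  have a2 := h.a2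
  have e16 : ps ι s x j 16 = ι (gT s x 16) := by simp [ps]
  have k1 : ∀ g a : G, g * t = t * g → g * (a * t) * g⁻¹ = g * a * g⁻¹ * t := fun g a hg => by
    rw [mul_assoc _ g⁻¹, (show Commute g t from hg).inv_left.eq]; group
  have k2 : ∀ g : G, g * t = t * g → g * ps ι s x j 16 * g⁻¹ = ps ι s x j 16 * t →
      g * (ps ι s x j 16 * t) * g⁻¹ = ps ι s x j 16 := fun g hg h3 => by
    rw [k1 g _ hg, h3, mul_assoc, h.tt, mul_one]
  let K : Subgroup G :=
    { carrier := {g | g * t = t * g ∧ (g * ps ι s x j 16 * g⁻¹ = ps ι s x j 16 ∨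
        g * ps ι s x j 16 * g⁻¹ = ps ι s x j 16 * t)}
      one_mem' := by simp
      mul_mem' := by
        rintro a b ⟨a1, a3⟩ ⟨b1, b3⟩
        refine ⟨Commute.mul_left a1 b1, ?_⟩
        rw [show a * b * ps ι s x j 16 * (a * b)⁻¹ = a * (b * ps ι s x j 16 * b⁻¹) * a⁻¹ by group]
        rcases b3 with b3 | b3 <;> rw [b3]
        · exact a3
        · exact a3.symm.imp (k2 a a1) fun a3 => by rw [k1 a _ a1, a3]
      inv_mem' := by
        rintro a ⟨a1, a3⟩
        refine ⟨Commute.inv_left a1, a3.imp (fun a3 => ?_) fun a3 => ?_⟩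
        · conv_lhs => rw [← a3]
          group
        · conv_lhs => rw [← k2 a a1 a3]
          group }
  have hK : K = h.T := h.sylT.2.2 K (fun g hg => mem_centralizer_singleton_iff.2 hg.1)
    (isPGroup_iff_forall_mem.2 fun g hg => ⟨5, by
      obtain ⟨m, hm⟩ : g * g ∈ ι.range := by
        by_cases h3 : g ∈ ι.range
        exacts [mul_mem h3 h3, h.idx g g hg.1 hg.1 h3 h3]
      have h3 : Commute m (gT s x 16) := h.inj (by
        rw [map_mul, map_mul, hm, ← e16, ← mul_inv_eq_iff_eq_mul, show g * g * ps ι s x j 16 *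
          (g * g)⁻¹ = g * (g * ps ι s x j 16 * g⁻¹) * g⁻¹ by group]
        rcases hg.2 with h4 | h4 <;> rw [h4]
        exacts [h4, k2 g hg.1 h4])
      have h4 := h3.map (mq M)
      have h5 : mq M (gT s x 16) ^ 2 = 1 := by
        rw [← map_pow, sq, h.inj (a₁ := gT s x 16 * gT s x 16) (a₂ := 1)
          (by rw [map_mul, ← e16, a2, map_one]), map_one]
      have h6 : mq M (gT s x 16) ≠ 1 := fun h6 => absurd (h.gT_inj h.cov (l := 16) (m := 0)
        (by norm_num) (by norm_num) (by rw [h6, gT_zero, map_one])) (by norm_num)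
      have h7 : mq M m ^ 4 = 1 := by
        generalize mq M m = y, mq M (gT s x 16) = v at h4 h5 h6
        have h8 : ∀ k l, (y * v) ^ k = 1 → y ^ l = 1 → k * l % 2 = 1 → False := fun k l e1 e2 e3 => by
          have : (y * v) ^ (k * l) = 1 := by rw [pow_mul, e1, one_pow]
          rw [h4.mul_pow, mul_comm k, pow_mul, e2, one_pow, one_mul, pow_eq_pow_mod _ h5, mul_comm,
            e3, pow_one] at this
          exact h6 this
        by_contra h9
        have h10 : (y * v) ^ 4 ≠ 1 := by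
          rwa [h4.mul_pow, show 4 = 2 * 2 from rfl, pow_mul v, h5, one_pow, mul_one]
        rcases h.cov.pw y with e | e | e | e <;> rcases h.cov.pw (y * v) with e' | e' | e' | e' <;>
          first | exact h9 e | exact h10 e' | exact h8 _ _ e' e rfl
      rw [← map_pow, mq_eq_one] at h7
      rw [show 2 ^ 5 = 2 * (4 * 4) from rfl, pow_mul, sq, ← hm, ← map_pow, pow_mul, h.z4 _ h7,
        map_one]⟩)
    (by
      rintro _ ⟨u, hu, rfl⟩
      refine ⟨h.ps_cent u, ?_⟩
      have := (and2_true.1 (allF_true.1 chkT u hu)).1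
      rwa [or2_true, h.cm hu (by norm_num), nbeq, h.mu_eq hu (by norm_num) (by norm_num) hu,
        h.ps_144, ← mul_inv_eq_iff_eq_mul, ← mul_inv_eq_iff_eq_mul] at this)
  obtain ⟨u, hu, rfl⟩ : g ∈ h.T := hK ▸ ⟨h1, Or.inl (mul_inv_eq_iff_eq_mul.2 h2)⟩
  exact ⟨u, hu, (h.cm hu (by norm_num)).2 h2, rfl⟩

/-- the element of `4³` with given coordinates. -/
noncomputable def om (ι : M →* G) (s x : M) (j : G) (i : ℕ) : G := ps ι s x j (io i)

theorem addZ_lt {i k : ℕ} (hi : i < 64) (hk : k < 64) : addZ i k < 64 := by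
  have := allF_true.1 chkW i hi
  simp only [lit_eq, and2_true, lt_true, allF_true, nbeq] at this
  exact (this.2.2 k hk).1.1

theorem lin_lt (X i : ℕ) : lin X i < 64 :=
  addZ_lt (addZ_lt (sc_lt ..) (sc_lt ..)) (sc_lt ..)

theorem Cand.om_add (h : Cand t ι s x j 1 3 0) {i k : ℕ} (hi : i < 64) (hk : k < 64) :
    om ι s x j (addZ i k) = om ι s x j i * om ι s x j k := by
  have := allF_true.1 chkW i hi
  simp only [lit_eq, and2_true, lt_true, allF_true, nbeq] at this
  rw [om, (this.2.2 k hk).2, h.ps_mu (io_lt _) (io_lt _), om, om]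

theorem Cand.om_comm (h : Cand t ι s x j 1 3 0) {i k : ℕ} (hi : i < 64) (hk : k < 64) :
    om ι s x j i * om ι s x j k = om ι s x j k * om ι s x j i := by
  have := allF_true.1 chkW i hi
  simp only [lit_eq, and2_true, lt_true, allF_true, nbeq] at this
  rw [← h.om_add hi hk, ← h.om_add hk hi, ← (this.2.2 k hk).1.2]

theorem Cand.om_inj (h : Cand t ι s x j 1 3 0) {i k : ℕ} (hi : i < 64) (hk : k < 64)
    (h1 : om ι s x j i = om ι s x j k) : i = k := by
  have h2 := allF_true.1 chkW i hi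
  have h3 := allF_true.1 chkW k hk
  simp only [and2_true, nbeq] at h2 h3
  rw [← h2.1.1, h.ps_inj (io_lt _) (io_lt _) h1, h3.1.1]

theorem Cand.om_sc (h : Cand t ι s x j 1 3 0) {i : ℕ} (hi : i < 64) :
    ∀ k < 4, om ι s x j (sc k i) = om ι s x j i ^ k := by
  have := allF_true.1 chkW i hi
  simp only [and2_true, allF_true, nbeq] at this
  intro k
  induction k with
  | zero => exact fun _ => by rw [this.2.1.1, pow_zero]; exact ps_zero
  | succ k ih =>
    intro hk
    rw [this.2.1.2 k (by omega), h.om_add (sc_lt ..) hi, ih (by omega), pow_succ]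

theorem Cand.om_lin (h : Cand t ι s x j 1 3 0) (X i : ℕ) : om ι s x j (lin X i) =
    om ι s x j (pk X 6 0) ^ (i % 4) * om ι s x j (pk X 6 1) ^ (i / 4 % 4) *
      om ι s x j (pk X 6 2) ^ (i / 16 % 4) := by
  have h4 : ∀ a, a % 4 < 4 := fun a => Nat.mod_lt _ (by norm_num)
  rw [← h.om_sc (pk_lt _ 6 _) _ (h4 _), ← h.om_sc (pk_lt _ 6 _) _ (h4 _),
    ← h.om_sc (pk_lt _ 6 _) _ (h4 _), ← h.om_add (sc_lt ..) (sc_lt ..),
    ← h.om_add (addZ_lt (sc_lt ..) (sc_lt ..)) (sc_lt ..)]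
  rfl

/-- `g` acts as the matrix `X`. -/
def Act (ι : M →* G) (s x : M) (j g : G) (X : ℕ) : Prop :=
  ∀ i < 64, g * om ι s x j i * g⁻¹ = om ι s x j (lin X i)

theorem Cand.act_of (h : Cand t ι s x j 1 3 0) {g : G} {X : ℕ}
    (h1 : g * om ι s x j 1 * g⁻¹ = om ι s x j (pk X 6 0))
    (h2 : g * om ι s x j 4 * g⁻¹ = om ι s x j (pk X 6 1))
    (h3 : g * om ι s x j 16 * g⁻¹ = om ι s x j (pk X 6 2)) : Act ι s x j g X := fun i hi => by
  have := allF_true.1 chkW i hi
  simp only [and2_true, nbeq] at this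
  conv_lhs => rw [← this.1.2]
  rw [h.om_lin, h.om_lin, ← h1, ← h2, ← h3, conj_pow, conj_pow, conj_pow]
  change g * (om ι s x j 1 ^ _ * om ι s x j 4 ^ _ * om ι s x j 16 ^ _) * g⁻¹ = _
  group

theorem Cand.actT (h : Cand t ι s x j 1 3 0) {m X : ℕ} (hm : m < 512)
    (h1 : (allF 3 fun r => Nat.beq (mu m (io (4 ^ r))) (mu (io (pk X 6 r)) m)) = true) :
    Act ι s x j (ps ι s x j m) X := by
  simp only [allF_true, nbeq, h.mu_eq hm (io_lt _) (io_lt _) hm, ← mul_inv_eq_iff_eq_mul] at h1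
  exact h.act_of (h1 0 (by norm_num)) (h1 1 (by norm_num)) (h1 2 (by norm_num))

theorem Cand.conjT (h : Cand t ι s x j 1 3 0) {u v w : List ℕ} {a b : ℕ}
    (h1 : On.weC (u ++ v) [] = true) (h2 : On.wT w a = true) (h3 : On.wT (u ++ w ++ v) b = true) :
    ev (sg0 ι s x j) u * ps ι s x j a * (ev (sg0 ι s x j) u)⁻¹ = ps ι s x j b := by
  have h4 := h.weC h1
  rw [ev_append, ev_nil] at h4
  rw [← h.wT h2, ← h.wT h3, ev_append, ev_append, inv_eq_of_mul_eq_one_right h4]

theorem Cand.act_rho (h : Cand t ι s x j 1 3 0) : Act ι s x j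
    (ev (sg0 ι s x j) [1, 2, 3, 2, 7, 1, 6, 1, 2, 3, 2, 1, 3, 2, 7]) 254977 := by
  have h1 : On.weC ([1, 2, 3, 2, 7, 1, 6, 1, 2, 3, 2, 1, 3, 2, 7] ++
    [6, 2, 3, 1, 2, 3, 2, 1, 7, 1, 6, 2, 3, 2, 1]) [] = true := by decide +kernel
  exact h.act_of (h.conjT (w := [6, 3, 7, 3]) h1 (by decide +kernel) (by decide +kernel))
    (h.conjT (w := [2, 3, 2, 6, 3, 7]) h1 (by decide +kernel) (by decide +kernel))
    (h.conjT (w := [3, 2, 6]) h1 (by decide +kernel) (by decide +kernel))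

theorem Cand.act_c (h : Cand t ι s x j 1 3 0) : Act ι s x j (ps ι s x j 1) 234369 :=
  h.actT (by norm_num) (by decide +kernel)

theorem Cand.act_d (h : Cand t ι s x j 1 3 0) : Act ι s x j (ps ι s x j 272) 90883 :=
  h.actT (by norm_num) (by decide +kernel)

theorem Cand.exists_act [Finite G] (h : Cand t ι s x j 1 3 0) {g : G}
    (g1 : g * ps ι s x j 16 * g⁻¹ = t) (g2 : g * t * g⁻¹ = ps ι s x j 16) :
    ∃ g, Act ι s x j g 71780 := by
  have e2 : om ι s x j 2 = t := h.ps_128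
  have e8 : om ι s x j 8 = ps ι s x j 16 := rfl
  have e32 : om ι s x j 32 = ps ι s x j 32 := rfl
  have sq : ∀ (g : G) (i a : ℕ), i < 64 → a < 64 → g * om ι s x j i * g⁻¹ = om ι s x j a →
      g * om ι s x j (addZ i i) * g⁻¹ = om ι s x j (addZ a a) := fun g i a hi ha h1 => by
    rw [h.om_add hi hi, h.om_add ha ha, ← h1]; group
  have hW : ∀ y : G, y * t = t * y → y * ps ι s x j 16 = ps ι s x j 16 * y →
      y * ps ι s x j 32 = ps ι s x j 32 * y → ∃ i < 64, y = om ι s x j i := fun y y1 y2 y3 => by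
    obtain ⟨u, hu, u1, rfl⟩ := h.centV y1 y2
    have := (and2_true.1 (imp2_true.1 (and2_true.1 (allF_true.1 chkT u hu)).2 u1)).1
    exact ⟨_, co_lt u, by rw [om, nbeq.1 (imp2_true.1 this ((h.cm hu (by norm_num)).2 y3))]⟩
  have cj1 : ∀ a b : G, a * b = b * a → g * a * g⁻¹ * (g * b * g⁻¹) = g * b * g⁻¹ * (g * a * g⁻¹) :=
    fun a b hab => by
      calc _ = g * (a * b) * g⁻¹ := by group
        _ = _ := by rw [hab]; group
  obtain ⟨u, hu, u1, u2⟩ := h.centV (g := g⁻¹ * om ι s x j 16 * g) (by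
    have := h.om_comm (i := 16) (k := 8) (by norm_num) (by norm_num)
    rw [e8, ← g2] at this
    calc _ = g⁻¹ * (om ι s x j 16 * (g * t * g⁻¹)) * g := by group
      _ = _ := by rw [this]; group) (by
    have := h.om_comm (i := 16) (k := 2) (by norm_num) (by norm_num)
    rw [e2, ← g1] at this
    calc _ = g⁻¹ * (om ι s x j 16 * (g * ps ι s x j 16 * g⁻¹)) * g := by group
      _ = _ := by rw [this]; group)
  have u3 : g * om ι s x j (co (mu u u)) * g⁻¹ = ps ι s x j 32 := by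
    have := (and2_true.1 (imp2_true.1 (and2_true.1 (allF_true.1 chkT u hu)).2 u1)).2
    rw [lit_eq, nbeq] at this
    rw [om, this, h.ps_mu hu hu, u2, ← e32, show 32 = addZ 16 16 from rfl,
      h.om_add (by norm_num) (by norm_num)]
    group
  have hg : ∀ i < 64, ∃ a < 64, g * om ι s x j i * g⁻¹ = om ι s x j a := fun i hi =>
    hW _ (by rw [← g1]; exact cj1 _ _ (h.om_comm hi (k := 8) (by norm_num)))
      (by rw [← g2]; exact cj1 _ _ (h.ps_cent _))
      (by rw [← u3]; exact cj1 _ _ (h.om_comm hi (co_lt _)))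
  obtain ⟨a, ha, a1⟩ := hg 1 (by norm_num)
  obtain ⟨b, hb, b1⟩ := hg 4 (by norm_num)
  obtain ⟨c, hc, c1⟩ := hg 16 (by norm_num)
  have hX : Act ι s x j g (a + 64 * b + 4096 * c) := by
    refine h.act_of (a1.trans ?_) (b1.trans ?_) (c1.trans ?_) <;> congr 1 <;> rw [pk_eq] <;>
      norm_num <;> omega
  have k1 := imp2_true.1 (allF_true.1 (imp2_true.1 (allF_true.1 (imp2_true.1 (allF_true.1 chk1 a ha)
    (nbeq.2 (h.om_inj (addZ_lt ha ha) (by norm_num) ((sq g 1 a (by norm_num) ha a1).symm.trans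
      (e2 ▸ g2))))) b hb) (nbeq.2 (h.om_inj (addZ_lt hb hb) (by norm_num)
        ((sq g 4 b (by norm_num) hb b1).symm.trans (e2 ▸ g1))))) c hc) (by
    have h1 : g * om ι s x j 32 * g⁻¹ = _ := sq g 16 c (by norm_num) hc c1
    have h2 : ∀ i k, i < 64 → i ≠ 32 → g * om ι s x j i * g⁻¹ = om ι s x j k → addZ c c ≠ k :=
      fun i k hi i1 h2 h3 => i1 (h.om_inj hi (by norm_num) (by
        rw [h3, ← h2] at h1
        exact (mul_left_cancel (mul_right_cancel h1)).symm))
    have e10 : om ι s x j 10 = om ι s x j 8 * om ι s x j 2 :=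
      h.om_add (i := 8) (k := 2) (by norm_num) (by norm_num)
    simp only [allL_true, nq_true, List.forall_mem_cons]
    refine ⟨h2 0 0 (by norm_num) (by norm_num) (by rw [show om ι s x j 0 = 1 from ps_zero]; simp),
      h2 8 2 (by norm_num) (by norm_num) (e2 ▸ g1), h2 2 8 (by norm_num) (by norm_num) (e2 ▸ g2),
      h2 10 10 (by norm_num) (by norm_num) ?_, by simp⟩
    rw [e10, e2, e8, h.ps_cent, show g * (t * ps ι s x j 16) * g⁻¹ =
      g * t * g⁻¹ * (g * ps ι s x j 16 * g⁻¹) by group, g1, g2, h.ps_cent])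
  rw [lit_eq] at k1
  change imp2 (allL _ (okW (a + 64 * b + 4096 * c))) (anyL _ fun w => and2
    (Nat.beq (apW (a + 64 * b + 4096 * c) w 1) 36) (and2 (Nat.beq (apW (a + 64 * b + 4096 * c) w 4) 33)
      (Nat.beq (apW (a + 64 * b + 4096 * c) w 16) 17))) = true at k1
  generalize a + 64 * b + 4096 * c = X at hX k1
  obtain ⟨γ, hγ⟩ : ∃ γ : ℕ → G, ∀ c, Act ι s x j (γ c) (nth X XL c) := by
    refine Classical.skolem.1 fun c => nth_forall (p := fun X => ∃ g, Act ι s x j g X) ⟨g, hX⟩ ?_ c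
    simp only [XL, List.forall_mem_cons]
    exact ⟨⟨_, h.act_c⟩, ⟨_, h.act_d⟩, ⟨_, h.actT (m := 2) (by norm_num) (by decide +kernel)⟩,
      ⟨_, h.act_rho⟩, by simp⟩
  have hw : ∀ w : List ℕ, ∀ i < 64, apW X w i < 64 ∧
      ev γ w * om ι s x j i * (ev γ w)⁻¹ = om ι s x j (apW X w i) := fun w i hi => by
    induction w with
    | nil => exact ⟨hi, by simp [show apW X [] i = i from rfl]⟩
    | cons c w ih =>
      refine ⟨lin_lt _ _, ?_⟩
      rw [show apW X (c :: w) i = lin (nth X XL c) (apW X w i) from rfl, ← hγ c _ ih.1, ← ih.2,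
        ev_cons]
      group
  obtain ⟨w, -, k2⟩ := anyL_true.1 (imp2_true.1 k1 (allL_true.2 fun w _ => by
    simp only [okW, lit_eq, imp2_true, and2_true, nbeq]
    intro k2 k3 k4
    have w1 := hw w 1 (by norm_num)
    have w2 := hw w 4 (by norm_num)
    have w3 := hw w 16 (by norm_num)
    have s1 := sq _ 1 _ (by norm_num) w1.1 w1.2
    have s2 := sq _ 4 _ (by norm_num) w2.1 w2.2
    have s3 := sq _ 16 _ (by norm_num) w3.1 w3.2
    rw [k2, mul_inv_eq_iff_eq_mul] at s1
    rw [k3, mul_inv_eq_iff_eq_mul] at s2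
    rw [k4, mul_inv_eq_iff_eq_mul] at s3
    obtain ⟨i, hi, i1⟩ := hW (ev γ w) (e2 ▸ s1) s2 s3
    have : ∀ l < 64, apW X w l = l := fun l hl => h.om_inj (hw w l hl).1 hl (by
      rw [← (hw w l hl).2, i1, h.om_comm hi hl, mul_inv_cancel_right])
    exact ⟨this 1 (by norm_num), this 4 (by norm_num), this 16 (by norm_num)⟩))
  simp only [and2_true, nbeq] at k2
  exact ⟨ev γ w, h.act_of (by rw [(hw w 1 (by norm_num)).2, k2.1]; rfl)
    (by rw [(hw w 4 (by norm_num)).2, k2.2.1]; rfl) (by rw [(hw w 16 (by norm_num)).2, k2.2.2]; rfl)⟩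

end H14.On
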