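import Mathlib
import Cfsg.Agent.H14.OnW

/-! The action of the fusing element on the centraliser of the four-group. -/

set_option autoImplicit false

namespace H14.On

open H29 H7.Cay H22 Subgroup

/-- decomposition of a code. -/
def dc (u : ℕ) : ℕ := pk 0xb2d90000fc9d00000000a7ef0000e1a3bad10000f49500000000afe70000e9ab92fb0000debd0000000087cd0000c3839af30000d6b5000000008fc50000cb8bb1d80000ff9c00000000a6ee0000e0a2b9d00000f79400000000aee60000e8aa91fa0000ddbc0000000086cc0000c28299f20000d5b4000000008ec40000ca8ab0db0000fe9f00000000a5ed0000e3a1b8d30000f69700000000ade50000eba990f90000dcbf0000000085cf0000c18198f10000d4b7000000008dc70000c989b3da0000fd9e00000000a4ec0000e2a0bbd20000f59600000000ace40000eaa893f80000dfbe0000000084ce0000c0809bf00000d7b6000000008cc60000c8883a5100007415000000002f670000692b325900007c1d00000000276f000061231a7300005635000000000f4500004b0b127b00005e3d00000000074d00004303395000007714000000002e660000682a315800007f1c00000000266e00006022197200005534000000000e4400004a0a117a00005d3c00000000064c00004202385300007617000000002d6500006b29305b00007e1f00000000256d00006321187100005437000000000d4700004909107900005c3f00000000054f000041013b5200007516000000002c6400006a28335a00007d1e00000000246c000062201b7000005736000000000c4600004808137800005f3e00000000044e00004000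 8 u

/-- the image of a code. -/
noncomputable def FF (X y z u : ℕ) : ℕ := lit (dc u) fun D =>
  mu (mu (io (lin X (Nat.mod D 64))) (Nat.mul (Nat.mod (Nat.div D 64) 2) y))
    (Nat.mul (Nat.div D 128) z)

/-- the images of the generators under inner automorphisms. -/
def INN : List ℕ := [78520321, 129673729, 112140289, 96184833, 82714641, 133868049, 116334609,
  100379153, 96086564, 82747428, 129706532, 116367396, 100280884, 78553140, 133900852, 112173108,
  128852036, 79333956, 95363140, 112953924, 133046356, 83528276, 99557460, 117148244, 83495521,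
  95330401, 117115489, 128950369, 79301233, 99524721, 112921201, 133144689, 116260993, 100305537,
  82772097, 133925505, 112066705, 96111249, 78577809, 129731217, 133827236, 112099492, 100338340,
  78610596, 129632948, 116293812, 96144052, 82804916, 99483844, 117091012, 133103812, 83602116,
  95289556, 112896724, 128909524, 79407828, 112863969, 133071073, 79375073, 99582177, 117058289,
  128876785, 83569393, 95387889]

/-- the map is inner on the generators. -/
noncomputable def inn (f : ℕ → ℕ) : Bool :=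
  lit (f 1) fun a => lit (f 272) fun b => lit (f 299) fun c => anyL INN fun r =>
    and2 (Nat.beq (pk r 9 0) a) (and2 (Nat.beq (pk r 9 1) b) (Nat.beq (pk r 9 2) c))

/-- `m` conjugates `u` to `v`. -/
noncomputable def cjT (m u v : ℕ) : Bool := Nat.beq (mu m u) (mu v m)

/-- compatibility with the action on vectors. -/
noncomputable def cpt (X y : ℕ) : Bool := allL [1, 4, 16] fun r =>
  Nat.beq (mu y (io (lin 71780 r))) (mu (io (lit (lin X r) (lin 71780))) y)

/-- candidates for the image of the first generator. -/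
def Y1 : List ℕ := [256, 261, 272, 277, 320, 325, 336, 341, 384, 389, 400, 405, 448, 453, 464, 469]

/-- candidates for the image of the second generator. -/
def Y2 : List ℕ := [1, 17, 36, 52, 68, 84, 97, 113, 129, 145, 164, 180, 196, 212, 225, 241]

theorem chkU : (allF 512 fun u => imp2 (cm u 16) (and2 (and2 (Nat.beq (FF 65793 1 272 u) u)
    (anyL INN fun r => and2 (cjT u 1 (pk r 9 0)) (and2 (cjT u 272 (pk r 9 1)) (cjT u 299 (pk r 9 2)))))
    (imp2 (Nat.beq (mu u u) 0) (and2 (imp2 (cpt 234369 u) (anyL Y1 (Nat.beq u)))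
      (imp2 (cpt 90883 u) (anyL Y2 (Nat.beq u))))))) = true := by decide +kernel

theorem chk2 : (allL Y1 fun y => allL Y2 fun z =>
    imp2 (Nat.beq (lit (mu y z) fun v => mu v v) (io (lin 71780 5)))
      (imp2 (inn fun u => FF 71780 y z (FF 71780 y z u))
        (imp2 (inn fun u => FF 71780 y z (mu (mu 2 (FF 71780 y z (mu (mu 2
          (FF 71780 y z (mu (mu 2 u) 2))) 2))) 2))
        (anyL [256, 261, 266, 271, 288, 293, 298, 303, 320, 325, 330, 335, 352, 357, 362, 367]
          fun m => and2 (and2 (lt m 512) (cm m 16)) (or2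
            (and2 (cjT m y 272) (and2 (cjT m z 1) (cjT m (FF 71780 y z 299) 299)))
            (and2 (cjT m y 336) (and2 (cjT m (FF 71780 y z 336) 1)
              (cjT m (FF 71780 y z 363) 363)))))))) = true := by decide +kernel

variable {G : Type*} [Group G] {M : Type*} [Group M] {s x : M} {t j : G} {ι : M →* G}

theorem FF_lt (X y z u : ℕ) : FF X y z u < 512 := mu_lt ..

theorem Cand.cjT (h : Cand t ι s x j 1 3 0) {m u v : ℕ} (hm : m < 512) (hu : u < 512)
    (hv : v < 512) : cjT m u v = true ↔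
      ps ι s x j m * ps ι s x j u * (ps ι s x j m)⁻¹ = ps ι s x j v := by
  rw [On.cjT, nbeq, h.mu_eq hm hu hv hm, mul_inv_eq_iff_eq_mul]

theorem Cand.ps_FF (h : Cand t ι s x j 1 3 0) (X u : ℕ) {y z : ℕ} (hy : y < 512) (hz : z < 512) :
    ps ι s x j (FF X y z u) = om ι s x j (lin X (dc u % 64)) * ps ι s x j y ^ (dc u / 64 % 2) *
      ps ι s x j z ^ (dc u / 128) := by
  have h1 : ∀ b < 2, ∀ y < 512, b * y < 512 ∧ ps ι s x j (b * y) = ps ι s x j y ^ b :=
    fun b hb y hy => by interval_cases b <;> simp [ps_zero, hy]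
  have h2 := h1 (dc u / 64 % 2) (Nat.mod_lt _ (by norm_num)) y hy
  have h3 := h1 (dc u / 128) (by have : dc u < 256 := pk_lt _ 8 _; omega) z hz
  rw [← h2.2, ← h3.2, om, ← h.ps_mu (io_lt _) h2.1, ← h.ps_mu (mu_lt ..) h3.1]
  rfl

theorem Cand.twist (h : Cand t ι s x j 1 3 0) : Cand t ι s x (ι (rv s x 7) * j) 1 3 0 := by
  have h1 : ∀ m n, j * ι m * j⁻¹ = ι n → ι (rv s x 7) * j * ι m * (ι (rv s x 7) * j)⁻¹ = ι n :=
    fun m n h1 => by
      calc _ = ι (rv s x 7) * (j * ι m * j⁻¹) * (ι (rv s x 7))⁻¹ := by group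
        _ = _ := by rw [h1, ← map_mul, ← mem_center_iff.1 (h.cen 7), map_mul, mul_inv_cancel_right]
  refine ⟨h.toBase, h.toGen, h.hp, h.tq, Commute.mul_left (h.ct _) h.jc, ?_, h1 _ _ h.js,
    h1 _ _ h.jx, ?_, h.d0, h.d4⟩
  · rw [mul_mem_cancel_left (MonoidHom.mem_range.2 ⟨_, rfl⟩)]
    exact h.jM
  · have h2 : ps ι s x j 320 = ι (rv s x 7) * j := by
      rw [ps, show 320 % 64 = 0 from rfl, gT_zero, one_mul, pow_eq_pow_mod _ (h.z4 _ (h.cen 7))]
      simp
    rw [← h2, ← h.ps_mu (by norm_num) (by norm_num), show mu 320 320 = 0 by decide +kernel, ps_zero,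
      pow_zero, map_one]

theorem ps_twist0 {u : ℕ} (hu : u < 256) (j' : G) : ps ι s x j' u = ps ι s x j u := by
  simp [ps, Nat.div_eq_of_lt hu]

theorem ps_twist1 {u : ℕ} (hu : 256 ≤ u) (hu' : u < 448) :
    ps ι s x (ι (rv s x 7) * j) u = ps ι s x j (u + 64) := by
  rw [ps, ps, show (u + 64) % 64 = u % 64 by omega, show (u + 64) / 64 = u / 64 + 1 by omega,
    show u / 256 = 1 by omega, show (u + 64) / 256 = 1 by omega, pow_succ (rv s x 7), ← mul_assoc,
    map_mul _ _ (rv s x 7), pow_one, pow_one, mul_assoc]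

/-- the symmetric configuration. -/
structure Sym (t : G) (ι : M →* G) (s x : M) (j g : G) : Prop extends Cand t ι s x j 1 3 0 where
  ga : g * ps ι s x j 16 * g⁻¹ = t
  gt : g * t * g⁻¹ = ps ι s x j 16
  gc : g * ps ι s x j 1 * g⁻¹ = ps ι s x j 272
  gd : g * ps ι s x j 272 * g⁻¹ = ps ι s x j 1
  gg : g * ps ι s x j 299 * g⁻¹ = ps ι s x j 299

theorem Cand.exists_sym [Finite G] (h : Cand t ι s x j 1 3 0) {g : G} (hg : Act ι s x j g 71780) :
    ∃ j g, Sym t ι s x j g := by
  have e2 : om ι s x j 2 = t := h.ps_128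
  have g1 : g * ps ι s x j 16 * g⁻¹ = t := (hg 8 (by norm_num)).trans e2
  have g2 : g * t * g⁻¹ = ps ι s x j 16 := e2 ▸ hg 2 (by norm_num)
  have cj1 : ∀ g a b : G, a * b = b * a →
      g * a * g⁻¹ * (g * b * g⁻¹) = g * b * g⁻¹ * (g * a * g⁻¹) := fun g a b hab => by
    calc _ = g * (a * b) * g⁻¹ := by group
      _ = _ := by rw [hab]; group
  have n16 : (16 : ℕ) < 512 := by norm_num
  have hU := fun u (hu : u < 512) (h1 : On.cm u 16 = true) =>
    and2_true.1 (imp2_true.1 (allF_true.1 chkU u hu) h1)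
  have key : ∀ c X, c < 512 → On.cm c 16 = true → mu c c = 0 → Act ι s x j (ps ι s x j c) X →
      ∃ y < 512, ps ι s x j y = g * ps ι s x j c * g⁻¹ ∧ On.cm y 16 = true ∧
        Nat.beq (mu y y) 0 = true ∧ cpt X y = true := fun c X hc c1 c2 c3 => by
    obtain ⟨y, hy, y1, y2⟩ := h.centV (g := g * ps ι s x j c * g⁻¹)
      (by rw [← g1]; exact cj1 _ _ _ ((h.cm hc n16).1 c1)) (by rw [← g2]; exact cj1 _ _ _ (h.ps_cent _))
    refine ⟨y, hy, y2, y1, nbeq.2 (h.ps_inj (mu_lt ..) (by norm_num) ?_), allL_true.2 fun r hr => ?_⟩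
    · rw [h.ps_mu hy hy, y2, show g * ps ι s x j c * g⁻¹ * (g * ps ι s x j c * g⁻¹) =
        g * (ps ι s x j c * ps ι s x j c) * g⁻¹ by group, ← h.ps_mu hc hc, c2, ps_zero]
      simp
    · have r1 : r < 64 := by simp only [List.mem_cons, List.not_mem_nil, or_false] at hr; omega
      rw [nbeq, h.mu_eq hy (io_lt _) (io_lt _) hy, lit_eq, y2]
      change _ * om ι s x j _ = om ι s x j _ * _
      rw [← hg r r1, ← hg _ (lin_lt ..), ← c3 r r1]
      group
  obtain ⟨y, hy, y1, y2, y3, y4⟩ := key 1 _ (by norm_num) (by decide +kernel) (by decide +kernel)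
    h.act_c
  obtain ⟨z, hz, z1, z2, z3, z4⟩ := key 272 _ (by norm_num) (by decide +kernel) (by decide +kernel)
    h.act_d
  obtain ⟨_, y5, y6⟩ := anyL_true.1 (imp2_true.1 (and2_true.1 (imp2_true.1 (hU y hy y2).2 y3)).1 y4)
  obtain ⟨_, z5, z6⟩ := anyL_true.1 (imp2_true.1 (and2_true.1 (imp2_true.1 (hU z hz z2).2 z3)).2 z4)
  obtain rfl := nbeq.1 y6
  obtain rfl := nbeq.1 z6
  have hF : ∀ u < 512, On.cm u 16 = true → On.cm (FF 71780 y z u) 16 = true ∧
      g * ps ι s x j u * g⁻¹ = ps ι s x j (FF 71780 y z u) := fun u hu u1 => by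
    have h1 : g * ps ι s x j u * g⁻¹ = ps ι s x j (FF 71780 y z u) := by
      have h2 := allF_true.1 chkW (dc u % 64) (Nat.mod_lt _ (by norm_num))
      simp only [and2_true, nbeq] at h2
      conv_lhs => rw [← nbeq.1 (and2_true.1 (hU u hu u1).1).1]
      rw [h.ps_FF _ _ hy hz, h.ps_FF _ _ (by norm_num) (by norm_num), h2.1.2, y1, z1,
        ← hg _ (Nat.mod_lt _ (by norm_num)), conj_pow, conj_pow]
      group
    exact ⟨(h.cm (FF_lt ..) n16).2 (by rw [← h1, ← g2]; exact cj1 _ _ _ (h.ps_cent _)), h1⟩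
  have t2 : (ps ι s x j 2)⁻¹ = ps ι s x j 2 := inv_eq_of_mul_eq_one_right (by
    rw [← h.ps_mu (by norm_num) (by norm_num), show mu 2 2 = 0 by decide +kernel, ps_zero])
  have t3 : ps ι s x j 2 * ps ι s x j 16 * (ps ι s x j 2)⁻¹ = ps ι s x j 16 * t := by
    rw [← h.ps_144, ← h.cjT (by norm_num) (by norm_num) (by norm_num)]; decide +kernel
  have t4 : ps ι s x j 2 * (ps ι s x j 16 * t) * (ps ι s x j 2)⁻¹ = ps ι s x j 16 := by
    rw [← h.ps_144, ← h.cjT (by norm_num) (by norm_num) (by norm_num)]; decide +kernel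
  have t5 : ps ι s x j 2 * t * (ps ι s x j 2)⁻¹ = t := by rw [h.ps_cent, mul_inv_cancel_right]
  have hQ : ∀ u < 512, On.cm u 16 = true → On.cm (FF 71780 y z (mu (mu 2 u) 2)) 16 = true ∧
      g * ps ι s x j 2 * ps ι s x j u * (g * ps ι s x j 2)⁻¹ =
        ps ι s x j (FF 71780 y z (mu (mu 2 u) 2)) := fun u hu u1 => by
    have h1 : ps ι s x j (mu (mu 2 u) 2) = ps ι s x j 2 * ps ι s x j u * (ps ι s x j 2)⁻¹ := by
      rw [h.ps_mu (mu_lt ..) (by norm_num), h.ps_mu (by norm_num) hu, t2]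
    have h2 := hF _ (mu_lt (mu 2 u) 2) ((h.cm (mu_lt ..) n16).2 (by
      rw [h1, ← t4]
      exact cj1 _ _ _ (Commute.mul_right ((h.cm hu n16).1 u1) (h.ps_cent u))))
    exact ⟨h2.1, by rw [← h2.2, h1]; group⟩
  have hI : ∀ (k : G) (f : ℕ → ℕ), k * t * k⁻¹ = t → k * ps ι s x j 16 * k⁻¹ = ps ι s x j 16 →
      (∀ u < 512, On.cm u 16 = true → f u < 512 ∧ k * ps ι s x j u * k⁻¹ = ps ι s x j (f u)) →
      inn f = true := fun k f k1 k2 k3 => by
    obtain ⟨m, hm, m1, rfl⟩ := h.centV (mul_inv_eq_iff_eq_mul.1 k1) (mul_inv_eq_iff_eq_mul.1 k2)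
    obtain ⟨r, hr, r1⟩ := anyL_true.1 (and2_true.1 (hU m hm m1).1).2
    have k4 : ∀ u i, u < 512 → On.cm u 16 = true → On.cjT m u (pk r 9 i) = true →
        pk r 9 i = f u := fun u i hu u1 u2 => h.ps_inj (pk_lt _ 9 _) (k3 u hu u1).1
          (((h.cjT hm hu (pk_lt _ 9 _)).1 u2).symm.trans (k3 u hu u1).2)
    simp only [and2_true] at r1
    simp only [inn, lit_eq, anyL_true, and2_true, nbeq]
    exact ⟨r, hr, k4 1 0 (by norm_num) (by decide +kernel) r1.1,
      k4 272 1 (by norm_num) (by decide +kernel) r1.2.1,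
      k4 299 2 (by norm_num) (by decide +kernel) r1.2.2⟩
  have q0 : ∀ a, g * g * a * (g * g)⁻¹ = g * (g * a * g⁻¹) * g⁻¹ := fun a => by group
  have k1 := imp2_true.1 (imp2_true.1 (imp2_true.1 (allL_true.1 (allL_true.1 chk2 y y5) z z5) (by
    have h1 : om ι s x j 5 = ps ι s x j 1 * ps ι s x j 272 * (ps ι s x j 1 * ps ι s x j 272) := by
      rw [← h.ps_mu (by norm_num) (by norm_num), ← h.ps_mu (mu_lt ..) (mu_lt ..),
        show mu (mu 1 272) (mu 1 272) = io 5 by decide +kernel, om]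
    rw [nbeq, lit_eq]
    refine h.ps_inj (mu_lt ..) (io_lt _) ?_
    rw [h.ps_mu (mu_lt ..) (mu_lt ..), h.ps_mu hy hz, y1, z1]
    refine Eq.trans ?_ (hg 5 (by norm_num))
    rw [h1]
    group))
    (hI (g * g) _ (by rw [q0, g2, g1]) (by rw [q0, g1, g2]) fun u hu u1 => ⟨FF_lt .., by
        have h1 := hF u hu u1
        rw [← (hF _ (FF_lt ..) h1.1).2, ← h1.2]
        group⟩))
    (by
      have q1 : g * ps ι s x j 2 * t * (g * ps ι s x j 2)⁻¹ = ps ι s x j 16 := by
        calc _ = g * (ps ι s x j 2 * t * (ps ι s x j 2)⁻¹) * g⁻¹ := by group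
          _ = _ := by rw [t5, g2]
      have q2 : g * ps ι s x j 2 * ps ι s x j 16 * (g * ps ι s x j 2)⁻¹ = ps ι s x j 16 * t := by
        calc _ = g * (ps ι s x j 2 * ps ι s x j 16 * (ps ι s x j 2)⁻¹) * g⁻¹ := by group
          _ = g * ps ι s x j 16 * g⁻¹ * (g * t * g⁻¹) := by rw [t3]; group
          _ = _ := by rw [g1, g2, h.ps_cent]
      have q3 : g * ps ι s x j 2 * (ps ι s x j 16 * t) * (g * ps ι s x j 2)⁻¹ = t := by
        calc _ = g * (ps ι s x j 2 * (ps ι s x j 16 * t) * (ps ι s x j 2)⁻¹) * g⁻¹ := by group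
          _ = _ := by rw [t4, g1]
      generalize g * ps ι s x j 2 = q at hQ q1 q2 q3
      have q4 : ∀ a, q * q * q * a * (q * q * q)⁻¹ = q * (q * (q * a * q⁻¹) * q⁻¹) * q⁻¹ :=
        fun a => by group
      refine hI (q * q * q) _ (by rw [q4, q1, q2, q3]) (by rw [q4, q2, q3, q1])
        fun u hu u1 => ⟨FF_lt .., ?_⟩
      have h1 := hQ u hu u1
      have h2 := hQ _ (FF_lt ..) h1.1
      rw [q4, h1.2, h2.2, (hQ _ (FF_lt ..) h2.1).2])
  obtain ⟨m, -, k2⟩ := anyL_true.1 k1
  simp only [and2_true, or2_true, lt_true] at k2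
  obtain ⟨⟨hm, m1⟩, k2⟩ := k2
  have m2 : ∀ u v w, v < 512 → w < 512 → g * ps ι s x j u * g⁻¹ = ps ι s x j v →
      On.cjT m v w = true → ps ι s x j m * g * ps ι s x j u * (ps ι s x j m * g)⁻¹ =
        ps ι s x j w := fun u v w hv hw h1 h2 => by
    rw [← (h.cjT hm hv hw).1 h2, ← h1]; group
  have m3 : ps ι s x j m * g * ps ι s x j 16 * (ps ι s x j m * g)⁻¹ = t := by
    calc _ = ps ι s x j m * (g * ps ι s x j 16 * g⁻¹) * (ps ι s x j m)⁻¹ := by group
      _ = _ := by rw [g1, h.ps_cent, mul_inv_cancel_right]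
  have m4 : ps ι s x j m * g * t * (ps ι s x j m * g)⁻¹ = ps ι s x j 16 := by
    calc _ = ps ι s x j m * (g * t * g⁻¹) * (ps ι s x j m)⁻¹ := by group
      _ = _ := by rw [g2, (h.cm hm n16).1 m1, mul_inv_cancel_right]
  rcases k2 with ⟨k2, k3, k4⟩ | ⟨k2, k3, k4⟩
  · exact ⟨j, _, h, m3, m4, m2 _ _ _ hy (by norm_num) y1.symm k2,
      m2 _ _ _ hz (by norm_num) z1.symm k3,
      m2 _ _ _ (FF_lt ..) (by norm_num) (hF 299 (by norm_num) (by decide +kernel)).2 k4⟩
  · refine ⟨_, ps ι s x j m * g, h.twist, ?_, ?_, ?_, ?_, ?_⟩ <;>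
      simp (disch := norm_num) only [ps_twist0 (j := j), ps_twist1]
    exacts [m3, m4, m2 _ _ _ hy (by norm_num) y1.symm k2,
      m2 _ _ _ (FF_lt ..) (by norm_num) (hF 336 (by norm_num) (by decide +kernel)).2 k3,
      m2 _ _ _ (FF_lt ..) (by norm_num) (hF 363 (by norm_num) (by decide +kernel)).2 k4]

end H14.On
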