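import Mathlib
import Cfsg.Agent.H14.OnS
import Cfsg.Agent.H14.OnBD

/-! The commutation relation between the two centralisers. -/

set_option autoImplicit false

namespace H14.On

open H29 H7.Cay H22 Subgroup

/-- the image of a coset representative. -/
noncomputable def th (v : ℕ) : ℕ := pk THT 15 v

/-- the images of the letters. -/
def SW : List (List ℕ) := [[0, 2, 0, 1, 0, 1, 1, 1, 0, 1, 1, 0, 1, 0], [2], [1]]

/-- a word for a coset representative. -/
noncomputable def wt : ℕ → List ℕ :=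
  Nat.rec (motive := fun _ => ℕ → List ℕ) (fun _ => []) (fun _ ih v => lit (pk PT 14 v) fun E =>
    lit (Nat.mod E 4096) fun p => Bool.rec [] (ih p ++ [Nat.div E 4096]) (lt p v)) 20

/-- an element of order 3. -/
def QA : List ℕ := [1, 0, 2, 0, 2, 2, 0, 2, 2, 0, 1, 0, 2, 2, 2, 0]

/-- another element of order 3. -/
def QB : List ℕ := [0, 1, 0, 1, 1, 0, 1, 1, 0, 2, 0, 1, 1, 1, 0, 2]

theorem chkTH : (allF 2880 fun v => lit (th v) fun T => lit (pk PT 14 v) fun E => and2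
    (Bool.rec (Nat.beq T 0) (and2 (lt (Nat.div E 4096) 3) (Nat.beq T (Nat.mod
      (lit (th (Nat.mod E 4096)) (run (nth [] SW (Nat.div E 4096)))) 32768))) (lt (Nat.mod E 4096) v))
    (imp2 (Nat.beq (Nat.mod T 4096) v) (allF 7 fun a =>
      imp2 (Nat.beq T (Nat.add v (Nat.mul 4096 (Nat.mod (Nat.add a a) 7))))
        (and2 (Nat.beq (rl (List.replicate a 1 ++ wt v)) (Nat.add v (Nat.mul 4096 a)))
          (imp2 (Nat.beq (rl (powW 3 (List.replicate a 1 ++ wt v))) 0)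
            (anyL [0, 1, 2] fun i => anyL [0, 1, 2] fun l =>
              Nat.beq (rl (powW i QA ++ powW l QB)) (Nat.add v (Nat.mul 4096 a)))))))) = true := by
  decide +kernel

theorem fix9 {G : Type*} [Group G] {a b k r : G} (hc : Commute a b) (a3 : a ^ 3 = 1)
    (b3 : b ^ 3 = 1) (k1 : k * a * k⁻¹ = b) (k2 : k * b * k⁻¹ = a ^ 2) (r3 : r ^ 3 = 1)
    (rk : Commute r k) {i l : ℕ} (hi : i < 3) (hl : l < 3) (h1 : r * a * r⁻¹ = a ^ i * b ^ l)
    (h2 : ∀ i < 3, ∀ l < 3, a ^ i * b ^ l = a → i = 1 ∧ l = 0) : Commute r a ∧ Commute r b := by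
  have h3 : r * b * r⁻¹ = k * (r * a * r⁻¹) * k⁻¹ := by
    calc _ = r * k * a * (r * k)⁻¹ := by rw [← k1]; group
      _ = _ := by rw [rk.eq]; group
  have h4 : ∀ m n, r * (a ^ m * b ^ n) * r⁻¹ = a ^ (i * m + 2 * l * n) * b ^ (l * m + i * n) :=
    fun m n => by
    have e1 : ∀ g : G, g * (a ^ m * b ^ n) * g⁻¹ = (g * a * g⁻¹) ^ m * (g * b * g⁻¹) ^ n :=
      fun g => by rw [conj_pow, conj_pow]; group
    have e2 : k * (a ^ i * b ^ l) * k⁻¹ = (k * a * k⁻¹) ^ i * (k * b * k⁻¹) ^ l := by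
      rw [conj_pow, conj_pow]; group
    rw [e1, h3, h1, e2, k1, k2, ← pow_mul, (hc.pow_pow _ _).mul_pow,
      (hc.symm.pow_pow _ _).mul_pow, ← pow_mul, ← pow_mul, ← pow_mul, ← pow_mul, pow_add, pow_add,
      ← (hc.pow_pow _ _).eq, (hc.symm.pow_pow _ _).mul_mul_mul_comm]
  have h5 : a = r * (r * (r * a * r⁻¹) * r⁻¹) * r⁻¹ := by
    calc _ = r ^ 3 * a * (r ^ 3)⁻¹ := by rw [r3]; group
      _ = _ := by rw [pow_three]; group
  rw [h1, h4, h4, pow_eq_pow_mod _ a3, pow_eq_pow_mod _ b3] at h5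
  have h6 := h2 _ (Nat.mod_lt _ (by norm_num)) _ (Nat.mod_lt _ (by norm_num)) h5.symm
  obtain ⟨rfl, rfl⟩ : i = 1 ∧ l = 0 := by
    clear h1 h2 h3 h4 h5
    interval_cases i <;> interval_cases l <;> omega
  rw [pow_one, pow_zero, mul_one] at h1
  rw [h1, k1] at h3
  exact ⟨mul_inv_eq_iff_eq_mul.1 h1, mul_inv_eq_iff_eq_mul.1 h3⟩

variable {G : Type*} [Group G] {M : Type*} [Group M] {s x : M} {t j g : G} {ι : M →* G}

theorem Base.mem_of_cube (h : Base t ι) {y : G} (h1 : y * t = t * y) (h2 : y ^ 3 = 1) :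
    y ∈ ι.range := by
  by_contra h3
  have := h.idx y y h1 h1 h3 h3
  refine h3 (inv_mem_iff.1 ?_)
  rwa [inv_eq_of_mul_eq_one_right (by rw [← h2, pow_three] : y * (y * y) = 1)]

theorem Cand.three (h : Cand t ι s x j 1 3 0) {y : G} (h1 : y * t = t * y) (h2 : y ^ 3 = 1)
    (h3 : y * ev (sg0 ι s x j) [1, 2, 6, 3, 7, 2, 1] = ev (sg0 ι s x j) [1, 2, 6, 3, 7, 2, 1] * y) :
    ∃ i < 3, ∃ l < 3, y = ev (sg0 ι s x j) (QA.map (· + 8)) ^ i *
      ev (sg0 ι s x j) (QB.map (· + 8)) ^ l := by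
  obtain ⟨m, rfl⟩ := h.mem_of_cube h1 h2
  obtain ⟨f, hf⟩ := h.nrm _ (h.sg0_cent [1, 2, 6, 3, 7, 2, 1])
  have f1 : f m = m := h.inj (by rw [hf, ← h3, mul_inv_cancel_right])
  have f2 : ∀ c < 3, f (gl s x c) = ev (el s x) (nth [] SW c) := fun c hc => h.inj (by
    have h4 : ∀ c < 3, On.weC ([1, 2, 6, 3, 7, 2, 1] ++ [c].map (· + 8))
      ((nth [] SW c).map (· + 8) ++ [1, 2, 6, 3, 7, 2, 1]) = true := by decide +kernel
    have h5 := h.weC (h4 c hc)
    rw [ev_append, ev_append, sg0_el (by simpa using hc), sg0_el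
      (nth_forall (p := fun w : List ℕ => ∀ c ∈ w, c < 3) (by simp) (by decide) c), ev_cons (el s x),
      ev_nil, mul_one, el_lt hc] at h5
    rw [hf, h5, mul_inv_cancel_right])
  have hT := fun v (hv : v < 2880) => and2_true.1 (allF_true.1 chkTH v hv)
  have V1 : ∀ n, V n → V (n % 32768) := fun n hn => by unfold V at *; omega
  have f3 : ∀ v < 2880, V (th v) ∧ mq M (f (tau s x v)) = mq M (Ph s x (th v)) := fun v => by
    induction v using Nat.strong_induction_on with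
    | _ v ih =>
      intro hv
      have h4 := (hT v hv).1
      rw [tau]
      split_ifs with h5
      · rw [show lt (Nat.mod (pk PT 14 v) 4096) v = true from lt_true.2 h5] at h4
        simp only [and2_true, lt_true, nbeq, lit_eq, nmod, ndiv] at h4
        obtain ⟨h6, h7⟩ := ih _ h5 (by omega)
        have h8 := h.run_spec (nth [] SW (pk PT 14 v / 4096)) h6
        rw [h4.2, ← h.mq_Ph, h8.2, map_mul f, map_mul, map_mul, h7, f2 _ h4.1]
        exact ⟨V1 _ h8.1, rfl⟩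
      · rw [show lt (Nat.mod (pk PT 14 v) 4096) v = false from
          Bool.eq_false_iff.2 (mt lt_true.1 h5)] at h4
        rw [nbeq.1 h4, Ph_zero, map_one]
        exact ⟨V_zero, rfl⟩
  obtain ⟨w, rfl⟩ := h.word m
  obtain ⟨⟨n1, n2, n3⟩, n4⟩ := h.run_zero w
  rw [← n4] at f1 h2 ⊢
  generalize run w 0 = n at n1 n2 n3 f1 h2
  have z1 : mq M (zT s x (n / 32768)) = 1 := mq_eq_one.2 (h.zT_mem _)
  have z2 : mq M (f (zT s x (n / 32768))) = 1 := mq_eq_one.2 (mem_center_iff.2 fun y => by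
    obtain ⟨y, rfl⟩ := f.surjective y
    rw [← map_mul, h.zT_comm, map_mul])
  have e1 : ∀ a < 7, V (n % 4096 + 4096 * a) ∧
      Ph s x (n % 4096 + 4096 * a) = x ^ a * tau s x (n % 4096) := fun a ha => ⟨by unfold V; omega, by
    rw [Ph, show (n % 4096 + 4096 * a) / 4096 % 8 = a by omega,
      show (n % 4096 + 4096 * a) / 32768 = 0 by omega,
      show (n % 4096 + 4096 * a) % 4096 = n % 4096 by omega, zT_zero, mul_one]⟩
  have e2 : mq M (Ph s x n) = mq M (Ph s x (n % 4096 + 4096 * (n / 4096 % 8))) := by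
    rw [(e1 _ n2).2, Ph, map_mul, map_mul, z1, mul_one, map_mul]
  have e3 := e1 ((n / 4096 % 8 + n / 4096 % 8) % 7) (Nat.mod_lt _ (by norm_num))
  have e4 := (h.Ph_inj h.cov (f3 _ n1).1 e3.1).1 (by
    have := congrArg (mq M) f1
    rw [Ph, map_mul f, map_mul f, map_pow f, show f x = x⁻¹ from (f2 1 (by norm_num)).trans
      (mul_one _)] at this
    simp only [map_mul, z1, z2, mul_one, (f3 _ n1).2, inv_pow, map_inv,
      inv_mul_eq_iff_eq_mul] at this
    rw [this, e3.2, ← pow_eq_pow_mod _ h.x7, pow_add, map_mul, map_mul, mul_assoc])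
  have e5 : th (n % 4096) < 32768 := pk_lt _ 15 _
  have k1 := (hT _ n1).2
  simp only [imp2_true, and2_true, allF_true, nbeq, anyL_true, nmod, Nat.add_eq, Nat.mul_eq] at k1
  obtain ⟨k2, k3⟩ := k1 (by omega) _ n2 (by omega)
  have e6 : ∀ u, rl u = n % 4096 + 4096 * (n / 4096 % 8) →
      mq M (Ph s x n) = mq M (ev (el s x) u) := fun u hu => by
    rw [e2, ← (h.run_zero u).2, h.mq_Ph (run u 0), ← hu]; rfl
  have m3 : Ph s x n ^ 3 = 1 := h.inj (by rw [map_pow, h2, map_one])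
  obtain ⟨i, hi, l, hl, k4⟩ := k3 ((h.rl_zero h.cov).1 (by
    rw [ev_powW, ← mq_eq_one, map_pow, ← e6 _ k2, ← map_pow, m3, map_one]))
  simp only [List.mem_cons, List.not_mem_nil, or_false] at hi hl
  refine ⟨i, by omega, l, by omega, ?_⟩
  have k5 : ∀ i < 3, ∀ l < 3, On.weC (powW 3 (powW i (QA.map (· + 8)) ++ powW l (QB.map (· + 8))))
    [] = true := by decide +kernel
  have k6 := h.weC (k5 i (by omega) l (by omega))
  rw [ev_powW, ev_append, ev_powW, ev_powW] at k6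
  rw [sg0_el (by decide), sg0_el (by decide), ← map_pow, ← map_pow, ← map_mul] at k6 ⊢
  have k7 := e6 _ k4
  rw [ev_append, ev_powW, ev_powW] at k7
  exact congrArg ι (h.eq_of_mq (n := 3) (a := 1) rfl k7 (by rw [mul_one, m3])
    (h.inj (by rw [mul_one, map_pow, k6, map_one, ev_nil])))

/-- the symmetry of the letters. -/
noncomputable def sw (c : ℕ) : ℕ := nth c [5, 4, 3, 2, 4, 0] c

theorem Sym.sw_ev (h : Sym t ι s x j g) {w : List ℕ} (hw : ∀ c ∈ w, c ∈ [0, 2, 3, 5, 6, 7]) :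
    g * ev (sg0 ι s x j) w * g⁻¹ = ev (sg0 ι s x j) (w.map sw) := by
  have h1 : ∀ c u, On.wT [c] u = true → sg0 ι s x j c = ps ι s x j u := fun c u hu => by
    simpa using h.wT hu
  have h0 := h1 0 16 (by decide +kernel)
  have h2 := h1 2 1 (by decide +kernel)
  have h3 := h1 3 272 (by decide +kernel)
  have h5 := (h1 5 128 (by decide +kernel)).trans h.ps_128
  have h6 := h1 6 299 (by decide +kernel)
  have h7 : sg0 ι s x j 7 = (sg0 ι s x j 6)⁻¹ := eq_inv_of_mul_eq_one_right (by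
    simpa using h.weC (u := [6, 7]) (w := []) (by decide +kernel))
  induction w with
  | nil => simp
  | cons c w ih =>
    rw [List.map_cons, ev_cons, ev_cons, ← ih fun c hc => hw c (by simp [hc])]
    have hc := hw c (by simp)
    have : g * sg0 ι s x j c * g⁻¹ = sg0 ι s x j (sw c) := by
      simp only [List.mem_cons, List.not_mem_nil, or_false] at hc
      rcases hc with rfl | rfl | rfl | rfl | rfl | rfl
      · exact h0 ▸ h.ga.trans h5.symm
      · exact h2 ▸ h.gc.trans h3.symm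
      · exact h3 ▸ h.gd.trans h2.symm
      · exact h5 ▸ h.gt.trans h0.symm
      · change _ = sg0 ι s x j 6
        rw [h6, h.gg]
      · change _ = sg0 ι s x j 7
        rw [h7, h6]
        conv_rhs => rw [← h.gg]
        group
    rw [← this]
    group

theorem Sym.comm (h : Sym t ι s x j g) : Commute (sg0 ι s x j 1) (g * sg0 ι s x j 1 * g⁻¹) := by
  have we := fun u w (h1 : On.weC u w = true) => h.weC h1
  have t5 : ev (sg0 ι s x j) [5] = t := (h.wT (by decide +kernel)).trans h.ps_128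
  obtain ⟨H, hH⟩ : ∃ H : G, ∀ u v w : List ℕ, On.weC (u ++ [1, 2]) ([1, 2] ++ v) = true →
      (∀ c ∈ v, c ∈ [0, 2, 3, 5, 6, 7]) →
      On.weC ([1, 7, 1, 2, 6, 1] ++ v.map sw) (w ++ [1, 7, 1, 2, 6, 1]) = true →
      H * ev (sg0 ι s x j) u * H⁻¹ = ev (sg0 ι s x j) w :=
    ⟨ev (sg0 ι s x j) [1, 7, 1, 2, 6, 1] * g * (ev (sg0 ι s x j) [1, 2])⁻¹, fun u v w h1 h2 h3 => by
      have h4 := we _ _ h1
      have h5 := we _ _ h3
      rw [ev_append, ev_append] at h4 h5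
      rw [eq_mul_inv_of_mul_eq h4, ← mul_inv_eq_iff_eq_mul.2 h5, ← h.sw_ev h2]
      group⟩
  have H1 := hH [5] [5] [0, 2] (by decide +kernel) (by decide) (by decide +kernel)
  have H2 := hH [1, 2, 6, 3, 7, 2, 1] [6, 3, 7] [1, 0, 2, 1] (by decide +kernel) (by decide)
    (by decide +kernel)
  have H3 := hH [1, 2, 6, 2, 7, 1] [6, 2, 7, 2] [6, 3, 7, 3] (by decide +kernel) (by decide)
    (by decide +kernel)
  have H4 := hH [6, 3, 7, 3] [6, 3, 7, 3] ([1, 0, 2, 1] ++ [0]) (by decide +kernel) (by decide)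
    (by decide +kernel)
  rw [t5] at H1
  have c1 : ∀ k a b : G, Commute a b → Commute (k * a * k⁻¹) (k * b * k⁻¹) := fun k a b hab =>
    hab.map (MulAut.conj k)
  have c2 : ∀ y a : G, Commute y (H * a * H⁻¹) → Commute (H⁻¹ * y * H) a := fun y a h1 => by
    simpa [mul_assoc] using c1 H⁻¹ _ _ h1
  have c3 : ∀ y : G, y ^ 3 = 1 → (H⁻¹ * y * H) ^ 3 = 1 := fun y hy => by
    have := conj_pow (a := H⁻¹) (b := y) (i := 3)
    rw [inv_inv, hy] at this
    simpa using this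
  have c4 : ∀ u v, On.weC (u ++ v) (v ++ u) = true →
      Commute (ev (sg0 ι s x j) u) (ev (sg0 ι s x j) v) := fun u v h1 => by
    simpa only [ev_append, commute_iff_eq] using we _ _ h1
  have c5 : ∀ u, On.weC (powW 3 u) [] = true → ev (sg0 ι s x j) u ^ 3 = 1 := fun u h1 => by
    simpa only [ev_powW, ev_nil] using we _ _ h1
  have c6 : ∀ u v w, On.weC (u ++ v) (w ++ u) = true →
      ev (sg0 ι s x j) u * ev (sg0 ι s x j) v * (ev (sg0 ι s x j) u)⁻¹ = ev (sg0 ι s x j) w :=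
    fun u v w h1 => mul_inv_eq_iff_eq_mul.2 (by simpa only [ev_append] using we _ _ h1)
  have key : ∀ y : G, Commute y (ev (sg0 ι s x j) [0, 2]) →
      Commute y (ev (sg0 ι s x j) [1, 0, 2, 1]) → y ^ 3 = 1 → ∃ i < 3, ∃ l < 3,
        y = (H * ev (sg0 ι s x j) (QA.map (· + 8)) * H⁻¹) ^ i *
          (H * ev (sg0 ι s x j) (QB.map (· + 8)) * H⁻¹) ^ l := fun y y1 y2 y3 => by
    obtain ⟨i, hi, l, hl, h1⟩ := h.three (c2 y _ (H1 ▸ y1)) (c3 y y3) (c2 y _ (H2 ▸ y2))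
    refine ⟨i, hi, l, hl, ?_⟩
    rw [conj_pow, conj_pow, show ∀ a b : G, H * a * H⁻¹ * (H * b * H⁻¹) = H * (a * b) * H⁻¹ from
      fun a b => by group, ← h1]
    group
  have a3 : (H * ev (sg0 ι s x j) (QA.map (· + 8)) * H⁻¹) ^ 3 = 1 := by
    rw [conj_pow, c5 _ (by decide +kernel)]; group
  have c7 : ∀ a b c : G, a * b * a⁻¹ = c → H * a * H⁻¹ * (H * b * H⁻¹) * (H * a * H⁻¹)⁻¹ =
      H * c * H⁻¹ := fun a b c h1 => by rw [← h1]; group
  have q1 : Commute (H * ev (sg0 ι s x j) (QA.map (· + 8)) * H⁻¹) (ev (sg0 ι s x j) [0, 2]) :=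
    H1 ▸ c1 H _ _ (h.sg0_cent _)
  have q2 : Commute (H * ev (sg0 ι s x j) (QA.map (· + 8)) * H⁻¹) (ev (sg0 ι s x j) [1, 0, 2, 1]) :=
    H2 ▸ c1 H _ _ (c4 _ _ (by decide +kernel))
  obtain ⟨i, hi, l, hl, r1⟩ := key (ev (sg0 ι s x j) [0, 1] *
    (H * ev (sg0 ι s x j) (QA.map (· + 8)) * H⁻¹) * (ev (sg0 ι s x j) [0, 1])⁻¹)
    (c6 [0, 1] [1, 0, 2, 1] [0, 2] (by decide +kernel) ▸ c1 _ _ _ q2)
    (c6 [0, 1] ([0, 2] ++ [1, 0, 2, 1]) [1, 0, 2, 1] (by decide +kernel) ▸ c1 _ _ _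
      (by rw [ev_append]; exact q1.mul_right q2)) (by rw [conj_pow, a3]; group)
  obtain ⟨r2, r3⟩ := fix9 (k := ev (sg0 ι s x j) [6, 3, 7, 3]) (c1 H _ _ (c4 _ _ (by decide +kernel)))
    a3 (by rw [conj_pow, c5 _ (by decide +kernel)]; group)
    (H3 ▸ c7 _ _ _ (c6 _ _ _ (by decide +kernel)))
    (by rw [conj_pow, ← H3, ← ev_powW]; exact c7 _ _ _ (c6 _ _ _ (by decide +kernel)))
    (c5 _ (by decide +kernel)) (c4 _ _ (by decide +kernel)) hi hl r1 fun i hi l hl h1 => by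
      have h2 : ∀ i < 3, ∀ l < 3, rl (powW i QA ++ powW l QB) = rl QA → i = 1 ∧ l = 0 := by
        decide +kernel
      refine h2 i hi l hl ((h.rl_eq h.cov).1 (congrArg _ (h.inj ?_)))
      rw [conj_pow, conj_pow, sg0_el (by decide), sg0_el (by decide)] at h1
      rw [ev_append, ev_powW, ev_powW, map_mul, map_pow, map_pow]
      rw [show ∀ a b : G, H * a * H⁻¹ * (H * b * H⁻¹) = H * (a * b) * H⁻¹ from
        fun a b => by group] at h1
      exact mul_left_cancel (mul_right_cancel h1)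
  have y0 := h.sw_ev (w := [0]) (by decide)
  have y1 : Commute (g * ev (sg0 ι s x j) [1, 0] * g⁻¹) (ev (sg0 ι s x j) [0, 2]) :=
    h.sw_ev (w := [5, 3]) (by decide) ▸ c1 g _ _ (c4 _ _ (by decide +kernel))
  have y2 : Commute (g * ev (sg0 ι s x j) [1, 0] * g⁻¹) (ev (sg0 ι s x j) [0]) :=
    h.sw_ev (w := [5]) (by decide) ▸ c1 g _ _ (c4 _ _ (by decide +kernel))
  have y3 : (g * ev (sg0 ι s x j) [1, 0] * g⁻¹) ^ 3 = 1 := by
    rw [conj_pow, c5 _ (by decide +kernel)]; group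
  have y4 : Commute (g * ev (sg0 ι s x j) [1, 0] * g⁻¹) (ev (sg0 ι s x j) [1, 0, 2, 1]) := by
    obtain ⟨m, hm⟩ := h.mem_of_cube (c2 _ _ (H1 ▸ y1)) (c3 _ y3)
    have h1 : Commute (ι m) (ev (sg0 ι s x j) [6, 3, 7, 3]) := by
      rw [h.wT (u := 64) (by decide +kernel), ps_64]
      exact Commute.map (mem_center_iff.1 (h.cen 7) m) ι
    have h2 := c1 H _ _ h1
    rw [H4, hm, ev_append, show ∀ a : G, H * (H⁻¹ * a * H) * H⁻¹ = a from fun a => by group] at h2
    simpa only [mul_inv_cancel_right] using h2.mul_right y2.inv_right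
  obtain ⟨i, -, l, -, y5⟩ := key _ y1 y4 y3
  have y6 := (r2.pow_right i).mul_right (r3.pow_right l)
  rw [← y5] at y6
  have y7 := y2.symm.inv_left.mul_left y6
  have y8 := (c4 [1] [5] (by decide +kernel)).inv_right
  rw [show [5] = List.map sw [0] from rfl, ← y0] at y8
  simp only [ev_cons, ev_nil, mul_one, inv_mul_cancel_left] at y7 y8
  have y9 := y7.mul_right y8
  rwa [show ∀ a b : G, g * (a * b) * g⁻¹ * (g * b * g⁻¹)⁻¹ = g * a * g⁻¹ from
    fun a b => by group] at y9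

end H14.On
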