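import Mathlib
import Cfsg.Agent.H14.OnB
import Cfsg.Agent.H29.ON
import Cfsg.Agent.H26.B71C

/-! A simple group of O'Nan type is the O'Nan group. -/

set_option autoImplicit false

namespace H14.On

open H29 H7.Cay H22 Subgroup
open scoped MatrixGroups

theorem chkR : ∀ r ∈ ON.P.relL, ((∀ c ∈ r, c ∈ [0, 1, 2, 3, 5, 6, 7]) ∧ weC r [] = true) ∨
    r = [1, 4, 1, 4] ∨ ((r.map fun c => nth c [5, 1, 3, 2, 1, 0] c).map sw = r ∧
      (∀ c ∈ r.map fun c => nth c [5, 1, 3, 2, 1, 0] c, c ∈ [0, 1, 2, 3, 5, 6, 7]) ∧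
        weC (r.map fun c => nth c [5, 1, 3, 2, 1, 0] c) [] = true) := by decide +kernel

theorem chkO : (allF 512 fun u => imp2 (and2 (Nat.ble 256 u) (Nat.beq (mu u u) 0))
    (anyL (List.range 78) fun m => cjT m u 272)) = true := by decide +kernel

variable {G : Type*} [Group G] {M : Type*} [Group M] {s x : M} {t j g : G} {ι : M →* G}

theorem Cand.cent_le (h : Cand t ι s x j 1 3 0) {K : Subgroup G}
    (hK : ∀ c ∈ [0, 1, 2, 3, 5, 6, 7], sg0 ι s x j c ∈ K) {y : G} (hy : y * t = t * y) : y ∈ K := by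
  have h1 : ∀ c w, On.weC [c] w = true → (∀ c ∈ w, c ∈ [0, 1, 2, 3, 5, 6, 7]) →
      sg0 ι s x j c ∈ K := fun c w h1 h2 => by
    have := h.weC h1
    rw [ev_cons, ev_nil, mul_one] at this
    exact this ▸ ev_mem fun c hc => hK c (h2 c hc)
  have h2 : ∀ c < 3, sg0 ι s x j (c + 8) = ι (el s x c) := fun c hc => by
    simpa using sg0_el (ι := ι) (s := s) (x := x) (j := j) (w := [c]) (by simpa using hc)
  have h3 : ι.range ≤ K := by
    rw [MonoidHom.range_eq_map, ← h.top, map_le_iff_le_comap, closure_le]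
    rintro z (rfl | rfl)
    · exact (h2 0 (by norm_num)).subst (motive := (· ∈ K))
        (h1 8 [2, 3, 6, 2, 3, 7] (by decide +kernel) (by decide))
    · exact (h2 1 (by norm_num)).subst (motive := (· ∈ K))
        (h1 9 [1, 2, 1, 3, 2, 1, 3, 2, 6, 6] (by decide +kernel) (by decide))
  have h4 := h1 11 [0, 3] (by decide +kernel) (by decide)
  rw [sg0, show nth [] CA 11 = [] from rfl, show pk 2248 1 11 = 1 from rfl, ev_nil, map_one, one_mul,
    pow_one] at h4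
  by_cases h5 : y ∈ ι.range
  exacts [h3 h5, (mul_mem_cancel_right h4).1 (h3 (h.idx _ _ hy h.jc h5 h.jM))]

theorem Sym.iso [Finite G] [IsSimpleGroup G] (h : Sym t ι s x j g) : Cfsg.Spor.IsoON G := by
  classical
  haveI : Fact (Nat.Prime 2) := ⟨by norm_num⟩
  obtain ⟨σ, s4, s7, s8⟩ : ∃ σ : ℕ → G, σ 4 = g * sg0 ι s x j 1 * g⁻¹ ∧
      (∀ c ∈ [0, 1, 2, 3, 5, 6, 7], σ c = sg0 ι s x j c) ∧ ∀ c, 8 ≤ c → σ c = 1 :=
    ⟨fun c => if c = 4 then g * sg0 ι s x j 1 * g⁻¹ else if c < 8 then sg0 ι s x j c else 1,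
      if_pos rfl, by simp, fun c hc => (if_neg (by omega)).trans (if_neg (by omega))⟩
  have s1 : ∀ c ∈ [0, 1, 2, 3, 5, 6, 7], g * sg0 ι s x j c * g⁻¹ = σ (sw c) := fun c hc => by
    by_cases h1 : c = 1
    · rw [h1]; exact s4.symm
    · have h2 : ∀ c ∈ [0, 1, 2, 3, 5, 6, 7], c ≠ 1 →
        c ∈ [0, 2, 3, 5, 6, 7] ∧ sw c ∈ [0, 1, 2, 3, 5, 6, 7] := by decide
      simpa [s7 _ (h2 c hc h1).2] using h.sw_ev (w := [c]) (by simpa using (h2 c hc h1).1)
  have s2 : ∀ c d, On.weC [c, d] [] = true → sg0 ι s x j c = (sg0 ι s x j d)⁻¹ := fun c d h1 =>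
    eq_inv_of_mul_eq_one_left (by simpa using h.weC h1)
  have b2 := s2 1 1 (by decide +kernel)
  obtain ⟨ρ, hρ⟩ := PData.exists_hom ON.coh ON.hg (σ := σ) (fun c => by
    by_cases hc : 8 ≤ c
    · rw [ivOf, nth_default _ hc, s8 c hc, inv_one]
    by_cases h4 : c = 4
    · subst h4
      change σ 4 = _
      rw [s4, mul_inv_rev, mul_inv_rev, inv_inv, ← b2, mul_assoc]
    have h1 : ∀ c < 8, c ≠ 4 → c ∈ [0, 1, 2, 3, 5, 6, 7] ∧ ivOf ON.P.ivl c ∈ [0, 1, 2, 3, 5, 6, 7] ∧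
      On.weC [ivOf ON.P.ivl c, c] [] = true := by decide +kernel
    obtain ⟨h2, h3, h5⟩ := h1 c (by omega) h4
    rw [s7 _ h2, s7 _ h3, s2 _ _ h5]) fun r hr => by
      rcases chkR r hr with ⟨h1, h2⟩ | rfl | ⟨h1, h2, h3⟩
      · exact (ev_congr fun c hc => s7 c (h1 c hc)).trans (h.weC h2)
      · simp only [ev_cons, ev_nil, mul_one, s4, s7 1 (by decide)]
        rw [← mul_assoc, ← mul_assoc, mul_assoc (sg0 ι s x j 1), ← h.comm.eq]
        nth_rewrite 1 [b2]
        nth_rewrite 4 [b2]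
        group
      · rw [← h1]
        have h4 := congrArg (MulAut.conj g).toMonoidHom (h.weC h3)
        generalize r.map _ = w at h2 h4
        rw [map_ev, ev_nil, map_one] at h4
        rw [← h4, ev, List.map_map]
        exact ev_congr fun c hc => (s1 c (h2 c hc)).symm
  replace hρ : ∀ c < 8, σ c ∈ ρ.range := fun c hc => ⟨_, hρ c hc⟩
  have c1 : ∀ y, y * t = t * y → y ∈ ρ.range := fun y => h.cent_le fun c hc =>
    s7 c hc ▸ hρ c (by revert c; decide)
  have c2 : ∀ y, y * t = t * y → g * y * g⁻¹ ∈ ρ.range := fun y hy =>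
    h.cent_le (K := ρ.range.comap (MulAut.conj g).toMonoidHom) (fun c hc =>
      (s1 c hc).symm.subst (motive := (· ∈ ρ.range)) (hρ _ (by revert c; decide))) hy
  haveI := ON.simple
  have hi : Function.Injective ρ := by
    rw [← ρ.ker_eq_bot_iff]
    refine ρ.normal_ker.eq_bot_or_eq_top.resolve_right fun h1 => h.t_ne ?_
    obtain ⟨y, rfl⟩ := c1 t rfl
    exact (h1 ▸ mem_top y : y ∈ ρ.ker)
  have e := MonoidHom.ofInjective hi
  have hc : Nat.card ρ.range = 460815505920 := by rw [← Nat.card_congr e.toEquiv, ON.card.1]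
  by_cases ht : ρ.range = ⊤
  · exact ⟨(MulEquiv.ofBijective ρ ⟨hi, MonoidHom.range_eq_top.1 ht⟩).symm⟩
  exfalso
  haveI := e.symm.isSimpleGroup
  generalize ρ.range = K at *
  have T1 : h.T ≤ K := fun y hy => c1 y (mem_centralizer_singleton_iff.1 (h.T_le hy))
  have T2 : SylIn 2 h.T K := by
    refine sylIn_of_not_dvd T1 h.sylT.isPGroup ?_
    have := (h.T.subgroupOf K).card_mul_index
    rw [Nat.card_congr (subgroupOfEquivOfLe T1).toEquiv, h.card_T, hc] at this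
    rw [relIndex]
    omega
  have f0 : ∀ a b k : G, k ∈ K → k * a * k⁻¹ = b → (∃ k ∈ K, k * b * k⁻¹ = t) →
      ∃ k ∈ K, k * a * k⁻¹ = t := by
    rintro a _ k hk rfl ⟨l, hl, h1⟩
    exact ⟨l * k, mul_mem hl hk, by rw [← h1]; group⟩
  have f1 : ∀ k y : G, k * t = t * k → k * y * k⁻¹ = ps ι s x j 16 →
      ∃ k ∈ K, k * (g * y * g⁻¹) * k⁻¹ = t := fun k y h1 h2 =>
    ⟨_, c2 k h1, by rw [← h.ga, ← h2]; group⟩
  have f2 : ∃ k ∈ K, k * (ps ι s x j 16 * t) * k⁻¹ = t := by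
    have := f1 _ (ps ι s x j 16 * t) (h.ps_cent 2) (by
      rw [← h.ps_144, ← h.cjT (by norm_num) (by norm_num) (by norm_num)]; decide +kernel)
    rwa [show g * (ps ι s x j 16 * t) * g⁻¹ = g * ps ι s x j 16 * g⁻¹ * (g * t * g⁻¹) by group,
      h.ga, h.gt, ← h.ps_cent] at this
  have f3 : ∃ k ∈ K, k * ps ι s x j 16 * k⁻¹ = t := f0 _ _ _ (c1 _ (h.ps_cent 2)) (by
    rw [← h.ps_144, ← h.cjT (by norm_num) (by norm_num) (by norm_num)]; decide +kernel) f2
  have f4 : ∃ k ∈ K, k * ps ι s x j 272 * k⁻¹ = t := h.gc ▸ f1 _ _ (h.sg0_cent [1, 0, 2, 1])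
    (h.conjT (v := [1, 0, 2, 1]) (w := [2]) (by decide +kernel) (by decide +kernel)
      (by decide +kernel))
  have f5 : ∀ v ∈ K, v * v = 1 → v ≠ 1 → ∃ k ∈ K, k * v * k⁻¹ = t := fun v hv v2 v1 => by
    obtain ⟨k, hk, h1⟩ := T2.exists_cj_le (zpowers_le.2 hv)
      (isPGroup_zpowers (k := 1) (by rw [pow_one, sq, v2]))
    obtain ⟨u, hu, u1⟩ := h1 (conj_mem_cj (mem_zpowers v))
    refine f0 _ _ k hk u1.symm ?_
    have u2 : ps ι s x j u * ps ι s x j u = 1 := by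
      rw [u1, show k * v * k⁻¹ * (k * v * k⁻¹) = k * (v * v) * k⁻¹ by group, v2]; group
    by_cases u3 : u < 256
    · by_cases u4 : ps ι s x j u = t
      · exact ⟨1, one_mem _, by simpa using u4⟩
      obtain ⟨n, hn⟩ := h.inner_conj (by decide +kernel) ((h.ps_mem hu).2 u3) u2
        (fun u5 => v1 (by simpa [u5] using u1.symm)) u4
      exact hn.elim (fun hn => f0 _ _ _ (c1 _ (h.ct n)) hn f3) fun hn =>
        f0 _ _ _ (c1 _ (h.ct n)) hn f2
    · obtain ⟨m, hm, m1⟩ := anyL_true.1 (imp2_true.1 (allF_true.1 chkO u hu) (and2_true.2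
        ⟨ble_true.2 (by omega), nbeq.2 (h.ps_inj (mu_lt ..) (by norm_num)
          (by rw [h.ps_mu hu hu, u2, ps_zero]))⟩))
      rw [List.mem_range] at hm
      exact f0 _ _ _ (c1 _ (h.ps_cent m)) ((h.cjT (by omega) hu (by norm_num)).1 m1) f4
  obtain ⟨S, hS⟩ := (H26.BR.isBender_of_se (H := K) ⟨ht, by rw [hc]; decide, fun y hy => by
    by_contra h1
    obtain ⟨⟨v, v1, v2⟩, hv⟩ := exists_prime_orderOf_dvd_card' 2
      (even_iff_two_dvd.1 (Nat.not_odd_iff_even.1 h1))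
    rw [← orderOf_coe] at hv
    change orderOf v = 2 at hv
    have v3 : v * v = 1 := by rw [← sq, ← hv, pow_orderOf_eq_one]
    have v4 : v ≠ 1 := fun h2 => by simp [h2] at hv
    obtain ⟨k, hk, k1⟩ := f5 v v1 v3 v4
    obtain ⟨l, hl, l1⟩ := f5 _ (mem_cj.1 v2) (by
      rw [show y⁻¹ * v * y * (y⁻¹ * v * y) = y⁻¹ * (v * v) * y by group, v3]; group)
      fun h2 => v4 (by simpa [mul_assoc, inv_mul_eq_iff_eq_mul] using h2)
    have := c1 (k * y * l⁻¹) (by
      rw [← mul_inv_eq_iff_eq_mul]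
      conv_lhs => rw [← l1]
      rw [← k1]; group)
    exact hy ((mul_mem_cancel_left hk).1 ((mul_mem_cancel_right (inv_mem hl)).1 this))⟩).2
  have S1 : (S : Subgroup G) ≤ K := hS ▸ le_normalizer
  rcases ((normal_subgroupOf_iff_le_normalizer S1).2 hS.le).eq_bot_or_eq_top with h1 | h1
  · rw [subgroupOf_eq_bot, disjoint_iff, inf_of_le_left S1] at h1
    have := S.3 (isPGroup_zpowers (k := 1) (a := t) (by rw [pow_one, sq, h.tt])) (h1 ▸ bot_le)
    exact h.t_ne (by simpa [h1] using this)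
  · obtain ⟨n, hn⟩ := IsPGroup.iff_card.1 S.2
    rw [le_antisymm S1 (subgroupOf_eq_top.1 h1), hc] at hn
    have := (Nat.prime_three.dvd_of_dvd_pow (hn ▸ by decide : 3 ∣ 2 ^ n))
    omega

theorem isoON [Finite G] [IsSimpleGroup G] (t : G) (ht : orderOf t = 2)
    (M : Subgroup (centralizer ({t} : Set G))) [M.Normal] (hM : M.index = 2)
    (hout : centralizer (M : Set (centralizer ({t} : Set G))) ≤ M) (hZc : IsCyclic (center M))
    (hZ4 : Nat.card (center M) = 4) (hperf : commutator M = ⊤) {F : Type*} [Field F] [Fintype F]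
    (hF : Fintype.card F = 4) (e : M ⧸ center M ≃* PSL(3, F)) : Cfsg.Spor.IsoON G := by
  obtain ⟨hC, s, x, hg⟩ := cov_of_iso hZc hZ4 hperf hF e
  have hr : ∀ y : centralizer ({t} : Set G),
      (y : G) ∈ ((centralizer {t}).subtype.comp M.subtype).range ↔ y ∈ M := fun y =>
    ⟨fun ⟨m, hm⟩ => (Subtype.ext hm : (m : centralizer ({t} : Set G)) = y) ▸ m.2,
      fun hy => ⟨⟨y, hy⟩, rfl⟩⟩
  have hc := fun y => (mem_centralizer_singleton_iff (k := y) (g := t)).2
  have hB : Base t ((centralizer {t}).subtype.comp M.subtype) :=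
    { cov := hC
      inj := (subtype_injective _).comp (subtype_injective _)
      ht := ht
      ct := fun m => mem_centralizer_singleton_iff.1 m.1.2
      nrm := fun y hy => ⟨MulAut.conjNormal (⟨y, hc y hy⟩ : centralizer ({t} : Set G)), fun m => rfl⟩
      idx := fun y z hy hz h1 h2 => (hr (⟨y, hc y hy⟩ * ⟨z, hc z hz⟩)).2
        ((mul_mem_iff_of_index_two hM).2 (iff_of_false (mt (hr ⟨y, _⟩).2 h1) (mt (hr ⟨z, _⟩).2 h2)))
      ex := by
        by_contra h1
        push Not at h1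
        rw [M.eq_top_iff'.2 fun y => (hr y).1 (h1 y (mem_centralizer_singleton_iff.1 y.2)),
          index_top] at hM
        omega
      out := fun y hy h1 => (hr ⟨y, hc y hy⟩).2 (hout (mem_centralizer_iff.2 fun m hm =>
        Subtype.ext (h1 ⟨m, hm⟩).symm))
      card := by rw [← M.card_mul_index, hC.card, hM] }
  obtain ⟨s, x, j, pp, hp, d, k, hk, h⟩ := hB.exists_cand hg
  obtain ⟨rfl, rfl, rfl, g, g1, g2⟩ := h.fusion hp hk
  obtain ⟨g, g3⟩ := h.exists_act g1 g2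
  obtain ⟨j, g, h⟩ := h.exists_sym g3
  exact h.iso

theorem transport {G K : Type*} [Group G] [Group K] (f : G ≃* K) (H : Subgroup K) (N : Subgroup H)
    (hN : N.Normal) : ∃ (H' : Subgroup G) (N' : Subgroup H'), N'.Normal ∧ N'.index = N.index ∧
      Nonempty (N' ≃* N) := by
  obtain ⟨g⟩ : Nonempty (H ≃* H.map (f.symm : K →* G)) := ⟨f.symm.subgroupMap H⟩
  generalize H.map (f.symm : K →* G) = H' at g
  exact ⟨H', N.map (g : H →* H'), hN.map _ g.surjective, N.index_map_equiv g,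
    ⟨(g.subgroupMap N).symm⟩⟩

end H14.On
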