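import Mathlib
import Cfsg.Agent.H14.OnFus

/-! The Sylow 2-subgroup of a covering group of `L₃(4)` on codes below 256. -/

set_option autoImplicit false

namespace H14.On

open H29 H7.Cay H22 Subgroup

/-- product of codes. -/
noncomputable def mU (pp u v : ℕ) : ℕ := lit u fun u => lit v fun v =>
  lit (ml (Nat.mod u 64) (Nat.mod v 64)) fun E => Nat.add (Nat.mod E 64) (Nat.mul 64
    (Nat.mod (Nat.add (Nat.add (Nat.div u 64) (Nat.div v 64)) (ch pp (Nat.div E 64))) 4))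

/-- image of a code. -/
noncomputable def tU (pp d u : ℕ) : ℕ :=
  Bool.rec (lit (jt d (Nat.mod u 64)) fun J => Nat.add (Nat.mod J 64) (Nat.mul 64 (Nat.mod
    (Nat.add (ch pp (Nat.div J 64)) (Nat.mul (ch pp (pk QD 8 d)) (Nat.div u 64))) 4))) u
    (Nat.beq d 0)

/-- inverse of a code. -/
noncomputable def iU (pp u : ℕ) : ℕ := lit (mU pp u u) fun a => mU pp (mU pp (mU pp a a) a) u

/-- image of a code under an automorphism followed by a conjugation. -/
noncomputable def ac (pp d l u : ℕ) : ℕ := mU pp (mU pp l (tU pp d u)) (iU pp l)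

theorem mU_eq (pp u v : ℕ) : mU pp u v = ml (u % 64) (v % 64) % 64 +
    64 * ((u / 64 + v / 64 + ch pp (ml (u % 64) (v % 64) / 64)) % 4) := by
  simp only [mU, lit_eq]; rfl

theorem mU_lt (pp u v : ℕ) : mU pp u v < 256 := by rw [mU_eq]; omega

theorem mU_mod (pp u v : ℕ) : mU pp u v % 64 = ml (u % 64) (v % 64) % 64 := by
  rw [mU_eq]; omega

theorem iU_lt (pp u : ℕ) : iU pp u < 256 := by rw [iU, lit_eq]; exact mU_lt ..

theorem ac_lt (pp d l u : ℕ) : ac pp d l u < 256 := mU_lt ..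

theorem chk_iU : ∀ pp < 2, ∀ u < 256, mU pp (iU pp u) u = 0 := by decide +kernel

theorem chk_Z : ∀ l < 64, ml l 16 % 64 = ml 16 l % 64 := by decide +kernel

theorem chk_F : ∀ l < 64, ml l l % 64 = 16 → ∀ m < 64, ml m m % 64 = 0 →
    ml l m % 64 = ml m l % 64 → m % 16 = 0 := by decide +kernel

theorem pig {f : ℕ → ℕ} (h : ∀ i < 5, f i < 4) : ∃ i < 5, ∃ k < 5, i ≠ k ∧ f i = f k := by
  obtain ⟨i, hi, k, hk, h1⟩ := Finset.exists_ne_map_eq_of_card_lt_of_maps_to
    (s := Finset.range 5) (t := Finset.range 4) (f := f) (by simp)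
    fun i hi => by simpa using h i (by simpa using hi)
  exact ⟨i, by simpa using hi, k, by simpa using hk, h1⟩

variable {M : Type*} [Group M] {s x : M} {pp : ℕ}

/-- the element with a given code. -/
noncomputable def uM (s x : M) (u : ℕ) : M := gT s x (u % 64) * rv s x 7 ^ (u / 64)

/-- good generators. -/
structure Good (s x : M) (pp : ℕ) : Prop extends Gen s x where
  cov : Cov M
  p2 : pp < 2
  hp : rv s x 6 = rv s x 7 ^ (2 * pp)
  hq : rv s x 7 ^ 2 ≠ 1

theorem Gen.good (hg : Gen s x) (hC : Cov M) : ∃ (s x : M) (pp : ℕ), Good s x pp := by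
  obtain ⟨s, x, hg, hp⟩ := hg.exists_good hC
  have hq : rv s x 7 ^ 2 ≠ 1 := fun hq => by
    haveI := hC.cyc
    obtain ⟨z, hz⟩ := IsCyclic.exists_ofOrder_eq_natCard (α := center M)
    obtain ⟨a, b, h1⟩ := hg.center_eq hC z.2
    have h2 : z ^ 2 = 1 := Subtype.ext (by
      rw [SubmonoidClass.coe_pow, h1, Commute.mul_pow (mem_center_iff.1 (pow_mem (hg.cen 7) b) _),
        ← pow_mul, ← pow_mul, mul_comm a, mul_comm b, pow_mul, pow_mul, hp, hq]
      simp)
    have := orderOf_dvd_of_pow_eq_one h2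
    rw [hz, hC.cz] at this
    omega
  by_cases h1 : rv s x 6 = 1
  · exact ⟨s, x, 0, hg, hC, by norm_num, by simpa using h1, hq⟩
  · exact ⟨s, x, 1, hg, hC, by norm_num, hC.sq_eq (hg.cen 6) (pow_mem (hg.cen 7) 2) hp
      (by rw [← pow_mul, hg.z4 _ (hg.cen 7)]) h1 hq, hq⟩

theorem uM_zero : uM s x 0 = 1 := by simp [uM, gT_zero]
theorem uM_64 : uM s x 64 = rv s x 7 := by simp [uM, gT_zero]
theorem uM_128 : uM s x 128 = rv s x 7 ^ 2 := by simp [uM, gT_zero]
theorem uM_lt {l : ℕ} (hl : l < 64) : uM s x l = gT s x l := by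
  simp [uM, Nat.mod_eq_of_lt hl, Nat.div_eq_of_lt hl]

namespace Good

theorem fin (h : Good s x pp) : Finite M :=
  Nat.finite_of_card_ne_zero (by rw [h.cov.card]; norm_num)

theorem q4 (h : Good s x pp) : rv s x 7 ^ 4 = 1 := h.z4 _ (h.cen 7)

theorem q_ord (h : Good s x pp) : orderOf (rv s x 7) = 4 :=
  haveI : Fact (Nat.Prime 2) := ⟨by norm_num⟩
  orderOf_eq_prime_pow (p := 2) (n := 1) h.hq h.q4

theorem cen_eq (h : Good s x pp) {z : M} (hz : z ∈ center M) : ∃ k < 4, z = rv s x 7 ^ k := by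
  obtain ⟨a, b, h3⟩ := h.center_eq h.cov hz
  exact ⟨_, Nat.mod_lt _ (by norm_num), by
    rw [h3, h.hp, ← pow_mul, ← pow_add, pow_eq_pow_mod _ h.q4]⟩

theorem key (h : Good s x pp) {a : ℕ} (ha : a < 64) (b : ℕ) :
    uM s x (a + 64 * (b % 4)) = gT s x a * rv s x 7 ^ b := by
  rw [uM, show (a + 64 * (b % 4)) % 64 = a by omega, show (a + 64 * (b % 4)) / 64 = b % 4 by omega,
    ← pow_eq_pow_mod _ h.q4]

theorem mul (h : Good s x pp) (u v : ℕ) : uM s x (mU pp u v) = uM s x u * uM s x v := by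
  have h4 : ∀ a, a % 64 < 64 := fun a => Nat.mod_lt _ (by norm_num)
  rw [mU_eq, h.key (h4 _), uM, uM, mul_assoc, ← mul_assoc (_ ^ _),
    ← mem_center_iff.1 (pow_mem (h.cen 7) _), mul_assoc, ← mul_assoc, h.gT_mul (h4 _) (h4 _),
    h.zT_ch h.hp, mul_assoc, ← pow_add, ← pow_add]
  congr 2
  ring

theorem inv (h : Good s x pp) {u : ℕ} (hu : u < 256) : uM s x (iU pp u) = (uM s x u)⁻¹ :=
  eq_inv_of_mul_eq_one_left (by rw [← h.mul, chk_iU pp h.p2 u hu, uM_zero])

theorem mq_uM (h : Good s x pp) (u : ℕ) : mq M (uM s x u) = mq M (gT s x (u % 64)) := by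
  rw [uM, map_mul, mq_eq_one.2 (pow_mem (h.cen 7) _), mul_one]

theorem mq_iff (h : Good s x pp) {u v : ℕ} :
    mq M (uM s x u) = mq M (uM s x v) ↔ u % 64 = v % 64 := by
  rw [h.mq_uM, h.mq_uM]
  exact ⟨h.gT_inj h.cov (Nat.mod_lt _ (by norm_num)) (Nat.mod_lt _ (by norm_num)),
    fun h => h ▸ rfl⟩

theorem cen_iff (h : Good s x pp) {u : ℕ} : uM s x u ∈ center M ↔ u % 64 = 0 := by
  rw [← mq_eq_one, ← h.mq_iff (v := 0), uM_zero, map_one]

theorem eq_iff (h : Good s x pp) {u v : ℕ} (hu : u < 256) (hv : v < 256) :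
    uM s x u = uM s x v ↔ u = v := by
  refine ⟨fun h1 => ?_, fun h => h ▸ rfl⟩
  have h2 := h.mq_iff.1 (congrArg (mq M) h1)
  rw [uM, uM, h2, mul_right_inj, pow_eq_pow_iff_modEq, h.q_ord, Nat.ModEq] at h1
  omega

theorem cm_iff (h : Good s x pp) {u v : ℕ} :
    mU pp u v = mU pp v u ↔ uM s x u * uM s x v = uM s x v * uM s x u := by
  rw [← h.mul, ← h.mul, h.eq_iff (mU_lt ..) (mU_lt ..)]

theorem map_id (h : Good s x pp) {K : Type*} [Group K] {f g : M →* K} (h1 : f s = g s)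
    (h2 : f x = g x) (m : M) : f m = g m :=
  DFunLike.congr_fun (MonoidHom.eq_of_eqOn_dense h.top (by rintro y (rfl | rfl); exacts [h1, h2])) m

theorem map_uM (h : Good s x pp) {d : ℕ} (hd : d < 4) {f : M →* M} (fs : f s = sD s x d)
    (fx : f x = xD s x d) (u : ℕ) : f (uM s x u) = uM s x (tU pp d u) := by
  unfold tU
  cases h1 : Nat.beq d 0
  · have d0 : 0 < d := Nat.pos_of_ne_zero fun h2 => by simp [h2] at h1
    refine Eq.trans ?_ (h.key (Nat.mod_lt _ (by norm_num)) _).symm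
    rw [uM, map_mul, h.map_gT d0 hd fs fx (Nat.mod_lt _ (by norm_num)), map_pow,
      (h.map_pq (by omega) fs fx).2, h.zT_ch h.hp, h.zT_ch h.hp, mul_assoc, ← pow_mul, ← pow_add]
    rfl
  · obtain rfl := nbeq.1 h1
    exact h.map_id (g := MonoidHom.id M) (fs.trans (mul_one _)) (fx.trans (mul_one _)) _

theorem typ (h : Good s x pp) (f : M ≃* M) :
    ∃ m : M, ∃ d < 4, m * f s * m⁻¹ = sD s x d ∧ m * f x * m⁻¹ = xD s x d := by
  obtain ⟨m, d, hd, h1, h2⟩ := h.aut_class h.cov (h.conj f) (fun h1 => h.s_ne h.cov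
    (mem_center_iff.2 fun g => f.injective (by rw [map_mul, map_mul, mem_center_iff.1 h1])))
    fun h1 => h.x_ne h.cov (by rw [f.map_eq_one_iff.1 h1]; exact one_mem _)
  refine ⟨m, d, ?_, h1, h2⟩
  by_contra h3
  have h4 := congrArg (· ^ 2) (h.map_pq hd (f := (f.trans (MulAut.conj m) : M →* M)) h1 h2).1
  have h5 : ∀ d < 12, ¬ d < 4 → ∀ pp < 2, ch pp (pk PD 8 d) * 2 % 4 = 2 := by decide +kernel
  simp only [← map_pow, h.zT_ch h.hp] at h4
  rw [h.hp, ← pow_mul, show 2 * pp * 2 = 4 * pp by ring, pow_mul, h.q4, one_pow, map_one, ← pow_mul,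
    pow_eq_pow_mod _ h.q4, h5 d hd h3 pp h.p2] at h4
  exact h.hq h4.symm

theorem a2 (h : Good s x pp) : uM s x 16 * uM s x 16 = 1 := by
  have : ∀ pp < 2, mU pp 16 16 = 0 := by decide +kernel
  rw [← h.mul, this pp h.p2, uM_zero]

theorem centQ (h : Good s x pp) {y : M ⧸ center M} (hy : Commute y (mq M (uM s x 16))) :
    ∃ l < 64, y = mq M (uM s x l) := by
  haveI := h.fin
  haveI : Fact (Nat.Prime 2) := ⟨by norm_num⟩
  let S : Submonoid (M ⧸ center M) :=
    { carrier := Set.range fun l => mq M (uM s x l)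
      one_mem' := ⟨0, by simp [uM_zero]⟩
      mul_mem' := by
        rintro _ _ ⟨u, rfl⟩ ⟨v, rfl⟩
        exact ⟨mU pp u v, by simp only [h.mul, map_mul]⟩ }
  let U : Subgroup (M ⧸ center M) :=
    { S with
      inv_mem' := by
        rintro _ ⟨u, rfl⟩
        refine ⟨iU pp (u % 64), ?_⟩
        simp only
        rw [h.inv (by omega), map_inv, h.mq_iff.2 (Nat.mod_mod u 64)] }
  have hU : Nat.card U = 64 := by
    rw [← Nat.card_eq_of_bijective (f := fun l : Fin 64 => (⟨mq M (uM s x l), l, rfl⟩ : U))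
      ⟨fun a b hab => by have := h.mq_iff.1 (congrArg Subtype.val hab); omega, by
        rintro ⟨_, u, rfl⟩
        exact ⟨⟨u % 64, by omega⟩, Subtype.ext (h.mq_iff.2 (Nat.mod_mod u 64))⟩⟩]
    simp
  have hS : SylIn 2 U ⊤ := by
    refine sylIn_of_not_dvd le_top (IsPGroup.of_card (n := 6) hU) ?_
    have := U.card_mul_index
    rw [hU, h.cov.cq] at this
    rw [relIndex_top_right]
    omega
  have h5 : mq M (uM s x 16) ^ 2 = 1 := by rw [← map_pow, sq, h.a2, map_one]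
  have h6 : mq M (uM s x 16) ≠ 1 := by rw [Ne, mq_eq_one, h.cen_iff]; norm_num
  have h7 : centralizer {mq M (uM s x 16)} = U := hS.2.2 _ le_top
    (isPGroup_iff_forall_mem.2 fun y h4 => ⟨2, by
      replace h4 : Commute y _ := mem_centralizer_singleton_iff.1 h4
      generalize mq M (uM s x 16) = v at h4 h5 h6
      have h8 : ∀ k l, (y * v) ^ k = 1 → y ^ l = 1 → k * l % 2 = 1 → False := fun k l e1 e2 e3 => by
        have : (y * v) ^ (k * l) = 1 := by rw [pow_mul, e1, one_pow]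
        rw [h4.mul_pow, mul_comm k, pow_mul, e2, one_pow, one_mul, pow_eq_pow_mod _ h5, mul_comm,
          e3, pow_one] at this
        exact h6 this
      by_contra h9
      have h10 : (y * v) ^ 4 ≠ 1 := by
        rwa [h4.mul_pow, show 4 = 2 * 2 from rfl, pow_mul v, h5, one_pow, mul_one]
      rcases h.cov.pw y with e | e | e | e <;> rcases h.cov.pw (y * v) with e' | e' | e' | e' <;>
        first | exact h9 e | exact h10 e' | exact h8 _ _ e' e rfl⟩)
    (by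
      rintro _ ⟨u, rfl⟩
      simp only [mem_centralizer_singleton_iff, ← map_mul, ← h.mul, h.mq_iff, mU_mod]
      exact chk_Z _ (Nat.mod_lt _ (by norm_num)))
  obtain ⟨u, rfl⟩ : y ∈ U := h7 ▸ mem_centralizer_singleton_iff.2 hy
  exact ⟨u % 64, by omega, h.mq_iff.2 (Nat.mod_mod u 64).symm⟩

theorem of_mq (h : Good s x pp) {n : M} {l : ℕ} (hl : l < 64) (h1 : mq M n = mq M (uM s x l)) :
    ∃ u < 256, u % 64 = l ∧ n = uM s x u := by
  rw [eq_comm, ← inv_mul_eq_one, ← map_inv, ← map_mul, mq_eq_one] at h1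
  obtain ⟨k, hk, h2⟩ := h.cen_eq h1
  refine ⟨l + 64 * (k % 4), by omega, by omega, ?_⟩
  rw [h.key hl, ← h2, uM_lt hl, mul_inv_cancel_left]

theorem centU (h : Good s x pp) {n : M} (hn : n * uM s x 16 = uM s x 16 * n) :
    ∃ u < 256, n = uM s x u := by
  obtain ⟨l, hl, h1⟩ := h.centQ (Commute.map hn (mq M))
  obtain ⟨u, hu, -, h2⟩ := h.of_mq hl h1
  exact ⟨u, hu, h2⟩

theorem conjQ (h : Good s x pp) {y : M ⧸ center M} (y2 : y * y = 1) (y1 : y ≠ 1) :
    ∃ n, n * y * n⁻¹ = mq M (uM s x 16) :=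
  haveI : Fact (Nat.Prime 2) := ⟨by norm_num⟩
  isConj_iff.1 (h.cov.inv _ _ (orderOf_eq_prime (by rw [sq, y2]) y1) (orderOf_eq_prime
    (by rw [← map_pow, sq, h.a2, map_one]) (by rw [Ne, mq_eq_one, h.cen_iff]; norm_num)))

theorem conjU (h : Good s x pp) {m : M} (m2 : m * m = 1) (m1 : m ∉ center M) :
    ∃ n, n * m * n⁻¹ = uM s x 16 := by
  obtain ⟨n, hn⟩ := h.conjQ (y := mq M m) (by rw [← map_mul, m2, map_one]) (mt mq_eq_one.1 m1)
  obtain ⟨n, rfl⟩ := QuotientGroup.mk'_surjective _ n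
  obtain ⟨u, hu, u1, u2⟩ := h.of_mq (n := n * m * n⁻¹) (l := 16) (by norm_num) (by simpa using hn)
  have h1 : ∀ pp < 2, ∀ u < 256, u % 64 = 16 → mU pp u u = 0 →
    u = 16 ∨ mU pp 2 u = mU pp 16 2 := by decide +kernel
  rcases h1 pp h.p2 u hu u1 (by
    rw [← h.eq_iff (mU_lt ..) (by norm_num), h.mul, ← u2, conj_mul, m2, uM_zero]
    group) with rfl | h2
  · exact ⟨n, u2⟩
  · refine ⟨uM s x 2 * n, ?_⟩
    rw [← h.eq_iff (mU_lt ..) (mU_lt ..), h.mul, h.mul, ← u2, ← mul_inv_eq_iff_eq_mul] at h2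
    rw [← h2]; group

theorem five (h : Good s x pp) {w : M ⧸ center M} {b : ℕ → M ⧸ center M} (w1 : w * w ≠ 1)
    (w2 : w * w * (w * w) = 1) (hb : ∀ i < 5, b i * b i = 1 ∧ Commute w (b i)) :
    ∃ i < 5, ∃ k < 5, i ≠ k ∧ b i = b k := by
  obtain ⟨n, hn⟩ := h.conjQ w2 w1
  rw [← conj_mul] at hn
  obtain ⟨l, hl, l1⟩ := h.centQ (y := n * w * n⁻¹) (hn ▸ (Commute.refl _).mul_right (Commute.refl _))
  have h1 : ∀ i, ∃ m, i < 5 → m < 4 ∧ n * b i * n⁻¹ = mq M (uM s x (16 * m)) := fun i => by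
    by_cases hi : i < 5
    · have h2 : Commute (n * w * n⁻¹) (n * b i * n⁻¹) := (hb i hi).2.conj n
      obtain ⟨m, hm, m1⟩ := h.centQ (y := n * b i * n⁻¹) (hn ▸ h2.symm.mul_right h2.symm)
      have h3 := chk_F l hl (by
        rw [l1, ← map_mul, ← h.mul, h.mq_iff, mU_mod, Nat.mod_eq_of_lt hl] at hn
        exact hn) m hm (by
          have : n * b i * n⁻¹ * (n * b i * n⁻¹) = 1 := by rw [conj_mul, (hb i hi).1]; group
          rwa [m1, ← map_mul, ← h.mul, mq_eq_one, h.cen_iff, mU_mod, Nat.mod_eq_of_lt hm] at this)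
        (by
          rwa [l1, m1, Commute, SemiconjBy, ← map_mul, ← map_mul, ← h.mul, ← h.mul, h.mq_iff, mU_mod,
            mU_mod, Nat.mod_eq_of_lt hl, Nat.mod_eq_of_lt hm] at h2)
      exact ⟨m / 16, fun _ => ⟨by omega, by rw [m1, show 16 * (m / 16) = m by omega]⟩⟩
    · exact ⟨0, fun h => absurd h hi⟩
  choose f hf using h1
  obtain ⟨i, hi, k, hk, h2, h3⟩ := pig fun i hi => (hf i hi).1
  exact ⟨i, hi, k, hk, h2, mul_left_cancel (mul_right_cancel ((hf i hi).2.trans (h3 ▸ (hf k hk).2.symm)))⟩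

end Good

end H14.On
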