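import Mathlib
import Cfsg.Agent.H14.StU

/-! A standard subgroup `4·L₃(4)`: conjugates of the central involution. -/

set_option autoImplicit false

namespace H14.On

open H29 H7.Cay H22 Subgroup

variable {M : Type*} [Group M] {s x : M} {pp : ℕ} {G : Type*} [Group G] {t : G} {ι : M →* G}

/-- the centraliser of the image. -/
def KK (ι : M →* G) : Subgroup G := centralizer (ι.range : Set G)

theorem mem_KK {y : G} : y ∈ KK ι ↔ ∀ m, ι m * y = y * ι m :=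
  ⟨fun h m => h _ ⟨m, rfl⟩, fun h _ ⟨m, hm⟩ => hm ▸ h m⟩

/-- the product of the image and its centraliser. -/
def LK (ι : M →* G) : Subgroup G where
  carrier := {y | ∃ m, ∃ κ ∈ KK ι, y = ι m * κ}
  one_mem' := ⟨1, 1, one_mem _, by simp⟩
  mul_mem' := by
    rintro _ _ ⟨m, κ, h1, rfl⟩ ⟨n, l, h2, rfl⟩
    exact ⟨m * n, κ * l, mul_mem h1 h2, by
      rw [map_mul, mul_assoc, ← mul_assoc κ, ← mem_KK.1 h1, mul_assoc, mul_assoc]⟩
  inv_mem' := by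
    rintro _ ⟨m, κ, h1, rfl⟩
    exact ⟨m⁻¹, κ⁻¹, inv_mem h1, by rw [mem_KK.1 (inv_mem h1), map_inv, mul_inv_rev]⟩

theorem L_LK (m : M) : ι m ∈ LK ι := ⟨m, 1, one_mem _, (mul_one _).symm⟩

theorem K_LK {κ : G} (h : κ ∈ KK ι) : κ ∈ LK ι := ⟨1, κ, h, by simp⟩

open Classical in
/-- the inner automorphism induced by an element. -/
noncomputable def piQ (ι : M →* G) (y : G) : M ⧸ center M :=
  if h : y ∈ LK ι then mq M h.choose else 1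

/-- the element with a given code. -/
noncomputable def pu (ι : M →* G) (s x : M) (u : ℕ) : G := ι (uM s x u)

theorem pu_zero : pu ι s x 0 = 1 := by rw [pu, uM_zero, map_one]

/-- the hypotheses on a standard subgroup. -/
structure Std (t : G) (ι : M →* G) (s x : M) (pp : ℕ) : Prop extends Good s x pp where
  inj : Function.Injective ι
  tq : pu ι s x 128 = t
  nrm : ∀ y, y * t = t * y → ∃ f : M ≃* M, ∀ m, ι (f m) = y * ι m * y⁻¹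
  tight : ∀ u g, u * u = 1 → u ≠ 1 → u ∈ KK ι → g * u * g⁻¹ ∈ KK ι → g * t = t * g

/-- `j` acts as an automorphism of the list. -/
structure Th (t : G) (ι : M →* G) (s x : M) (d : ℕ) (j : G) : Prop where
  c : j * t = t * j
  hs : j * ι s * j⁻¹ = ι (sD s x d)
  hx : j * ι x * j⁻¹ = ι (xD s x d)

/-- an elementary abelian group of order 8. -/
def AL : List ℕ := [0, 16, 32, 48, 128, 144, 160, 176]

theorem chkA : ∀ pp < 2, ∀ b ∈ AL, mU pp b b = 0 ∧ mU pp b 16 = mU pp 16 b ∧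
    (∃ r ∈ [0, 5, 79, 10], ∃ q ∈ [0, 64], mU pp r 16 = mU pp 16 r ∧ mU pp q 16 = mU pp 16 q ∧
      b = mU pp (mU pp r r) (mU pp q q)) ∧
    (b = 0 ∨ b = 128 ∨ b = 16 ∨ b = mU pp 16 128 ∨ mU pp b 1 = mU pp 128 (mU pp 1 b)) := by
  decide +kernel

set_option synthInstance.maxSize 2048 in
theorem chkP : ∀ pp < 2, ∀ i < 5, [0, 64, 5, 79, 69].getD i 0 < 256 ∧
    mU pp ([0, 64, 5, 79, 69].getD i 0) 16 = mU pp 16 ([0, 64, 5, 79, 69].getD i 0) ∧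
    AL.getD i 0 ∈ AL ∧ ∀ k < 5, i ≠ k → (∃ b ∈ AL, b ≠ 0 ∧ mU pp (AL.getD i 0) b = AL.getD k 0) ∧
      ∀ w ∈ [mU pp (iU pp ([0, 64, 5, 79, 69].getD i 0)) ([0, 64, 5, 79, 69].getD k 0)],
        mU pp w w ∈ AL ∧ mU pp w w ≠ 0 ∧ ∀ b ∈ AL, mU pp w b = mU pp b w := by
  decide +kernel

theorem chkZ : ∀ pp < 2, mU pp 64 64 = 128 ∧ mU pp 128 128 = 0 ∧ mU pp 1 16 = mU pp 16 1 ∧
    mU pp 2 16 = mU pp (mU pp 16 128) 2 ∧
    ∀ d < 4, tU pp d 16 = 16 ∧ (tU pp d 64 = 64 ∨ tU pp d 64 = mU pp 64 128) := by decide +kernel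

theorem AL_lt {b : ℕ} (hb : b ∈ AL) : b < 256 := by revert b; decide

namespace Std

theorem pmul (h : Std t ι s x pp) (u v : ℕ) :
    pu ι s x (mU pp u v) = pu ι s x u * pu ι s x v := by rw [pu, h.mul, map_mul]; rfl

theorem pinv (h : Std t ι s x pp) {u : ℕ} (hu : u < 256) :
    pu ι s x (iU pp u) = (pu ι s x u)⁻¹ := by rw [pu, h.inv hu, map_inv]; rfl

theorem peq (h : Std t ι s x pp) {u v : ℕ} (hu : u < 256) (hv : v < 256) :
    pu ι s x u = pu ι s x v ↔ u = v := h.inj.eq_iff.trans (h.eq_iff hu hv)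

theorem pcm (h : Std t ι s x pp) {u v : ℕ} :
    mU pp u v = mU pp v u ↔ pu ι s x u * pu ι s x v = pu ι s x v * pu ι s x u := by
  rw [← h.pmul, ← h.pmul, h.peq (mU_lt ..) (mU_lt ..)]

theorem mem_K (h : Std t ι s x pp) {m : M} : ι m ∈ KK ι ↔ m ∈ center M := by
  simp only [mem_KK, ← map_mul, h.inj.eq_iff, mem_center_iff]

theorem pu_K (h : Std t ι s x pp) {u : ℕ} : pu ι s x u ∈ KK ι ↔ u % 64 = 0 :=
  h.mem_K.trans h.cen_iff

theorem tK (h : Std t ι s x pp) : t ∈ KK ι := h.tq ▸ h.pu_K.2 rfl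

theorem ct (h : Std t ι s x pp) (m : M) : ι m * t = t * ι m := mem_KK.1 h.tK m

theorem pct (h : Std t ι s x pp) (u : ℕ) : pu ι s x u * t = t * pu ι s x u := h.ct _

theorem Kt (h : Std t ι s x pp) {κ : G} (hκ : κ ∈ KK ι) : κ * t = t * κ :=
  h.tq ▸ (mem_KK.1 hκ _).symm

theorem LKt (h : Std t ι s x pp) {y : G} (hy : y ∈ LK ι) : y * t = t * y := by
  obtain ⟨m, κ, h1, rfl⟩ := hy
  exact Commute.mul_left (h.ct m) (h.Kt h1)

theorem t_ne (h : Std t ι s x pp) : t ≠ 1 := by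
  rw [← h.tq, ← pu_zero (ι := ι) (s := s) (x := x), Ne, h.peq (by norm_num) (by norm_num)]
  norm_num

theorem tt (h : Std t ι s x pp) : t * t = 1 := by
  rw [← h.tq, ← h.pmul, (chkZ pp h.p2).2.1, pu_zero]

theorem zz (h : Std t ι s x pp) : pu ι s x 64 * pu ι s x 64 = t := by
  rw [← h.pmul, (chkZ pp h.p2).1, h.tq]

theorem aa (h : Std t ι s x pp) : pu ι s x 16 * pu ι s x 16 = 1 := by
  rw [pu, ← map_mul, h.a2, map_one]

theorem ht (h : Std t ι s x pp) : orderOf t = 2 :=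
  haveI : Fact (Nat.Prime 2) := ⟨by norm_num⟩
  orderOf_eq_prime (by rw [sq, h.tt]) h.t_ne

theorem conj_sq (h : Std t ι s x pp) (y : G) : y * t * y⁻¹ * (y * t * y⁻¹) = 1 := by
  rw [conj_mul, h.tt]; group

theorem L_conj (h : Std t ι s x pp) {y : G} (hy : y * t = t * y) (m : M) :
    ∃ n, y * ι m * y⁻¹ = ι n := by
  obtain ⟨f, hf⟩ := h.nrm y hy
  exact ⟨_, (hf m).symm⟩

theorem K_conj (h : Std t ι s x pp) {y κ : G} (hy : y * t = t * y) (hκ : κ ∈ KK ι) :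
    y * κ * y⁻¹ ∈ KK ι := mem_KK.2 fun m => by
  obtain ⟨n, hn⟩ := h.L_conj (Commute.inv_left hy) m
  calc _ = y * (y⁻¹ * ι m * y⁻¹⁻¹ * κ) * y⁻¹ := by group
    _ = _ := by rw [hn, mem_KK.1 hκ, ← hn]; group

theorem LK_conj (h : Std t ι s x pp) {y z : G} (hy : y * t = t * y) (hz : z ∈ LK ι) :
    y * z * y⁻¹ ∈ LK ι := by
  obtain ⟨m, κ, h1, rfl⟩ := hz
  obtain ⟨n, hn⟩ := h.L_conj hy m
  exact ⟨n, _, h.K_conj hy h1, by rw [← hn]; group⟩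

theorem pi_eq (h : Std t ι s x pp) (m : M) {κ : G} (hκ : κ ∈ KK ι) : piQ ι (ι m * κ) = mq M m := by
  have h1 : ι m * κ ∈ LK ι := ⟨m, κ, hκ, rfl⟩
  rw [piQ, dif_pos h1]
  obtain ⟨l, hl, h2⟩ := h1.choose_spec
  generalize h1.choose = n at h2
  rw [← inv_mul_eq_one, ← map_inv, ← map_mul, mq_eq_one, ← h.mem_K, map_mul, map_inv,
    eq_mul_inv_of_mul_eq h2, mul_assoc, inv_mul_cancel_left]
  exact mul_mem hl (inv_mem hκ)

theorem pi_mul (h : Std t ι s x pp) {y z : G} (hy : y ∈ LK ι) (hz : z ∈ LK ι) :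
    piQ ι (y * z) = piQ ι y * piQ ι z := by
  obtain ⟨m, κ, h1, rfl⟩ := hy
  obtain ⟨n, l, h2, rfl⟩ := hz
  rw [mul_assoc, ← mul_assoc κ, ← mem_KK.1 h1, mul_assoc, ← mul_assoc, ← map_mul,
    h.pi_eq _ (mul_mem h1 h2), h.pi_eq _ h1, h.pi_eq _ h2, map_mul]

theorem pi_one (h : Std t ι s x pp) {y : G} (hy : y ∈ LK ι) : piQ ι y = 1 ↔ y ∈ KK ι := by
  obtain ⟨m, κ, h1, rfl⟩ := hy
  rw [h.pi_eq _ h1, mq_eq_one, mul_mem_cancel_right h1, h.mem_K]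

theorem aut (h : Std t ι s x pp) {d : ℕ} {j : G} (hj : Th t ι s x d j) : ∃ f : M →* M,
    f s = sD s x d ∧ f x = xD s x d ∧ ∀ m, j * ι m * j⁻¹ = ι (f m) := by
  obtain ⟨g, hg⟩ := h.nrm j hj.c
  exact ⟨g, h.inj ((hg s).trans hj.hs), h.inj ((hg x).trans hj.hx), fun m => (hg m).symm⟩

theorem act (h : Std t ι s x pp) {d : ℕ} {j : G} (hj : Th t ι s x d j) (hd : d < 4) (u : ℕ) :
    j * pu ι s x u * j⁻¹ = pu ι s x (tU pp d u) := by
  obtain ⟨f, fs, fx, hf⟩ := h.aut hj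
  rw [pu, hf, h.map_uM hd fs fx, pu]

theorem same (h : Std t ι s x pp) {d : ℕ} {j k : G} (hj : Th t ι s x d j) (hk : Th t ι s x d k) :
    j⁻¹ * k ∈ KK ι := mem_KK.2 fun m => by
  have := h.map_id (f := (MulAut.conj j).toMonoidHom.comp ι) (g := (MulAut.conj k).toMonoidHom.comp ι)
    (hj.hs.trans hk.hs.symm) (hj.hx.trans hk.hx.symm) m
  change j * ι m * j⁻¹ = k * ι m * k⁻¹ at this
  calc _ = j⁻¹ * (j * ι m * j⁻¹) * k := by group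
    _ = _ := by rw [this]; group

theorem zero (h : Std t ι s x pp) {j : G} (hj : Th t ι s x 0 j) : j ∈ KK ι := by
  simpa using h.same (j := 1) ⟨by simp, by simp [show sD s x 0 = s from mul_one _],
    by simp [show xD s x 0 = x from mul_one _]⟩ hj

theorem sqK (h : Std t ι s x pp) {d : ℕ} {j : G} (hj : Th t ι s x d j) (hd : d < 4) :
    j * j ∈ KK ι := by
  rcases Nat.eq_zero_or_pos d with rfl | d0
  · exact mul_mem (h.zero hj) (h.zero hj)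
  obtain ⟨f, fs, fx, hf⟩ := h.aut hj
  refine mem_KK.2 fun m => ?_
  conv_lhs => rw [← h.map_map d0 hd fs fx m, ← hf, ← hf]
  group

theorem typ' (h : Std t ι s x pp) {y : G} (hy : y * t = t * y) :
    ∃ m, ∃ d < 4, Th t ι s x d (ι m * y) := by
  obtain ⟨f, hf⟩ := h.nrm y hy
  obtain ⟨m, d, hd, h1, h2⟩ := h.typ f
  exact ⟨m, d, hd, Commute.mul_left (h.ct m) hy,
    by rw [← h1, map_mul, map_mul, hf, map_inv]; group,
    by rw [← h2, map_mul, map_mul, hf, map_inv]; group⟩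

theorem sameLK (h : Std t ι s x pp) {d : ℕ} {y z : G} {m n : M} (hy : Th t ι s x d (ι m * y))
    (hz : Th t ι s x d (ι n * z)) : y⁻¹ * z ∈ LK ι := by
  have := mul_mem (h.LK_conj (Commute.inv_left hy.c) (L_LK (m * n⁻¹))) (K_LK (h.same hy hz))
  rwa [map_mul, map_inv, show (ι m * y)⁻¹ * (ι m * (ι n)⁻¹) * (ι m * y)⁻¹⁻¹ *
    ((ι m * y)⁻¹ * (ι n * z)) = y⁻¹ * z by group] at this

theorem sqLK (h : Std t ι s x pp) {y : G} (hy : y * t = t * y) : y * y ∈ LK ι := by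
  obtain ⟨m, d, hd, hj⟩ := h.typ' hy
  have := mul_mem (mul_mem (L_LK m⁻¹) (h.LK_conj hj.c (L_LK m⁻¹))) (K_LK (h.sqK hj hd))
  rwa [map_inv, show (ι m)⁻¹ * (ι m * y * (ι m)⁻¹ * (ι m * y)⁻¹) * (ι m * y * (ι m * y)) = y * y by
    group] at this

theorem pigLK (h : Std t ι s x pp) {f : ℕ → G} (hf : ∀ i < 5, f i * t = t * f i) :
    ∃ i < 5, ∃ k < 5, i ≠ k ∧ (f i)⁻¹ * f k ∈ LK ι := by
  have h1 : ∀ i, ∃ d, i < 5 → d < 4 ∧ ∃ m, Th t ι s x d (ι m * f i) := fun i => by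
    by_cases hi : i < 5
    · obtain ⟨m, d, hd, h1⟩ := h.typ' (hf i hi)
      exact ⟨d, fun _ => ⟨hd, m, h1⟩⟩
    · exact ⟨0, fun h => absurd h hi⟩
  choose d hd using h1
  obtain ⟨i, hi, k, hk, h2, h3⟩ := pig fun i hi => (hd i hi).1
  obtain ⟨m, hm⟩ := (hd i hi).2
  obtain ⟨n, hn⟩ := (hd k hk).2
  exact ⟨i, hi, k, hk, h2, h.sameLK hm (h3 ▸ hn)⟩

theorem zeta (h : Std t ι s x pp) {y : G} (hy : y * t = t * y) :
    y * pu ι s x 64 = pu ι s x 64 * y ∨ pu ι s x 64 * y * (pu ι s x 64)⁻¹ = y * t := by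
  obtain ⟨m, d, hd, hj⟩ := h.typ' hy
  have h1 := h.act hj hd 64
  have h2 := mem_KK.1 (h.pu_K.2 (show 64 % 64 = 0 from rfl)) m
  have h3 := mem_KK.1 (h.pu_K.2 (show mU pp 64 128 % 64 = 0 by rw [mU_mod]; decide +kernel)) m
  rw [mul_inv_eq_iff_eq_mul, mul_assoc, ← mul_assoc _ (ι m)] at h1
  refine ((chkZ pp h.p2).2.2.2.2 d hd).2.imp (fun h4 => ?_) fun h4 => ?_
  · rwa [h4, ← h2, mul_assoc, mul_right_inj] at h1
  · rw [h4, ← h3, mul_assoc, mul_right_inj, h.pmul, h.tq, mul_assoc, ← hy] at h1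
    rw [mul_inv_eq_iff_eq_mul, mul_assoc y, ← h.pct, ← mul_assoc y, h1, mul_assoc, mul_assoc, h.tt,
      mul_one]

theorem core (h : Std t ι s x pp) {φ : M →* G}
    (hφ : ∀ u, mU pp u 16 = mU pp 16 u → φ (uM s x u) * t = t * φ (uM s x u)) :
    (∀ b ∈ AL, φ (uM s x b) ∈ LK ι) ∧ ∃ b ∈ AL, b ≠ 0 ∧ φ (uM s x b) ∈ KK ι := by
  have h1 : ∀ b ∈ AL, φ (uM s x b) ∈ LK ι := fun b hb => by
    obtain ⟨r, -, q, -, h1, h2, h3⟩ := (chkA pp h.p2 b hb).2.2.1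
    rw [h3]
    simp only [h.mul, map_mul]
    exact mul_mem (h.sqLK (hφ r h1)) (h.sqLK (hφ q h2))
  refine ⟨h1, ?_⟩
  obtain ⟨i, hi, k, hk, h2, h3⟩ := h.pigLK (f := fun i => φ (uM s x ([0, 64, 5, 79, 69].getD i 0)))
    fun i hi => hφ _ (chkP pp h.p2 i hi).2.1
  obtain ⟨h4, h5, h6⟩ := ((chkP pp h.p2 i hi).2.2.2 k hk h2).2 _ (List.mem_singleton_self _)
  rw [← map_inv, ← h.inv (chkP pp h.p2 i hi).1, ← map_mul, ← h.mul] at h3
  generalize mU pp (iU pp _) _ = w at h3 h4 h5 h6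
  by_cases h7 : φ (uM s x (mU pp w w)) ∈ KK ι
  · exact ⟨_, h4, h5, h7⟩
  have h8 : ∀ u v, φ (uM s x u) ∈ LK ι → φ (uM s x v) ∈ LK ι → piQ ι (φ (uM s x u)) *
      piQ ι (φ (uM s x v)) = piQ ι (φ (uM s x (mU pp u v))) := fun u v hu hv => by
    rw [h.mul, map_mul, h.pi_mul hu hv]
  have h9 : piQ ι (φ (uM s x 0)) = 1 := by
    rw [uM_zero, map_one, h.pi_one (one_mem _)]; exact one_mem _
  obtain ⟨i, hi, k, hk, h2, h3⟩ := h.five (w := piQ ι (φ (uM s x w)))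
    (b := fun i => piQ ι (φ (uM s x (AL.getD i 0)))) (by rwa [h8 _ _ h3 h3, Ne, h.pi_one (h1 _ h4)])
    (by rw [h8 _ _ h3 h3, h8 _ _ (h1 _ h4) (h1 _ h4), (chkA pp h.p2 _ h4).1, h9]) fun i hi => by
      have hb := (chkP pp h.p2 i hi).2.2.1
      rw [h8 _ _ (h1 _ hb) (h1 _ hb), (chkA pp h.p2 _ hb).1, Commute, SemiconjBy,
        h8 _ _ h3 (h1 _ hb), h8 _ _ (h1 _ hb) h3, h6 _ hb]
      exact ⟨h9, rfl⟩
  obtain ⟨b, hb, b0, b1⟩ := ((chkP pp h.p2 i hi).2.2.2 k hk h2).1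
  rw [← b1, ← h8 _ _ (h1 _ (chkP pp h.p2 i hi).2.2.1) (h1 _ hb), left_eq_mul,
    h.pi_one (h1 _ hb)] at h3
  exact ⟨b, hb, b0, h3⟩

theorem PL0 (h : Std t ι s x pp) {y κ : G} (hκ : κ ∈ KK ι) (hy : y * t * y⁻¹ = pu ι s x 16 * κ) :
    y * t * y⁻¹ ∈ ι.range ∧ y⁻¹ * t * y ∈ LK ι := by
  have h0 : y⁻¹ * t ≠ t * y⁻¹ := fun h0 => by
    rw [mul_assoc, ← h0, mul_inv_cancel_left] at hy
    exact absurd (h.pu_K.1 ((mul_mem_cancel_right hκ).1 (hy ▸ h.tK))) (by norm_num)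
  have hφ : ∀ u, mU pp u 16 = mU pp 16 u →
      y⁻¹ * pu ι s x u * y⁻¹⁻¹ * t = t * (y⁻¹ * pu ι s x u * y⁻¹⁻¹) := fun u hu => by
    have h1 : Commute (pu ι s x u) (y * t * y⁻¹) :=
      hy ▸ Commute.mul_right (h.pcm.1 hu) (mem_KK.1 hκ _)
    calc _ = y⁻¹ * (pu ι s x u * (y * t * y⁻¹)) * y := by group
      _ = _ := by rw [h1]; group
  obtain ⟨h1, b, hb, b0, b1⟩ := h.core (φ := (MulAut.conj y⁻¹).toMonoidHom.comp ι) hφ
  change y⁻¹ * pu ι s x b * y⁻¹⁻¹ ∈ _ at b1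
  refine ⟨?_, by simpa [← h.tq, pu] using h1 128 (by decide)⟩
  have h2 : y⁻¹ * t * y⁻¹⁻¹ ∉ KK ι := fun h2 => h0 (h.tight t _ h.tt h.t_ne h.tK h2)
  have h3 : ∀ l ∈ KK ι, pu ι s x b = pu ι s x 16 * l → y * t * y⁻¹ ∈ ι.range := fun l hl h3 => by
    have b2 : pu ι s x b * pu ι s x b = 1 := by rw [← h.pmul, (chkA pp h.p2 b hb).1, pu_zero]
    by_contra h4
    refine h0 (h.tight (y * t * y⁻¹ * pu ι s x b) _ ?_ (fun h5 => h4 ?_) ?_ ?_)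
    · have := hφ b (chkA pp h.p2 b hb).2.1
      calc _ = y * (t * (y⁻¹ * pu ι s x b * y⁻¹⁻¹ * t)) * y⁻¹ * pu ι s x b := by group
        _ = y * (t * t) * y⁻¹ * (pu ι s x b * pu ι s x b) := by rw [this]; group
        _ = 1 := by rw [h.tt, b2]; group
    · rw [eq_inv_of_mul_eq_one_left h5]
      exact inv_mem ⟨_, rfl⟩
    · rw [hy, h3, mul_assoc, ← mul_assoc κ, pu, ← mem_KK.1 hκ, ← mul_assoc, ← mul_assoc, ← pu, h.aa,
        one_mul]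
      exact mul_mem hκ hl
    · rw [show y⁻¹ * (y * t * y⁻¹ * pu ι s x b) * y⁻¹⁻¹ = t * (y⁻¹ * pu ι s x b * y⁻¹⁻¹) by group]
      exact mul_mem h.tK b1
  rcases (chkA pp h.p2 b hb).2.2.2 with h4 | h4 | h4 | h4 | h4
  · exact absurd h4 b0
  · exact absurd (by rwa [h4, h.tq] at b1) h2
  · exact h3 1 (one_mem _) (by rw [h4, mul_one])
  · exact h3 t h.tK (by rw [h4, h.pmul, h.tq])
  · refine absurd ?_ h2
    have := mul_mem b1 (inv_mem (h.K_conj (hφ 1 (chkZ pp h.p2).2.2.1) b1))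
    rw [← h.peq (mU_lt ..) (mU_lt ..), h.pmul, h.pmul, h.pmul, h.tq, ← mul_assoc,
      ← mul_inv_eq_iff_eq_mul, ← mul_inv_eq_iff_eq_mul] at h4
    convert this using 1
    rw [← h4]; group

theorem PL1 (h : Std t ι s x pp) {y : G} (hy : y * t * y⁻¹ ∈ LK ι) (h1 : y * t * y⁻¹ ≠ t) :
    (∃ n, ι n * (y * t * y⁻¹) * (ι n)⁻¹ = pu ι s x 16) ∧ y⁻¹ * t * y ∈ LK ι := by
  have h0 : y * t * y⁻¹ ∉ KK ι := fun h0 => h1 (by
    rw [h.tight t y h.tt h.t_ne h.tK h0, mul_inv_cancel_right])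
  obtain ⟨n, hn⟩ := h.conjQ (y := piQ ι (y * t * y⁻¹))
    (by rw [← h.pi_mul hy hy, h.conj_sq, h.pi_one (one_mem _)]; exact one_mem _)
    (mt (h.pi_one hy).1 h0)
  obtain ⟨n, rfl⟩ := QuotientGroup.mk'_surjective _ n
  obtain ⟨m, κ, hκ, h2⟩ := hy
  rw [h2, h.pi_eq _ hκ, eq_comm, ← inv_mul_eq_one, ← map_inv, ← map_inv, ← map_mul, ← map_mul,
    ← map_mul, mq_eq_one, ← h.mem_K] at hn
  obtain ⟨⟨k, h3⟩, h4⟩ := h.PL0 (y := ι n * y) (mul_mem hn hκ) (by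
    simp only [map_mul, map_inv, pu]
    calc _ = ι n * (y * t * y⁻¹) * (ι n)⁻¹ := by group
      _ = ι n * ι m * (κ * (ι n)⁻¹) := by rw [h2]; group
      _ = _ := by rw [← map_inv, ← mem_KK.1 hκ, map_inv]; group)
  have h5 : y * t * y⁻¹ = ι (n⁻¹ * k * n) := by
    rw [map_mul, map_mul, h3, map_inv]; group
  generalize n⁻¹ * k * n = k at h5
  obtain ⟨l, hl⟩ := h.conjU (m := k) (h.inj (by rw [map_mul, ← h5, h.conj_sq, map_one]))
    fun h6 => h0 (h5 ▸ h.mem_K.2 h6)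
  refine ⟨⟨l, by rw [h5, pu, ← hl, map_mul, map_mul, map_inv]⟩, ?_⟩
  convert h4 using 1
  calc _ = y⁻¹ * (ι n)⁻¹ * (ι n * t) * y := by group
    _ = _ := by rw [h.ct]; group

theorem PL (h : Std t ι s x pp) {y : G} (hy : y * t * y⁻¹ ∈ LK ι) (h1 : y * t * y⁻¹ ≠ t) :
    (∃ n, ι n * (y * t * y⁻¹) * (ι n)⁻¹ = pu ι s x 16) ∧
      ∃ n, ι n * (y⁻¹ * t * y) * (ι n)⁻¹ = pu ι s x 16 := by
  obtain ⟨h2, h3⟩ := h.PL1 hy h1
  have := (h.PL1 (y := y⁻¹) (by simpa using h3) fun h4 => h1 (by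
    nth_rewrite 1 [← h4]; group)).1
  exact ⟨h2, by simpa using this⟩

end Std

end H14.On
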