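import Mathlib
import Cfsg.Agent.H14.StA

/-! A standard subgroup `4·L₃(4)`: the central involution is fused into the subgroup. -/

set_option autoImplicit false

namespace H14.On

open H29 H7.Cay H22 Subgroup

variable {M : Type*} [Group M] {s x : M} {pp : ℕ} {G : Type*} [Group G] {t : G} {ι : M →* G}

/-- adjoin an element that normalises a subgroup and whose square lies in it. -/
def adj (H : Subgroup G) (j : G) (h1 : ∀ y ∈ H, j * y * j⁻¹ ∈ H) (h2 : j * j ∈ H) : Subgroup G :=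
  have h3 : ∀ y ∈ H, j⁻¹ * y * j ∈ H := fun y hy => by
    have := mul_mem (mul_mem (inv_mem h2) (h1 y hy)) h2
    rwa [show (j * j)⁻¹ * (j * y * j⁻¹) * (j * j) = j⁻¹ * y * j by group] at this
  { carrier := {y | y ∈ H ∨ y * j ∈ H}
    one_mem' := Or.inl (one_mem _)
    mul_mem' := by
      rintro y z (hy | hy) (hz | hz)
      · exact Or.inl (mul_mem hy hz)
      · exact Or.inr (mul_assoc y z j ▸ mul_mem hy hz)
      · exact Or.inr (by simpa [mul_assoc] using mul_mem hy (h3 z hz))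
      · exact Or.inl (by simpa [mul_assoc] using mul_mem (mul_mem hy (h3 _ hz)) (inv_mem h2))
    inv_mem' := by
      rintro y (hy | hy)
      · exact Or.inl (inv_mem hy)
      · exact Or.inr (by simpa [mul_assoc] using mul_mem (h1 _ (inv_mem hy)) h2) }

theorem mkBase (cov : Cov M) (inj : Function.Injective ι) (ht : orderOf t = 2)
    (ct : ∀ m, ι m * t = t * ι m)
    (nrm : ∀ y, y * t = t * y → ∃ f : M ≃* M, ∀ m, ι (f m) = y * ι m * y⁻¹) {j : G}
    (jc : j * t = t * j) (jM : j ∉ LK ι) (jj : j * j ∈ ι.range)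
    (hc : ∀ y, y * t = t * y → y ∈ ι.range ∨ y * j ∈ ι.range) : Base t ι := by
  have h1 : j ∉ ι.range := fun ⟨m, hm⟩ => jM (hm ▸ L_LK m)
  refine ⟨cov, inj, ht, ct, nrm, fun y z hy hz y1 z1 => ?_, ⟨j, jc, h1⟩, fun y hy y1 => ?_, ?_⟩
  · obtain ⟨m, hm⟩ := (hc z hz).resolve_left z1
    obtain ⟨f, hf⟩ := nrm j⁻¹ (Commute.inv_left jc)
    have := mul_mem (mul_mem ((hc y hy).resolve_left y1) ⟨f m, rfl⟩) (inv_mem jj)
    rw [hf, hm] at this
    simpa [mul_assoc] using this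
  · refine (hc y hy).resolve_right fun ⟨m, hm⟩ => jM ⟨m, y⁻¹, inv_mem (mem_KK.2 fun m => (y1 m).symm), ?_⟩
    rw [eq_mul_inv_iff_mul_eq, ← mul_right_inj y, ← mul_assoc, ← hm, y1]
  · have h2 : ι.range ≤ centralizer {t} := fun _ ⟨m, hm⟩ =>
      hm ▸ mem_centralizer_singleton_iff.2 (ct m)
    have h3 : ι.range.relIndex (centralizer {t}) = 2 := relIndex_eq_two_iff_exists_notMem_and.2
      ⟨j, mem_centralizer_singleton_iff.2 jc, h1, fun y hy =>
        (hc y (mem_centralizer_singleton_iff.1 hy)).symm⟩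
    rw [← (ι.range.subgroupOf (centralizer {t})).card_mul_index,
      Nat.card_congr (subgroupOfEquivOfLe h2).toEquiv, ← relIndex, h3,
      ← Nat.card_congr (MonoidHom.ofInjective inj).toEquiv, cov.card]

theorem chkX : (allF 2 fun pp => allR 1 3 fun d => allF 4 fun k => allR 256 256 fun u =>
    imp2 (Nat.beq (mT pp d k u u) 0) (or2 (cmT pp d k u 64)
      (anyL [2, 32, 256, 261] fun m => and2 (Nat.beq (mT pp d k m m) 0)
        (lit (lit (mT pp d k m u) fun v => mT pp d k v m) fun b => and2 (Nat.ble 256 b)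
          (and2 (and2 (nq b u) (nq b (mT pp d k u 128))) (cmT pp d k u b)))))) = true := by
  decide +kernel

namespace Std

theorem sub [Finite G] (h : Std t ι s x pp) {d k : ℕ} {j : G} (hj : Th t ι s x d j) (d0 : 0 < d)
    (d4 : d < 4) (jM : j ∉ LK ι) (jj : j * j = ι (rv s x 7 ^ k)) : ∃ (H : Subgroup G) (t' j' : H)
      (ι' : M →* H), Cand t' ι' s x j' pp d k ∧ (∀ y, y ∈ H ↔ y ∈ ι.range ∨ y * j ∈ ι.range) ∧
        (∀ y : H, y * t' = t' * y) ∧ t' = t ∧ j' = j ∧ ∀ m, ι' m = ι m := by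
  let H := adj ι.range j (fun _ ⟨m, hm⟩ => hm ▸ (h.L_conj hj.c m).imp fun _ => Eq.symm) ⟨_, jj.symm⟩
  have h1 : ∀ m, ι m ∈ H := fun m => Or.inl ⟨m, rfl⟩
  have h2 : ∀ y ∈ H, y * t = t * y := by
    rintro y (⟨m, hm⟩ | ⟨m, hm⟩)
    · exact hm ▸ h.ct m
    · rw [eq_mul_inv_of_mul_eq hm.symm]
      exact Commute.mul_left (h.ct m) (Commute.inv_left hj.c)
  have h3 : ∀ y : H, y ∈ (ι.codRestrict H h1).range ↔ y.1 ∈ ι.range := fun y =>
    exists_congr fun m => Subtype.ext_iff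
  have hB : Base (⟨t, h.tq ▸ h1 _⟩ : H) (ι.codRestrict H h1) := mkBase h.cov
    (fun a b hab => h.inj (congrArg Subtype.val hab)) (by rw [← orderOf_coe, h.ht])
    (fun m => Subtype.ext (h.ct m)) (fun y hy => (h.nrm y (congrArg Subtype.val hy)).imp
      fun f hf m => Subtype.ext (hf m)) (j := ⟨j, Or.inr ⟨_, jj.symm⟩⟩) (Subtype.ext hj.c)
    (fun ⟨m, κ, h4, h5⟩ => jM ⟨m, κ, mem_KK.2 fun m => congrArg Subtype.val (mem_KK.1 h4 m),
      congrArg Subtype.val h5⟩) ((h3 _).2 ⟨_, jj.symm⟩) fun y _ => by rw [h3, h3]; exact y.2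
  exact ⟨H, _, ⟨j, Or.inr ⟨_, jj.symm⟩⟩, _, ⟨hB, h.toGen, h.hp, Subtype.ext (by
    have := h.tq; rwa [pu, uM_128] at this), Subtype.ext hj.c,
    fun h4 => jM (by obtain ⟨m, hm⟩ := (h3 _).1 h4; exact (show ι m = j from hm) ▸ L_LK m), Subtype.ext hj.hs,
    Subtype.ext hj.hx, Subtype.ext jj, d0, d4⟩, fun _ => Iff.rfl,
    fun y => Subtype.ext (h2 y y.2), rfl, rfl, fun _ => rfl⟩

theorem jj (h : Std t ι s x pp) {d : ℕ} {m : M} {v : G} (hj : Th t ι s x d (ι m * v)) (hd : d < 4)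
    (v2 : v * v = 1) : ∃ k < 4, ι m * v * (ι m * v) = ι (rv s x 7 ^ k) := by
  obtain ⟨n, hn⟩ := h.L_conj hj.c m
  have h1 : ι m * v * (ι m * v) = ι (n * m) := by
    rw [map_mul, ← hn, mul_inv_rev, inv_eq_of_mul_eq_one_right v2]; group
  obtain ⟨k, hk, h2⟩ := h.cen_eq (h.mem_K.1 (h1 ▸ h.sqK hj hd))
  exact ⟨k, hk, by rw [h1, h2]⟩

theorem cz (h : Std t ι s x pp) {y : G}
    (h2 : y * t * y⁻¹ * pu ι s x 64 = pu ι s x 64 * (y * t * y⁻¹)) : y⁻¹ * t * y ∈ LK ι := by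
  have := h.sqLK (y := y⁻¹ * pu ι s x 64 * y) (by
    calc _ = y⁻¹ * (pu ι s x 64 * (y * t * y⁻¹)) * y := by group
      _ = _ := by rw [← h2]; group)
  rwa [show y⁻¹ * pu ι s x 64 * y * (y⁻¹ * pu ι s x 64 * y) =
    y⁻¹ * (pu ι s x 64 * pu ι s x 64) * y by group, h.zz] at this

theorem t_nc [IsSimpleGroup G] (h : Std t ι s x pp) : t ∉ center G := fun h1 => by
  rcases (inferInstance : (center G).Normal).eq_bot_or_eq_top with h2 | h2
  · exact h.t_ne (by simpa [h2] using h1)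
  · exact h.s_ne h.cov (h.mem_K.1 (mem_KK.2 fun m => mem_center_iff.1 (h2 ▸ mem_top (ι s)) _))

theorem exists_LK [Finite G] [IsSimpleGroup G] (h : Std t ι s x pp) :
    ∃ y, y * t * y⁻¹ ∈ LK ι ∧ y * t * y⁻¹ ≠ t := by
  by_contra hcon
  push Not at hcon
  have H1 : ∀ y v, y * t * y⁻¹ = v → v ≠ t → v * t = t * v →
      pu ι s x 64 * v * (pu ι s x 64)⁻¹ = v * t ∧ v ∉ LK ι := by
    rintro y _ rfl h1 h2
    refine ⟨(h.zeta h2).resolve_left fun h3 => h1 ?_, fun h3 => h1 (hcon y h3)⟩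
    nth_rewrite 1 [← hcon y⁻¹ (by simpa using h.cz h3)]
    group
  obtain ⟨v, v1, v2, v3⟩ := not_isol h.ht h.t_nc
  obtain ⟨y, hy⟩ := isConj_iff.1 v1
  have v4 : v * v = 1 := hy ▸ h.conj_sq y
  have v5 := (H1 y v hy v3 v2).2
  obtain ⟨m, d, hd, hj⟩ := h.typ' v2
  have jM : ι m * v ∉ LK ι := by rwa [mul_mem_cancel_left (L_LK m)]
  obtain ⟨k, hk, jj⟩ := h.jj hj hd v4
  have d0 : 0 < d := Nat.pos_of_ne_zero (by rintro rfl; exact jM (K_LK (h.zero hj)))
  obtain ⟨H, t', j', ι', hC, H2, H3, H4, H5, H6⟩ := h.sub hj d0 hd jM jj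
  have vH : v ∈ H := (H2 v).2 (Or.inr (by
    obtain ⟨n, hn⟩ := h.L_conj v2 m
    exact ⟨n, by rw [← hn, inv_eq_of_mul_eq_one_right v4, mul_assoc]⟩))
  obtain ⟨c, -, h1⟩ := hC.sylT.exists_cj_le (R := zpowers ⟨v, vH⟩)
    (fun y _ => mem_centralizer_singleton_iff.2 (H3 y))
    (isPGroup_zpowers (k := 1) (Subtype.ext (by simpa [sq] using v4)))
  obtain ⟨u, hu, u1⟩ := h1 (conj_mem_cj (mem_zpowers _))
  replace hu : u < 512 := hu
  have u2 : c * y * t * (c * y)⁻¹ = ps ι' s x j' u := by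
    rw [u1, coe_mul, coe_mul, coe_inv]
    change _ = _ * v * _
    rw [← hy]; group
  have H7 : ∀ y : H, y.1 * t = t * y := fun y => H4 ▸ congrArg Subtype.val (H3 y)
  have H8 : ∀ y : H, y ∈ ι'.range → y.1 ∈ LK ι := fun y ⟨m, hm⟩ => by
    rw [← hm, H6]; exact L_LK m
  obtain ⟨u3, u4⟩ := H1 _ _ u2 (fun u3 => v3 (by
    rw [u1, coe_mul, coe_mul, coe_inv, mul_inv_eq_iff_eq_mul, ← H7] at u3
    exact mul_left_cancel u3)) (H7 _)
  have u5 : 256 ≤ u := not_lt.1 fun u5 => u4 (H8 _ ((hC.ps_mem hu).2 u5))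
  have u6 : ps ι' s x j' u * ps ι' s x j' u = 1 := Subtype.ext (by
    rw [coe_mul, ← u2, h.conj_sq, coe_one])
  have h2 := allR_true.1 (allF_true.1 (allR_true.1 (allF_true.1 chkX pp h.p2) d d0 (by omega)) k hk)
    u u5 (by omega)
  simp only [imp2_true, or2_true, anyL_true, and2_true, lit_eq, nbeq, nq_true, Nat.ble_eq] at h2
  rcases h2 (hC.ps_inj (mT_lt ..) (by norm_num) (by rw [hC.ps_mul hu hu, u6, ps_zero])) with
    h2 | ⟨m, hm, m2, e1, ⟨e2, e3⟩, e4⟩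
  · have := congrArg Subtype.val ((hC.cm_iff hu (by norm_num)).1 h2)
    rw [ps_64, coe_mul, coe_mul, H6, ← uM_64, ← pu] at this
    rw [← this, mul_inv_cancel_right, left_eq_mul] at u3
    exact h.t_ne u3
  have m0 : m < 512 := by
    simp only [List.mem_cons, List.not_mem_nil, or_false] at hm
    omega
  have e0 := mT_lt pp d k (mT pp d k m u) m
  have e5 : ps ι' s x j' (mT pp d k (mT pp d k m u) m) =
      ps ι' s x j' m * ps ι' s x j' u * (ps ι' s x j' m)⁻¹ := by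
    rw [hC.ps_mul (mT_lt ..) m0, hC.ps_mul m0 hu, inv_eq_of_mul_eq_one_right (by
      rw [← hC.ps_mul m0 m0, m2, ps_zero])]
  generalize mT pp d k (mT pp d k m u) m = e at e0 e1 e2 e3 e4 e5
  replace e4 := congrArg Subtype.val ((hC.cm_iff hu e0).1 e4)
  have e6 := H8 _ (hC.idx _ _ (H3 _) (H3 _) (by rw [hC.ps_mem e0]; omega)
    (by rw [hC.ps_mem hu]; omega))
  replace e2 : (ps ι' s x j' e).1 ≠ ps ι' s x j' u := fun h3 => e2 (hC.ps_inj e0 hu (Subtype.ext h3))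
  replace e3 : (ps ι' s x j' e).1 ≠ ps ι' s x j' u * t := fun h3 => e3 (hC.ps_inj e0 (mT_lt ..) (by
    rw [hC.ps_mul hu (by norm_num), hC.ps_128]
    exact Subtype.ext (by rw [coe_mul, H4, h3])))
  replace e5 := congrArg Subtype.val e5
  replace u6 := congrArg Subtype.val u6
  have u7 := H7 (ps ι' s x j' u)
  simp only [coe_mul, coe_inv, coe_one] at e4 e5 e6 u6
  generalize (ps ι' s x j' e).1 = E, (ps ι' s x j' u).1 = w, (ps ι' s x j' m).1 = n, c * y = y at *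
  have h3 : y⁻¹ * n * y * t * (y⁻¹ * n * y)⁻¹ = y⁻¹ * E * y := by rw [e5, ← u2]; group
  have h4 := (H1 _ _ h3 (fun h4 => e2 (by rw [← u2, ← h4]; group)) (by
    calc _ = y⁻¹ * (E * w) * y := by rw [← u2]; group
      _ = _ := by rw [← e4, ← u2]; group)).1
  have h5 : y * pu ι s x 64 * (y⁻¹ * n * y) * t * (y * pu ι s x 64 * (y⁻¹ * n * y))⁻¹ = E * w := by
    calc _ = y * (pu ι s x 64 * (y⁻¹ * n * y * t * (y⁻¹ * n * y)⁻¹) * (pu ι s x 64)⁻¹) * y⁻¹ := by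
          group
      _ = _ := by rw [h3, h4, ← u2]; group
  have h6 := hcon _ (h5 ▸ e6)
  exact e3 (by rw [u7, ← h6, h5, mul_assoc, u6, mul_one])

end Std

/-- `g` interchanges the two involutions. -/
structure Swap (t : G) (ι : M →* G) (s x : M) (pp : ℕ) (g : G) : Prop extends Std t ι s x pp where
  ga : g * pu ι s x 16 * g⁻¹ = t
  gt : g * t * g⁻¹ = pu ι s x 16

theorem Std.swap [Finite G] [IsSimpleGroup G] (h : Std t ι s x pp) : ∃ g, Swap t ι s x pp g := by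
  obtain ⟨y, h1, h2⟩ := h.exists_LK
  obtain ⟨⟨n, hn⟩, m, hm⟩ := h.PL h1 h2
  refine ⟨ι n * y * (ι m)⁻¹, h, ?_, ?_⟩
  · calc _ = ι n * t * (ι n)⁻¹ := by rw [← hm]; group
      _ = t := by rw [h.ct, mul_inv_cancel_right]
  · calc _ = ι n * y * ((ι m)⁻¹ * (t * ι m)) * (ι n * y)⁻¹ := by group
      _ = _ := by rw [← h.ct, ← hn]; group

theorem Swap.symm {g : G} (h : Swap t ι s x pp g) : Swap t ι s x pp g⁻¹ :=
  ⟨h.toStd, by rw [← h.gt]; group, by nth_rewrite 1 [← h.ga]; group⟩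

end H14.On
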