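import Mathlib
import Cfsg.Agent.H14.StB

/-! A standard subgroup `4·L₃(4)`: the centraliser of the subgroup. -/

set_option autoImplicit false
set_option synthInstance.maxSize 20480

namespace H14.On

open H29 H7.Cay H22 Subgroup

variable {M : Type*} [Group M] {s x : M} {pp : ℕ} {G : Type*} [Group G] {t g : G} {ι : M →* G}

/-- a code whose normal closure meets the centre. -/
def Bad (pp c : ℕ) : Prop := (∃ e ∈ [c, mU pp c c], e = 128 ∨ e = mU pp 128 16) ∨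
  mU pp c 1 = mU pp 128 (mU pp 1 c)

noncomputable instance (pp c : ℕ) : Decidable (Bad pp c) := by unfold Bad; infer_instance

theorem chkK5 : ∀ pp < 2, ∀ d < 4, ∀ l < 256, ac pp d l 16 = 16 → ac pp d l 32 = 32 →
    (d = 0 ∧ (l % 64 ∈ [0, 16] ∨ (pp = 1 ∧ l % 64 ∈ [37, 53]))) ∨ ∃ u ∈ [1, 10],
      u < 256 ∧ mU pp u 16 = mU pp 16 u ∧ Bad pp (mU pp (ac pp d l u) (iU pp u)) := by
  decide +kernel

theorem chkK6 : (∀ pp < 2, ∀ l < 256, l % 64 ∈ [0, 16] → mU pp l l % 64 = 0) ∧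
    (∀ l < 256, l % 64 ∈ [0, 16] ∨ l % 64 ∈ [37, 53] → ∀ m < 256, m % 64 ∈ [37, 53] →
      ∃ i < 4, (fun u => mU 1 u m)^[i] l % 64 = 0) ∧
    ∀ u < 256, u % 64 ∈ [37, 53] → mU 1 u u = 16 → u ∈ [37, 53, 165, 181] := by decide +kernel

theorem chkK7 : ∀ u ∈ [37, 53, 165, 181], mU 1 u u = 16 ∧ mU 1 (mU 1 1 u) (mU 1 1 u) = 0 ∧
    (∀ m < 256, mU 1 m u = mU 1 u m → (∀ b ∈ [32, 48, 160, 176], mU 1 m b = mU 1 b m) ∧
      (mU 1 m m = 0 → m ∈ [32, 48, 160, 176] ∨ m = 0 ∨ m = 16 ∨ m = 128 ∨ m = mU 1 16 128)) ∧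
    ∀ m < 256, mU 1 m 16 = mU 1 16 m →
      mU 1 m u = mU 1 u m ∨ mU 1 (mU 1 m 1) u = mU 1 u (mU 1 m 1) := by decide +kernel

theorem chkK8 : ∀ d < 4, ∀ l < 256, ac 1 d l 16 = 16 →
    (ac 1 d l 32 = 32 → (ac 1 d l 64 = 64 → d = 0) ∧ (mU 1 l (tU 1 d l) % 64 = 16 →
      ∀ u ∈ [37, 53, 165, 181], ac 1 d l u ≠ iU 1 u)) ∧
    (ac 1 d l 32 ≠ 32 → ac 1 d l 64 = iU 1 64 → mU 1 l (tU 1 d l) % 64 = 0 → d = 3) := by
  decide +kernel

namespace Std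

theorem actU (h : Std t ι s x pp) {y : G} (h1 : y * t = t * y)
    (h2 : y * pu ι s x 16 * y⁻¹ = pu ι s x 16) :
    ∃ l < 256, ∃ d < 4, Th t ι s x d ((pu ι s x l)⁻¹ * y) := by
  obtain ⟨m, d, hd, hj⟩ := h.typ' h1
  have h3 := h.act hj hd 16
  rw [((chkZ pp h.p2).2.2.2.2 d hd).1, show ι m * y * pu ι s x 16 * (ι m * y)⁻¹ =
    ι m * (y * pu ι s x 16 * y⁻¹) * (ι m)⁻¹ by group, h2, mul_inv_eq_iff_eq_mul, pu, ← map_mul,
    ← map_mul] at h3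
  obtain ⟨l, hl, h4⟩ := h.centU (n := m⁻¹) (Commute.inv_left (h.inj h3))
  exact ⟨l, hl, d, hd, by rwa [pu, ← h4, map_inv, inv_inv]⟩

theorem act_ac (h : Std t ι s x pp) {y : G} {l d : ℕ} (hj : Th t ι s x d ((pu ι s x l)⁻¹ * y))
    (hl : l < 256) (hd : d < 4) (u : ℕ) {v : ℕ} (hv : v < 256) :
    ac pp d l u = v ↔ y * pu ι s x u * y⁻¹ = pu ι s x v := by
  rw [← h.peq (ac_lt ..) hv, ac, h.pmul, h.pmul, h.pinv hl, ← h.act hj hd]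
  constructor <;> exact fun h => Eq.trans (by group) h

theorem act_sq (h : Std t ι s x pp) {y : G} {l d : ℕ} (hj : Th t ι s x d ((pu ι s x l)⁻¹ * y))
    (hd : d < 4) {v : ℕ} (hv : y * y = pu ι s x v) : mU pp l (tU pp d l) % 64 = v % 64 := by
  have := h.pi_eq (uM s x (mU pp l (tU pp d l))) (h.sqK hj hd)
  rw [← pu, h.pmul, ← h.act hj hd, show pu ι s x l * ((pu ι s x l)⁻¹ * y * pu ι s x l *
    ((pu ι s x l)⁻¹ * y)⁻¹) * ((pu ι s x l)⁻¹ * y * ((pu ι s x l)⁻¹ * y)) = y * y * 1 by group, hv,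
    pu, h.pi_eq _ (one_mem _), h.mq_iff] at this
  exact this.symm

theorem powK (h : Std t ι s x pp) {m : M} {κ : G} (hκ : κ ∈ KK ι) {n : ℕ}
    (h1 : (ι m * κ) ^ n = 1) : κ ^ (n * 4) = 1 := by
  rw [Commute.mul_pow (mem_KK.1 hκ m), mul_eq_one_iff_inv_eq, ← map_pow, ← map_inv] at h1
  rw [pow_mul, ← h1, ← map_pow, h.z4 _ (h.mem_K.1 (h1 ▸ pow_mem hκ n)), map_one]

theorem zK (h : Std t ι s x pp) : pu ι s x 64 ∈ KK ι := h.pu_K.2 rfl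

theorem z4' (h : Std t ι s x pp) : pu ι s x 64 ^ 4 = 1 := by
  rw [pu, ← map_pow, uM_64, h.q4, map_one]

theorem LKz (h : Std t ι s x pp) {y : G} (hy : y ∈ LK ι) : y * pu ι s x 64 = pu ι s x 64 * y := by
  obtain ⟨m, κ, h1, rfl⟩ := hy
  exact Commute.mul_left (mem_KK.1 h.zK m) (mem_KK.1 h1 _).symm

end Std

theorem cj_comm {a b c d g : G} (h1 : g * a * g⁻¹ = c) (h2 : g * b * g⁻¹ = d) :
    c * d = d * c ↔ a * b = b * a := by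
  rw [← h1, ← h2, conj_mul, conj_mul, mul_left_inj, mul_right_inj]

theorem cpow (g a : G) (n : ℕ) : (g⁻¹ * a * g) ^ n = g⁻¹ * a ^ n * g := by
  simpa using conj_pow (i := n) (a := g⁻¹) (b := a)

theorem Std.Kz (h : Std t ι s x pp) {κ : G} (hκ : κ ∈ KK ι) (i k : ℕ) :
    (κ * pu ι s x 64 ^ i) ^ (4 * k) = κ ^ (4 * k) := by
  rw [Commute.mul_pow (Commute.pow_right (show Commute κ (pu ι s x 64) from (mem_KK.1 hκ _).symm) i),
    ← pow_mul, mul_left_comm, pow_mul (pu ι s x 64), h.z4', one_pow, mul_one]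

theorem eq_one_of_odd {a : G} {k : ℕ} (h1 : Odd (orderOf a)) (h2 : a ^ 2 ^ k = 1) : a = 1 :=
  orderOf_eq_one_iff.1 ((Nat.coprime_self _).1
    (((Nat.coprime_two_right.2 h1).pow_right k).coprime_dvd_right (orderOf_dvd_of_pow_eq_one h2)))

namespace Swap

theorem U0 (h : Swap t ι s x pp g) {u : ℕ} (hu : mU pp u 16 = mU pp 16 u) :
    g * pu ι s x u * g⁻¹ * t = t * (g * pu ι s x u * g⁻¹) := (cj_comm rfl h.ga).2 (h.pcm.1 hu)

theorem b32 (h : Swap t ι s x pp g) : g * pu ι s x 32 * g⁻¹ ∈ ι.range := by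
  have h1 : g * pu ι s x 32 * g⁻¹ ∈ LK ι :=
    (h.core (φ := (MulAut.conj g).toMonoidHom.comp ι) fun u hu => h.U0 hu).1 32 (by decide)
  obtain ⟨n, hn⟩ := h.conjU (m := uM s x 32) (by
    rw [← h.mul, (chkA pp h.p2 32 (by decide)).1, uM_zero]) (by rw [h.cen_iff]; norm_num)
  have h2 : g * (ι n)⁻¹ * g * t * (g * (ι n)⁻¹ * g)⁻¹ = g * pu ι s x 32 * g⁻¹ := by
    calc _ = g * ((ι n)⁻¹ * (g * t * g⁻¹) * ι n) * g⁻¹ := by group
      _ = _ := by rw [h.gt, pu, ← hn, map_mul, map_mul, map_inv, pu]; group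
  obtain ⟨m, hm⟩ := (h.PL1 (h2 ▸ h1) (by
    rw [h2, ← h.ga, Ne, mul_left_inj, mul_right_inj, h.peq (by norm_num) (by norm_num)]
    norm_num)).1
  exact ⟨m⁻¹ * uM s x 16 * m, by rw [map_mul, map_mul, ← pu, ← hm, h2, map_inv]; group⟩

theorem KA (h : Swap t ι s x pp g) {κ : G} (hκ : κ ∈ KK ι) : ∃ l < 256,
    (l % 64 ∈ [0, 16] ∨ (pp = 1 ∧ l % 64 ∈ [37, 53])) ∧ (pu ι s x l)⁻¹ * (g⁻¹ * κ * g) ∈ KK ι := by
  have h0 : g * (g⁻¹ * κ * g) * g⁻¹ = κ := by group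
  generalize g⁻¹ * κ * g = y at h0
  obtain ⟨n, hn⟩ := h.b32
  have h1 : y * pu ι s x 16 * y⁻¹ = pu ι s x 16 :=
    mul_inv_eq_iff_eq_mul.2 ((cj_comm h0 h.ga).1 (h.Kt hκ))
  obtain ⟨l, hl, d, hd, hj⟩ := h.actU ((cj_comm h0 h.gt).1 (mem_KK.1 hκ _).symm) h1
  rcases chkK5 pp h.p2 d hd l hl ((h.act_ac hj hl hd _ (by norm_num)).2 h1)
    ((h.act_ac hj hl hd _ (by norm_num)).2 (mul_inv_eq_iff_eq_mul.2
      ((cj_comm h0 hn.symm).1 (mem_KK.1 hκ _).symm))) with ⟨rfl, h2⟩ | ⟨u, -, hu, h2, h3⟩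
  · exact ⟨l, hl, h2, h.zero hj⟩
  exfalso
  have h4 : g * pu ι s x (mU pp (ac pp d l u) (iU pp u)) * g⁻¹ ∈ KK ι := by
    have := mul_mem hκ (inv_mem (h.K_conj (h.U0 h2) hκ))
    rw [h.pmul, h.pinv hu, ← (h.act_ac hj hl hd u (ac_lt ..)).1 rfl]
    convert this using 1
    rw [← h0]; group
  generalize mU pp (ac pp d l u) (iU pp u) = c at h3 h4
  have h5 : g * pu ι s x 128 * g⁻¹ ∉ KK ι := by rw [h.tq, h.gt, h.pu_K]; norm_num
  rcases h3 with ⟨e, he, h3⟩ | h3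
  · have h6 : g * pu ι s x e * g⁻¹ ∈ KK ι := by
      simp only [List.mem_cons, List.not_mem_nil, or_false] at he
      rcases he with rfl | rfl
      exacts [h4, by rw [h.pmul, ← conj_mul]; exact mul_mem h4 h4]
    rcases h3 with rfl | rfl
    · exact h5 h6
    · rw [h.pmul, ← conj_mul, h.ga, mul_mem_cancel_right h.tK] at h6
      exact h5 h6
  · have := mul_mem h4 (inv_mem (h.K_conj (h.U0 (chkZ pp h.p2).2.2.1) h4))
    rw [← h.peq (mU_lt ..) (mU_lt ..), h.pmul, h.pmul, h.pmul, ← mul_assoc,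
      ← mul_inv_eq_iff_eq_mul, ← mul_inv_eq_iff_eq_mul] at h3
    refine h5 ?_
    convert this using 1
    rw [← h3]; group

theorem zsq (h : Swap t ι s x pp g) :
    g⁻¹ * pu ι s x 64 * g * (g⁻¹ * pu ι s x 64 * g) = pu ι s x 16 := by
  rw [← h.symm.gt, ← h.zz]; group

theorem KB (h : Swap t ι s x pp g) : pp = 1 ∧ ∃ l < 256, l % 64 ∈ [37, 53] ∧
    (pu ι s x l)⁻¹ * (g⁻¹ * pu ι s x 64 * g) ∈ KK ι := by
  obtain ⟨l, hl, h1, h2⟩ := h.KA h.zK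
  refine (h1.resolve_left fun h1 => ?_).imp_right fun h1 => ⟨l, hl, h1, h2⟩
  have h3 := h.pi_eq (uM s x l) h2
  rw [← pu, mul_inv_cancel_left] at h3
  have h4 : g⁻¹ * pu ι s x 64 * g ∈ LK ι := ⟨uM s x l, _, h2, by rw [← pu, mul_inv_cancel_left]⟩
  have h5 := h.pi_mul h4 h4
  rw [h.zsq, h3, ← map_mul, ← h.mul, mq_eq_one.2 (h.cen_iff.2 (chkK6.1 pp h.p2 l hl h1)),
    pu, h.pi_one (L_LK _), h.mem_K, h.cen_iff] at h5
  omega

theorem Kdec (h : Swap t ι s x 1 g) {κ : G} (hκ : κ ∈ KK ι) :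
    ∃ i, g⁻¹ * (κ * pu ι s x 64 ^ i) * g ∈ KK ι := by
  obtain ⟨l, hl, h1, h2⟩ := h.KA hκ
  obtain ⟨-, m, hm, h3, h4⟩ := h.KB
  obtain ⟨i, -, h5⟩ := chkK6.2.1 l hl (h1.imp_right And.right) m hm h3
  have h6 : ∀ i, (pu ι s x ((fun u => mU 1 u m)^[i] l))⁻¹ * (g⁻¹ * (κ * pu ι s x 64 ^ i) * g) ∈
      KK ι := fun i => by
    induction i with
    | zero => simpa using h2
    | succ i ih =>
      have := mul_mem (h.K_conj (Commute.inv_left (h.pct m)) ih) h4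
      rw [Function.iterate_succ_apply', h.pmul]
      convert this using 1
      group
  exact ⟨i, (mul_mem_cancel_left (inv_mem (h.pu_K.2 h5))).1 (h6 i)⟩

theorem odd [Finite G] (h : Swap t ι s x pp g) {κ : G} (hκ : κ ∈ KK ι) (h1 : g⁻¹ * κ * g ∈ KK ι) :
    Odd (orderOf κ) := by
  refine Nat.not_even_iff_odd.1 fun ⟨n, hn⟩ => ?_
  have h2 := orderOf_pos κ
  have h3 := h.tight (κ ^ n) g⁻¹ (by rw [← pow_add, ← hn, pow_orderOf_eq_one])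
    (pow_ne_one_of_lt_orderOf (by omega) (by omega)) (pow_mem hκ n)
    (by rw [← conj_pow, inv_inv]; exact pow_mem h1 n)
  have h4 := h.symm.gt
  rw [h3, mul_inv_cancel_right, ← h.tq, h.peq (by norm_num) (by norm_num)] at h4
  omega

theorem two [Finite G] (h : Swap t ι s x 1 g) {κ : G} (hκ : κ ∈ KK ι) (h1 : κ ^ 16 = 1) :
    κ ∈ ι.range := by
  obtain ⟨i, hi⟩ := h.Kdec hκ
  rw [eq_inv_of_mul_eq_one_left (eq_one_of_odd (k := 4) (h.odd (mul_mem hκ (pow_mem h.zK i)) hi)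
    ((h.Kz hκ i 4).trans h1))]
  exact inv_mem (pow_mem (MonoidHom.mem_range.2 ⟨_, rfl⟩) i)

theorem of_odd [Finite G] (h : Swap t ι s x 1 g) {κ : G} (hκ : κ ∈ KK ι) (h1 : Odd (orderOf κ)) :
    g⁻¹ * κ * g ∈ KK ι := by
  obtain ⟨i, hi⟩ := h.Kdec hκ
  have h2 := pow_mem hi 4
  rw [cpow, show _ ^ 4 = κ ^ 4 from h.Kz hκ i 1, ← inv_inv g, inv_inv g⁻¹] at h2
  obtain ⟨k, hk⟩ := mem_zpowers_pow_iff.2 ((Nat.coprime_two_left.2 h1).pow_left 2 :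
    Nat.gcd 4 (orderOf κ) = 1)
  have := zpow_mem h2 k
  rwa [conj_zpow, show (κ ^ 4) ^ k = κ from hk, inv_inv] at this

theorem invL [Finite G] (h : Swap t ι s x 1 g) {w : G} (hw : w ∈ LK ι) (w4 : w ^ 4 = 1) :
    w ∈ ι.range := by
  obtain ⟨m, κ, hκ, rfl⟩ := hw
  exact mul_mem ⟨m, rfl⟩ (h.two hκ (h.powK hκ w4))

theorem u0 [Finite G] (h : Swap t ι s x 1 g) :
    ∃ u ∈ [37, 53, 165, 181], g * pu ι s x u * g⁻¹ = pu ι s x 64 := by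
  obtain ⟨-, l, hl, h1, h2⟩ := h.KB
  obtain ⟨n, hn⟩ := h.invL (w := g⁻¹ * pu ι s x 64 * g) ⟨uM s x l, _, h2, by
    rw [← pu, mul_inv_cancel_left]⟩ (by rw [cpow, h.z4']; group)
  rw [← hn, pu, ← map_inv, ← map_mul, h.mem_K, ← mq_eq_one, map_mul, map_inv, inv_mul_eq_one,
    h.mq_iff.2 (Nat.mod_mod l 64).symm] at h2
  obtain ⟨u, hu, u1, rfl⟩ := h.of_mq (Nat.mod_lt _ (by norm_num)) h2.symm
  exact ⟨u, chkK6.2.2 u hu (u1 ▸ h1) (by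
    rw [← h.peq (mU_lt ..) (by norm_num), h.pmul, ← h.zsq, ← hn, pu]), by rw [pu, hn]; group⟩

theorem b0 [Finite G] (h : Swap t ι s x 1 g) :
    ∃ b ∈ [32, 48, 160, 176], g * pu ι s x b * g⁻¹ = pu ι s x 32 := by
  obtain ⟨u, hu, h1⟩ := h.u0
  obtain ⟨n, hn⟩ := h.symm.b32
  replace hn : g * ι n * g⁻¹ = pu ι s x 32 := by rw [hn]; group
  obtain ⟨m, hm, rfl⟩ := h.centU (n := n) (h.inj (by
    rw [map_mul, map_mul]; exact (cj_comm hn h.ga).1 (h.pct 32)))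
  change g * pu ι s x m * g⁻¹ = _ at hn
  have h2 : ∀ c < 256, g * pu ι s x m * g⁻¹ = pu ι s x c → c = 32 := fun c hc h2 =>
    (h.peq hc (by norm_num)).1 (h2.symm.trans hn)
  rcases ((chkK7 u hu).2.2.1 m hm (h.pcm.2 ((cj_comm hn h1).1 (mem_KK.1 h.zK _)))).2 (by
    rw [← h.peq (mU_lt ..) (by norm_num), h.pmul, pu_zero, ← conj_eq_one_iff (a := g), ← conj_mul,
      hn, ← h.pmul, (chkA 1 h.p2 32 (by decide)).1, pu_zero]) with h3 | rfl | rfl | rfl | rfl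
  · exact ⟨m, h3, hn⟩
  · simpa using h2 0 (by norm_num) (by simp [pu_zero])
  · simpa using h2 128 (by norm_num) (h.ga.trans h.tq.symm)
  · simpa using h2 16 (by norm_num) (h.tq ▸ h.gt)
  · exact absurd (h2 _ hm (by rw [h.pmul, ← conj_mul, h.ga, h.tq, h.gt, h.pct])) (by decide +kernel)

theorem E1 [Finite G] (h : Swap t ι s x 1 g) {u w : ℕ} (hu : u ∈ [37, 53, 165, 181])
    (h1 : g * pu ι s x u * g⁻¹ = pu ι s x 64) (hw : w < 256) (h2 : mU 1 w u = mU 1 u w) :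
    g * pu ι s x w * g⁻¹ ∈ LK ι := by
  obtain ⟨b, hb, h3⟩ := h.b0
  have h4 := mul_inv_eq_iff_eq_mul.2 ((cj_comm rfl h.gt).2 (h.pct w))
  obtain ⟨l, hl, d, hd, hj⟩ := h.actU ((cj_comm rfl h.ga).2 (by
    rw [← (chkK7 u hu).1, h.pmul]; exact Commute.mul_right (h.pcm.1 h2) (h.pcm.1 h2))) h4
  obtain rfl := ((chkK8 d hd l hl ((h.act_ac hj hl hd _ (by norm_num)).2 h4)).1
    ((h.act_ac hj hl hd _ (by norm_num)).2 (mul_inv_eq_iff_eq_mul.2 ((cj_comm rfl h3).2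
      (h.pcm.1 (((chkK7 u hu).2.2.1 w hw h2).1 b hb)))))).1
    ((h.act_ac hj hl hd _ (by norm_num)).2 (mul_inv_eq_iff_eq_mul.2 ((cj_comm rfl h1).2
      (h.pcm.1 h2))))
  exact (mul_mem_cancel_left (inv_mem (L_LK _))).1 (K_LK (h.zero hj))

theorem j2 (h : Swap t ι s x 1 g) : g * pu ι s x 1 * g⁻¹ * (g * pu ι s x 1 * g⁻¹) = 1 := by
  rw [conj_mul, ← h.pmul, show mU 1 1 1 = 0 by decide +kernel, pu_zero]; group

theorem jz [Finite G] (h : Swap t ι s x 1 g) :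
    g * pu ι s x 1 * g⁻¹ * pu ι s x 64 * (g * pu ι s x 1 * g⁻¹)⁻¹ = (pu ι s x 64)⁻¹ := by
  obtain ⟨u, hu, h1⟩ := h.u0
  rw [inv_eq_of_mul_eq_one_right h.j2, eq_inv_iff_mul_eq_one, ← h1, conj_mul, conj_mul, conj_mul,
    mul_assoc _ _ (pu ι s x u), ← h.pmul, ← h.pmul, (chkK7 u hu).2.1, pu_zero]
  group

theorem jM [Finite G] (h : Swap t ι s x 1 g) : g * pu ι s x 1 * g⁻¹ ∉ LK ι := fun h1 => by
  have := h.jz
  rw [h.LKz h1, mul_inv_cancel_right, eq_inv_iff_mul_eq_one, h.zz] at this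
  exact h.t_ne this

theorem E2 [Finite G] (h : Swap t ι s x 1 g) :
    ∃ m, Th t ι s x 3 (ι m * (g * pu ι s x 1 * g⁻¹)) := by
  obtain ⟨b, hb, h3⟩ := h.b0
  have h4 := mul_inv_eq_iff_eq_mul.2 ((cj_comm rfl h.gt).2 (h.pct 1))
  obtain ⟨l, hl, d, hd, hj⟩ := h.actU (h.U0 (chkZ 1 h.p2).2.2.1) h4
  obtain rfl := (chkK8 d hd l hl ((h.act_ac hj hl hd _ (by norm_num)).2 h4)).2 (fun h5 => by
      have := h.pcm.2 ((cj_comm rfl h3).1 (mul_inv_eq_iff_eq_mul.1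
        ((h.act_ac hj hl hd _ (by norm_num)).1 h5)))
      exact (by decide +kernel : ∀ b ∈ [32, 48, 160, 176], mU 1 1 b ≠ mU 1 b 1) b hb this)
    ((h.act_ac hj hl hd _ (iU_lt ..)).2 (by rw [h.pinv (by norm_num), h.jz]))
    (h.act_sq hj hd (v := 0) (by rw [h.j2, pu_zero]))
  exact ⟨(uM s x l)⁻¹, by rwa [map_inv]⟩

end Swap

end H14.On
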