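import Mathlib
import Cfsg.Agent.H14.StC
import Cfsg.Agent.H14.OnMain
import Cfsg.Agent.H6.RankThree

/-! A simple group with a standard subgroup `4·L₃(4)` is the O'Nan group. -/

set_option autoImplicit false

namespace H14.On

open H29 H7.Cay H22 Subgroup
open scoped MatrixGroups

variable {M : Type*} [Group M] {s x : M} {pp : ℕ} {G : Type*} [Group G] {t g : G} {ι : M →* G}

theorem one_class [Finite G] {H : Subgroup G} {z : G} (hz : z ∈ H) (h2 : z * z = 1)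
    (hc : ∀ w ∈ H, w * w = 1 → w ≠ 1 → w * z = z * w → ∃ h ∈ H, h * z * h⁻¹ = w)
    {u : G} (hu : u ∈ H) (hu2 : u * u = 1) (hu1 : u ≠ 1) : ∃ h ∈ H, h * z * h⁻¹ = u := by
  rcases Nat.even_or_odd (orderOf (z * u)) with h | h
  · obtain ⟨a1, a2, a3⟩ := H6.central_involution h2 hu2 h
    have hw : (z * u) ^ (orderOf (z * u) / 2) ∈ H := pow_mem (mul_mem hz hu) _
    generalize (z * u) ^ (orderOf (z * u) / 2) = w at a1 a2 a3 hw
    obtain ⟨h, hh, rfl⟩ := hc w hw (by rw [← sq, ← a1, pow_orderOf_eq_one])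
      (by rintro rfl; simp at a1) a2
    obtain ⟨k, hk, e⟩ := hc (h⁻¹ * u * h) (mul_mem (mul_mem (inv_mem hh) hu) hh)
      (by rw [← sq, cpow, sq, hu2]; group)
      (fun e => hu1 (by calc u = h * (h⁻¹ * u * h) * h⁻¹ := by group
          _ = 1 := by rw [e]; group))
      (by calc _ = h⁻¹ * (u * (h * z * h⁻¹)) * h := by group
          _ = _ := by rw [← a3.eq]; group)
    exact ⟨h * k, mul_mem hh hk, by
      calc _ = h * (k * z * k⁻¹) * h⁻¹ := by group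
        _ = _ := by rw [e]; group⟩
  · obtain ⟨d, hd, e⟩ := H6.exists_conj_of_odd h2 hu2 h
    refine ⟨d, (closure_le H).2 ?_ hd, e⟩
    rintro x (rfl | rfl)
    exacts [hz, hu]

theorem se_top [Finite G] {H : Subgroup G} {z u v : G} (h2 : z * z = 1) (z1 : z ≠ 1)
    (hC : ∀ g, g * z = z * g → g ∈ H)
    (hc : ∀ w ∈ H, w * w = 1 → w ≠ 1 → w * z = z * w → ∃ h ∈ H, h * z * h⁻¹ = w)
    (hu : u * z = z * u) (hv : v ∈ H) (hu2 : u * u = 1) (hv2 : v * v = 1) (u1 : u ≠ 1)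
    (u2 : u ≠ z) (v1 : v ≠ 1) (h3 : u * v * u * v = z) : H = ⊤ := by
  by_contra hH
  have hz := hC z rfl
  have key : ∀ g t : G, t ∈ H → t * t = 1 → t ≠ 1 → g * t * g⁻¹ ∈ H → g ∈ H := by
    intro g t ht t2 t1 hg
    obtain ⟨h, hh, rfl⟩ := one_class hz h2 hc ht t2 t1
    obtain ⟨k, hk, e⟩ := one_class hz h2 hc hg (by rw [conj_mul, t2]; group)
      (fun e => t1 (conj_eq_one_iff.1 e))
    have := hC (k⁻¹ * g * h) (by
      calc _ = k⁻¹ * (g * (h * z * h⁻¹) * g⁻¹) * g * h := by group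
        _ = _ := by rw [← e]; group)
    have h5 := mul_mem (mul_mem hk this) (inv_mem hh)
    simpa [mul_assoc] using h5
  have hse : Cfsg.IsStronglyEmbedded H := by
    refine H6.isStronglyEmbedded_iff.2 ⟨hH, ?_, fun g t ht h => key g t ht
      (by rw [← sq, ← h, pow_orderOf_eq_one]) (by rintro rfl; simp at h)⟩
    have : Fact (Nat.Prime 2) := ⟨Nat.prime_two⟩
    have h5 := orderOf_dvd_natCard (⟨z, hz⟩ : H)
    rw [← Subgroup.orderOf_coe, orderOf_eq_prime (by rw [sq]; exact h2) z1] at h5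
    exact even_iff_two_dvd.2 h5
  obtain ⟨Q, hQ⟩ := H26.BR.ls_top hse ⟨u, z, u1, z1, u2, hu2, h2, hu⟩
  have h5 := hQ.comm u trivial ⟨u1, hu2⟩ (H26.BR.fix_one.2 (hC u hu)) v
    (hQ.inv_mem v trivial ⟨v1, hv2⟩ (H26.BR.fix_one.2 hv))
  rw [inv_eq_of_mul_eq_one_right hu2, inv_eq_of_mul_eq_one_right hv2, h3] at h5
  refine hH (eq_top_iff.2 fun y _ => ?_)
  have h6 := h5.2 y⁻¹ trivial
  rw [← mul_smul, ← inv_smul_eq_iff, inv_inv, ← mul_smul] at h6
  refine key y _ hz h2 z1 ?_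
  rw [mul_assoc]
  exact H26.BR.fix_one.1 h6

theorem odd_index [Finite G] (t2 : t * t = 1) (t1 : t ≠ 1)
    (h : ∀ v, IsConj v t → v ≠ t → v * t = t * v → IsConj (v * t) t) :
    Odd (centralizer ({t} : Set G)).index := by
  classical
  haveI : Fact (Nat.Prime 2) := ⟨Nat.prime_two⟩
  have h1 : (centralizer ({t} : Set G)).index = Nat.card (MulAction.orbit (ConjAct G) t) :=
    (congrArg index (ConjAct.stabilizer_eq_centralizer t)).symm.trans
      (MulAction.index_stabilizer (ConjAct G) t)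
  have ti := inv_eq_of_mul_eq_one_right t2
  obtain ⟨F, F1, F2, F3⟩ : ∃ F : G → G, (∀ v, IsConj v t → IsConj (F v) t) ∧
      (∀ v ≠ 1, F (F v) = v) ∧ ∀ v, F v = v ↔ v = t := by
    refine ⟨fun v => if v = t then t else if v * t = t * v then v * t else t * v * t,
      fun v hv => ?_, fun v v1 => ?_, fun v => ⟨fun h5 => ?_, fun h5 => by simp [h5]⟩⟩
    · simp only
      split_ifs with h2 h3
      exacts [IsConj.refl t, h v hv h2 h3, (isConj_iff.2 ⟨t, by rw [ti]⟩).symm.trans hv]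
    · by_cases h2 : v = t
      · simp [h2]
      by_cases h3 : v * t = t * v
      · have h4 : v * t * t = t * (v * t) := by rw [← mul_assoc, h3]
        simp only [if_neg h2, if_pos h3, if_pos h4, mul_eq_right, if_neg v1]
        rw [mul_assoc, t2, mul_one]
      · have h4 : t * v * t ≠ t := fun h4 => h2 (by
          rw [mul_eq_right, mul_eq_one_iff_inv_eq, ti] at h4; exact h4.symm)
        have h5 : t * v ≠ v * t := Ne.symm h3
        simp [h2, h3, h4, h5, ← mul_assoc, t2, mul_assoc _ t t]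
    · by_contra h4
      simp only [if_neg h4] at h5
      split_ifs at h5 with h6
      · exact t1 (mul_eq_left.1 h5)
      · exact h6 (by conv_lhs => rw [← h5, mul_assoc, t2, mul_one])
  let f : Function.End (MulAction.orbit (ConjAct G) t) := fun v =>
    ⟨F v, ConjAct.mem_orbit_conjAct.2 (F1 _ (ConjAct.mem_orbit_conjAct.1 v.2))⟩
  haveI := Fintype.ofFinite (MulAction.orbit (ConjAct G) t)
  have h2 := Equiv.Perm.card_fixedPoints_modEq (f := f) (p := 2) (n := 1) (by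
    rw [pow_one, sq]
    funext ⟨v, hv⟩
    exact Subtype.ext (F2 v fun h2 => t1 (by simpa [h2, eq_comm] using ConjAct.mem_orbit_conjAct.1 hv)))
  rw [Fintype.card_eq_one_iff (α := Function.fixedPoints f).2
    ⟨⟨⟨t, MulAction.mem_orbit_self t⟩, Subtype.ext ((F3 t).2 rfl)⟩, fun ⟨⟨v, hv⟩, h3⟩ =>
      Subtype.ext (Subtype.ext ((F3 v).1 (congrArg Subtype.val h3)))⟩] at h2
  rw [h1, Nat.card_eq_fintype_card, Nat.odd_iff]
  exact h2

theorem Cand.outer [Finite G] {j w : G} (h : Cand t ι s x j 1 3 0) (w1 : w * t = t * w)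
    (w2 : w * w = 1) (w3 : w ∉ ι.range) : ∃ c, c * t = t * c ∧ c * w * c⁻¹ = ps ι s x j 272 := by
  obtain ⟨c, hc, h1⟩ := h.sylT.exists_cj_le (R := zpowers w)
    (zpowers_le.2 (mem_centralizer_singleton_iff.2 w1)) (isPGroup_zpowers (k := 1) (by simpa [sq]))
  rw [mem_centralizer_singleton_iff] at hc
  obtain ⟨u, hu, u1⟩ := h1 (conj_mem_cj (mem_zpowers _))
  obtain ⟨m, hm, m1⟩ := anyL_true.1 (imp2_true.1 (allF_true.1 chkO u hu) (and2_true.2
    ⟨ble_true.2 (not_lt.1 fun u2 => w3 (by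
      obtain ⟨n, hn⟩ := (h.ps_mem hu).2 u2
      obtain ⟨f, hf⟩ := h.nrm c⁻¹ (Commute.inv_left hc)
      exact ⟨f n, by rw [hf, hn, u1]; group⟩)), nbeq.2 (h.ps_inj (mu_lt ..) (by norm_num)
      (by rw [h.ps_mu hu hu, u1, conj_mul, w2, ps_zero]; group))⟩))
  rw [List.mem_range] at hm
  exact ⟨ps ι s x j m * c, Commute.mul_left (h.ps_cent m) hc, by
    rw [← (h.cjT (by omega) hu (by norm_num)).1 m1, u1]; group⟩

namespace Swap

variable [Finite G]

theorem jc (h : Swap t ι s x 1 g) : g * pu ι s x 1 * g⁻¹ * t = t * (g * pu ι s x 1 * g⁻¹) :=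
  h.U0 (chkZ 1 h.p2).2.2.1

/-- the subgroup generated by `LK` and an outer involution. -/
noncomputable def N3 (h : Swap t ι s x 1 g) : Subgroup G :=
  adj (LK ι) (g * pu ι s x 1 * g⁻¹) (fun _ => h.LK_conj h.jc) (h.j2 ▸ one_mem _)

theorem N3t (h : Swap t ι s x 1 g) {y : G} (hy : y ∈ h.N3) : y * t = t * y := by
  rcases hy with hy | hy
  · exact h.LKt hy
  · have := Commute.mul_left (h.LKt hy) (Commute.inv_left h.jc)
    rwa [mul_inv_cancel_right] at this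

theorem E3 (h : Swap t ι s x 1 g) {n : M} (hn : g * ι n * g⁻¹ * t = t * (g * ι n * g⁻¹)) :
    g * ι n * g⁻¹ ∈ h.N3 := by
  obtain ⟨u, hu, h1⟩ := h.u0
  obtain ⟨m, hm, rfl⟩ := h.centU (n := n) (h.inj (by
    rw [map_mul, map_mul]; exact (cj_comm rfl h.ga).1 hn))
  exact ((chkK7 u hu).2.2.2 m hm (h.pcm.2 ((cj_comm rfl h.ga).1 hn))).imp (h.E1 hu h1 hm)
    fun h2 => by have := h.E1 hu h1 (mU_lt ..) h2; rwa [h.pmul, ← conj_mul] at this

/-- the elements of odd order of the centraliser. -/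
def OO (ι : M →* G) (g : G) : Subgroup G := KK ι ⊓ cj g (KK ι)

theorem mem_O (h : Swap t ι s x 1 g) {κ : G} : κ ∈ OO ι g ↔ κ ∈ KK ι ∧ Odd (orderOf κ) :=
  and_congr_right fun h1 => mem_cj.trans ⟨h.odd h1, h.of_odd h1⟩

theorem O_conj (h : Swap t ι s x 1 g) {y : G} (hy : y * t = t * y ∨ y = g) :
    y ∈ normalizer (OO ι g : Set G) := by
  refine mem_normalizer_of_conj_mem fun κ hκ => ?_
  rw [h.mem_O] at hκ ⊢
  refine ⟨hy.elim (h.K_conj · hκ.1) ?_, by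
    rw [show y * κ * y⁻¹ = MulAut.conj y κ from rfl, MulEquiv.orderOf_eq]; exact hκ.2⟩
  rintro rfl
  simpa using h.symm.of_odd hκ.1 hκ.2

theorem inner (h : Swap t ι s x 1 g) {H : Subgroup G} (hN : ∀ y, y * t = t * y → y ∈ H)
    (hg : g ∈ H) {w : G} (hw : w ∈ LK ι) (w2 : w * w = 1) (w1 : w ≠ 1) :
    ∃ k ∈ H, k * t * k⁻¹ = w := by
  obtain ⟨m, rfl⟩ := h.invL hw (by rw [show 4 = 2 * 2 from rfl, pow_mul, sq w, w2, one_pow])
  have m2 : m * m = 1 := h.inj (by rw [map_mul, w2, map_one])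
  by_cases hm : m ∈ center M
  · refine ⟨1, one_mem _, ?_⟩
    rw [h.cov.sq_eq hm (pow_mem (h.cen 7) 2) (by rw [sq, m2]) (by rw [← pow_mul, h.q4])
      (fun h1 => w1 (by rw [h1, map_one])) h.hq, ← uM_128, ← pu, h.tq]
    group
  · obtain ⟨n, hn⟩ := h.conjU m2 hm
    refine ⟨(ι n)⁻¹ * g, mul_mem (inv_mem (hN _ (h.ct n))) hg, ?_⟩
    calc _ = (ι n)⁻¹ * (g * t * g⁻¹) * ι n := by group
      _ = _ := by rw [h.gt, pu, ← hn, map_mul, map_mul, map_inv]; group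

theorem E4 (h : Swap t ι s x 1 g) {H : Subgroup G} (hN : ∀ y, y * t = t * y → y ∈ H)
    (hg : g ∈ H) {w : G} (hw : w ∈ h.N3) (w2 : w * w = 1) (w1 : w ≠ 1) :
    ∃ k ∈ H, k * t * k⁻¹ = w := by
  have w3 := h.N3t hw
  rcases hw with hw | ⟨m, κ, hκ, hw⟩
  · exact h.inner hN hg hw w2 w1
  obtain ⟨k, hk, k1⟩ := h.inner hN hg (w := pu ι s x 1) (L_LK _)
    (by simpa [conj_mul] using h.j2) (by rw [← pu_zero (ι := ι) (s := s) (x := x), Ne,
      h.peq (by norm_num) (by norm_num)]; norm_num)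
  have k2 : g * k * t * (g * k)⁻¹ = g * pu ι s x 1 * g⁻¹ := by rw [← k1]; group
  obtain ⟨n, hj⟩ := h.E2
  have jM := h.jM
  have jc := h.jc
  have j2 := h.j2
  generalize g * pu ι s x 1 * g⁻¹ = j at *
  have ji := inv_eq_of_mul_eq_one_right j2
  obtain ⟨i, hi⟩ := h.Kdec hκ
  have ho : κ * pu ι s x 64 ^ i ∈ OO ι g := ⟨mul_mem hκ (pow_mem h.zK i), mem_cj.2 hi⟩
  have h1 : w = κ * pu ι s x 64 ^ i * (ι ((uM s x 64 ^ i)⁻¹ * m) * j) := by
    rw [eq_mul_inv_of_mul_eq hw, mem_KK.1 hκ, ji, map_mul, map_inv, map_pow, pu]; group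
  generalize κ * pu ι s x 64 ^ i = o, (uM s x 64 ^ i)⁻¹ * m = m at ho h1
  have c0 : ι m * j * t = t * (ι m * j) := Commute.mul_left (h.ct m) jc
  have h2 : ι m * j * (ι m * j) = 1 := by
    have h3 := mul_mem ho (conj_mem_of_mem_normalizer (h.O_conj (Or.inl c0)) ho)
    rw [show o * (ι m * j * o * (ι m * j)⁻¹) = w * w * (ι m * j * (ι m * j))⁻¹ by rw [h1]; group, w2,
      one_mul, inv_mem_iff, h.mem_O] at h3
    obtain ⟨l, hl⟩ := h.L_conj jc m
    have h4 : ι m * j * (ι m * j) = ι (m * l) := by rw [map_mul, ← hl, ji]; group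
    refine eq_one_of_odd (k := 2) h3.2 ?_
    rw [h4] at h3 ⊢
    rw [← map_pow, show (m * l) ^ 2 ^ 2 = 1 from h.z4 _ (h.mem_K.1 h3.1), map_one]
  obtain ⟨d, hd, d1⟩ := H6.exists_conj_of_odd w2 h2 (by
    rw [h1, mul_assoc, h2, mul_one]; exact (h.mem_O.1 ho).2)
  replace hd : d ∈ H := (closure_le H).2 (by rintro _ (rfl | rfl); exacts [hN _ w3, hN _ c0]) hd
  obtain ⟨e, he, jj⟩ := h.jj hj (by norm_num) j2
  obtain ⟨H', t', j', ι', hC, H2, H3, H4, H5, H6⟩ := h.sub hj (by norm_num) (by norm_num)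
    (by rwa [mul_mem_cancel_left (L_LK n)]) jj
  have h3 : ∀ m, ι m * j ∈ H' := fun m => (H2 _).2 (Or.inr (by
    obtain ⟨l, hl⟩ := h.L_conj jc n
    exact ⟨m * l, by rw [map_mul, ← hl, ji]; group⟩))
  have h4 : ∀ m, (⟨_, h3 m⟩ : H') ∉ ι'.range := fun m ⟨l, hl⟩ => jM (by
    rw [← mul_mem_cancel_left (L_LK m), ← show ι l = ι m * j from H6 l ▸ congrArg Subtype.val hl]
    exact L_LK l)
  obtain rfl : e = 0 := by
    obtain ⟨c, -, c1⟩ := hC.sylT.exists_cj_le (R := zpowers ⟨_, h3 m⟩)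
      (fun y _ => mem_centralizer_singleton_iff.2 (H3 y))
      (isPGroup_zpowers (k := 1) (Subtype.ext (by simpa [sq] using h2)))
    obtain ⟨u, hu, u1⟩ := c1 (conj_mem_cj (mem_zpowers _))
    refine (by decide +kernel : ∀ e < 4, ∀ u < 512, ¬ u < 256 → mT 1 3 e u u = 0 → e = 0) e he u hu
      (fun u2 => h4 m ?_) (hC.ps_inj (mT_lt ..) (by norm_num) ?_)
    · obtain ⟨l, hl⟩ := (hC.ps_mem hu).2 u2
      obtain ⟨f, hf⟩ := hC.nrm c⁻¹ (H3 _)
      exact ⟨f l, by rw [hf, hl, u1]; group⟩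
    · rw [hC.ps_mul hu hu, u1, conj_mul, ps_zero, conj_eq_one_iff]
      exact Subtype.ext h2
  obtain ⟨a, -, a1⟩ := hC.outer (H3 _) (Subtype.ext h2) (h4 m)
  obtain ⟨b, -, b1⟩ := hC.outer (H3 _) (Subtype.ext (by simpa using j2)) (h4 1)
  have h5 := congrArg Subtype.val (a1.trans b1.symm)
  have h6 : ∀ y : H', y.1 ∈ H := fun y => hN _ (H4 ▸ congrArg Subtype.val (H3 y))
  simp only [coe_mul, coe_inv, map_one, one_mul] at h5
  refine ⟨d⁻¹ * (a : G)⁻¹ * b * (g * k), mul_mem (mul_mem (mul_mem (inv_mem hd) (inv_mem (h6 a))) (h6 b))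
    (mul_mem hg hk), ?_⟩
  calc _ = d⁻¹ * (a : G)⁻¹ * (b * (g * k * t * (g * k)⁻¹) * (b : G)⁻¹) * a * d := by group
    _ = _ := by rw [k2, ← h5, ← d1]; group

theorem oddN (h : Swap t ι s x 1 g) : Odd (centralizer ({t} : Set G)).index := by
  refine odd_index h.tt h.t_ne fun v hv v1 v2 => ?_
  rcases h.zeta v2 with h1 | h1
  · obtain ⟨y, rfl⟩ := isConj_iff.1 hv.symm
    obtain ⟨n, hn⟩ := (h.PL (y := y⁻¹) (by simpa using h.cz h1) fun h4 => v1 (by
      nth_rewrite 1 [← h4]; group)).2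
    have h2 := (chkZ 1 h.p2).2.2.2.1
    rw [← h.peq (mU_lt ..) (mU_lt ..), h.pmul, h.pmul, h.pmul, h.tq, ← mul_inv_eq_iff_eq_mul] at h2
    refine isConj_iff.2 ⟨g * (pu ι s x 2)⁻¹ * ι n, ?_⟩
    calc _ = g * (pu ι s x 2)⁻¹ * (ι n * (y⁻¹⁻¹ * t * y⁻¹) * (ι n)⁻¹ * (ι n * t) * (ι n)⁻¹) *
        pu ι s x 2 * g⁻¹ := by group
      _ = g * pu ι s x 16 * g⁻¹ := by rw [hn, h.ct, ← mul_assoc _ t, ← h2]; group
      _ = t := h.ga
  · exact (isConj_iff.2 ⟨_, h1⟩).symm.trans hv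

theorem one (h : Swap t ι s x 1 g) {y : G} (hy : y * t = t * y) (h1 : y ∉ h.N3) :
    ∃ u, u * u = 1 ∧ u ∉ h.N3 ∧ Th t ι s x 1 u := by
  obtain ⟨n, hj⟩ := h.E2
  obtain ⟨j, j1, j2⟩ : ∃ j, j ∉ h.N3 ∧ Th t ι s x 1 j := by
    have h2 : ∀ y, y * t = t * y → y ∉ h.N3 → (∃ j, j ∉ h.N3 ∧ Th t ι s x 1 j) ∨
        ∃ m, Th t ι s x 2 (ι m * y) := fun y hy h1 => by
      obtain ⟨m, d, hd, h2⟩ := h.typ' hy
      have h3 : ι m * y ∉ h.N3 := by rwa [mul_mem_cancel_left (Or.inl (L_LK m) : ι m ∈ h.N3)]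
      interval_cases d
      · exact absurd (Or.inl (K_LK (h.zero h2))) h3
      · exact Or.inl ⟨_, h3, h2⟩
      · exact Or.inr ⟨m, h2⟩
      · exact absurd (inv_mem_iff.1 (Or.inr (h.sameLK h2 hj))) h1
    have h3 : g * pu ι s x 1 * g⁻¹ ∈ h.N3 := Or.inr (h.j2 ▸ one_mem _)
    refine (h2 y hy h1).elim id fun ⟨m, hm⟩ => (h2 _ (Commute.mul_left hy h.jc)
      (by rwa [mul_mem_cancel_right h3])).elim id fun ⟨l, hl⟩ => absurd ?_ h.jM
    simpa using h.sameLK hm hl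
  have h2 := h.sqK j2 (by norm_num)
  obtain ⟨i, hi⟩ := h.Kdec h2
  obtain ⟨r, hr⟩ := h.odd (mul_mem h2 (pow_mem h.zK i)) hi
  have h3 : j * (j * j) ^ r ∉ h.N3 := by
    rwa [mul_mem_cancel_right (Or.inl (K_LK (pow_mem h2 r)) : (j * j) ^ r ∈ h.N3)]
  have h4 : Th t ι s x 1 (j * (j * j) ^ r) := by
    have := mem_KK.1 (pow_mem h2 r)
    refine ⟨Commute.mul_left j2.c (h.Kt (pow_mem h2 r)), ?_, ?_⟩
    · rw [mul_assoc j, ← this, ← j2.hs]; group
    · rw [mul_assoc j, ← this, ← j2.hx]; group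
  have h5 : j * (j * j) ^ r * (j * (j * j) ^ r) = (pu ι s x 64 ^ (i * (2 * r + 1)))⁻¹ := by
    have := pow_orderOf_eq_one (j * j * pu ι s x 64 ^ i)
    rw [hr, Commute.mul_pow (Commute.pow_right (show Commute (j * j) (pu ι s x 64) from
      (mem_KK.1 h2 _).symm) i), ← pow_mul] at this
    rw [← eq_inv_of_mul_eq_one_left this, ← sq, ← sq]
    group
  generalize j * (j * j) ^ r = u, i * (2 * r + 1) = e at h3 h4 h5
  refine ⟨u, ?_, h3, h4⟩
  have h6 : ∀ b ∈ AL, u * pu ι s x b * u⁻¹ = pu ι s x b := fun b hb => by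
    rw [h.act h4 (by norm_num), (by decide +kernel : ∀ b ∈ AL, tU 1 1 b = b) b hb]
  have h7 : u * pu ι s x 64 * u⁻¹ = (pu ι s x 64)⁻¹ := by
    rw [h.act h4 (by norm_num), ← h.pinv (by norm_num)]
    exact congrArg _ (by decide +kernel)
  have h8 : u * u * (u * u) = 1 := by
    nth_rewrite 1 [show u * u = u * (u * u) * u⁻¹ by group]
    rw [h5, ← conj_inv, ← conj_pow, h7, inv_pow, inv_inv, mul_inv_cancel]
  by_contra h9
  have h10 : u * u = t := by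
    rw [h5, pu, ← map_pow, ← map_inv] at h8 h9 ⊢
    rw [h.cov.sq_eq (inv_mem (pow_mem (h.cen_iff.2 rfl) e)) (pow_mem (h.cen 7) 2)
      (h.inj (by rw [sq, map_mul, h8, map_one])) (by rw [← pow_mul, h.q4])
      (fun h1 => h9 (by rw [h1, map_one])) h.hq, ← uM_128, ← pu, h.tq]
  obtain ⟨b, hb, b1⟩ := h.b0
  obtain ⟨v, hv, v1⟩ := h.symm.u0
  have h11 := mul_inv_eq_iff_eq_mul.2 ((cj_comm rfl h.gt).2 h4.c)
  obtain ⟨l, hl, d, hd, hw⟩ := h.actU ((cj_comm rfl h.ga).2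
    (mul_inv_eq_iff_eq_mul.1 (h6 16 (by decide)))) h11
  refine ((chkK8 d hd l hl ((h.act_ac hw hl hd _ (by norm_num)).2 h11)).1
    ((h.act_ac hw hl hd _ (by norm_num)).2 (mul_inv_eq_iff_eq_mul.2 ((cj_comm rfl b1).2
      (mul_inv_eq_iff_eq_mul.1 (h6 b (by revert hb; clear * -; revert b; decide))))))).2
    (h.act_sq hw hd (v := 16) (by rw [conj_mul, h10, h.gt])) v hv
    ((h.act_ac hw hl hd _ (iU_lt ..)).2 ?_)
  rw [h.pinv (by revert hv; clear * -; revert v; decide)]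
  calc _ = g * (u * (g⁻¹ * pu ι s x v * g⁻¹⁻¹) * u⁻¹) * g⁻¹ := by group
    _ = _ := by rw [v1, h7, ← v1]; group

theorem le_N3 [IsSimpleGroup G] (h : Swap t ι s x 1 g) {y : G} (hy : y * t = t * y) : y ∈ h.N3 := by
  by_contra h1
  obtain ⟨u, u2, u3, u4⟩ := h.one hy h1
  have ui := inv_eq_of_mul_eq_one_right u2
  have h2 : h.N3 ≤ centralizer {t} := fun y hy => mem_centralizer_singleton_iff.2 (h.N3t hy)
  have h3 : h.N3.relIndex (centralizer {t}) = 2 := relIndex_eq_two_iff_exists_notMem_and.2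
    ⟨u, mem_centralizer_singleton_iff.2 u4.c, u3, fun y hy => by
      rw [mem_centralizer_singleton_iff] at hy
      by_contra h3
      rw [not_or] at h3
      obtain ⟨n, hj⟩ := h.E2
      have h4 : ∀ y, y * t = t * y → y ∉ h.N3 → y * u ∉ h.N3 → ∃ m, Th t ι s x 2 (ι m * y⁻¹) :=
        fun y hy y1 y2 => by
          obtain ⟨m, d, hd, h2⟩ := h.typ' (Commute.inv_left hy)
          interval_cases d
          · exact absurd (inv_mem_iff.1 ((mul_mem_cancel_left (Or.inl (L_LK m) : ι m ∈ h.N3)).1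
              (Or.inl (K_LK (h.zero h2))))) y1
          · exact absurd (Or.inl (by simpa using h.sameLK (n := 1) h2 (by simpa using u4))) y2
          · exact ⟨m, h2⟩
          · exact absurd (Or.inr (by simpa using h.sameLK h2 hj)) y1
      obtain ⟨m, hm⟩ := h4 y hy h3.2 h3.1
      obtain ⟨l, hl⟩ := h4 (y * u) (Commute.mul_left hy u4.c) h3.1
        (by rw [mul_assoc, u2, mul_one]; exact h3.2)
      refine u3 (Or.inl ?_)
      simpa [mul_assoc] using h.LK_conj (Commute.inv_left hy) (h.sameLK hl hm)⟩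
  obtain ⟨z, hz⟩ : ∃ z, z * u * z⁻¹ ∈ h.N3 := by
    by_contra h4
    obtain ⟨K, k1, k2⟩ := H6.thompson_transfer h.oddN (h3 ▸ (relIndex_mul_index h2).symm) u2
      (not_exists.1 h4)
    rcases (normal_of_index_eq_two k1).eq_bot_or_eq_top with rfl | rfl
    · have := Nat.le_of_dvd Nat.card_pos (card_dvd_of_injective ι h.inj)
      rw [index_bot] at k1
      rw [h.cov.card, k1] at this
      omega
    · exact k2 trivial
  obtain ⟨k, -, k1⟩ := h.E4 (H := ⊤) (fun _ _ => trivial) trivial hz (by rw [conj_mul, u2]; group)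
    fun h4 => u3 (conj_eq_one_iff.1 h4 ▸ one_mem _)
  replace k1 : z⁻¹ * k * t * (z⁻¹ * k)⁻¹ = u := by
    calc _ = z⁻¹ * (k * t * k⁻¹) * z := by group
      _ = _ := by rw [k1]; group
  generalize z⁻¹ * k = y at k1
  obtain ⟨i, hi, k, hk, h4, h5⟩ := h.pigLK (f := fun i => y⁻¹ * pu ι s x (AL.getD i 0) * y⁻¹⁻¹)
    fun i hi => (cj_comm (b := u) rfl (by rw [← k1]; group)).2 (mul_inv_eq_iff_eq_mul.1 (by
      rw [h.act u4 (by norm_num), (by decide +kernel : ∀ b ∈ AL, tU 1 1 b = b) _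
        (chkP 1 h.p2 i hi).2.2.1])).symm
  obtain ⟨b, hb, b0, b1⟩ := ((chkP 1 h.p2 i hi).2.2.2 k hk h4).1
  rw [← b1, h.pmul, ← conj_mul, inv_mul_cancel_left] at h5
  have h6 : ∀ z, z * t * z⁻¹ = pu ι s x b → ∃ n, z⁻¹ * u * z = ι n := fun z hz => by
    have h7 : y⁻¹ * z * t * (y⁻¹ * z)⁻¹ = y⁻¹ * pu ι s x b * y⁻¹⁻¹ := by rw [← hz]; group
    obtain ⟨n, hn⟩ := (h.PL (h7 ▸ h5) fun h8 => u3 (Or.inl (by
      rw [← k1, ← h8, h7]; simpa [mul_assoc, pu] using L_LK _))).2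
    exact ⟨n⁻¹ * uM s x 16 * n, by rw [map_mul, map_mul, ← pu, ← hn, ← k1, map_inv]; group⟩
  by_cases h7 : b = 128
  · obtain ⟨n, hn⟩ := h6 1 (by simp [h7, h.tq])
    exact u3 (Or.inl (by simpa [← hn] using L_LK (ι := ι) n))
  obtain ⟨m, hm⟩ := h.conjU (m := uM s x b) (by rw [← h.mul, (chkA 1 h.p2 b hb).1, uM_zero])
    (by rw [h.cen_iff]; revert hb b0 h7; clear * -; revert b; decide)
  obtain ⟨n, hn⟩ := h6 ((ι m)⁻¹ * g) (by
    calc _ = (ι m)⁻¹ * (g * t * g⁻¹) * ι m := by group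
      _ = _ := by rw [h.gt, pu, ← hm, map_mul, map_mul, map_inv, pu]; group)
  have h8 : g * ι n * g⁻¹ = ι m * u * (ι m)⁻¹ := by rw [← hn]; group
  have h9 := h.E3 (n := n) (h8 ▸ Commute.mul_left (Commute.mul_left (h.ct m) u4.c)
    (Commute.inv_left (h.ct m)))
  have h10 : ι m ∈ h.N3 := Or.inl (L_LK m)
  rw [h8, mul_mem_cancel_right (inv_mem h10), mul_mem_cancel_left h10] at h9
  exact u3 h9

theorem base [IsSimpleGroup G] (h : Swap t ι s x 1 g) : Base t ι := by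
  have h1 : normalizer (OO ι g : Set G) = ⊤ := se_top (u := pu ι s x 2) (v := pu ι s x 16) h.tt
    h.t_ne (fun y hy => h.O_conj (Or.inl hy)) (fun w _ w2 w1 w3 => h.E4
      (fun y hy => h.O_conj (Or.inl hy)) (h.O_conj (Or.inr rfl)) (h.le_N3 w3) w2 w1) (h.pct 2)
    (h.O_conj (Or.inl (h.pct 16))) (by rw [← h.pmul, show mU 1 2 2 = 0 by decide +kernel, pu_zero])
    h.aa (by rw [← pu_zero (ι := ι) (s := s) (x := x), Ne, h.peq] <;> norm_num)
    (by rw [← h.tq, Ne, h.peq] <;> norm_num)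
    (by rw [← pu_zero (ι := ι) (s := s) (x := x), Ne, h.peq] <;> norm_num)
    (by rw [← h.pmul, ← h.pmul, ← h.pmul, ← h.tq]; exact congrArg _ (by decide +kernel))
  have h2 : LK ι ≤ ι.range := by
    rintro _ ⟨m, κ, hκ, rfl⟩
    obtain ⟨i, hi⟩ := h.Kdec hκ
    have ho : κ * pu ι s x 64 ^ i ∈ OO ι g := ⟨mul_mem hκ (pow_mem h.zK i), mem_cj.2 hi⟩
    rcases (normalizer_eq_top_iff.1 h1).eq_bot_or_eq_top with h2 | h2
    · rw [h2, mem_bot, mul_eq_one_iff_eq_inv] at ho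
      exact mul_mem ⟨m, rfl⟩ (ho ▸ inv_mem (pow_mem (MonoidHom.mem_range.2 ⟨_, rfl⟩) i))
    · exact absurd (h.mem_K.1 (h2 ▸ mem_top (ι s) : ι s ∈ OO ι g).1) (h.s_ne h.cov)
  exact mkBase h.cov h.inj h.ht h.ct h.nrm h.jc h.jM (h.j2 ▸ one_mem _)
    fun y hy => (h.le_N3 hy).imp (h2 ·) (h2 ·)

end Swap

theorem isoON_std [Finite G] [IsSimpleGroup G] (L : Subgroup G) (hL : Cfsg.IsStandardSubgroup L)
    {F : Type*} [Field F] [Fintype F] (hF : Fintype.card F = 4) (hZc : IsCyclic (center L))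
    (hZ4 : Nat.card (center L) = 4) (e : L ⧸ center L ≃* PSL(3, F)) : Cfsg.Spor.IsoON G := by
  obtain ⟨hC, s, x, hg⟩ := cov_of_iso hZc hZ4 hL.1.1.commutator_eq_top hF e
  obtain ⟨s, x, pp, hg⟩ := hg.good hC
  have hK : KK L.subtype = centralizer L := by rw [KK, range_subtype]
  have q4 : (rv s x 7 ^ 2) ^ 2 = 1 := by rw [← pow_mul, hg.q4]
  have h1 : ∀ u g : G, u * u = 1 → u ≠ 1 → u ∈ KK L.subtype → g * u * g⁻¹ ∈ KK L.subtype →
      g ∈ normalizer (L : Set G) := fun u g u2 u1 h1 h2 => by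
    haveI : Fact (Nat.Prime 2) := ⟨Nat.prime_two⟩
    rw [hK] at h1 h2
    rw [hL.2.2.2]
    by_contra h3
    have := orderOf_dvd_natCard (⟨g * u * g⁻¹, h2, u, h1, rfl⟩ :
      ↥(centralizer (L : Set G) ⊓ (centralizer (L : Set G)).map (MulAut.conj g).toMonoidHom))
    rw [← orderOf_coe, orderOf_eq_prime (p := 2) (by rw [conj_pow, sq, u2]; group)
      fun h => u1 (conj_eq_one_iff.1 h)] at this
    exact Nat.not_even_iff_odd.2 (hL.2.1.2 g h3) (even_iff_two_dvd.2 this)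
  have h2 : ∀ g ∈ normalizer (L : Set G), ∃ f : L ≃* L, ∀ m, (f m : G) = g * m * g⁻¹ := fun g hg =>
    ⟨normalizerMonoidHom L ⟨g, hg⟩, fun m => rfl⟩
  have hS : Std (pu L.subtype s x 128) L.subtype s x pp := by
    rw [pu, uM_128]
    refine ⟨hg, subtype_injective L, by rw [pu, uM_128], fun y hy => h2 y (h1 (L.subtype _) y
      (by rw [← map_mul, ← sq, q4, map_one]) (fun h => hg.hq (Subtype.ext h)) ?_ ?_),
      fun u g a b c d => ?_⟩
    · exact mem_KK.2 fun m => congrArg Subtype.val (mem_center_iff.1 (pow_mem (hg.cen 7) 2) m)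
    · rw [hy, mul_inv_cancel_right]
      exact mem_KK.2 fun m => congrArg Subtype.val (mem_center_iff.1 (pow_mem (hg.cen 7) 2) m)
    · obtain ⟨f, hf⟩ := h2 g (h1 u g a b c d)
      rw [← mul_inv_eq_iff_eq_mul, coe_subtype, ← hf, hC.sq_eq (y := f (rv s x 7 ^ 2))
        (mem_center_iff.2 fun m => by
          obtain ⟨m, rfl⟩ := f.surjective m
          rw [← map_mul, mem_center_iff.1 (pow_mem (hg.cen 7) 2), map_mul])
        (pow_mem (hg.cen 7) 2) (by rw [← map_pow, q4, map_one]) q4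
        (fun h => hg.hq (f.map_eq_one_iff.1 h)) hg.hq]
  obtain ⟨g, h⟩ := hS.swap
  obtain rfl := h.KB.1
  obtain ⟨s, x, j, pp, hp, d, k, hk, h⟩ := h.base.exists_cand h.toGen
  obtain ⟨rfl, rfl, rfl, g, g1, g2⟩ := h.fusion hp hk
  obtain ⟨g, g3⟩ := h.exists_act g1 g2
  obtain ⟨j, g, h⟩ := h.exists_sym g3
  exact h.iso

end H14.On
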