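import Mathlib
import Cfsg.Agent.H14.StD
import Cfsg.Agent.H9.L37M
import Cfsg.Agent.H29.Tau

/-! A configuration of generators of `L₃(7)`, and computations in the O'Nan group. -/

set_option autoImplicit false
set_option maxRecDepth 100000

namespace H14.On

open H29 H7.Cay H22 Subgroup
open scoped MatrixGroups

variable {G : Type*} [Group G]

/-- relations between some elements of `L₃(7)`. -/
structure Cfg (X Y Z J R u : G) : Prop where
  x7 : X ^ 7 = 1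
  x1 : X ≠ 1
  yy : Y * Y = Z
  zz : Z * Z = 1
  z1 : Z ≠ 1
  yx : (Y * X) ^ 3 = 1
  xz : X * Z = Z * X
  jz : J * Z = Z * J
  xj : X * J * X = J
  yj : Y * J * Y = J
  rz : R * Z = J * R
  rj : R * J = Z * J * R
  u3 : u ^ 3 = 1
  u1 : u ≠ 1
  uz : u * Z = Z * u
  uj : u * J = J * u
  ur : u * R = R * u
  c1 : Commute X (R * (Y * X * Y⁻¹) * R⁻¹)
  c2 : Commute X (R⁻¹ * (Y * X * Y⁻¹) * R)

variable {X Y Z J R u : G}

theorem Cfg.map {K : Type*} [Group K] (f : G →* K) (hf : Function.Injective f)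
    (h : Cfg X Y Z J R u) : Cfg (f X) (f Y) (f Z) (f J) (f R) (f u) := by
  have h1 : ∀ a, a ≠ 1 → f a ≠ 1 := fun a ha => (map_eq_one_iff f hf).not.2 ha
  exact ⟨by simpa using congrArg f h.x7, h1 _ h.x1, by simpa using congrArg f h.yy,
    by simpa using congrArg f h.zz, h1 _ h.z1, by simpa using congrArg f h.yx,
    by simpa using congrArg f h.xz, by simpa using congrArg f h.jz, by simpa using congrArg f h.xj,
    by simpa using congrArg f h.yj, by simpa using congrArg f h.rz, by simpa using congrArg f h.rj,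
    by simpa using congrArg f h.u3, h1 _ h.u1, by simpa using congrArg f h.uz,
    by simpa using congrArg f h.uj, by simpa using congrArg f h.ur, by simpa using h.c1.map f,
    by simpa using h.c2.map f⟩

theorem Cfg.mul (h : Cfg X Y Z J R u) {v : G} (h1 : Commute v Z) (h2 : Commute v J)
    (h3 : Commute v u) (h4 : v * X * v⁻¹ = X ∧ v * Y * v⁻¹ = Y ∨
      v * X * v⁻¹ = X⁻¹ ∧ v * (Y * X * Y⁻¹) * v⁻¹ = (Y * X * Y⁻¹)⁻¹) : Cfg X Y Z J (R * v) u := by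
  have h5 : ∀ A, R * v * A * (R * v)⁻¹ = R * (v * A * v⁻¹) * R⁻¹ := fun A => by group
  have h6 := h.c2.conj v⁻¹
  rw [show ∀ A, v⁻¹ * (R⁻¹ * A * R) * v⁻¹⁻¹ = (R * v)⁻¹ * A * (R * v) from fun A => by group] at h6
  refine { h with
    rz := by rw [mul_assoc, h1.eq, ← mul_assoc, h.rz, mul_assoc]
    rj := by rw [mul_assoc, h2.eq, ← mul_assoc, h.rj, mul_assoc]
    ur := by rw [← mul_assoc, h.ur, mul_assoc, ← h3.eq, mul_assoc]
    c1 := ?_
    c2 := ?_ }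
  · rw [h5]
    rcases h4 with ⟨h7, h8⟩ | ⟨-, h8⟩
    · rw [show v * (Y * X * Y⁻¹) * v⁻¹ = v * Y * v⁻¹ * (v * X * v⁻¹) * (v * Y * v⁻¹)⁻¹ by group,
        h7, h8]
      exact h.c1
    · rw [h8, ← conj_inv]
      exact h.c1.inv_right
  · rcases h4 with ⟨h7, -⟩ | ⟨h7, -⟩
    · rwa [← h7, show v⁻¹ * (v * X * v⁻¹) * v⁻¹⁻¹ = X by group, h7] at h6
    · have h8 : v⁻¹ * X * v⁻¹⁻¹ = X⁻¹ := by
        nth_rewrite 1 [← inv_inv X, ← h7]; group
      rw [h8] at h6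
      exact Commute.inv_left_iff.1 h6

theorem Cfg.jj (h : Cfg X Y Z J R u) : J * J = 1 := by
  rw [eq_mul_inv_of_mul_eq h.rz.symm, conj_mul, h.zz]; group

theorem Cfg.mulZ (h : Cfg X Y Z J R u) : Cfg X Y Z J (R * Z) u :=
  h.mul rfl h.jz.symm h.uz.symm (Or.inl ⟨by rw [← h.xz, mul_inv_cancel_right],
    by rw [← h.yy]; group⟩)

theorem Cfg.mulJ (h : Cfg X Y Z J R u) : Cfg X Y Z J (R * J) u := by
  have h1 : ∀ a, a * J * a = J → J * a * J⁻¹ = a⁻¹ := fun a ha => by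
    nth_rewrite 2 [← ha]; group
  refine h.mul h.jz rfl h.uj.symm (Or.inr ⟨h1 _ h.xj, ?_⟩)
  rw [show J * (Y * X * Y⁻¹) * J⁻¹ = J * Y * J⁻¹ * (J * X * J⁻¹) * (J * Y * J⁻¹)⁻¹ by group,
    h1 _ h.xj, h1 _ h.yj, conj_inv, eq_comm, ← mul_inv_eq_one]
  calc _ = Y * X⁻¹ * (Y * Y)⁻¹ * X * Y := by group
    _ = Y * (X * Z)⁻¹ * X * Y := by rw [h.yy, h.xz]; group
    _ = 1 := by rw [← h.yy]; group

theorem eq_of_chk {e : ℕ → G} {ρ : G →* Equiv.Perm ℕ} {nets : ℕ → Net} {K k : ℕ}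
    (hn : NetsOK K nets) (hK : K ≤ 2 ^ k) (hf : ∀ g : G, (∀ i < K, ρ g i = i) → g = 1)
    (hρ : ∀ c, ρ (e c) = sg nets c) {u v : List ℕ} (h : ∀ i < k, chkEq K k nets u v i = true) :
    ev e u = ev e v := by
  have h1 := ev_eq_of_planeEq hn hK fun i hi => chkEq_sound hn hK (h i hi)
  rw [← map_ev_sg fun c _ => hρ c, ← map_ev_sg fun c _ => hρ c] at h1
  rw [← mul_inv_eq_one]
  exact hf _ fun i _ => by simp [h1]

theorem pull_eq {nets : ℕ → Net} {K : ℕ} (hn : NetsOK K nets) {u v : List ℕ}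
    (h : ev (sg nets) u = ev (sg nets) v) (x : ℕ) : pullW nets u x = pullW nets v x :=
  Nat.eq_of_testBit_eq fun i => by rw [testBit_pullW hn, testBit_pullW hn, h]

/-- words in `L₃(7)`. -/
def LW : List (List ℕ) := [[0, 3, 0, 3, 0, 3], [0, 4], [0, 4, 0, 4], [4, 0, 4],
  [0, 4, 1, 2, 1, 0, 1, 2, 1], [4, 3, 4, 3, 0, 3, 4, 3], [3, 0, 3, 0, 3, 0], [4, 0],
  [1, 2, 1, 0, 1, 2, 1, 4, 0], [0], [1], [2], [3], [4]]

/-- relations in `L₃(7)`. -/
def LR : List (List ℕ × List ℕ) := [([0, 6], []), ([1, 7], []), ([4, 8], []),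
  ([0, 0, 0, 0, 0, 0, 0], []), ([1, 1], [2]), ([2, 2], []), ([1, 0, 1, 0, 1, 0], []),
  ([0, 2], [2, 0]), ([3, 2], [2, 3]), ([0, 3, 0], [3]), ([1, 3, 1], [3]), ([4, 2], [3, 4]),
  ([4, 3], [2, 3, 4]), ([5, 5, 5], []), ([5, 2], [2, 5]), ([5, 3], [3, 5]), ([5, 4], [4, 5]),
  ([0, 4, 1, 0, 7, 8], [4, 1, 0, 7, 8, 0]), ([0, 8, 1, 0, 7, 4], [8, 1, 0, 7, 4, 0]),
  ([9], [1, 1, 3]), ([10], [7, 8, 0, 0, 7, 8]), ([11], [4, 6, 6, 3, 8]), ([12], [0, 0, 1, 1, 3]),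
  ([13], [1, 3])]

theorem l37_cfg : ∃ X Y Z J R u : PSL(3, ZMod 7), Cfg X Y Z J R u ∧
    ∀ K : Subgroup PSL(3, ZMod 7), X ∈ K → Y ∈ K → J ∈ K → R ∈ K → K = ⊤ := by
  obtain ⟨f⟩ := H9.L37M.iso
  have hn := H9.L37N.hn.wNets LW
  have hρ := map_wE (H9.MX.pe_rho H9.L37N.nl) LW
  have h1 : ∀ p ∈ LR, ev (wE (H9.MX.pe H9.L37N.nl) LW) p.1 = ev (wE (H9.MX.pe H9.L37N.nl) LW) p.2 :=
    fun p hp => eq_of_chk (k := 6) hn (by norm_num) (H9.MX.PG_faithful H9.L37N.hn) hρ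
      (allN_true.1 ((allL_true (l := LR) (f := fun p => allN 6 (chkEq 57 6
        (wNets (nth Net.nil H9.L37N.nl) LW) p.1 p.2))).1 (by decide +kernel) p hp))
  have h2 : ∀ c ∈ [0, 2, 5], wE (H9.MX.pe H9.L37N.nl) LW c ≠ 1 := fun c hc => by
    have h3 : ∀ c ∈ [0, 2, 5], ∃ b < 57, disj (bit b) (pullW (wNets (nth Net.nil H9.L37N.nl) LW)
      [c] (bit b)) = true := by decide +kernel
    obtain ⟨b, -, hb⟩ := h3 c hc
    simpa using H9.MX.ev_ne_one_of_chk hn (fun c _ => hρ c) hb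
  have h3 : ∀ K : Subgroup (H9.MX.PG H9.L37N.nl), (∀ c ∈ [9, 10, 11, 12, 13],
      wE (H9.MX.pe H9.L37N.nl) LW c ∈ K) → K = ⊤ := fun K hK => by
    rw [eq_top_iff, ← H9.MX.pe_top (L := [0, 1, 2, 3, 4]) (by decide +kernel), gen_le]
    intro c hc
    have h4 : ∀ c ∈ [0, 1, 2, 3, 4], c + 9 ∈ [9, 10, 11, 12, 13] ∧ nth [] LW (c + 9) = [c] := by
      decide
    simpa [wE, (h4 c hc).2] using hK _ (h4 c hc).1
  generalize wE (H9.MX.pe H9.L37N.nl) LW = e at h1 h2 h3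
  simp only [LR, List.forall_mem_cons, ev_cons, ev_nil, mul_one] at h1 h2 h3
  obtain ⟨i0, i1, i4, r1, r2, r3, r4, r5, r6, r7, r8, r9, r10, r11, r12, r13, r14, r15, r16,
    g0, g1, g2, g3, g4, -⟩ := h1
  rw [← eq_inv_iff_mul_eq_one, ← inv_eq_iff_eq_inv] at i0 i1 i4
  rw [← i1, ← i4] at r15 r16 g1
  rw [← i0, ← i4] at g2
  have hc : Cfg (e 0) (e 1) (e 2) (e 3) (e 4) (e 5) :=
    ⟨by simpa [pow_succ, mul_assoc] using r1, h2.1, r2, r3, h2.2.1,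
      by simpa [pow_succ, mul_assoc] using r4, r5, r6, by simpa [mul_assoc] using r7,
      by simpa [mul_assoc] using r8, r9, by simpa [mul_assoc] using r10,
      by simpa [pow_succ, mul_assoc] using r11, h2.2.2.1, r12, r13, r14,
      by simpa only [commute_iff_eq, mul_assoc] using r15,
      by simpa only [commute_iff_eq, mul_assoc] using r16⟩
  refine ⟨_, _, _, _, _, _, hc.map f.toMonoidHom f.injective, fun K k0 k1 k3 k4 => ?_⟩
  have h4 := h3 (K.comap f.toMonoidHom) (by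
    rw [g0, g1, g2, g3, g4]
    change e 0 ∈ K.comap f.toMonoidHom at k0
    change e 1 ∈ K.comap f.toMonoidHom at k1
    change e 3 ∈ K.comap f.toMonoidHom at k3
    change e 4 ∈ K.comap f.toMonoidHom at k4
    refine ⟨?_, ?_, ?_, ?_, ?_, by simp⟩ <;> apply_rules [mul_mem, inv_mem])
  exact comap_injective (f := f.toMonoidHom) f.surjective (h4.trans (comap_top _).symm)

end H14.On
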