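import Mathlib
import Cfsg.Agent.H14.OnL

/-! Computations in the action of the O'Nan group on 122760 points. -/

set_option autoImplicit false
set_option maxRecDepth 100000
set_option Elab.async false

namespace H14.On

open H29 H7.Cay H22 Subgroup

/-- the candidates for `J`. -/
def JW : List (List ℕ) := [[1, 2, 6, 3, 7, 2, 1], [1, 2, 3, 2, 1], [1, 0, 2, 6, 3, 6, 2, 1],
  [0, 6, 6, 1, 2, 3, 2, 1]]

/-- elements permuting the involutions of a four-group. -/
def RW : List (List ℕ) := [[1, 2, 6, 4, 3, 5, 4, 7, 3, 2, 1], [1, 6, 2, 6, 4, 3, 5, 4, 6, 3, 2, 6, 1],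
  [3, 6, 3, 7, 1, 2, 6, 4, 3, 5, 4, 7, 2, 1], [1, 2, 7, 3, 6, 4, 3, 5, 4, 2, 1]]

/-- an element of order 3. -/
def QAW : List ℕ := [1, 0, 2, 7, 1, 6, 2, 1]

/-- another element of order 3. -/
def QBW : List ℕ := [1, 0, 6, 1, 2, 1, 7, 1]

/-- an element of order 7. -/
def XW : List ℕ := [1, 2, 1, 3, 2, 1, 3, 2, 6, 6]

/-- an element of order 4. -/
def YW : List ℕ := [1, 2, 1, 7, 1, 3, 7, 3, 2, 1]

/-- a conjugate of the element of order 7. -/
def AW : List ℕ := [3, 7, 1, 2, 1, 3, 2, 1, 6, 3, 2, 7, 1]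

/-- the candidates for `R`. -/
noncomputable def WW (i a b : ℕ) : List ℕ := nth [] RW i ++ powW a QAW ++ powW b QBW

/-- two words do not commute. -/
noncomputable def ncm (u v : List ℕ) : Bool :=
  nq (pullW (nth Net.nil ON1.nl) (u ++ v) 2) (pullW (nth Net.nil ON1.nl) (v ++ u) 2)

/-- relations. -/
noncomputable def chkN1 (i k : ℕ) : Bool :=
  allL [(nth [] RW i ++ [5], nth [] JW i ++ nth [] RW i),
    (nth [] RW i ++ nth [] JW i, [5] ++ nth [] JW i ++ nth [] RW i),
    (nth [] RW i ++ QAW, QAW ++ nth [] RW i), (nth [] RW i ++ QBW, QBW ++ nth [] RW i)]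
    fun p => chkEq 122760 17 (nth Net.nil ON1.nl) p.1 p.2 k

/-- the test of a candidate. -/
noncomputable def chkN2 (i a b : ℕ) : Bool :=
  or2 (chkPt (nth Net.nil ON1.nl) (WW i a b) 1327 1327)
    (or2 (ncm XW (WW i a b ++ AW ++ invW (ivOf ON1.ivl) (WW i a b)))
      (ncm XW (invW (ivOf ON1.ivl) (WW i a b) ++ AW ++ WW i a b)))

theorem n10 : allF 17 (chkN1 0) = true := by decide +kernel
theorem n11 : allF 17 (chkN1 1) = true := by decide +kernel
theorem n12 : allF 17 (chkN1 2) = true := by decide +kernel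
theorem n13 : allF 17 (chkN1 3) = true := by decide +kernel
theorem n20 : (allF 3 fun a => allF 3 (chkN2 0 a)) = true := by decide +kernel
theorem n21 : (allF 3 fun a => allF 3 (chkN2 1 a)) = true := by decide +kernel
theorem n22 : (allF 3 fun a => allF 3 (chkN2 2 a)) = true := by decide +kernel
theorem n23 : (allF 3 fun a => allF 3 (chkN2 3 a)) = true := by decide +kernel
theorem n3 : (allL (XW :: YW :: [5] :: JW) fun w => chkPt (nth Net.nil ON1.nl) w 1327 1327) = true := by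
  decide +kernel
theorem n4 : (allL [(18, 7, 6384), (4, 8, 5586), (1, 8, 58653), (16, 9, 52136)] fun p =>
    chkOrbit 17 (nth Net.nil ON1.nl) ON1.hcols p.1 p.2.1 p.2.2) = true := by decide +kernel

theorem onR {i : ℕ} (hi : i < 4) :
    ev ON.P.e (nth [] RW i) * ev ON.P.e [5] = ev ON.P.e (nth [] JW i) * ev ON.P.e (nth [] RW i) ∧
    ev ON.P.e (nth [] RW i) * ev ON.P.e (nth [] JW i) =
      ev ON.P.e [5] * ev ON.P.e (nth [] JW i) * ev ON.P.e (nth [] RW i) ∧
    ev ON.P.e (nth [] RW i) * ev ON.P.e QAW = ev ON.P.e QAW * ev ON.P.e (nth [] RW i) ∧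
    ev ON.P.e (nth [] RW i) * ev ON.P.e QBW = ev ON.P.e QBW * ev ON.P.e (nth [] RW i) := by
  have h1 : ∀ k < 17, chkN1 i k = true := allF_true.1 (by
    interval_cases i
    exacts [n10, n11, n12, n13])
  simp only [chkN1, allL_true, List.forall_mem_cons] at h1
  simp only [← ev_append]
  refine ⟨?_, ?_, ?_, ?_⟩ <;> refine eq_of_chk (k := 17) ON1.hn (by norm_num) ON.card.2 ON.hρ
    fun k hk => ?_
  exacts [(h1 k hk).1, (h1 k hk).2.1, (h1 k hk).2.2.1, (h1 k hk).2.2.2.1]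

theorem onP {w : List ℕ} {p q : ℕ} (h : chkPt (nth Net.nil ON1.nl) w p q = true) :
    ON.ρ (ev ON.P.e w) p = q := by
  rw [map_ev_sg fun c _ => ON.hρ c]; exact pt_of_chk ON1.hn h

theorem onC {u v : List ℕ} (h : ncm u v = true) : ¬ Commute (ev ON.P.e u) (ev ON.P.e v) :=
  fun h1 => nq_true.1 h (pull_eq ON1.hn (by
    rw [← map_ev_sg fun c _ => ON.hρ c, ← map_ev_sg fun c _ => ON.hρ c, ev_append, h1.eq,
      ev_append]) 2)

theorem onK {i a b : ℕ} (hi : i < 4) (ha : a < 3) (hb : b < 3)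
    (h1 : Commute (ev ON.P.e XW) (ev ON.P.e (WW i a b) * ev ON.P.e AW * (ev ON.P.e (WW i a b))⁻¹))
    (h2 : Commute (ev ON.P.e XW) ((ev ON.P.e (WW i a b))⁻¹ * ev ON.P.e AW * ev ON.P.e (WW i a b))) :
    ON.ρ (ev ON.P.e (WW i a b)) 1327 = 1327 := by
  have h0 : (allF 3 fun a => allF 3 (chkN2 i a)) = true := by
    interval_cases i
    exacts [n20, n21, n22, n23]
  have h3 : chkN2 i a b = true := allF_true.1 (allF_true.1 h0 a ha) b hb
  rw [← ev_invW ON.hiv0, ← ev_append, ← ev_append] at h1 h2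
  rw [chkN2, or2_true, or2_true] at h3
  rcases h3 with h3 | h3 | h3
  exacts [onP h3, absurd h1 (onC h3), absurd h2 (onC h3)]

end H14.On
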