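import Mathlib
import Cfsg.Agent.H14.OnN

/-! The subgroups `L₃(7)` of a group of O'Nan type. -/

set_option autoImplicit false

namespace H14.On

open H29 H7.Cay H22 Subgroup
open scoped MatrixGroups

/-- an element of order 4. -/
def YA : List ℕ := [2, 0, 1, 1, 1, 0, 1, 0, 2, 2, 0, 1, 1, 0, 1, 1, 1]

/-- its image under an automorphism. -/
def YB : List ℕ := [2, 2, 0, 1, 0, 2, 2, 0, 2, 2, 0, 1, 1, 0, 2, 2, 2, 0]

/-- an involution. -/
def YC : List ℕ := [0, 2, 0, 1, 1, 0, 2, 0, 2, 0, 1, 1, 0, 2, 0, 2]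

/-- elements that conjugate the powers of `x` to `x`. -/
def CW : List (List ℕ) := [[], [], [0, 1, 0, 2], [2, 1, 0, 3], [0, 2, 1, 0], [0, 1, 3, 2], [1, 3]]

theorem chkX7 : (allF 2880 fun v => lit (Nat.mod (run [1] v) 32768) fun r =>
    and2 (nq r (Nat.add v 24576)) (imp2 (Nat.beq r (Nat.add v 4096)) (Nat.beq v 0))) = true := by
  decide +kernel

theorem chkY : (allL IWL fun r => imp2 (Nat.beq (rl (powW 3 (r.1 ++ [1]))) 0)
    (anyL (List.range 7) fun a => lit (rl (List.replicate a 1 ++ r.1)) fun n =>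
      anyL [YA, YB, YC] fun v => Nat.beq n (rl (v ++ List.replicate a 1)))) = true := by
  decide +kernel

theorem chkJW : ∀ i < 4, weC ([1, 2, 6, 3, 7, 2, 1] ++ nth [] JW i) (powW i [6, 3, 7, 3]) = true ∧
    weC (nth [] JW i ++ [6, 3, 7, 3]) (powW 3 [6, 3, 7, 3] ++ nth [] JW i) = true ∧
      nth [] JW i ∈ JW := by decide +kernel

variable {G : Type*} [Group G] {M : Type*} [Group M] {s x : M} {t j g : G} {ι : M →* G}
  {X Y Z J R u : G}

theorem Sym.exists_equiv [Finite G] [IsSimpleGroup G] (h : Sym t ι s x j g) :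
    ∃ φ : ON.P.G ≃* G, ∀ w : List ℕ, (∀ c ∈ w, c ∈ [0, 1, 2, 3, 5, 6, 7]) →
      φ (ev ON.P.e w) = ev (sg0 ι s x j) w := by
  classical
  obtain ⟨σ, s4, s7, s8⟩ : ∃ σ : ℕ → G, σ 4 = g * sg0 ι s x j 1 * g⁻¹ ∧
      (∀ c ∈ [0, 1, 2, 3, 5, 6, 7], σ c = sg0 ι s x j c) ∧ ∀ c, 8 ≤ c → σ c = 1 :=
    ⟨fun c => if c = 4 then g * sg0 ι s x j 1 * g⁻¹ else if c < 8 then sg0 ι s x j c else 1,
      if_pos rfl, by simp, fun c hc => (if_neg (by omega)).trans (if_neg (by omega))⟩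
  have s1 : ∀ c ∈ [0, 1, 2, 3, 5, 6, 7], g * sg0 ι s x j c * g⁻¹ = σ (sw c) := fun c hc => by
    by_cases h1 : c = 1
    · rw [h1]; exact s4.symm
    · have h2 : ∀ c ∈ [0, 1, 2, 3, 5, 6, 7], c ≠ 1 →
        c ∈ [0, 2, 3, 5, 6, 7] ∧ sw c ∈ [0, 1, 2, 3, 5, 6, 7] := by decide
      simpa [s7 _ (h2 c hc h1).2] using h.sw_ev (w := [c]) (by simpa using (h2 c hc h1).1)
  have s2 : ∀ c d, On.weC [c, d] [] = true → sg0 ι s x j c = (sg0 ι s x j d)⁻¹ := fun c d h1 =>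
    eq_inv_of_mul_eq_one_left (by simpa using h.weC h1)
  have b2 := s2 1 1 (by decide +kernel)
  obtain ⟨ρ, hρ⟩ := PData.exists_hom ON.coh ON.hg (σ := σ) (fun c => by
    by_cases hc : 8 ≤ c
    · rw [ivOf, nth_default _ hc, s8 c hc, inv_one]
    by_cases h4 : c = 4
    · subst h4
      change σ 4 = _
      rw [s4, mul_inv_rev, mul_inv_rev, inv_inv, ← b2, mul_assoc]
    have h1 : ∀ c < 8, c ≠ 4 → c ∈ [0, 1, 2, 3, 5, 6, 7] ∧ ivOf ON.P.ivl c ∈ [0, 1, 2, 3, 5, 6, 7] ∧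
      On.weC [ivOf ON.P.ivl c, c] [] = true := by decide +kernel
    obtain ⟨h2, h3, h5⟩ := h1 c (by omega) h4
    rw [s7 _ h2, s7 _ h3, s2 _ _ h5]) fun r hr => by
      rcases chkR r hr with ⟨h1, h2⟩ | rfl | ⟨h1, h2, h3⟩
      · exact (ev_congr fun c hc => s7 c (h1 c hc)).trans (h.weC h2)
      · simp only [ev_cons, ev_nil, mul_one, s4, s7 1 (by decide)]
        rw [← mul_assoc, ← mul_assoc, mul_assoc (sg0 ι s x j 1), ← h.comm.eq]
        nth_rewrite 1 [b2]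
        nth_rewrite 4 [b2]
        group
      · rw [← h1]
        have h4 := congrArg (MulAut.conj g).toMonoidHom (h.weC h3)
        generalize r.map _ = w at h2 h4
        rw [map_ev, ev_nil, map_one] at h4
        rw [← h4, ev, List.map_map]
        exact ev_congr fun c hc => (s1 c (h2 c hc)).symm
  have h1 : ∀ w : List ℕ, (∀ c ∈ w, c ∈ [0, 1, 2, 3, 5, 6, 7]) →
      ρ (ev ON.P.e w) = ev (sg0 ι s x j) w := fun w hw => by
    rw [map_ev]
    exact ev_congr fun c hc => (hρ c ((by decide : ∀ c ∈ [0, 1, 2, 3, 5, 6, 7], c < 8) c (hw c hc))).trans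
      (s7 c (hw c hc))
  haveI := ON.simple
  have hi : Function.Injective ρ := by
    rw [← ρ.ker_eq_bot_iff]
    refine ρ.normal_ker.eq_bot_or_eq_top.resolve_right fun h2 => h.t_ne ?_
    rw [← h.ps_128, ← h.wT (w := [5]) (by decide +kernel), ← h1 _ (by decide)]
    exact (h2 ▸ mem_top _ : _ ∈ ρ.ker)
  obtain ⟨f⟩ := h.iso
  exact ⟨MulEquiv.ofBijective ρ ((Nat.bijective_iff_injective_and_card ρ).2
    ⟨hi, (Nat.card_congr f.toEquiv).symm⟩), h1⟩

theorem Sym.conj_t [Finite G] (h : Sym t ι s x j g) {v : G} (v2 : v * v = 1) (v1 : v ≠ 1) :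
    ∃ k, k * t * k⁻¹ = v := by
  have i1 : IsConj t (ps ι s x j 16) := isConj_iff.2 ⟨g, h.gt⟩
  have i2 : IsConj t (ps ι s x j 16 * t) := i1.trans (isConj_iff.2 ⟨ps ι s x j 2, by
    rw [← h.ps_144, ← h.cjT (by norm_num) (by norm_num) (by norm_num)]; decide +kernel⟩)
  have i3 : IsConj t (ps ι s x j 272) := (i1.trans (isConj_iff.2 ⟨_, h.conjT (u := [1, 0, 2, 1])
    (v := [1, 0, 2, 1]) (w := [2]) (a := 1) (by decide +kernel) (by decide +kernel)
      (by decide +kernel)⟩).symm).trans (isConj_iff.2 ⟨g, h.gc⟩)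
  obtain ⟨k, -, hk⟩ := one_class (H := ⊤) (mem_top t) h.tt (fun w _ w2 w1 wt => by
    obtain ⟨k, hk⟩ : ∃ k, k * t * k⁻¹ = w := isConj_iff.1 (by
      by_cases h1 : w = t
      · rw [h1]
      by_cases h2 : w ∈ ι.range
      · obtain ⟨n, hn | hn⟩ := h.inner_conj (by decide +kernel) h2 w2 w1 h1
        exacts [i1.trans (isConj_iff.2 ⟨_, hn⟩).symm, i2.trans (isConj_iff.2 ⟨_, hn⟩).symm]
      · obtain ⟨c, -, hc⟩ := h.outer wt w2 h2
        exact i3.trans (isConj_iff.2 ⟨_, hc⟩).symm)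
    exact ⟨k, mem_top k, hk⟩) (mem_top v) v2 v1
  exact ⟨k, hk⟩

theorem Cand.flip (h : Cand t ι s x j 1 3 0) : Cand t ι (sD s x 2) x j 1 3 0 ∧
    ι (ev (el (sD s x 2) x) YA) = ι (ev (el s x) YB) := by
  have e1 : xD s x 2 = x := mul_one _
  have hg := h.genD (d := 2) (by norm_num) (u := nth [] PS 2) (w := [1]) (by decide +kernel)
    (by decide +kernel)
  have h1 : ∀ w, Ph s x (rd 2 w) = ev (gl (sD s x 2) x) w := fun w => by
    rw [(h.rd_spec (by norm_num) w).2, e1]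
  rw [e1] at hg
  have h2 : ∀ k u, lit (rd 2 (nth [] RL k)) nf = 32768 * u →
      rv (sD s x 2) x k = rv s x 7 ^ ch 1 u := fun k u hu => by
    rw [rv, ← h1, ← h.Ph_nf, show nf _ = 0 + 32768 * u by rw [zero_add]; exact hu,
      Ph_split (by norm_num) h.toRel, Ph_zero, one_mul, h.zT_ch h.hp]
  have h3 : rv (sD s x 2) x 7 = rv s x 7 := by
    rw [h2 7 240 (by decide +kernel), pow_eq_pow_mod _ (h.z4 _ (h.cen 7))]
    exact pow_one _
  obtain ⟨f, fs, fx, hf⟩ := h.exists_aut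
  have h5 : ∀ n m, (lit n fun n => cn n 0) = (lit m fun n => cn n 0) →
      ι (Ph s x n) = ι (Ph s x m) := fun n m h5 => by
    have h6 := congrArg (PhC ι s x j) h5
    rwa [lit_eq, lit_eq, h.PhC_cn, h.PhC_cn, mul_left_inj] at h6
  have h4 : ∀ u w u' w' : List ℕ, (∀ c ∈ u, c < 3) → (∀ c ∈ w, c < 3) → weq u u' = true →
      weq w w' = true → (lit (rd 3 u) fun n => cn n 0) = (lit (rd 2 w) fun n => cn n 0) →
      j * ι (ev (el s x) u') * j⁻¹ = ι (ev (el (sD s x 2) x) w') := fun u w u' w' a1 a2 a3 a4 a5 => by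
    rw [hf, mul_inv_cancel_right, ← h.ev_eq a3, ← hg.ev_eq a4, h.map_ev (by norm_num) fs fx a1,
      h5 _ _ a5, h1, ev_el_gl a2]
  refine ⟨⟨h.toBase, hg, ?_, h3 ▸ h.tq, h.jc, h.jM, ?_, ?_, by simpa using h.jj, h.d0, h.d4⟩, ?_⟩
  · rw [h3, h2 6 16 (by decide +kernel)]; rfl
  · exact h4 (nth [] PS 2) (nth [] PS 3) _ _ (by decide) (by decide) (by decide +kernel)
      (by decide +kernel) (by decide +kernel)
  · have := h4 [1] (nth [] PX 3) [1] (nth [] WX 3) (by decide) (by decide) (by decide +kernel)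
      (by decide +kernel) (by decide +kernel)
    rwa [ev_cons, ev_nil, mul_one] at this
  · rw [ev_el_gl (by decide), ← h1, h5 _ (run YB 0) (by decide +kernel), (h.run_zero _).2]

theorem Gen.cent_x (h : Gen s x) (hC : Cov M) {m : M} {k : ℕ} (hk : k = 1 ∨ k = 6)
    (h1 : m * x = x ^ k * m) : k = 1 ∧ ∃ a < 7, mq M m = mq M (x ^ a) := by
  obtain ⟨w, rfl⟩ := h.word m
  obtain ⟨⟨n1, n2, n3⟩, n4⟩ := h.run_zero w
  rw [← n4] at h1 ⊢
  generalize run w 0 = n at n1 n2 n3 h1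
  have e1 : ∀ a < 7, V (n % 4096 + 4096 * a) ∧
      Ph s x (n % 4096 + 4096 * a) = x ^ a * tau s x (n % 4096) := fun a ha => ⟨by unfold V; omega, by
    rw [Ph, show (n % 4096 + 4096 * a) / 4096 % 8 = a by omega,
      show (n % 4096 + 4096 * a) / 32768 = 0 by omega,
      show (n % 4096 + 4096 * a) % 4096 = n % 4096 by omega, zT_zero, mul_one]⟩
  have e2 := e1 0 (by norm_num)
  rw [mul_zero, add_zero, pow_zero, one_mul] at e2
  have e3 := h.run_spec [1] e2.1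
  have e4 := e1 k (by omega)
  have e5 := (h.Ph_inj hC e3.1 e4.1).1 (congrArg _ (by
    rw [Ph, ← mul_assoc, ← mul_assoc, ← pow_add, add_comm k, pow_add, mul_assoc _ (x ^ k),
      h.zT_comm _ (x ^ k), ← mul_assoc, mul_assoc _ (x ^ k), mul_assoc, mul_right_inj] at h1
    rw [e3.2, e4.2, e2.2, ← h1, ev_cons, ev_nil, mul_one, el_one]))
  have e6 := allF_true.1 chkX7 _ n1
  simp only [lit_eq, and2_true, nq_true, imp2_true, nbeq, nmod, Nat.add_eq] at e6
  obtain rfl : k = 1 := hk.resolve_right (by rintro rfl; omega)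
  refine ⟨rfl, _, n2, ?_⟩
  rw [Ph, e6.2 (by omega), tau_zero, mul_one, map_mul, mq_eq_one.2 (h.zT_mem _), mul_one]

theorem Cand.zeta (h : Cand t ι s x j 1 3 0) : ev (sg0 ι s x j) [6, 3, 7, 3] = ι (rv s x 7) := by
  rw [h.wT (u := 64) (by decide +kernel), ps_64]

theorem Cand.cen_eq (h : Cand t ι s x j 1 3 0) {z : M} (hz : z ∈ center M) :
    ∃ k < 4, ι z = ι (rv s x 7) ^ k := by
  obtain ⟨a, b, h3⟩ := h.center_eq h.cov hz
  exact ⟨_, Nat.mod_lt _ (by norm_num), by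
    rw [h3, h.hp, ← pow_mul, ← pow_add, pow_eq_pow_mod _ (h.z4 _ (h.cen 7)), map_pow]⟩

theorem Cand.not_mem (h : Cand t ι s x j 1 3 0) (h1 : ι x * J * ι x = J) : J ∉ ι.range := by
  rintro ⟨m, rfl⟩
  have h2 : x * m * x = m := h.inj (by simpa using h1)
  refine absurd (h.cent_x h.cov (m := m) (Or.inr rfl) ?_).1 (by norm_num)
  nth_rewrite 2 [← h2]
  rw [← mul_assoc, ← mul_assoc, ← pow_succ, h.x7, one_mul]

theorem Cand.pinJ (h : Cand t ι s x j 1 3 0) (h1 : J * t = t * J) (h2 : ι x * J * ι x = J)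
    (h3 : ι (ev (el s x) YA) * J * ι (ev (el s x) YA) = J) :
    ∃ i < 4, J = ev (sg0 ι s x j) (nth [] JW i) := by
  have h4 : ∀ w : List ℕ, (∀ c ∈ w, c < 3) → On.weC (w.map (· + 8) ++ [1, 2, 6, 3, 7, 2, 1] ++
      w.map (· + 8)) [1, 2, 6, 3, 7, 2, 1] = true → ι (ev (el s x) w) *
        ev (sg0 ι s x j) [1, 2, 6, 3, 7, 2, 1] * ι (ev (el s x) w) =
          ev (sg0 ι s x j) [1, 2, 6, 3, 7, 2, 1] := fun w hw h4 => by
    simpa only [ev_append, sg0_el hw] using h.weC h4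
  have h5 := h4 [1] (by decide) (by decide +kernel)
  have h6 := h4 YA (by decide) (by decide +kernel)
  rw [ev_cons, ev_nil, mul_one, el_one] at h5
  obtain ⟨m, hm⟩ := h.idx _ _ (h.sg0_cent _) h1 (h.not_mem h5) (h.not_mem h2)
  have h7 : ∀ a S, ι a * S * ι a = S → ι a * J * ι a = J → ι m = S * J → m * a = a * m :=
    fun a S a1 a2 a3 => h.inj (by
      rw [map_mul, map_mul, a3]
      calc _ = ι a * S * (ι a * J * ι a) := by nth_rewrite 1 [← a1]; group
        _ = _ := by rw [a2, mul_assoc])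
  obtain ⟨-, a, ha, a1⟩ := h.cent_x h.cov (Or.inl rfl) ((h7 _ _ h5 h2 hm).trans (by simp))
  have h8 : ∀ a < 7, rl (List.replicate a 1 ++ YA) = rl (YA ++ List.replicate a 1) → a = 0 := by
    decide +kernel
  obtain rfl := h8 a ha ((h.rl_eq h.cov).1 (by
    rw [ev_append, ev_append, ev_replicate, el_one, map_mul, map_mul, ← a1, ← map_mul, ← map_mul,
      h7 _ _ h6 h3 hm]))
  rw [pow_zero, map_one, mq_eq_one] at a1
  obtain ⟨i, hi, i1⟩ := h.cen_eq a1
  have h9 := h.weC (chkJW i hi).1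
  rw [ev_append, ev_powW, h.zeta, ← i1, hm] at h9
  exact ⟨i, hi, (mul_left_cancel h9).symm⟩

theorem Cov.cube (h : Cov M) {y v : M ⧸ center M} (h1 : Commute y v) (v3 : v ^ 3 = 1)
    (v1 : v ≠ 1) : y ^ 3 = 1 := by
  have h8 : ∀ k l, (y * v) ^ k = 1 → y ^ l = 1 → Nat.Coprime (k * l) 3 → False :=
    fun k l e1 e2 e3 => by
    have : (y * v) ^ (k * l) = 1 := by rw [pow_mul, e1, one_pow]
    rw [h1.mul_pow, mul_comm k, pow_mul, e2, one_pow, one_mul, mul_comm] at this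
    exact v1 (orderOf_eq_one_iff.1 (Nat.eq_one_of_dvd_coprimes e3
      (orderOf_dvd_of_pow_eq_one this) (orderOf_dvd_of_pow_eq_one v3)))
  by_contra h9
  have h10 : (y * v) ^ 3 ≠ 1 := by rwa [h1.mul_pow, v3, mul_one]
  rcases h.pw y with e | e | e | e <;> rcases h.pw (y * v) with e' | e' | e' | e' <;>
    first | exact h9 e | exact h10 e' | exact h8 _ _ e' e (by norm_num)

/-- the generators fix a point. -/
def Fx (X Y J R : G) : Prop := ∃ ψ : G ≃* ON.P.G, ∀ y ∈ [X, Y, J, R], ON.ρ (ψ y) 1327 = 1327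

theorem Fx.of_conj (k : G) (h : Fx (k * X * k⁻¹) (k * Y * k⁻¹) (k * J * k⁻¹) (k * R * k⁻¹)) :
    Fx X Y J R := by
  obtain ⟨ψ, hψ⟩ := h
  exact ⟨(MulAut.conj k).trans ψ, by simpa using hψ⟩

theorem Cfg.conj (h : Cfg X Y Z J R u) (k : G) : Cfg (k * X * k⁻¹) (k * Y * k⁻¹) (k * Z * k⁻¹)
    (k * J * k⁻¹) (k * R * k⁻¹) (k * u * k⁻¹) :=
  h.map (MulAut.conj k).toMonoidHom (MulAut.conj k).injective

theorem Sym.pin [Finite G] [IsSimpleGroup G] (h : Sym t ι s x j g)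
    (c : Cfg (ι x) (ι (ev (el s x) YA)) t J R u) : Fx (ι x) (ι (ev (el s x) YA)) J R := by
  obtain ⟨φ, hφ⟩ := h.exists_equiv
  obtain ⟨i, hi, hJ⟩ := h.pinJ c.jz c.xj c.yj
  have e0 : ∀ (w : List ℕ) (v : List ℕ), (∀ c ∈ w, c < 3) → (∀ c ∈ v, c ∈ [0, 1, 2, 3, 5, 6, 7]) →
      On.weC (w.map (· + 8)) v = true → ι (ev (el s x) w) = φ (ev ON.P.e v) := fun w v h1 h2 h3 => by
    rw [hφ v h2, ← h.weC h3, sg0_el h1]
  have eX := e0 [1] XW (by decide) (by decide) (by decide +kernel)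
  rw [ev_cons, ev_nil, mul_one, el_one] at eX
  have eY := e0 YA YW (by decide) (by decide) (by decide +kernel)
  have eZ : t = φ (ev ON.P.e [5]) := by
    rw [hφ _ (by decide), h.wT (u := 128) (by decide +kernel), h.ps_128]
  have eA : ι (ev (el s x) YA) * ι x * (ι (ev (el s x) YA))⁻¹ = φ (ev ON.P.e AW) := by
    rw [eX, eY, hφ _ (by decide), hφ _ (by decide), hφ _ (by decide), mul_inv_eq_iff_eq_mul,
      ← ev_append, ← ev_append]
    exact h.weC (by decide +kernel)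
  obtain ⟨j1, j2, j3⟩ := chkJW i hi
  replace j1 := h.weC j1
  replace j2 := h.weC j2
  simp only [ev_append, ev_powW, h.zeta, ← hJ] at j1 j2
  rw [← hφ _ (nth_forall (p := fun w : List ℕ => ∀ c ∈ w, c ∈ [0, 1, 2, 3, 5, 6, 7]) (by simp)
    (by decide) i)] at hJ
  have three : ∀ y, y * t = t * y → Commute y J → y ^ 3 = 1 → ∃ a < 3, ∃ b < 3,
      y = φ (ev ON.P.e QAW) ^ a * φ (ev ON.P.e QBW) ^ b := fun y y1 y2 y3 => by
    obtain ⟨m, rfl⟩ := h.mem_of_cube y1 y3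
    have := h.three y1 y3 (by
      rw [eq_mul_inv_of_mul_eq j1]
      exact ((Commute.map (mem_center_iff.1 (h.cen 7) m) ι).pow_right i).mul_right y2.inv_right)
    rwa [sg0_el (by decide), sg0_el (by decide), e0 QA QAW (by decide) (by decide)
      (by decide +kernel), e0 QB QBW (by decide) (by decide) (by decide +kernel)] at this
  obtain ⟨r1, r2, r3, r4⟩ := onR hi
  replace r1 := congrArg φ r1
  replace r2 := congrArg φ r2
  simp only [map_mul, ← eZ, ← hJ] at r1 r2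
  have r5 : Commute (φ (ev ON.P.e (nth [] RW i))) u := by
    obtain ⟨a, -, b, -, rfl⟩ := three u c.uz c.uj c.u3
    exact ((Commute.map r3 φ).pow_right a).mul_right ((Commute.map r4 φ).pow_right b)
  have eW : ∀ a b, φ (ev ON.P.e (WW i a b)) = φ (ev ON.P.e (nth [] RW i)) *
      (φ (ev ON.P.e QAW) ^ a * φ (ev ON.P.e QBW) ^ b) := fun a b => by
    simp only [WW, ev_append, ev_powW, map_mul, map_pow, mul_assoc]
  generalize φ (ev ON.P.e (nth [] RW i)) = S at r1 r2 r5 eW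
  obtain ⟨K, hK⟩ : ∃ K : Subgroup G, ∀ y, y ∈ K ↔ ON.ρ (φ.symm y) 1327 = 1327 :=
    ⟨(stab ON.ρ 1327).comap φ.symm.toMonoidHom, fun _ => Iff.rfl⟩
  have k0 : ∀ w ∈ XW :: YW :: [5] :: JW, φ (ev ON.P.e w) ∈ K := fun w hw => by
    rw [hK, φ.symm_apply_apply]
    exact onP (allL_true.1 n3 w hw)
  have kJ : J ∈ K := hJ ▸ k0 _ (by simp [j3])
  have k1 : ∀ R, Cfg (ι x) (ι (ev (el s x) YA)) t J R u →
      S⁻¹ * R * t = t * (S⁻¹ * R) ∧ Commute (S⁻¹ * R) J := fun R c => ⟨by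
    rw [mul_assoc, c.rz, eq_mul_inv_of_mul_eq r1.symm]; group, by
    rw [commute_iff_eq, mul_assoc, c.rj, eq_mul_inv_of_mul_eq r2.symm]; group⟩
  have k2 : ∀ R, Cfg (ι x) (ι (ev (el s x) YA)) t J R u → (S⁻¹ * R) ^ 3 = 1 → R ∈ K :=
    fun R c h1 => by
    obtain ⟨a, ha, b, hb, h2⟩ := three _ (k1 R c).1 (k1 R c).2 h1
    rw [inv_mul_eq_iff_eq_mul, ← eW] at h2
    have h3 := c.c1.map φ.symm
    have h4 := c.c2.map φ.symm
    rw [eA, eX, h2] at h3 h4
    simp only [map_mul, map_inv, φ.symm_apply_apply] at h3 h4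
    rw [h2, hK, φ.symm_apply_apply]
    exact onK hi ha hb h3 h4
  have k3 : ∀ R, Cfg (ι x) (ι (ev (el s x) YA)) t J R u → S⁻¹ * R ∈ ι.range → R ∈ K :=
    fun R c ⟨m, hm⟩ => by
    obtain ⟨n, rfl⟩ := h.mem_of_cube c.uz c.u3
    have n3 : n ^ 3 = 1 := h.inj (by rw [map_pow, c.u3, map_one])
    have h1 := h.cov.cube (y := mq M m) (v := mq M n) (Commute.map (h.inj (by
      rw [map_mul, map_mul, hm]
      exact r5.inv_left.mul_left c.ur.symm)) _) (by rw [← map_pow, n3, map_one]) fun h1 => c.u1 (by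
        have := h.z4 _ (mq_eq_one.1 h1)
        rw [pow_succ, n3, one_mul] at this
        rw [this, map_one])
    rw [← map_pow, mq_eq_one] at h1
    obtain ⟨k, hk, h2⟩ := h.cen_eq h1
    rw [map_pow, hm] at h2
    have h3 := ((k1 R c).2.pow_left 3).eq
    rw [h2, eq_comm, ← mul_inv_eq_iff_eq_mul, ← conj_pow, j2, mul_inv_cancel_right, ← pow_mul,
      pow_eq_pow_iff_modEq, orderOf_injective ι h.inj, h.q_ord, Nat.ModEq] at h3
    rcases show k = 0 ∨ k = 2 by omega with rfl | rfl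
    · exact k2 R c (h2.trans (pow_zero _))
    · rw [← map_pow, h.tq] at h2
      refine (mul_mem_cancel_right (eZ ▸ k0 _ (by simp))).1 (k2 _ c.mulZ ?_)
      rw [← mul_assoc, Commute.mul_pow (k1 R c).1, h2, ← pow_succ', show 3 + 1 = 2 * 2 from rfl,
        pow_mul, sq t, h.tt, one_pow]
  refine ⟨φ.symm, ?_⟩
  simp only [List.forall_mem_cons, ← hK]
  refine ⟨eX ▸ k0 _ (by simp), eY ▸ k0 _ (by simp), kJ, ?_, by simp⟩
  by_cases h1 : S⁻¹ * R ∈ ι.range
  · exact k3 R c h1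
  · exact (mul_mem_cancel_right kJ).1 (k3 _ c.mulJ
      (mul_assoc S⁻¹ R J ▸ h.idx _ _ (k1 R c).1 c.jz h1 (h.not_mem c.xj)))

theorem Cand.pin1 [Finite G] [IsSimpleGroup G] (h : Cand t ι s x j 1 3 0)
    (c : Cfg (ι x) (ι (ev (el s x) YA)) t J R u) : Fx (ι x) (ι (ev (el s x) YA)) J R := by
  obtain ⟨-, -, -, g, g1, g2⟩ := h.fusion (by norm_num) (by norm_num)
  obtain ⟨g, g3⟩ := h.exists_act g1 g2
  obtain ⟨j, g, h⟩ := h.exists_sym g3
  exact h.pin c

theorem Cand.pin2 [Finite G] [IsSimpleGroup G] (h : Cand t ι s x j 1 3 0)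
    (c : Cfg (ι x) Y t J R u) : Fx (ι x) Y J R := by
  haveI : Fact (Nat.Prime 2) := ⟨by norm_num⟩
  have y1 : Y * t = t * Y := by rw [← c.yy, mul_assoc]
  obtain ⟨y, rfl⟩ : Y ∈ ι.range := (mul_mem_cancel_right (MonoidHom.mem_range.2 ⟨x, rfl⟩)).1
    (h.mem_of_cube (Commute.mul_left y1 c.xz) c.yx)
  have y2 : y * y = rv s x 7 ^ 2 := h.inj (by rw [map_mul, c.yy, h.tq])
  have y3 : (y * x) ^ 3 = 1 := h.inj (by rw [map_pow, map_mul, c.yx, map_one])
  have h4 : orderOf (mq M y) = 2 := orderOf_eq_prime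
    (by rw [sq, ← map_mul, y2, mq_eq_one]; exact pow_mem (h.cen 7) 2) fun h4 => h.x_ne h.cov (by
      have h5 := congrArg (mq M) y3
      have h6 := congrArg (mq M) h.x7
      rw [map_pow, map_mul, h4, one_mul, map_one] at h5
      rw [map_pow, map_one, show 7 = 3 * 2 + 1 from rfl, pow_succ, pow_mul, h5, one_pow,
        one_mul] at h6
      exact mq_eq_one.1 h6)
  obtain ⟨g, hg⟩ := isConj_iff.1 (h.cov.inv (mq M s) _ (orderOf_eq_prime
    (by rw [← map_pow, sq, ← rv_zero _ x, mq_eq_one]; exact h.cen 0)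
    fun h4 => h.s_ne h.cov (mq_eq_one.1 h4)) h4)
  obtain ⟨g, rfl⟩ := QuotientGroup.mk'_surjective _ g
  obtain ⟨i, hi, h5⟩ := h.conj_iw h.cov g (i := 0) (by norm_num)
  rw [show iw 0 = [0] from rfl, ev_cons, ev_nil, mul_one, map_mul, map_mul, map_inv, el_zero] at h5
  replace h5 := hg.symm.trans h5
  obtain ⟨a, -, h6⟩ := anyL_true.1 (imp2_true.1 (allL_true.1 chkY (nth ([], 0) IWL i) (by
    rw [nth_eq, List.getD_eq_getElem _ _ (by rwa [show IWL.length = 315 by decide +kernel])]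
    exact List.getElem_mem _)) (nbeq.2 ((h.rl_zero h.cov).1 (by
      change ev _ (powW 3 (iw i ++ [1])) ∈ _
      rw [ev_powW, ev_append, ← mq_eq_one, map_pow, map_mul, ← h5, ev_cons, ev_nil, mul_one,
        el_one, ← map_mul, ← map_pow, y3, map_one]))))
  rw [lit_eq, anyL_true] at h6
  obtain ⟨v, hv, h6⟩ := h6
  change Nat.beq (rl (_ ++ iw i)) _ = true at h6
  rw [nbeq, ← h.rl_eq h.cov, ev_append, ev_append, ev_replicate, el_one, map_mul, ← h5, map_mul,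
    ← mul_inv_eq_iff_eq_mul, ← map_inv, ← map_mul, ← map_mul] at h6
  have h7 : ∀ v ∈ [YA, YB, YC], (∀ c ∈ v, c < 3) ∧
    On.weC (powW 3 (v.map (· + 8) ++ [1].map (· + 8))) [] = true := by decide +kernel
  have h8 := h.weC (h7 v hv).2
  rw [ev_powW, ev_append, sg0_el (h7 v hv).1, sg0_el (by decide), ← map_mul, ← map_pow, ev_nil,
    map_eq_one_iff _ h.inj, ev_cons, ev_nil, mul_one, el_one] at h8
  have h9 : x ^ a * x * (x ^ a)⁻¹ = x := by group
  have h10 := h.eq_of_mq (n := 3) (a := x) rfl h6 (by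
    nth_rewrite 3 [← h9]
    rw [conj_mul, conj_pow, y3]; group) h8
  have c' := c.conj (ι (x ^ a))
  refine Fx.of_conj (ι (x ^ a)) ?_
  rw [h.ct, mul_inv_cancel_right] at c'
  simp only [← map_inv, ← map_mul, h9, h10] at c' ⊢
  simp only [List.mem_cons, List.not_mem_nil, or_false] at hv
  rcases hv with rfl | rfl | rfl
  · exact h.pin1 c'
  · rw [← h.flip.2] at c' ⊢
    exact h.flip.1.pin1 c'
  · have h11 := h.weC (u := YC.map (· + 8) ++ YC.map (· + 8)) (w := []) (by decide +kernel)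
    rw [ev_append, sg0_el (by decide), c'.yy] at h11
    exact absurd h11 h.t_ne

theorem Cand.pin3 [Finite G] [IsSimpleGroup G] (h : Cand t ι s x j 1 3 0)
    (c : Cfg X Y t J R u) : Fx X Y J R := by
  classical
  haveI : Finite M := Nat.finite_of_card_ne_zero (by rw [h.cov.card]; norm_num)
  haveI : Fact (Nat.Prime 7) := ⟨by norm_num⟩
  obtain ⟨z, rfl⟩ : X ∈ ι.range := by
    by_contra h1
    have := pow_mem (h.idx _ _ c.xz c.xz h1 h1) 4
    rw [← sq, ← pow_mul, show 2 * 4 = 7 + 1 from rfl, pow_succ, c.x7, one_mul] at this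
    exact h1 this
  have hx : orderOf x = 7 := orderOf_eq_prime h.x7 fun h1 => h.x_ne h.cov (h1 ▸ one_mem _)
  have hS : SylIn 7 (zpowers x) ⊤ := by
    refine sylIn_of_not_dvd le_top (isPGroup_zpowers (k := 1) h.x7) ?_
    have := (zpowers x).card_mul_index
    rw [Nat.card_zpowers, hx, h.cov.card] at this
    rw [relIndex_top_right]
    omega
  obtain ⟨m, -, h1⟩ := hS.exists_cj_le (R := zpowers z) le_top (isPGroup_zpowers (k := 1)
    (h.inj (by rw [pow_one, map_pow, c.x7, map_one])))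
  obtain ⟨k, hk, h2⟩ := (mem_powers_iff_mem_range_orderOf (x := x)).1
    (mem_powers_iff_mem_zpowers.2 (h1 (conj_mem_cj (mem_zpowers z)))) |> Finset.mem_image.1
  rw [Finset.mem_range, hx] at hk
  have h3 : ∀ k < 7, k ≠ 0 → On.weC (nth [] CW k ++ powW k ([1].map (· + 8)))
    ([1].map (· + 8) ++ nth [] CW k) = true := by decide +kernel
  have h4 := h.weC (h3 k hk (by
    rintro rfl
    exact c.x1 (by rw [conj_eq_one_iff.1 (h2.symm.trans (pow_zero x)), map_one])))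
  rw [ev_append, ev_append, ev_powW, sg0_el (by decide), ev_cons, ev_nil, mul_one, el_one,
    ← map_pow, h2, ← mul_inv_eq_iff_eq_mul] at h4
  have h5 := h.sg0_cent (nth [] CW k)
  generalize ev (sg0 ι s x j) (nth [] CW k) = n at h4 h5
  have c' := c.conj (n * ι m)
  refine Fx.of_conj (n * ι m) ?_
  rw [(Commute.mul_left h5 (h.ct m)).eq, mul_inv_cancel_right] at c'
  rw [show n * ι m * ι z * (n * ι m)⁻¹ = ι x by rw [← h4]; simp [mul_assoc]] at c' ⊢
  exact h.pin2 c'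

theorem Base.pin [Finite G] [IsSimpleGroup G] (h : Base t ι) (hg : Gen s x)
    (c : Cfg X Y Z J R u) : Fx X Y J R := by
  obtain ⟨s, x, j, pp, hp, d, k, hk, h⟩ := h.exists_cand hg
  obtain ⟨rfl, rfl, rfl, g, g1, g2⟩ := h.fusion hp hk
  obtain ⟨g, g3⟩ := h.exists_act g1 g2
  obtain ⟨j, g, h⟩ := h.exists_sym g3
  obtain ⟨k, rfl⟩ := h.conj_t c.zz c.z1
  have c' := c.conj k⁻¹
  rw [show k⁻¹ * (k * t * k⁻¹) * k⁻¹⁻¹ = t by group] at c'
  exact Fx.of_conj k⁻¹ (h.pin3 c')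

theorem Base.l37 [Finite G] [IsSimpleGroup G] (h : Base t ι) (hg : Gen s x) (H : Subgroup G)
    (N : Subgroup H) [N.Normal] (hN : N.index = 2) (e : N ≃* PSL(3, ZMod 7)) :
    H.index = 122760 ∧ ∃ q₁ q₂ q₃ q₄ : G ⧸ H, (MulAction.orbit H q₁).ncard = 6384 ∧
      (MulAction.orbit H q₂).ncard = 5586 ∧ (MulAction.orbit H q₃).ncard = 58653 ∧
        (MulAction.orbit H q₄).ncard = 52136 := by
  obtain ⟨X, Y, Z, J, R, u, c, hc⟩ := l37_cfg
  have cN : Nat.card N = 1876896 := by rw [Nat.card_congr e.toEquiv, H9.L37M.card]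
  have cH : Nat.card H = 3753792 := by rw [← N.card_mul_index, cN, hN]
  obtain ⟨f, f1, f2⟩ : ∃ f : PSL(3, ZMod 7) →* G, Function.Injective f ∧
      f.range = N.map H.subtype := by
    refine ⟨(H.subtype.comp N.subtype).comp e.symm.toMonoidHom, (subtype_injective _).comp
      ((subtype_injective _).comp e.symm.injective), ?_⟩
    rw [MonoidHom.range_comp, MonoidHom.range_eq_top.2 e.symm.surjective, ← MonoidHom.range_eq_map,
      MonoidHom.range_comp, range_subtype]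
  obtain ⟨ψ, hψ⟩ := h.pin hg (c.map f f1)
  obtain ⟨k, hk⟩ := ON.cm.trans 1327 (by norm_num)
  obtain ⟨ψ, hψ⟩ : ∃ ψ : G ≃* ON.P.G, f.range ≤ stab (ON.ρ.comp ψ.toMonoidHom) 0 := by
    refine ⟨ψ.trans (MulAut.conj k⁻¹), ?_⟩
    rw [MonoidHom.range_eq_map, map_le_iff_le_comap, top_le_iff]
    have h1 : ∀ y, ON.ρ (ψ (f y)) 1327 = 1327 → y ∈ (stab (ON.ρ.comp
        (ψ.trans (MulAut.conj k⁻¹)).toMonoidHom) 0).comap f := fun y hy => by
      change ON.ρ (k⁻¹ * ψ (f y) * k⁻¹⁻¹) 0 = 0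
      rw [inv_inv, map_mul, map_mul, Equiv.Perm.mul_apply, Equiv.Perm.mul_apply, hk, hy, ← hk,
        map_inv, Equiv.Perm.inv_eq_iff_eq]
    exact hc _ (h1 _ (hψ _ (by simp))) (h1 _ (hψ _ (by simp))) (h1 _ (hψ _ (by simp)))
      (h1 _ (hψ _ (by simp)))
  have hT : Trans (ON.ρ.comp ψ.toMonoidHom) 122760 := ⟨ON.cm.pos, fun g => ON.cm.lt _, fun i hi => by
    obtain ⟨g, hg⟩ := ON.cm.trans i hi
    exact ⟨ψ.symm g, by simpa using hg⟩⟩
  have h1 : stab (ON.ρ.comp ψ.toMonoidHom) 0 = gen (fun c => ψ.symm (ON.P.e c)) ON1.hcols := by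
    refine Eq.trans ?_ (map_gen ψ.symm.toMonoidHom _ _)
    rw [ON.cm.eq_stab]
    exact (map_equiv_eq_comap_symm ψ.symm (stab ON.ρ 0)).symm
  have h2 := ONX.prim.isCoatom (e := fun c => ψ.symm (extE ON.P.e 8 ONX.defs c)) ONX.hn hT
    (fun c => by simpa using ONX.map ON.hρ c) (by norm_num)
  have h3 := hT.card_eq
  rw [Nat.card_congr ψ.toEquiv, ON.card.1] at h3
  have h4 : Nat.card f.range = 1876896 := by
    rw [← Nat.card_congr (MonoidHom.ofInjective f1).toEquiv, H9.L37M.card]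
  have h5 : stab (ON.ρ.comp ψ.toMonoidHom) 0 ≤ normalizer f.range := by
    rw [← normal_subgroupOf_iff_le_normalizer hψ]
    refine normal_of_index_eq_two ?_
    have := (f.range.subgroupOf (stab (ON.ρ.comp ψ.toMonoidHom) 0)).card_mul_index
    rw [Nat.card_congr (subgroupOfEquivOfLe hψ).toEquiv, h4] at this
    omega
  have h6 : H ≤ normalizer f.range := by
    rw [f2, ← normal_subgroupOf_iff_le_normalizer (map_subtype_le N), subgroupOf,
      comap_map_eq_self_of_injective (subtype_injective _)]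
    infer_instance
  have h7 : H = stab (ON.ρ.comp ψ.toMonoidHom) 0 := by
    refine eq_of_le_of_card_ge (h6.trans (h2.le_iff.1 h5 |>.resolve_left fun h7 => ?_).le)
      (by omega)
    rcases (normalizer_eq_top_iff.1 h7).eq_bot_or_eq_top with h8 | h8
    · simp [h8] at h4
    · rw [h8, card_top, Nat.card_congr ψ.toEquiv, ON.card.1] at h4
      omega
  have h8 := hT.cosetModel
  rw [h1] at h7 h8
  subst h7
  have h9 := fun p hp hb => h8.exists_suborbit (e := fun c => ψ.symm (ON.P.e c)) ON1.hn hb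
    (fun c _ => by simpa using ON.hρ c) (allL_true.1 n4 p hp)
  obtain ⟨q1, -, a1⟩ := h9 (18, 7, 6384) (by simp) (by norm_num)
  obtain ⟨q2, -, a2⟩ := h9 (4, 8, 5586) (by simp) (by norm_num)
  obtain ⟨q3, -, a3⟩ := h9 (1, 8, 58653) (by simp) (by norm_num)
  obtain ⟨q4, -, a4⟩ := h9 (16, 9, 52136) (by simp) (by norm_num)
  exact ⟨h8.index_eq, q1, q2, q3, q4, a1, a2, a3, a4⟩

theorem base_of (t : G) (ht : orderOf t = 2)
    (M : Subgroup (centralizer ({t} : Set G))) [M.Normal] (hM : M.index = 2)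
    (hout : centralizer (M : Set (centralizer ({t} : Set G))) ≤ M) (hC : Cov M) :
    Base t ((centralizer {t}).subtype.comp M.subtype) :=
  have hr : ∀ y : centralizer ({t} : Set G),
      (y : G) ∈ ((centralizer {t}).subtype.comp M.subtype).range ↔ y ∈ M := fun y =>
    ⟨fun ⟨m, hm⟩ => (Subtype.ext hm : (m : centralizer ({t} : Set G)) = y) ▸ m.2,
      fun hy => ⟨⟨y, hy⟩, rfl⟩⟩
  have hc := fun y => (mem_centralizer_singleton_iff (k := y) (g := t)).2
  { cov := hC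
    inj := (subtype_injective _).comp (subtype_injective _)
    ht := ht
    ct := fun m => mem_centralizer_singleton_iff.1 m.1.2
    nrm := fun y hy => ⟨MulAut.conjNormal (⟨y, hc y hy⟩ : centralizer ({t} : Set G)), fun m => rfl⟩
    idx := fun y z hy hz h1 h2 => (hr (⟨y, hc y hy⟩ * ⟨z, hc z hz⟩)).2
      ((mul_mem_iff_of_index_two hM).2 (iff_of_false (mt (hr ⟨y, _⟩).2 h1) (mt (hr ⟨z, _⟩).2 h2)))
    ex := by
      by_contra h1
      push Not at h1
      rw [M.eq_top_iff'.2 fun y => (hr y).1 (h1 y (mem_centralizer_singleton_iff.1 y.2)),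
        index_top] at hM
      omega
    out := fun y hy h1 => (hr ⟨y, hc y hy⟩).2 (hout (mem_centralizer_iff.2 fun m hm =>
      Subtype.ext (h1 ⟨m, hm⟩).symm))
    card := by rw [← M.card_mul_index, hC.card, hM] }

end H14.On
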