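import Mathlib

/-! The Praeger–Saxl bound: vocabulary. -/

set_option autoImplicit false

namespace H14.PS

open MulAction Finset
open scoped Classical

universe u

variable (H : Type*) {W : Type*} [Group H] [MulAction H W]

/-- `x` and `y` lie in one orbit of the pointwise stabiliser of `S`. -/
def So (S : Finset W) (x y : W) : Prop := ∃ h : H, (∀ s ∈ S, h • s = s) ∧ h • x = y

/-- the number of new points whose fixing separates `x` from `y`. -/
noncomputable def sep [Fintype W] (S : Finset W) (x y : W) : ℕ :=
  #{z | z ∉ S ∧ ¬ So H (insert z S) x y}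

variable {H}

theorem So.refl (S : Finset W) (x : W) : So H S x x := ⟨1, fun _ _ => one_smul _ _, one_smul _ _⟩

theorem So.symm {S : Finset W} {x y : W} (h : So H S x y) : So H S y x := by
  obtain ⟨g, h1, rfl⟩ := h
  exact ⟨g⁻¹, fun s hs => by rw [inv_smul_eq_iff, h1 s hs], inv_smul_smul _ _⟩

theorem So.trans {S : Finset W} {x y z : W} (h : So H S x y) (h' : So H S y z) : So H S x z := by
  obtain ⟨g, h1, rfl⟩ := h
  obtain ⟨g', h2, rfl⟩ := h'
  exact ⟨g' * g, fun s hs => by rw [mul_smul, h1 s hs, h2 s hs], mul_smul _ _ _⟩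

theorem So.mono {S T : Finset W} {x y : W} (h : So H T x y) (hS : S ⊆ T) : So H S x y :=
  h.imp fun _ h => ⟨fun s hs => h.1 s (hS hs), h.2⟩

theorem So.eq_of_mem {S : Finset W} {x y : W} (h : So H S x y) (hx : x ∈ S) : x = y := by
  obtain ⟨g, h1, rfl⟩ := h
  exact (h1 x hx).symm

/-- primitive groups of degree `m` that are not doubly transitive have order at most `X`. -/
def GA (m X : ℕ) : Prop :=
  ∀ (W H : Type u) [Fintype W] [Group H] [Finite H] [MulAction H W] [FaithfulSMul H W],
    Fintype.card W = m → IsPreprimitive H W → ¬ IsMultiplyPretransitive H W 2 → Nat.card H ≤ X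

/-- doubly transitive groups of degree `m` with imprimitive stabiliser have order at most `X`. -/
def GB (m X : ℕ) : Prop :=
  ∀ (W H : Type u) [Fintype W] [Group H] [Finite H] [MulAction H W] [FaithfulSMul H W],
    Fintype.card W = m → IsMultiplyPretransitive H W 2 →
      ∀ a : W, ¬ IsPreprimitive (stabilizer H a) (SubMulAction.ofStabilizer H a) → Nat.card H ≤ X

end H14.PS
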