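import Cfsg.Agent.H14.PS0

/-! The Praeger–Saxl bound: the orbital graph inequality for primitive groups that are not
doubly transitive. -/

set_option autoImplicit false

namespace H14.PS

open MulAction Finset
open scoped Classical

variable {H W : Type*} [Group H] [MulAction H W] [Fintype W]

namespace CA

variable (H) in
/-- the points separating `u` from `w`. -/
noncomputable def Sp (u w : W) : Finset W := {z | ¬ ∃ h : H, h • z = z ∧ h • u = w}

theorem sep_eq (u w : W) : sep H ∅ u w = #(Sp H u w) := by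
  unfold sep Sp So
  congr 1
  ext z
  simp

theorem mem_Sp_of {β : Type*} (f : W → W → β) (hf : ∀ (h : H) a b, f (h • a) (h • b) = f a b)
    {u w z : W} (hne : f u z ≠ f w z) : z ∈ Sp H u w := by
  simp only [Sp, mem_filter, mem_univ, true_and]
  rintro ⟨h, h1, rfl⟩
  apply hne
  rw [← hf h u z, h1]

theorem left_mem {u w : W} (huw : u ≠ w) : u ∈ Sp H u w := by
  simp only [Sp, mem_filter, mem_univ, true_and]
  rintro ⟨h, h1, h2⟩
  exact huw (h1.symm.trans h2)

theorem Sp_symm (u w : W) : Sp H u w = Sp H w u := by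
  have key : ∀ u w z : W, (∃ h : H, h • z = z ∧ h • u = w) → ∃ h : H, h • z = z ∧ h • w = u := by
    rintro u w z ⟨h, h1, rfl⟩
    exact ⟨h⁻¹, by rw [inv_smul_eq_iff, h1], inv_smul_smul _ _⟩
  ext z
  simp only [Sp, mem_filter, mem_univ, true_and]
  exact not_congr ⟨key u w z, key w u z⟩

omit [Fintype W] in
theorem card_inv (h : H) {s t : Finset W} (e : ∀ z, h • z ∈ s ↔ z ∈ t) : #s = #t := by
  symm
  apply card_bij (fun z _ => h • z)
  · intro z hz
    exact (e z).2 hz
  · intro z _ z' _ e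
    exact smul_left_cancel h e
  · intro z hz
    exact ⟨h⁻¹ • z, (e _).1 (by rwa [smul_inv_smul]), smul_inv_smul _ _⟩

theorem Sp_smul (h : H) (u w : W) : #(Sp H (h • u) (h • w)) = #(Sp H u w) := by
  apply card_inv h
  intro z
  simp only [Sp, mem_filter, mem_univ, true_and]
  apply not_congr
  constructor
  · rintro ⟨k, h1, h2⟩
    refine ⟨h⁻¹ * k * h, ?_, ?_⟩
    · rw [mul_smul, mul_smul, h1, inv_smul_smul]
    · rw [mul_smul, mul_smul, h2, inv_smul_smul]
  · rintro ⟨k, h1, h2⟩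
    refine ⟨h * k * h⁻¹, ?_, ?_⟩
    · rw [mul_smul, mul_smul, inv_smul_smul, h1]
    · rw [mul_smul, mul_smul, inv_smul_smul, h2]

omit [Fintype W] in
theorem equiv_triv (hp : IsPreprimitive H W) (r : W → W → Prop) (hr : Equivalence r)
    (hi : ∀ (h : H) u w, r u w → r (h • u) (h • w)) {x y : W} (hxy : x ≠ y) (h : r x y)
    (u w : W) : r u w := by
  have hB : IsBlock H {w | r x w} := by
    rw [isBlock_iff_smul_eq_of_mem]
    intro g a ha hga
    simp only [Set.mem_setOf_eq] at ha hga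
    ext t
    rw [Set.mem_smul_set_iff_inv_smul_mem]
    simp only [Set.mem_setOf_eq]
    constructor
    · intro ht
      have := hi g _ _ (hr.trans (hr.symm ha) ht)
      rw [smul_inv_smul] at this
      exact hr.trans hga this
    · intro ht
      have := hi g⁻¹ _ _ (hr.trans (hr.symm hga) ht)
      rw [inv_smul_smul] at this
      exact hr.trans ha this
  rcases hp.isTrivialBlock_of_isBlock hB with h1 | h1
  · exact absurd (h1 (show x ∈ {w | r x w} from hr.refl x) (show y ∈ {w | r x w} from h)) hxy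
  · have hu : u ∈ {w | r x w} := h1 ▸ Set.mem_univ u
    have hw : w ∈ {w | r x w} := h1 ▸ Set.mem_univ w
    exact hr.trans (hr.symm hu) hw

variable (H) in
/-- the orbital of `(x, y)`. -/
def arc (x y u w : W) : Prop := ∃ h : H, h • x = u ∧ h • y = w

omit [Fintype W] in
theorem arc.smul {x y u w : W} (ha : arc H x y u w) (g : H) : arc H x y (g • u) (g • w) := by
  obtain ⟨h, rfl, rfl⟩ := ha
  exact ⟨g * h, mul_smul _ _ _, mul_smul _ _ _⟩

omit [Fintype W] in
theorem arc_smul_iff {x y : W} (g : H) (u w : W) :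
    arc H x y (g • u) (g • w) ↔ arc H x y u w :=
  ⟨fun h => by simpa using h.smul g⁻¹, fun h => h.smul g⟩

omit [Fintype W] in
theorem arc.ne {x y u w : W} (hxy : x ≠ y) (ha : arc H x y u w) : u ≠ w := by
  obtain ⟨h, rfl, rfl⟩ := ha
  exact fun e => hxy (smul_left_cancel h e)

theorem arc.Sp_eq {x y u w : W} (ha : arc H x y u w) : #(Sp H u w) = #(Sp H x y) := by
  obtain ⟨h, rfl, rfl⟩ := ha
  exact Sp_smul h x y

theorem tour (hp : IsPretransitive H W) (h2 : ¬ IsMultiplyPretransitive H W 2) {x y : W}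
    (hxy : x ≠ y) (hall : ∀ u w, u ≠ w → arc H x y u w ∨ arc H x y w u) :
    ∃ k, 1 ≤ k ∧ Fintype.card W = 2 * k + 1 ∧ k + 2 ≤ #(Sp H x y) := by
  have asym : ∀ u w, arc H x y u w → ¬ arc H x y w u := by
    rintro u w ⟨h, rfl, rfl⟩ ⟨g, g1, g2⟩
    apply h2
    have sy : ∀ u w, arc H x y u w → arc H x y w u := by
      rintro u w ⟨k, rfl, rfl⟩
      refine ⟨k * h⁻¹ * g, ?_, ?_⟩
      · rw [mul_smul, mul_smul, g1, inv_smul_smul]
      · rw [mul_smul, mul_smul, g2, inv_smul_smul]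
    have al : ∀ u w, u ≠ w → arc H x y u w := fun u w e => (hall u w e).elim id (sy w u)
    rw [is_two_pretransitive_iff]
    intro a b c d hab hcd
    obtain ⟨k, rfl, rfl⟩ := al a b hab
    obtain ⟨l, rfl, rfl⟩ := al c d hcd
    exact ⟨l * k⁻¹, by rw [mul_smul, inv_smul_smul], by rw [mul_smul, inv_smul_smul]⟩
  set Out : W → Finset W := fun u => {z | arc H x y u z} with hOut
  set In : W → Finset W := fun u => {z | arc H x y z u} with hIn
  have mO : ∀ u z, z ∈ Out u ↔ arc H x y u z := fun u z => by simp [hOut]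
  have mI : ∀ u z, z ∈ In u ↔ arc H x y z u := fun u z => by simp [hIn]
  have cO : ∀ u, #(Out u) = #(Out x) := by
    intro u
    obtain ⟨g, rfl⟩ := hp.exists_smul_eq x u
    exact card_inv g fun z => by rw [mO, mO, arc_smul_iff]
  have cI : ∀ u, #(In u) = #(In x) := by
    intro u
    obtain ⟨g, rfl⟩ := hp.exists_smul_eq x u
    exact card_inv g fun z => by rw [mI, mI, arc_smul_iff]
  have hm : 0 < Fintype.card W := Fintype.card_pos_iff.2 ⟨x⟩
  have e1 : #(In x) = #(Out x) := by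
    have : ∑ u, #(Out u) = ∑ u, #(In u) := by
      simp only [hOut, hIn, card_filter]
      exact sum_comm
    simp only [cO, cI, sum_const, card_univ, smul_eq_mul] at this
    exact (Nat.eq_of_mul_eq_mul_left hm this).symm
  have e2 : Fintype.card W = 2 * #(Out x) + 1 := by
    have hd : Disjoint (Out x) (In x) := by
      rw [disjoint_left]
      intro z h1 h2
      exact asym _ _ ((mO _ _).1 h1) ((mI _ _).1 h2)
    have hu : Out x ∪ In x = univ.erase x := by
      ext z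
      rw [mem_union, mO, mI, mem_erase]
      constructor
      · rintro (h | h)
        · exact ⟨(h.ne hxy).symm, mem_univ _⟩
        · exact ⟨h.ne hxy, mem_univ _⟩
      · rintro ⟨h, -⟩
        exact hall x z (Ne.symm h)
    have := card_union_of_disjoint hd
    rw [hu, card_erase_of_mem (mem_univ _), card_univ, e1] at this
    omega
  have k1 : 1 ≤ #(Out x) := card_pos.2 ⟨y, (mO _ _).2 ⟨1, one_smul _ _, one_smul _ _⟩⟩
  refine ⟨#(Out x), k1, e2, ?_⟩
  have hb : ∀ w ∈ univ.erase x, 2 * #(Out x \ Out w) + 1 ≤ #(Sp H x y) := by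
    intro w hw
    have hw' : x ≠ w := (mem_erase.1 hw).1.symm
    have hD : #(Sp H x w) = #(Sp H x y) := by
      rcases hall x w hw' with h | h
      · exact h.Sp_eq
      · rw [Sp_symm]; exact h.Sp_eq
    obtain ⟨t, t1, t2, t3⟩ : ∃ t, t ∈ Sp H x w ∧ t ∉ Out x ∧ t ∉ Out w := by
      rcases hall x w hw' with h | h
      · exact ⟨x, left_mem hw', fun e => ((mO _ _).1 e).ne hxy rfl,
          fun e => asym _ _ h ((mO _ _).1 e)⟩
      · exact ⟨w, Sp_symm (H := H) w x ▸ left_mem hw'.symm, fun e => asym _ _ h ((mO _ _).1 e),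
          fun e => ((mO _ _).1 e).ne hxy rfl⟩
    have hs : insert t (Out x \ Out w ∪ Out w \ Out x) ⊆ Sp H x w := by
      intro z hz
      rcases mem_insert.1 hz with rfl | hz
      · exact t1
      · apply mem_Sp_of (H := H) (arc H x y) (fun h a b => propext (arc_smul_iff h a b))
        intro e
        simp only [mem_union, mem_sdiff, mO, e] at hz
        tauto
    have := card_le_card hs
    rw [card_insert_of_notMem (by simp [t2, t3]),
      card_union_of_disjoint disjoint_sdiff_sdiff, ← card_sdiff_comm (cO w).symm, hD] at this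
    omega
  have hs : #(Out x) * (#(Out x) + 1) ≤ ∑ w ∈ univ.erase x, #(Out x \ Out w) := by
    have : ∑ w ∈ univ.erase x, #(Out x \ Out w)
        = ∑ z ∈ Out x, #{w ∈ univ.erase x | z ∉ Out w} := by
      simp only [sdiff_eq_filter, card_filter]
      exact sum_comm
    rw [this]
    apply le_trans (le_of_eq (by rw [sum_const, smul_eq_mul]))
      (sum_le_sum (f := fun _ => #(Out x) + 1) _)
    intro z hz
    have hz' := (mO _ _).1 hz
    rw [← cO z, ← card_insert_of_notMem (a := z) (fun e => ((mO _ _).1 e).ne hxy rfl)]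
    apply card_le_card
    intro w hw
    rw [mem_filter, mem_erase, mO]
    rcases mem_insert.1 hw with rfl | hw
    · exact ⟨⟨(hz'.ne hxy).symm, mem_univ _⟩, fun e => e.ne hxy rfl⟩
    · have hw' := (mO _ _).1 hw
      refine ⟨⟨?_, mem_univ _⟩, asym _ _ hw'⟩
      rintro rfl
      exact asym _ _ hz' hw'
  have hs2 := sum_le_sum hb
  rw [sum_add_distrib, ← mul_sum, sum_const, sum_const, card_erase_of_mem (mem_univ _), card_univ,
    e2, smul_eq_mul, smul_eq_mul, Nat.add_sub_cancel] at hs2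
  have : 2 * #(Out x) * (#(Out x) + 2) ≤ 2 * #(Out x) * #(Sp H x y) := by nlinarith
  exact Nat.le_of_mul_le_mul_left this (by omega)

section graph

variable (Γ : SimpleGraph W)

/-- neighbours. -/
noncomputable def Nb (u : W) : Finset W := {z | Γ.Adj u z}

variable {Γ}

theorem mem_Nb {u z : W} : z ∈ Nb Γ u ↔ Γ.Adj u z := by simp [Nb]

theorem card_two {s : Finset W} {p q : W} (hp : p ∈ s) (hq : q ∈ s) (hpq : p ≠ q) :
    #((s.erase p).erase q) + 2 = #s := by
  have h1 := card_erase_add_one hp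
  have h2 := card_erase_add_one (s := s.erase p) (mem_erase.2 ⟨hpq.symm, hq⟩)
  omega

theorem three {b : ℕ} (hb : ∀ u w, Γ.Adj u w → #(Nb Γ u \ Nb Γ w) = b) {p q w z : W}
    (h1 : Γ.Adj p q) (h2 : Γ.Adj q w) (h3 : Γ.Adj w z) (n0 : p ≠ z) (n1 : ¬ Γ.Adj p z)
    (n2 : ∀ t, Γ.Adj p t → ¬ Γ.Adj t z) : #(Nb Γ p) + 4 ≤ 3 * b := by
  have pw : ¬ Γ.Adj p w := fun e => n2 w e h3
  have qz : ¬ Γ.Adj q z := n2 q h1
  have pw' : p ≠ w := by rintro rfl; exact n1 h3
  have qz' : q ≠ z := by rintro rfl; exact n1 h1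
  have hs : Nb Γ p ⊆ Nb Γ p \ Nb Γ q ∪ (((Nb Γ q \ Nb Γ w).erase p).erase w ∪
      ((Nb Γ w \ Nb Γ z).erase q).erase z) := by
    intro t ht
    have ht' := mem_Nb.1 ht
    simp only [mem_union, mem_sdiff, mem_erase, mem_Nb]
    by_cases a1 : Γ.Adj q t
    · right
      by_cases a2 : Γ.Adj w t
      · right
        refine ⟨?_, a1.ne.symm, a2, fun e => n2 t ht' e.symm⟩
        rintro rfl; exact n1 ht'
      · left
        refine ⟨?_, ht'.ne.symm, a1, a2⟩
        rintro rfl; exact pw ht'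
    · exact Or.inl ⟨ht', a1⟩
  have c1 := card_two (s := Nb Γ q \ Nb Γ w) (p := p) (q := w)
    (mem_sdiff.2 ⟨mem_Nb.2 h1.symm, fun e => pw (mem_Nb.1 e).symm⟩)
    (mem_sdiff.2 ⟨mem_Nb.2 h2, fun e => (mem_Nb.1 e).ne rfl⟩) pw'
  have c2 := card_two (s := Nb Γ w \ Nb Γ z) (p := q) (q := z)
    (mem_sdiff.2 ⟨mem_Nb.2 h2.symm, fun e => qz (mem_Nb.1 e).symm⟩)
    (mem_sdiff.2 ⟨mem_Nb.2 h3, fun e => (mem_Nb.1 e).ne rfl⟩) qz'
  have c3 := (card_le_card hs).trans ((card_union_le _ _).trans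
    (Nat.add_le_add_left (card_union_le _ _) _))
  rw [hb _ _ h1] at c3
  rw [hb _ _ h2] at c1
  rw [hb _ _ h3] at c2
  omega

variable (Γ) in
/-- non-neighbours. -/
noncomputable def Mb (u : W) : Finset W := {z | z ≠ u ∧ ¬ Γ.Adj u z}

theorem mem_Mb {u z : W} : z ∈ Mb Γ u ↔ z ≠ u ∧ ¬ Γ.Adj u z := by simp [Mb]

theorem card_Nb_Mb (u : W) : Fintype.card W = #(Nb Γ u) + #(Mb Γ u) + 1 := by
  have hd : Disjoint (Nb Γ u) (Mb Γ u) := by
    rw [disjoint_left]
    intro z h1 h2
    exact (mem_Mb.1 h2).2 (mem_Nb.1 h1)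
  have hu : Nb Γ u ∪ Mb Γ u = univ.erase u := by
    ext z
    rw [mem_union, mem_Nb, mem_Mb, mem_erase]
    constructor
    · rintro (h | h)
      · exact ⟨h.ne.symm, mem_univ _⟩
      · exact ⟨h.1, mem_univ _⟩
    · rintro ⟨h, -⟩
      by_cases a : Γ.Adj u z
      · exact Or.inl a
      · exact Or.inr ⟨h, a⟩
  have := card_union_of_disjoint hd
  have hm : 0 < Fintype.card W := Fintype.card_pos_iff.2 ⟨u⟩
  rw [hu, card_erase_of_mem (mem_univ _), card_univ] at this
  omega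

theorem card_Mb_adj {b : ℕ} (hb : ∀ u w, Γ.Adj u w → #(Nb Γ u \ Nb Γ w) = b) {p q : W}
    (h : Γ.Adj p q) : #{z ∈ Mb Γ p | Γ.Adj q z} + 1 = b := by
  have : ({z ∈ Mb Γ p | Γ.Adj q z} : Finset W) = (Nb Γ q \ Nb Γ p).erase p := by
    ext z
    simp only [mem_filter, mem_Mb, mem_erase, mem_sdiff, mem_Nb]
    tauto
  rw [this, card_erase_add_one (mem_sdiff.2 ⟨mem_Nb.2 h.symm, fun e => (mem_Nb.1 e).ne rfl⟩),
    hb _ _ h.symm]

theorem two {a : ℕ} (hb : ∀ u w, Γ.Adj u w → #(Nb Γ u \ Nb Γ w) = a + 1) (p : W)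
    (hd : ∀ z, z ≠ p → ¬ Γ.Adj p z → ∃ t, Γ.Adj p t ∧ Γ.Adj t z) :
    #(Mb Γ p) * (#(Nb Γ p) + 1) ≤ #(Nb Γ p) * a + #(Mb Γ p) * (2 * a) := by
  have h1 : ∑ z ∈ Mb Γ p, #{q ∈ Nb Γ p | Γ.Adj q z} = ∑ q ∈ Nb Γ p, #{z ∈ Mb Γ p | Γ.Adj q z} := by
    simp only [card_filter]
    exact sum_comm
  have h2 : ∑ q ∈ Nb Γ p, #{z ∈ Mb Γ p | Γ.Adj q z} = #(Nb Γ p) * a := by
    rw [sum_congr rfl (g := fun _ => a), sum_const, smul_eq_mul]
    intro q hq
    have := card_Mb_adj hb (mem_Nb.1 hq)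
    omega
  have h3 : ∀ z ∈ Mb Γ p, #(Nb Γ p) + 1 ≤ #{q ∈ Nb Γ p | Γ.Adj q z} + 2 * a := by
    intro z hz
    obtain ⟨n0, n1⟩ := mem_Mb.1 hz
    obtain ⟨t, t1, t2⟩ := hd z n0 n1
    have hs : Nb Γ p ⊆ {q ∈ Nb Γ p | Γ.Adj q z} ∪ ((Nb Γ p \ Nb Γ t).erase t ∪
        ((Nb Γ t \ Nb Γ z).erase p).erase z) := by
      intro s hs
      have hs' := mem_Nb.1 hs
      simp only [mem_union, mem_sdiff, mem_erase, mem_Nb, mem_filter]
      by_cases a1 : Γ.Adj s z
      · exact Or.inl ⟨hs', a1⟩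
      · right
        by_cases a2 : Γ.Adj t s
        · right
          refine ⟨?_, hs'.ne.symm, a2, fun e => a1 e.symm⟩
          rintro rfl; exact n1 hs'
        · left
          refine ⟨?_, hs', a2⟩
          rintro rfl; exact a1 t2
    have c1 := card_erase_add_one (s := Nb Γ p \ Nb Γ t) (a := t)
      (mem_sdiff.2 ⟨mem_Nb.2 t1, fun e => (mem_Nb.1 e).ne rfl⟩)
    have c2 := card_two (s := Nb Γ t \ Nb Γ z) (p := p) (q := z)
      (mem_sdiff.2 ⟨mem_Nb.2 t1.symm, fun e => n1 (mem_Nb.1 e).symm⟩)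
      (mem_sdiff.2 ⟨mem_Nb.2 t2, fun e => (mem_Nb.1 e).ne rfl⟩) n0.symm
    have c3 := (card_le_card hs).trans ((card_union_le _ _).trans
      (Nat.add_le_add_left (card_union_le _ _) _))
    rw [hb _ _ t1] at c1
    rw [hb _ _ t2] at c2
    omega
  have h4 := sum_le_sum h3
  rw [sum_const, sum_add_distrib, h1, h2, sum_const, smul_eq_mul, smul_eq_mul] at h4
  exact h4

theorem edge_count {v D : ℕ} (hv : ∀ u, #(Nb Γ u) = v) (hc : ∀ u w, Γ.Reachable u w)
    (hD : ∀ u w, Γ.Adj u w → #{z | Γ.dist u z ≠ Γ.dist w z} ≤ D) (x : W) :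
    2 * (Fintype.card W - 1) ≤ v * D := by
  have hm : 0 < Fintype.card W := Fintype.card_pos_iff.2 ⟨x⟩
  have key : ∀ u z, u ≠ z → ∃ w, Γ.Adj u w ∧ Γ.dist w z < Γ.dist u z := by
    intro u z huz
    obtain ⟨p, hp⟩ := (hc u z).exists_walk_length_eq_dist
    cases p with
    | nil => exact absurd rfl huz
    | cons h q =>
      refine ⟨_, h, ?_⟩
      have := SimpleGraph.dist_le q
      rw [SimpleGraph.Walk.length_cons] at hp
      omega
  let F : W → W → W → ℕ := fun u w z => if Γ.Adj u w ∧ Γ.dist w z < Γ.dist u z then 1 else 0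
  have f1 : Fintype.card W * (Fintype.card W - 1) ≤ ∑ u, ∑ w, ∑ z, F u w z := by
    rw [← card_univ, ← smul_eq_mul, ← sum_const]
    apply sum_le_sum
    intro u _
    rw [sum_comm, ← card_erase_of_mem (mem_univ u), card_eq_sum_ones]
    refine le_trans (sum_le_sum ?_) (sum_le_sum_of_subset (erase_subset _ _))
    intro z hz
    obtain ⟨w, hw⟩ := key u z (mem_erase.1 hz).1.symm
    refine le_trans ?_ (single_le_sum (f := fun w => F u w z) (fun _ _ => Nat.zero_le _)
      (mem_univ w))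
    simp only [F]
    rw [if_pos hw]
  have f2 : ∑ u, ∑ w, ∑ z, F w u z = ∑ u, ∑ w, ∑ z, F u w z := sum_comm
  have f3 : ∑ u, ∑ w, ∑ z, F u w z + ∑ u, ∑ w, ∑ z, F w u z ≤ Fintype.card W * (v * D) := by
    rw [← sum_add_distrib, ← card_univ, ← smul_eq_mul, ← sum_const]
    apply sum_le_sum
    intro u _
    rw [← sum_add_distrib, ← hv u, ← smul_eq_mul, ← sum_const, Nb, sum_filter]
    apply sum_le_sum
    intro w _
    rw [← sum_add_distrib]
    split_ifs with h
    · refine le_trans ?_ (hD u w h)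
      rw [card_filter]
      apply sum_le_sum
      intro z _
      simp only [F]
      split_ifs <;> omega
    · have h' : ¬ Γ.Adj w u := fun e => h e.symm
      simp [F, h, h']
  have : Fintype.card W * (2 * (Fintype.card W - 1)) ≤ Fintype.card W * (v * D) := by
    nlinarith
  exact Nat.le_of_mul_le_mul_left this hm

end graph

variable (H) in
/-- the orbital graph. -/
def gr {x y : W} (hxy : x ≠ y) : SimpleGraph W where
  Adj u w := arc H x y u w ∨ arc H x y w u
  symm := ⟨fun _ _ h => h.symm⟩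
  loopless := ⟨fun _ h => h.elim (fun h => h.ne hxy rfl) (fun h => h.ne hxy rfl)⟩

omit [Fintype W] in
theorem gr_smul {x y : W} (hxy : x ≠ y) (g : H) (u w : W) :
    (gr H hxy).Adj (g • u) (g • w) ↔ (gr H hxy).Adj u w :=
  or_congr (arc_smul_iff g u w) (arc_smul_iff g w u)

/-- a group element as a graph homomorphism. -/
def hom {x y : W} (hxy : x ≠ y) (g : H) : gr H hxy →g gr H hxy :=
  ⟨fun u => g • u, fun h => (gr_smul hxy g _ _).2 h⟩

theorem num {v D m : ℕ} (h1 : 2 * m ≤ v * D) (h2 : 2 * v + 8 ≤ 3 * D) :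
    4 * m ≤ D * (3 * D - 8) := by
  obtain ⟨c, hc⟩ : ∃ c, 3 * D = 8 + c := ⟨3 * D - 8, by omega⟩
  have : 3 * D - 8 = c := by omega
  rw [this]
  have : 2 * v ≤ c := by omega
  nlinarith

end CA

open CA in
theorem caseA (hp : IsPreprimitive H W) (h2 : ¬ IsMultiplyPretransitive H W 2) {x y : W} (hxy : x ≠ y) :
    4 * (Fintype.card W - 1) ≤ sep H ∅ x y * (3 * sep H ∅ x y - 8) ∨ Fintype.card W ≤ sep H ∅ x y := by
  rw [sep_eq]
  by_cases hall : ∀ u w, u ≠ w → arc H x y u w ∨ arc H x y w u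
  · obtain ⟨k, k1, e, hk⟩ := tour hp.toIsPretransitive h2 hxy hall
    rcases Nat.lt_or_ge k 2 with k2 | k2
    · right; omega
    · left
      obtain ⟨c, hc⟩ : ∃ c, 3 * #(Sp H x y) = 8 + c := ⟨3 * #(Sp H x y) - 8, by omega⟩
      have e1 : 3 * #(Sp H x y) - 8 = c := by omega
      have e2 : Fintype.card W - 1 = 2 * k := by omega
      rw [e1, e2]
      obtain ⟨j, rfl⟩ : ∃ j, k = j + 2 := ⟨k - 2, by omega⟩
      have : (j + 2 + 2) * (3 * j + 4) ≤ #(Sp H x y) * c := Nat.mul_le_mul hk (by omega)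
      nlinarith
  left
  set Γ := gr H hxy with hΓ
  have inv : ∀ (g : H) u w, Γ.Adj (g • u) (g • w) ↔ Γ.Adj u w := gr_smul hxy
  have axy : Γ.Adj x y := Or.inl ⟨1, one_smul _ _, one_smul _ _⟩
  have hv : ∀ u, #(Nb Γ u) = #(Nb Γ x) := by
    intro u
    obtain ⟨g, rfl⟩ := hp.toIsPretransitive.exists_smul_eq x u
    exact card_inv g fun z => by rw [mem_Nb, mem_Nb, inv]
  have hD : ∀ u w, Γ.Adj u w → #(Sp H u w) = #(Sp H x y) := by
    rintro u w (h | h)
    · exact h.Sp_eq
    · rw [Sp_symm]; exact h.Sp_eq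
  have hb0 : ∀ u w, arc H x y u w → #(Nb Γ u \ Nb Γ w) = #(Nb Γ x \ Nb Γ y) := by
    rintro u w ⟨g, rfl, rfl⟩
    exact card_inv g fun z => by simp only [mem_sdiff, mem_Nb, inv]
  obtain ⟨a, ha⟩ : ∃ a, #(Nb Γ x \ Nb Γ y) = a + 1 := by
    have : 0 < #(Nb Γ x \ Nb Γ y) :=
      card_pos.2 ⟨y, mem_sdiff.2 ⟨mem_Nb.2 axy, fun e => (mem_Nb.1 e).ne rfl⟩⟩
    exact ⟨_, (Nat.sub_add_cancel this).symm⟩
  have hb : ∀ u w, Γ.Adj u w → #(Nb Γ u \ Nb Γ w) = a + 1 := by
    rintro u w (h | h)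
    · rw [hb0 u w h, ha]
    · rw [card_sdiff_comm ((hv u).trans (hv w).symm), hb0 w u h, ha]
  have hab : 2 * (a + 1) ≤ #(Sp H x y) := by
    have hs : Nb Γ x \ Nb Γ y ∪ Nb Γ y \ Nb Γ x ⊆ Sp H x y := by
      intro z hz
      apply mem_Sp_of (H := H) Γ.Adj (fun h a b => propext (inv h a b))
      intro e
      simp only [mem_union, mem_sdiff, mem_Nb, e] at hz
      tauto
    have := card_le_card hs
    rw [card_union_of_disjoint disjoint_sdiff_sdiff, hb _ _ axy, hb _ _ axy.symm] at this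
    omega
  have hc : ∀ u w, Γ.Reachable u w :=
    equiv_triv hp Γ.Reachable ⟨SimpleGraph.Reachable.refl, SimpleGraph.Reachable.symm,
      SimpleGraph.Reachable.trans⟩ (fun h u w r => r.map (hom hxy h)) hxy axy.reachable
  have hdist : ∀ (g : H) u w, Γ.dist (g • u) (g • w) = Γ.dist u w := by
    have le : ∀ (g : H) u w, Γ.dist (g • u) (g • w) ≤ Γ.dist u w := by
      intro g u w
      obtain ⟨p, hp⟩ := (hc u w).exists_walk_length_eq_dist
      have := SimpleGraph.dist_le (p.map (hom hxy g))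
      rw [SimpleGraph.Walk.length_map, hp] at this
      exact this
    intro g u w
    refine le_antisymm (le g u w) ?_
    have := le g⁻¹ (g • u) (g • w)
    rwa [inv_smul_smul, inv_smul_smul] at this
  have hE : 2 * (Fintype.card W - 1) ≤ #(Nb Γ x) * #(Sp H x y) := by
    refine edge_count hv hc (fun u w h => ?_) x
    rw [← hD u w h]
    apply card_le_card
    intro z hz
    exact mem_Sp_of (H := H) Γ.dist hdist (mem_filter.1 hz).2
  by_cases hd : ∀ p z, z ≠ p → ¬ Γ.Adj p z → ∃ t, Γ.Adj p t ∧ Γ.Adj t z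
  · have h2' := two hb x (hd x)
    have hm := card_Nb_Mb (Γ := Γ) x
    have hM : ∀ u, #(Mb Γ u) = #(Mb Γ x) := by
      intro u
      have := card_Nb_Mb (Γ := Γ) u
      rw [hv u] at this
      omega
    have v0 : 0 < #(Mb Γ x) := by
      push Not at hall
      obtain ⟨u, w, h1, h2, h3⟩ := hall
      rw [← hM u]
      exact card_pos.2 ⟨w, mem_Mb.2 ⟨h1.symm, fun e => e.elim h2 h3⟩⟩
    rcases Nat.lt_or_ge #(Mb Γ x) #(Nb Γ x) with hl | hl
    · have a1 : a < #(Mb Γ x) := by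
        by_contra hn
        have tr : ∀ p q, Γ.Adj p q → ∀ z ∈ Mb Γ p, Γ.Adj q z := by
          intro p q h z hz
          have c1 := card_Mb_adj hb h
          have : ({z ∈ Mb Γ p | Γ.Adj q z} : Finset W) = Mb Γ p :=
            eq_of_subset_of_card_le (filter_subset _ _) (by rw [hM p]; omega)
          rw [← this] at hz
          exact (mem_filter.1 hz).2
        obtain ⟨w, hw⟩ := card_pos.1 v0
        obtain ⟨w1, w2⟩ := mem_Mb.1 hw
        refine equiv_triv hp (fun u w => ¬ Γ.Adj u w) ⟨fun u e => e.ne rfl,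
          fun h e => h e.symm, ?_⟩ (fun h u w r e => r ((inv h u w).1 e)) w1.symm w2 x y axy
        intro u w t h1 h2 h3
        by_cases e : w = u
        · exact h2 (e ▸ h3)
        · exact h2 (tr u t h3 w (mem_Mb.2 ⟨e, h1⟩)).symm
      have e2 : Fintype.card W - 1 = #(Nb Γ x) + #(Mb Γ x) := by omega
      rw [e2]
      generalize #(Mb Γ x) = v' at *
      generalize #(Nb Γ x) = v at *
      generalize #(Sp H x y) = D at *
      obtain ⟨s, rfl⟩ : ∃ s, v' = a + (s + 1) := ⟨v' - a - 1, by omega⟩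
      have i1 : (s + 1) * v + (a + (s + 1)) ≤ 2 * a * (a + (s + 1)) := by nlinarith
      have i2 : s + 1 + 1 < 2 * a := by
        by_contra hn
        have : 2 * a * (a + (s + 1)) ≤ (s + 1 + 1) * (a + (s + 1)) :=
          Nat.mul_le_mul_right _ (by omega)
        have : (s + 1) * (a + (s + 1) + 1) ≤ (s + 1) * v := Nat.mul_le_mul_left _ hl
        nlinarith
      obtain ⟨c, rfl⟩ : ∃ c, a = c + 1 := ⟨a - 1, by omega⟩
      have i3 : (s + 1) * (v + (c + 1 + (s + 1))) ≤ (s + 1) * ((c + 2) * (3 * c + 2)) := by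
        have j1 : (s + 1) * (s + 1) ≤ (s + 1) * (2 * c) := Nat.mul_le_mul_left _ (by omega)
        have j2 : 0 ≤ s * (c * c) := Nat.zero_le _
        have j3 : 0 ≤ s * c := Nat.zero_le _
        nlinarith
      have i4 := Nat.le_of_mul_le_mul_left i3 (Nat.succ_pos s)
      have : (2 * (c + 2)) * (2 * (3 * c + 2)) ≤ D * (3 * D - 8) :=
        Nat.mul_le_mul (by omega) (by omega)
      nlinarith
    · apply num hE
      have : #(Mb Γ x) * (#(Nb Γ x) + 1) ≤ #(Mb Γ x) * (3 * a) := by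
        have := Nat.mul_le_mul_right a hl
        nlinarith
      have := Nat.le_of_mul_le_mul_left this v0
      omega
  · apply num hE
    push Not at hd
    obtain ⟨u, z, u0, u1, u2⟩ := hd
    have key : ∀ {u : W} (_ : Γ.Walk u z), z ≠ u → ¬ Γ.Adj u z → (∀ t, Γ.Adj u t → ¬ Γ.Adj t z) →
        #(Nb Γ x) + 4 ≤ 3 * (a + 1) := by
      intro u p
      induction p with
      | nil => intro h; exact absurd rfl h
      | @cons p q z h w ih =>
        intro n0 n1 n2
        have m0 : z ≠ q := by rintro rfl; exact n1 h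
        by_cases m2 : ∀ t, Γ.Adj q t → ¬ Γ.Adj t z
        · exact ih u0 u1 u2 m0 (n2 q h) m2
        · push Not at m2
          obtain ⟨t, t1, t2⟩ := m2
          rw [← hv p]
          exact three hb h t1 t2 n0.symm n1 n2
    obtain ⟨p⟩ := hc u z
    have := key p u0 u1 u2
    omega

end H14.PS
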