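import Cfsg.Agent.H14.PS0

/-! The Praeger–Saxl bound: doubly transitive groups with imprimitive point stabiliser. -/

set_option autoImplicit false

namespace H14.PS

open MulAction Finset
open scoped Classical

variable {H W : Type*} [Group H] [MulAction H W] [Fintype W]

namespace CB

omit [Fintype W] in
theorem card_inv (h : H) {s t : Finset W} (e : ∀ z, h • z ∈ s ↔ z ∈ t) : #s = #t := by
  symm
  apply card_bij (fun z _ => h • z)
  · intro z hz
    exact (e z).2 hz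
  · intro z _ z' _ e
    exact smul_left_cancel h e
  · intro z hz
    exact ⟨h⁻¹ • z, (e _).1 (by rwa [smul_inv_smul]), smul_inv_smul _ _⟩

omit [Fintype W] in
theorem exists_block (h2 : IsMultiplyPretransitive H W 2) (a : W)
    (hi : ¬ IsPreprimitive (stabilizer H a) (SubMulAction.ofStabilizer H a)) :
    ∃ B : Set W, a ∉ B ∧ (∀ g : H, g • a = a → ∀ u ∈ B, g • u ∈ B → ∀ t ∈ B, g • t ∈ B) ∧
      (∃ p ∈ B, ∃ q ∈ B, p ≠ q) ∧ ∃ r, r ≠ a ∧ r ∉ B := by
  have ht : IsPretransitive (stabilizer H a) (SubMulAction.ofStabilizer H a) := by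
    refine ⟨fun u w => ?_⟩
    have hu : a ≠ u := fun e => (SubMulAction.mem_ofStabilizer_iff H a).1 u.2 e.symm
    have hw : a ≠ w := fun e => (SubMulAction.mem_ofStabilizer_iff H a).1 w.2 e.symm
    obtain ⟨g, g1, g2⟩ := is_two_pretransitive_iff.1 h2 hu hw
    exact ⟨⟨g, g1⟩, Subtype.ext g2⟩
  obtain ⟨B, hB, hn⟩ : ∃ B : Set (SubMulAction.ofStabilizer H a),
      IsBlock (stabilizer H a) B ∧ ¬ IsTrivialBlock B := by
    by_contra hn
    push Not at hn
    exact hi { isTrivialBlock_of_isBlock := fun {B} hB => hn B hB }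
  rw [IsTrivialBlock, not_or] at hn
  refine ⟨Subtype.val '' B, ?_, ?_, ?_, ?_⟩
  · rintro ⟨u, -, e⟩
    exact (SubMulAction.mem_ofStabilizer_iff H a).1 u.2 e
  · rintro g hg _ ⟨u, hu, rfl⟩ ⟨w, hw, e⟩ _ ⟨t, ht, rfl⟩
    have e' : (⟨g, hg⟩ : stabilizer H a) • u = w := Subtype.ext e.symm
    have := isBlock_iff_smul_eq_of_mem.1 hB hu (e' ▸ hw)
    exact ⟨(⟨g, hg⟩ : stabilizer H a) • t, this ▸ Set.smul_mem_smul_set ht, rfl⟩
  · obtain ⟨p, hp, q, hq, e⟩ := Set.not_subsingleton_iff.1 hn.1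
    exact ⟨p, ⟨p, hp, rfl⟩, q, ⟨q, hq, rfl⟩, fun e' => e (Subtype.ext e')⟩
  · obtain ⟨r, hr⟩ := (Set.ne_univ_iff_exists_notMem _).1 hn.2
    refine ⟨r, (SubMulAction.mem_ofStabilizer_iff H a).1 r.2, ?_⟩
    rintro ⟨u, hu, e⟩
    exact hr (Subtype.ext e ▸ hu)

omit [Fintype W] in
/-- an invariant family of equivalence relations on the complements of points. -/
theorem exists_rel (h2 : IsMultiplyPretransitive H W 2) (a : W)
    (hi : ¬ IsPreprimitive (stabilizer H a) (SubMulAction.ofStabilizer H a)) :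
    ∃ R : W → W → W → Prop, (∀ (h : H) c u w, R (h • c) (h • u) (h • w) ↔ R c u w) ∧
      (∀ c u w, R c u w → w ≠ c) ∧ (∀ c u w, R c u w → R c w u) ∧ (∀ c u, u ≠ c → R c u u) ∧
      (∀ c u w t, R c u w → R c w t → R c u t) ∧
      ∃ p q r, p ≠ q ∧ R a p q ∧ r ≠ a ∧ ¬ R a p r := by
  obtain ⟨B, b1, b2, ⟨p, hp, q, hq, hpq⟩, r, r1, r2⟩ := exists_block h2 a hi
  have inv : ∀ (h : H) (c u w : W), (∃ g : H, g • a = c ∧ g⁻¹ • u ∈ B ∧ g⁻¹ • w ∈ B) →
      ∃ g : H, g • a = h • c ∧ g⁻¹ • h • u ∈ B ∧ g⁻¹ • h • w ∈ B := by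
    rintro h c u w ⟨g, rfl, g2, g3⟩
    refine ⟨h * g, mul_smul _ _ _, ?_, ?_⟩ <;> rwa [mul_inv_rev, mul_smul, inv_smul_smul]
  refine ⟨fun c u w => ∃ g : H, g • a = c ∧ g⁻¹ • u ∈ B ∧ g⁻¹ • w ∈ B, ?_, ?_, ?_, ?_, ?_,
    p, q, r, hpq, ⟨1, one_smul _ _, by simpa, by simpa⟩, r1, ?_⟩
  · intro h c u w
    refine ⟨fun e => ?_, inv h c u w⟩
    have := inv h⁻¹ _ _ _ e
    rwa [inv_smul_smul, inv_smul_smul, inv_smul_smul] at this
  · rintro c u w ⟨g, rfl, -, g3⟩ rfl
    rw [inv_smul_smul] at g3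
    exact b1 g3
  · rintro c u w ⟨g, g1, g2, g3⟩
    exact ⟨g, g1, g3, g2⟩
  · intro c u hu
    obtain ⟨g, g1, rfl⟩ := is_two_pretransitive_iff.1 h2
      (show a ≠ p by rintro rfl; exact b1 hp) hu.symm
    exact ⟨g, g1, by rwa [inv_smul_smul], by rwa [inv_smul_smul]⟩
  · rintro c u w t ⟨g, rfl, g2, g3⟩ ⟨k, k1, k2, k3⟩
    refine ⟨g, rfl, g2, ?_⟩
    have := b2 (g⁻¹ * k) (by rw [mul_smul, k1, inv_smul_smul]) _ k2
      (by rwa [mul_smul, smul_inv_smul]) _ k3
    rwa [mul_smul, smul_inv_smul] at this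
  · rintro ⟨g, g1, g2, g3⟩
    have := b2 g g1 _ g2 (by rwa [smul_inv_smul]) _ g3
    rw [smul_inv_smul] at this
    exact r2 this

end CB

open CB in
theorem caseB (h2 : IsMultiplyPretransitive H W 2) (a : W)
    (hi : ¬ IsPreprimitive (stabilizer H a) (SubMulAction.ofStabilizer H a)) :
    ∃ b, 2 ≤ b ∧ 2 * b + 1 ≤ Fintype.card W ∧ ∃ A : W → W → Finset W,
      (∀ x y, x ≠ y → #(A x y) = b - 1) ∧ ∀ S x y, x ≠ y → So H S x y → ¬ S ⊆ A x y →
        2 * b ≤ sep H S x y ∧ #S + 3 ≤ sep H S x y + b := by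
  obtain ⟨R, inv, ne, sy, rf, tr, p, q, r, hpq, hq, hr, hr'⟩ := exists_rel h2 a hi
  have t2 : ∀ {a b c d : W}, a ≠ b → c ≠ d → ∃ g : H, g • a = c ∧ g • b = d :=
    is_two_pretransitive_iff.1 h2
  set Cl : W → W → Finset W := fun c u => {w | R c u w} with hCl
  set A : W → W → Finset W := fun x y => {c | R c x y} with hA
  have mC : ∀ c u w, w ∈ Cl c u ↔ R c u w := fun c u w => by simp [hCl]
  have mA : ∀ x y c, c ∈ A x y ↔ R c x y := fun c u w => by simp [hA]
  have pa : p ≠ a := ne _ _ _ (sy _ _ _ hq)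
  have cC : ∀ c u, u ≠ c → #(Cl c u) = #(Cl a p) := by
    intro c u hu
    obtain ⟨g, rfl, rfl⟩ := t2 pa.symm hu.symm
    exact card_inv g fun z => by rw [mC, mC, inv]
  have cA : ∀ x y, x ≠ y → #(A x y) = #(A p q) := by
    intro x y hxy
    obtain ⟨g, rfl, rfl⟩ := t2 hpq hxy
    exact card_inv g fun z => by rw [mA, mA, inv]
  have dj : ∀ c u w, ¬ R c u w → Disjoint (Cl c u) (Cl c w) := by
    intro c u w h
    rw [disjoint_left]
    intro z h1 h2
    exact h (tr _ _ _ _ ((mC _ _ _).1 h1) (sy _ _ _ ((mC _ _ _).1 h2)))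
  obtain ⟨b, hb⟩ : ∃ b, #(Cl a p) = b := ⟨_, rfl⟩
  rw [hb] at cC
  have b2 : 2 ≤ b := by
    rw [← hb]
    exact one_lt_card.2 ⟨p, (mC _ _ _).2 (rf _ _ pa), q, (mC _ _ _).2 hq, hpq⟩
  have hm : 0 < Fintype.card W := Fintype.card_pos_iff.2 ⟨a⟩
  have bm : 2 * b + 1 ≤ Fintype.card W := by
    have hs : Cl a p ∪ Cl a r ⊆ univ.erase a := by
      intro z hz
      rcases mem_union.1 hz with h | h <;>
        exact mem_erase.2 ⟨ne _ _ _ ((mC _ _ _).1 h), mem_univ _⟩
    have := card_le_card hs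
    rw [card_union_of_disjoint (dj _ _ _ hr'), hb, cC _ _ hr, card_erase_of_mem (mem_univ _),
      card_univ] at this
    omega
  have cE : ∀ c u, u ≠ c → #((Cl c u).erase u) = b - 1 := by
    intro c u hu
    rw [card_erase_of_mem ((mC _ _ _).2 (rf _ _ hu)), cC _ _ hu]
  have cA' : #(A p q) = b - 1 := by
    have e1 : ∑ y ∈ univ.erase p, #{c ∈ univ.erase p | R c p y}
        = ∑ c ∈ univ.erase p, #{y ∈ univ.erase p | R c p y} := by
      simp only [card_filter]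
      exact sum_comm
    rw [sum_congr rfl (g := fun _ => #(A p q)), sum_congr rfl (g := fun _ => b - 1)
      (f := fun c => #{y ∈ univ.erase p | R c p y}), sum_const, sum_const, smul_eq_mul,
      smul_eq_mul, card_erase_of_mem (mem_univ _), card_univ] at e1
    · exact Nat.eq_of_mul_eq_mul_left (by omega) e1
    · intro c hc
      rw [← cE c p (mem_erase.1 hc).1.symm]
      congr 1
      ext y
      simp [mC]
    · intro y hy
      rw [← cA p y (mem_erase.1 hy).1.symm]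
      congr 1
      ext c
      simp only [mem_filter, mem_erase, mem_univ, and_true, mA]
      exact ⟨fun h => h.2, fun h => ⟨(ne _ _ _ (sy _ _ _ h)).symm, h⟩⟩
  rw [cA'] at cA
  refine ⟨b, b2, bm, A, cA, ?_⟩
  intro S x y hxy hS hn
  have hx : x ∉ S := fun h => hxy (hS.eq_of_mem h)
  have hy : y ∉ S := fun h => hxy (hS.symm.eq_of_mem h).symm
  set T : Finset W := {z | z ∉ S ∧ ¬ So H (insert z S) x y} with hT
  have eT : sep H S x y = #T := rfl
  have key : ∀ c ∈ S, ¬ R c x y → ∀ z, R c x z ∨ R c y z → z ∈ T := by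
    intro c hc hR z hz
    have k1 : ∀ S' : Finset W, c ∈ S' → z ∈ S' → ¬ So H S' x y := by
      rintro S' h1 h2 ⟨g, g1, g2⟩
      have e := inv g c x z
      rw [g1 c h1, g1 z h2, g2] at e
      have e1 : R c x z := hz.elim id e.1
      exact hR (tr _ _ _ _ e1 (sy _ _ _ (e.2 e1)))
    simp only [hT, mem_filter, mem_univ, true_and]
    exact ⟨fun h => k1 S hc h hS, k1 _ (mem_insert_of_mem hc) (mem_insert_self _ _)⟩
  obtain ⟨c, c1, c2⟩ := not_subset.1 hn
  rw [mA] at c2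
  have cx : ∀ c ∈ S, x ≠ c := fun c hc e => hx (e ▸ hc)
  have cy : ∀ c ∈ S, y ≠ c := fun c hc e => hy (e ▸ hc)
  rw [eT]
  constructor
  · have hs : Cl c x ∪ Cl c y ⊆ T := by
      intro z hz
      apply key c c1 c2
      simpa only [mem_union, mC] using hz
    have := card_le_card hs
    rw [card_union_of_disjoint (dj _ _ _ c2), cC _ _ (cx c c1), cC _ _ (cy c c1)] at this
    omega
  · have xT : x ∈ T := key c c1 c2 x (Or.inl (rf _ _ (cx c c1)))
    have yT : y ∈ T.erase x :=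
      mem_erase.2 ⟨hxy.symm, key c c1 c2 y (Or.inr (rf _ _ (cy c c1)))⟩
    have u1 := card_erase_add_one xT
    have u2 := card_erase_add_one yT
    have e1 : ∑ c ∈ S \ A x y, #{z ∈ (T.erase x).erase y | R c x z}
        = ∑ z ∈ (T.erase x).erase y, #{c ∈ S \ A x y | R c x z} := by
      simp only [card_filter]
      exact sum_comm
    have e2 : ∀ c ∈ S \ A x y, b - 1 ≤ #{z ∈ (T.erase x).erase y | R c x z} := by
      intro c hc
      obtain ⟨h1, h2⟩ := mem_sdiff.1 hc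
      rw [mA] at h2
      rw [← cE c x (cx c h1)]
      apply card_le_card
      intro z hz
      obtain ⟨z1, z2⟩ := mem_erase.1 hz
      rw [mC] at z2
      refine mem_filter.2 ⟨mem_erase.2 ⟨?_, mem_erase.2 ⟨z1, key c h1 h2 z (Or.inl z2)⟩⟩, z2⟩
      rintro rfl
      exact h2 z2
    have e3 : ∀ z ∈ (T.erase x).erase y, #{c ∈ S \ A x y | R c x z} ≤ b - 1 := by
      intro z hz
      rw [← cA x z (mem_erase.1 (mem_erase.1 hz).2).1.symm]
      apply card_le_card
      intro c hc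
      exact (mA _ _ _).2 (mem_filter.1 hc).2
    have e4 := (sum_le_sum e2).trans (e1.le.trans (sum_le_sum e3))
    rw [sum_const, sum_const, smul_eq_mul, smul_eq_mul] at e4
    have e5 := Nat.le_of_mul_le_mul_right e4 (by omega)
    have e6 := le_card_sdiff (A x y) S
    rw [cA x y hxy] at e6
    omega

end H14.PS
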