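import Cfsg.Agent.H14.PS0

/-! The Praeger–Saxl bound: the averaging argument. -/

set_option autoImplicit false
set_option linter.unusedSectionVars false

namespace H14.PS

open MulAction Finset Real
open scoped Classical

variable (H : Type*) {W : Type*} [Group H] [Finite H] [MulAction H W] [Fintype W]

/-- the pointwise stabiliser. -/
def Fx (S : Finset W) : Subgroup H where
  carrier := {h | ∀ s ∈ S, h • s = s}
  mul_mem' ha hb s hs := by rw [mul_smul, hb s hs, ha s hs]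
  one_mem' s _ := one_smul _ s
  inv_mem' ha s hs := by rw [inv_smul_eq_iff, ha s hs]

/-- the logarithm of its order. -/
noncomputable def lg (S : Finset W) : ℝ := log (Nat.card (Fx H S))
/-- orbit lengths. -/
noncomputable def ob (S : Finset W) (z : W) : ℕ := #{y | So H S z y}
/-- the number of pairs that are not separated. -/
noncomputable def PP (S : Finset W) : ℕ := #{u : W × W | u.1 ≠ u.2 ∧ So H S u.1 u.2}
/-- the number of exceptional pairs. -/
noncomputable def QQ (Qp : Finset W → W → W → Prop) (S : Finset W) : ℕ := #{u : W × W | Qp S u.1 u.2}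

/-- pairs that are not exceptional are separated by `d` points; exceptional pairs die out. -/
structure Hyp (Qp : Finset W → W → W → Prop) (d f : ℕ → ℕ) : Prop where
  sp : ∀ S x y, x ≠ y → So H S x y → ¬ Qp S x y → d #S ≤ sep H S x y
  dec : ∀ S x y, #{z | z ∉ S ∧ Qp (insert z S) x y} ≤ if Qp S x y then f #S else 0

/-- the invariant. -/
def Iv (Qp : Finset W → W → W → Prop) (j : ℕ) (p q L : ℝ) : Prop :=
  ∃ B C : ℝ, 0 ≤ B ∧ 0 ≤ C ∧ ∀ S : Finset W, #S = j →
    lg H S ≤ L + B * (PP H S - p) + C * (QQ Qp S - q)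

variable {H} {Qp : Finset W → W → W → Prop} {d f : ℕ → ℕ} {S : Finset W} {x y z : W}

theorem ob_pos (S : Finset W) (z : W) : 0 < ob H S z :=
  card_pos.2 ⟨z, by simpa using So.refl S z⟩

theorem ob_le (S : Finset W) (z : W) : ob H S z ≤ Fintype.card W := card_le_univ _

theorem lg_step (S : Finset W) (z : W) : lg H S = log (ob H S z) + lg H (insert z S) := by
  have le : Fx H (insert z S) ≤ Fx H S := fun h hh s hs => hh s (mem_insert_of_mem hs)
  have e : (Fx H (insert z S)).subgroupOf (Fx H S) = stabilizer (Fx H S) z := Subgroup.ext fun h =>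
    ⟨fun k => k z (mem_insert_self _ _), fun k s hs => by
      rcases mem_insert.1 hs with rfl | hs
      exacts [k, h.2 s hs]⟩
  have e2 : (stabilizer (Fx H S) z).index = ob H S z := by
    rw [index_stabilizer, ob, ← Set.ncard_coe_finset]
    congr 1
    ext y
    simp only [coe_filter, mem_univ, true_and, Set.mem_setOf_eq]
    exact ⟨fun ⟨h, e⟩ => ⟨h, h.2, e⟩, fun ⟨h, h1, e⟩ => ⟨⟨h, h1⟩, e⟩⟩
  rw [lg, lg, ← log_mul (Nat.cast_ne_zero.2 (ob_pos S z).ne') (Nat.cast_ne_zero.2 Nat.card_pos.ne'),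
    ← (stabilizer (Fx H S) z).index_mul_card, e2, ← e,
    Nat.card_congr (Subgroup.subgroupOfEquivOfLe le).toEquiv, Nat.cast_mul]

theorem avg (S : Finset W) : (#Sᶜ : ℝ) * lg H S = ∑ z ∈ Sᶜ, (log (ob H S z) + lg H (insert z S)) := by
  rw [← nsmul_eq_mul, ← sum_const]
  exact sum_congr rfl fun z _ => lg_step S z

theorem sum_ob (S : Finset W) : ∑ z ∈ Sᶜ, ob H S z = #Sᶜ + PP H S := by
  have e : PP H S = ∑ z, #{y | z ≠ y ∧ So H S z y} := by
    simp only [PP, card_filter]; exact Fintype.sum_prod_type _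
  rw [e, ← sum_subset (subset_univ Sᶜ) fun z _ hz => card_eq_zero.2 (filter_eq_empty_iff.2
    fun y _ k => k.1 (k.2.eq_of_mem (by simpa using hz))), card_eq_sum_ones, ← sum_add_distrib]
  refine sum_congr rfl fun z _ => ?_
  rw [ob, add_comm, ← card_insert_of_notMem (a := z) (by simp)]
  congr 1
  ext y
  by_cases k : y = z
  · simpa [k] using So.refl S z
  · simp [k, Ne.symm k]

theorem sep_add (S : Finset W) (x y : W) :
    #{z ∈ Sᶜ | So H (insert z S) x y} + sep H S x y = #Sᶜ := by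
  rw [← card_filter_add_card_filter_not (s := Sᶜ) fun z => So H (insert z S) x y, sep]
  congr 2
  ext z
  simp

theorem two_le_sep (hxy : x ≠ y) (h : So H S x y) : 2 ≤ sep H S x y := by
  rw [← card_pair hxy]
  refine card_le_card fun z hz => ?_
  simp only [mem_insert, mem_singleton, mem_filter, mem_univ, true_and] at hz ⊢
  rcases hz with rfl | rfl
  · exact ⟨fun k => hxy (h.eq_of_mem k), fun k => hxy (k.eq_of_mem (mem_insert_self _ _))⟩
  · exact ⟨fun k => hxy (h.symm.eq_of_mem k).symm,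
      fun k => hxy (k.symm.eq_of_mem (mem_insert_self _ _)).symm⟩

theorem sum_PP {δ : ℕ} (h : ∀ x y, x ≠ y → So H S x y → ¬ Qp S x y → δ ≤ sep H S x y) :
    ∑ z ∈ Sᶜ, PP H (insert z S) ≤ (#Sᶜ - δ) * PP H S + (δ - 2) * QQ Qp S := by
  simp only [PP, QQ, card_filter, mul_sum]
  rw [sum_comm, ← sum_add_distrib]
  refine sum_le_sum fun u _ => ?_
  rw [← card_filter]
  by_cases k : u.1 ≠ u.2 ∧ So H S u.1 u.2
  · have k1 := sep_add (H := H) S u.1 u.2
    have k2 := two_le_sep k.1 k.2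
    have k3 : #{z ∈ Sᶜ | u.1 ≠ u.2 ∧ So H (insert z S) u.1 u.2} =
        #{z ∈ Sᶜ | So H (insert z S) u.1 u.2} := by simp [k.1]
    rw [if_pos k, k3]
    split_ifs with k4
    · omega
    · have := h _ _ k.1 k.2 k4
      omega
  · rw [filter_eq_empty_iff.2 fun z _ e => k ⟨e.1, e.2.mono (subset_insert _ _)⟩]
    exact Nat.zero_le _

theorem Hyp.sum_QQ (h : Hyp H Qp d f) (S : Finset W) :
    ∑ z ∈ Sᶜ, QQ Qp (insert z S) ≤ f #S * QQ Qp S := by
  simp only [QQ, card_filter, mul_sum]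
  rw [sum_comm]
  refine sum_le_sum fun u _ => ?_
  rw [← card_filter, mul_ite, mul_one, mul_zero]
  refine le_trans (le_of_eq ?_) (h.dec S u.1 u.2)
  congr 1
  ext z
  simp

theorem tail [FaithfulSMul H W] (S : Finset W) : lg H S ≤ PP H S / 2 := by
  induction' e : #Sᶜ with r ih generalizing S
  · have : Fx H S = ⊥ := eq_bot_iff.2 fun h hh => eq_of_smul_eq_smul (α := W) fun z => by
      rw [one_smul]
      exact hh z (by simpa using (card_eq_zero.1 e ▸ notMem_empty z : z ∉ Sᶜ))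
    rw [lg, this, Subgroup.card_bot, Nat.cast_one, log_one]
    positivity
  have k1 : ∑ z ∈ Sᶜ, (log (ob H S z) + lg H (insert z S)) ≤
      ∑ z ∈ Sᶜ, ((ob H S z - 1 : ℝ) + PP H (insert z S) / 2) := sum_le_sum fun z hz =>
    add_le_add (log_le_sub_one_of_pos (Nat.cast_pos.2 (ob_pos S z))) (ih _ (by
      rw [compl_insert, card_erase_of_mem hz, e]; rfl))
  have k2 := sum_PP (Qp := fun _ _ _ => False) (δ := 2) (S := S) fun x y h1 h2 _ => two_le_sep (H := H) h1 h2
  have k3 : (r + 1 - 2) * PP H S + 2 * PP H S = (r + 1) * PP H S := by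
    rcases r with _ | r
    · have : PP H S = 0 := card_eq_zero.2 (filter_eq_empty_iff.2 fun u _ k => by
        have := sep_add (H := H) S u.1 u.2
        have := two_le_sep k.1 k.2
        omega)
      simp [this]
    · rw [show r + 1 + 1 - 2 = r by omega]; ring
  rw [← avg, sum_add_distrib, sum_sub_distrib, ← Nat.cast_sum, sum_ob, ← sum_div, ← Nat.cast_sum,
    sum_const, e] at k1
  rw [e, Nat.sub_self, zero_mul, add_zero] at k2
  have k4 : ((∑ z ∈ Sᶜ, PP H (insert z S) : ℕ) : ℝ) + 2 * PP H S ≤ (r + 1) * PP H S := by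
    exact_mod_cast (Nat.add_le_add_right k2 _).trans k3.le
  refine le_of_mul_le_mul_left (a := (r + 1 : ℝ)) ?_ (by positivity)
  simp only [nsmul_eq_mul, Nat.cast_add, Nat.cast_one, mul_one] at k1
  linarith

theorem Iv.tail [FaithfulSMul H W] (j : ℕ) (p q : ℝ) : Iv H Qp j p q (p / 2) :=
  ⟨1 / 2, 0, by norm_num, le_rfl, fun S _ => by linarith [PS.tail (H := H) S]⟩

theorem Iv.mono {j : ℕ} {p q L L' : ℝ} (h : Iv H Qp j p q L) (hL : L ≤ L') : Iv H Qp j p q L' := by
  obtain ⟨B, C, h1, h2, h3⟩ := h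
  exact ⟨B, C, h1, h2, fun S hS => by linarith [h3 S hS]⟩

theorem Iv.step (h : Hyp H Qp d f) {j r δ : ℕ} {p q p' q' c L : ℝ} (hr : j + r = Fintype.card W)
    (r0 : 0 < r) (hδ : δ ≤ d j) (c0 : 0 < c) (hc : r + p ≤ c * r ∨ Fintype.card W ≤ c)
    (hp : (r - δ : ℕ) * p + (δ - 2 : ℕ) * q ≤ r * p') (hq : f j * q ≤ r * q')
    (hI : Iv H Qp (j + 1) p' q' L) : Iv H Qp j p q (log c + L) := by
  obtain ⟨B, C, B0, C0, hI⟩ := hI
  have cS : ∀ S : Finset W, #S = j → #Sᶜ = r := fun S hS => by rw [card_compl]; omega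
  obtain ⟨κ, κ0, hκ⟩ : ∃ κ : ℝ, 0 ≤ κ ∧ ∀ S : Finset W, #S = j →
      ∑ z ∈ Sᶜ, log (ob H S z) ≤ r * log c + κ * (PP H S - p) := by
    rcases hc with hc | hc
    · refine ⟨c⁻¹, by positivity, fun S hS => ?_⟩
      have k : ∑ z ∈ Sᶜ, log (ob H S z) ≤ ∑ z ∈ Sᶜ, (log c + (c⁻¹ * ob H S z - 1)) :=
        sum_le_sum fun z _ => by
          have o : (0 : ℝ) < ob H S z := Nat.cast_pos.2 (ob_pos S z)
          have := log_le_sub_one_of_pos (x := c⁻¹ * ob H S z) (by positivity)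
          rw [log_mul (by positivity) o.ne', log_inv] at this
          linarith
      rw [sum_add_distrib, sum_sub_distrib, ← mul_sum, ← Nat.cast_sum, sum_ob, sum_const, sum_const,
        cS S hS] at k
      have k2 := mul_le_mul_of_nonneg_left hc (inv_nonneg.2 c0.le)
      rw [inv_mul_cancel_left₀ c0.ne'] at k2
      simp only [nsmul_eq_mul, Nat.cast_add, mul_one] at k
      linarith
    · refine ⟨0, le_rfl, fun S hS => ?_⟩
      rw [zero_mul, add_zero, ← cS S hS, ← nsmul_eq_mul, ← sum_const]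
      exact sum_le_sum fun z _ => log_le_log (Nat.cast_pos.2 (ob_pos S z))
        ((Nat.cast_le.2 (ob_le S z)).trans hc)
  have r1 : (0 : ℝ) < r := Nat.cast_pos.2 r0
  refine ⟨(κ + B * (r - δ : ℕ)) / r, (B * (δ - 2 : ℕ) + C * f j) / r, by positivity, by positivity,
    fun S hS => le_of_mul_le_mul_left ?_ r1⟩
  have k1 : ∑ z ∈ Sᶜ, lg H (insert z S) ≤
      ∑ z ∈ Sᶜ, (L + B * (PP H (insert z S) - p') + C * (QQ Qp (insert z S) - q')) :=
    sum_le_sum fun z hz => hI _ (by rw [card_insert_of_notMem (mem_compl.1 hz), hS])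
  have k2 : ((∑ z ∈ Sᶜ, PP H (insert z S) : ℕ) : ℝ) ≤
      (r - δ : ℕ) * PP H S + (δ - 2 : ℕ) * QQ Qp S := by
    rw [← cS S hS]
    exact_mod_cast sum_PP fun x y h1 h2 h3 => hδ.trans (hS ▸ h.sp S x y h1 h2 h3)
  have k3 : ((∑ z ∈ Sᶜ, QQ Qp (insert z S) : ℕ) : ℝ) ≤ f j * QQ Qp S := by
    rw [← hS]; exact_mod_cast h.sum_QQ S
  have k4 := avg (H := H) S
  rw [sum_add_distrib, cS S hS] at k4
  rw [sum_add_distrib, sum_add_distrib, ← mul_sum, ← mul_sum, sum_sub_distrib, sum_sub_distrib,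
    ← Nat.cast_sum, ← Nat.cast_sum] at k1
  simp only [sum_const, cS S hS, nsmul_eq_mul] at k1
  have k5 := hκ S hS
  have k6 := mul_le_mul_of_nonneg_left (add_le_add k2 (neg_le_neg hp)) B0
  have k7 := mul_le_mul_of_nonneg_left (add_le_add k3 (neg_le_neg hq)) C0
  rw [mul_add (r : ℝ), mul_add (r : ℝ), ← mul_assoc (r : ℝ), ← mul_assoc (r : ℝ),
    mul_div_cancel₀ _ r1.ne', mul_div_cancel₀ _ r1.ne']
  linarith

theorem QQ_le (h : ∀ x, ¬ Qp S x x) : QQ Qp S ≤ Fintype.card W * (Fintype.card W - 1) := by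
  unfold QQ
  rw [Nat.mul_sub_one, ← card_univ, ← offDiag_card]
  exact card_le_card fun u hu => by
    simp only [mem_filter, mem_univ, true_and, mem_offDiag] at hu ⊢
    exact fun e => h u.2 (e ▸ hu)

theorem Iv.fin {p q L : ℝ} (h : Iv H Qp 0 p q L)
    (hp : (Fintype.card W * (Fintype.card W - 1) : ℕ) ≤ p) (hq : QQ Qp ∅ ≤ q) :
    log (Nat.card H) ≤ L := by
  obtain ⟨B, C, B0, C0, h⟩ := h
  have k := h ∅ rfl
  have e : Fx H (∅ : Finset W) = ⊤ := eq_top_iff.2 fun _ _ _ hs => absurd hs (notMem_empty _)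
  have k1 : (PP H (∅ : Finset W) : ℝ) ≤ p := le_trans (Nat.cast_le.2 (le_trans (le_of_eq (by
    unfold PP QQ; congr)) (QQ_le (Qp := fun S x y => x ≠ y ∧ So H S x y) (S := ∅)
      fun x e => e.1 rfl))) hp
  rw [lg, e, Subgroup.card_top] at k
  nlinarith

end H14.PS
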