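import Cfsg.Agent.H14.PSN

/-! The Praeger–Saxl bound: induction on the degree of transitivity, and the checker. -/

set_option autoImplicit false
set_option linter.unusedSectionVars false

namespace H14.PS

open MulAction Finset

universe u

variable {lo hi X Y m n : ℕ}

theorem GA.mono (h : GA.{u} m X) (k : X ≤ Y) : GA.{u} m Y :=
  fun W H _ _ _ _ _ h1 h2 h3 => (h W H h1 h2 h3).trans k

theorem GB.mono (h : GB.{u} m X) (k : X ≤ Y) : GB.{u} m Y :=
  fun W H _ _ _ _ _ h1 h2 a h3 => (h W H h1 h2 a h3).trans k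

/-- the bounds needed at all depths. -/
def Ok : ℕ → ℕ → ℕ → Prop
  | 0, n, X => GA.{u} n X
  | s + 1, n, X => GA.{u} n X ∧ GB.{u} n X ∧ Ok s (n - 1) (X / n)

theorem depth : ∀ (s n X : ℕ), Ok.{u} s n X →
    ∀ (W H : Type u) [Fintype W] [Group H] [Finite H] [MulAction H W] [FaithfulSMul H W],
      Fintype.card W = n → IsPreprimitive H W → ¬ IsMultiplyPretransitive H W (s + 2) →
        Nat.card H ≤ X := by
  intro s
  induction s with
  | zero => exact fun n X h => h
  | succ s ih =>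
    intro n X h W H _ _ _ _ _ hn hp ht
    by_cases k : IsMultiplyPretransitive H W 2
    swap
    · exact h.1 W H hn hp k
    obtain ⟨a⟩ : Nonempty W := by
      by_contra e
      exact ht ⟨fun x => absurd ⟨x 0⟩ e⟩
    by_cases k2 : IsPreprimitive (stabilizer H a) (SubMulAction.ofStabilizer H a)
    swap
    · exact h.2.1 W H hn k a k2
    classical
    have : FaithfulSMul (stabilizer H a) (SubMulAction.ofStabilizer H a) := ⟨fun {g g'} e =>
      Subtype.ext (eq_of_smul_eq_smul (α := W) fun z => by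
        by_cases hz : z = a
        · rw [hz, g.2, g'.2]
        · exact congrArg Subtype.val (e ⟨z, hz⟩))⟩
    have k3 := ih _ _ h.2.2 (SubMulAction.ofStabilizer H a) (stabilizer H a) (by
      rw [← hn, ← Nat.card_eq_fintype_card, ← Nat.card_eq_fintype_card,
        SubMulAction.nat_card_ofStabilizer_eq]) k2
      fun e => ht (SubMulAction.ofStabilizer.isMultiplyPretransitive.2 e)
    rw [← (stabilizer H a).index_mul_card, index_stabilizer_of_transitive, Nat.card_eq_fintype_card, hn]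
    exact (Nat.mul_le_mul_left n k3).trans (Nat.mul_div_le X n)

theorem coarse (h : ∀ m, lo ≤ m → m ≤ hi → GA.{u} m Y ∧ GB.{u} m Y) :
    ∀ s n X, lo + s ≤ n → n ≤ hi → 0 < hi → hi ^ s * Y ≤ X → Ok.{u} s n X := by
  intro s
  induction s with
  | zero => exact fun n X h1 h2 _ h3 => (h n h1 h2).1.mono (by simpa using h3)
  | succ s ih =>
    intro n X h1 h2 h0 h3
    have k : Y ≤ X := (Nat.le_mul_of_pos_left Y (by positivity)).trans h3
    refine ⟨(h n (by omega) h2).1.mono k, (h n (by omega) h2).2.mono k,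
      ih _ _ (by omega) (by omega) h0 ((Nat.le_div_iff_mul_le (by omega)).2 (le_trans ?_ h3))⟩
    rw [pow_succ, mul_right_comm]
    exact Nat.mul_le_mul_right _ (Nat.mul_le_mul_left _ h2)

/-- the check at all depths. -/
def chF : ℕ → ℕ → ℕ → Bool
  | 0, n, X => chA n n X
  | s + 1, n, X => chA n n X && chB n n X && chF s (n - 1) (X / n)

theorem chF_ok : ∀ s n X, chF s n X = true → Ok.{u} s n X := by
  intro s
  induction s with
  | zero => exact fun n X e => chA_ok e le_rfl le_rfl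
  | succ s ih =>
    intro n X e
    simp only [chF, Bool.and_eq_true] at e
    exact ⟨chA_ok e.1.1 le_rfl le_rfl, chB_ok e.1.2 le_rfl le_rfl, ih _ _ e.2⟩

/-- all that is needed in degree `n`. -/
def Fn (n : ℕ) : Prop := ∃ k p r : ℕ, p.Prime ∧ p ≠ 2 ∧ n = k * p + r ∧ 0 < k ∧ k < p ∧
  (5 ≤ r ∧ k < r ∨ r = 4 ∧ k ≤ 2) ∧ Ok.{u} (r - 1) n (4 ^ n)

/-- the conditions on `k` and `p`. -/
def kp (n k p : ℕ) : Bool :=
  decide (2 < p ∧ p < 270400 ∧ 0 < k ∧ k < p ∧ (k * p + 5 ≤ n ∧ k * p + k < n ∨ n = k * p + 4 ∧ k ≤ 2)) &&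
    (List.range 520).all fun e => Nat.blt e 2 || Nat.ble p e || Nat.ble 1 (p % e)

theorem kp_ok {k p : ℕ} (e : kp lo k p = true) (h : lo ≤ n) (h2 : Ok.{u} (n - k * p - 1) n (4 ^ n)) :
    Fn.{u} n := by
  simp only [kp, Bool.and_eq_true, decide_eq_true_eq, List.all_eq_true, List.mem_range,
    Bool.or_eq_true, Nat.ble_eq, Nat.blt_eq] at e
  obtain ⟨⟨h3, h4, h5, h6, h7⟩, h8⟩ := e
  refine ⟨k, p, n - k * p, Nat.prime_def_le_sqrt.2 ⟨h3.le, fun e e2 e3 e4 => ?_⟩, h3.ne', by omega, h5,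
    h6, by omega, h2⟩
  have k1 := Nat.le_sqrt.1 e3
  have k2 := h8 e (by nlinarith)
  have k3 := Nat.mod_eq_zero_of_dvd e4
  have : e < p := by nlinarith
  omega

/-- single degrees `n, n + 1, …`; returns the first degree that is not covered. -/
def chS : ℕ → List (ℕ × ℕ) → ℕ
  | n, [] => n
  | n, (k, p) :: l => bif kp n k p && chF (n - k * p - 1) n (4 ^ n) then chS (n + 1) l else n

theorem chS_ok : ∀ (l : List (ℕ × ℕ)) (lo n : ℕ), lo ≤ n → n < chS lo l → Fn.{u} n := by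
  intro l
  induction l with
  | nil => exact fun lo n h1 h2 => absurd h2 (not_lt.2 h1)
  | cons a l ih =>
    intro lo n h1 h2
    simp only [chS, Bool.cond_eq_ite, Bool.and_eq_true] at h2
    split_ifs at h2 with k
    · rcases h1.eq_or_lt with rfl | h1
      exacts [kp_ok k.1 le_rfl (chF_ok _ _ _ k.2), ih _ _ h1 h2]
    · omega

/-- the check of an interval of degrees. -/
def chI (lo hi k p : ℕ) : Bool :=
  kp lo k p && Nat.ble (hi - k * p) lo && Nat.beq (frc (4 ^ lo / hi ^ (hi - k * p - 1)) fun Y =>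
    bif chA (lo - (hi - k * p - 1)) hi Y && chB (lo - (hi - k * p - 1)) hi Y then 1 else 0) 1

theorem chI_ok {k p : ℕ} (e : chI lo hi k p = true) (h1 : lo ≤ n) (h2 : n ≤ hi) (h0 : 0 < n) :
    Fn.{u} n := by
  simp only [chI, frc_eq, Bool.cond_eq_ite, Bool.and_eq_true, Nat.ble_eq, Nat.beq_eq, ite_eq_left_iff,
    zero_ne_one, imp_false, not_not] at e
  refine kp_ok e.1.1 h1 (coarse (fun m k1 k2 => ⟨chA_ok e.2.1 k1 k2, chB_ok e.2.2 k1 k2⟩) _ _ _
    (by omega) h2 (by omega) ?_)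
  exact (Nat.mul_le_mul_right _ (Nat.pow_le_pow_right (by omega) (by omega))).trans
    ((Nat.mul_div_le _ _).trans (Nat.pow_le_pow_right (by norm_num) h1))

/-- consecutive intervals; returns the first degree that is not covered. -/
def chC : ℕ → List (ℕ × ℕ × ℕ) → ℕ
  | n, [] => n
  | n, (hi, k, p) :: l => bif chI n hi k p then chC (hi + 1) l else n

theorem chC_ok : ∀ (l : List (ℕ × ℕ × ℕ)) (lo n : ℕ), 0 < n → lo ≤ n → n < chC lo l → Fn.{u} n := by
  intro l
  induction l with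
  | nil => exact fun lo n _ h1 h2 => absurd h2 (not_lt.2 h1)
  | cons a l ih =>
    intro lo n h0 h1 h2
    simp only [chC, Bool.cond_eq_ite] at h2
    split_ifs at h2 with k
    · rcases le_or_gt n a.1 with k1 | k1
      exacts [chI_ok k h1 k1 h0, ih _ _ h0 k1 h2]
    · omega

theorem large_num : ∀ L, 19 ≤ L → (L * (2 * L + 7) + 8) ^ 2 ≤ 2 ^ (L + 1) := by
  intro L h
  induction L, h using Nat.le_induction with
  | base => norm_num
  | succ L h ih =>
    rw [pow_succ 2]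
    refine le_trans ?_ (Nat.mul_le_mul_right 2 ih)
    obtain ⟨t, rfl⟩ := Nat.exists_eq_add_of_le h
    nlinarith [Nat.zero_le t, Nat.zero_le (t ^ 2), Nat.zero_le (t ^ 3), Nat.zero_le (t ^ 4)]

theorem large (h : 2 ^ 18 ≤ n) : Fn.{u} n := by
  obtain ⟨s, s1, s2⟩ : ∃ s, s * s ≤ n ∧ n < (s + 1) * (s + 1) := ⟨_, Nat.sqrt_le n, Nat.lt_succ_sqrt n⟩
  obtain ⟨L, l1, l2⟩ : ∃ L, 2 ^ L ≤ n ∧ n < 2 ^ (L + 1) :=
    ⟨_, Nat.pow_log_le_self 2 (by omega), Nat.lt_pow_succ_log_self one_lt_two n⟩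
  have l3 : 18 ≤ L := Nat.lt_succ_iff.1 ((Nat.pow_lt_pow_iff_right one_lt_two).1 (h.trans_lt l2))
  have s3 : (L + 1) * (2 * (L + 1) + 7) + 8 < 2 * (s + 1) := by
    refine lt_of_pow_lt_pow_left₀ 2 (Nat.zero_le _) ((large_num _ (by omega)).trans_lt ?_)
    rw [pow_succ, pow_succ]
    nlinarith
  have s4 : 400 ≤ s := by nlinarith
  obtain ⟨p, hp, p1, p2⟩ := Nat.exists_prime_lt_and_le_two_mul s (by omega)
  have q1 := Nat.div_add_mod n p
  have q2 := Nat.mod_lt n hp.pos
  have q3 : n / p < p := (Nat.div_lt_iff_lt_mul hp.pos).2 (by nlinarith)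
  have q4 : 2 ≤ n / p := (Nat.le_div_iff_mul_le hp.pos).2 (by nlinarith)
  have e1 : (s + 3) * ((L + 1) * (2 * (L + 1) + 7)) + 18 ≤ 2 * (s * s) := by nlinarith
  have e2 : 19 * ((s + 3) * (2 * (L + 1) + 7)) ≤ (s + 3) * ((L + 1) * (2 * (L + 1) + 7)) := by
    rw [mul_left_comm]; exact Nat.mul_le_mul_left _ (Nat.mul_le_mul_right _ (by omega))
  have key : ∀ (W H : Type u) [Fintype W] [Group H] [Finite H] [MulAction H W] [FaithfulSMul H W]
      (Qp : Finset W → W → W → Prop) (d f : ℕ → ℕ), n - 4 * s ≤ Fintype.card W → Fintype.card W ≤ n →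
      Hyp H Qp d f → QQ Qp ∅ ≤ Fintype.card W * (Fintype.card W - 1) →
      (∀ j, 2 * f j ≤ Fintype.card W - j) → (∀ l, 2 * s ≤ l → s ≤ d l) →
      Nat.card H ≤ 2 * n ^ (2 * s + (s + 3) * (2 * (L + 1) + 1)) := by
    intro W H _ _ _ _ _ Qp d f m1 m2 h1 h2 h3 h4
    have k1 : Fintype.card W / s + 1 ≤ s + 3 :=
      (Nat.div_lt_iff_lt_mul (by omega)).2 (by nlinarith)
    have k2 := Nat.mul_le_mul_right (2 * (L + 1) + 1) k1
    have k3 : 10 * s + (s + 3) * (2 * (L + 1) + 1) ≤ s * s := by nlinarith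
    refine (ana h1 h2 h3 (T := 2 * (L + 1) + 1) (by omega) h4 (by omega) ?_).trans
      (Nat.mul_le_mul_left _ ((Nat.pow_le_pow_left m2 _).trans (Nat.pow_le_pow_right (by omega) (by omega))))
    rw [pow_succ' 2 (2 * (L + 1)), mul_comm 2 (L + 1), pow_mul]
    exact Nat.mul_le_mul_left _ (Nat.pow_le_pow_left (m2.trans l2.le) _)
  refine ⟨n / p - 1, p, n % p + p, hp, by omega, ?_, by omega, by omega, .inl ⟨by omega, by omega⟩,
    coarse (lo := n - 4 * s) (hi := n) (Y := 2 * n ^ (2 * s + (s + 3) * (2 * (L + 1) + 1)))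
      (fun m m1 m2 => ⟨?_, ?_⟩) _ _ _ (by have : 4 * s ≤ n := by nlinarith
                                          omega) le_rfl (by omega) ?_⟩
  · rw [Nat.sub_one_mul, mul_comm]
    have : p ≤ p * (n / p) := Nat.le_mul_of_pos_right _ (by omega)
    omega
  · intro W H _ _ _ _ _ hm hp hn
    subst hm
    refine key W H _ _ _ m1 m2 (exA (e := s) hp hn ?_ ?_ m1) (by simp [QQ]) (by simp) fun _ _ => le_rfl
    · obtain ⟨t, rfl⟩ : ∃ t, s = t + 4 := ⟨s - 4, by omega⟩
      rw [show t + 4 - 1 = t + 3 by omega, show 3 * (t + 3) - 8 = 3 * t + 1 by omega]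
      have : (t + 3) * (3 * t + 1) + 16 * t + 68 < 4 * n := by nlinarith
      omega
    · have : 5 * s ≤ n := by nlinarith
      omega
  · intro W H _ _ _ _ _ hm hp a hn
    subst hm
    obtain ⟨b, Qp, b1, b2, hq, k⟩ := exB hp a hn
    exact key W H Qp (fun j => (2 * j + 8) / 3) (fun j => b - 1 - j) m1 m2
      (k _ _ (fun j D _ _ => by omega) fun _ => le_rfl) hq (fun j => by omega) fun l _ => by omega
  · rw [mul_left_comm, ← pow_add, show 4 = 2 ^ 2 from rfl, ← pow_mul]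
    refine (Nat.mul_le_mul_left _ (Nat.pow_le_pow_left l2.le _)).trans ?_
    rw [← pow_mul, ← pow_succ']
    refine Nat.pow_le_pow_right two_pos ?_
    have : (L + 1) * (n % p + p - 1 + (2 * s + (s + 3) * (2 * (L + 1) + 1))) ≤
        (L + 1) * ((s + 3) * (2 * (L + 1) + 7)) := Nat.mul_le_mul_left _ (by
      have : n % p + p - 1 ≤ 4 * s := by omega
      nlinarith)
    rw [mul_left_comm] at this
    omega

end H14.PS
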