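import Cfsg.Agent.H14.PSD

/-! The Praeger–Saxl bound: certificates, part 0. -/

set_option autoImplicit false

namespace H14.PS

theorem ck0 : chS 9 [
    (1, 5), (2, 3), (1, 7), (1, 7), (1, 7), (2, 5), (1, 11), (1, 11), (1, 13), (2, 7), (2, 7),
    (3, 5), (1, 17), (1, 17), (1, 19), (1, 19), (4, 5), (2, 11), (1, 23), (1, 23), (1, 23),
    (2, 13), (2, 13), (2, 13), (1, 29), (1, 29), (1, 31), (1, 31), (1, 31), (2, 17), (2, 17),
    (2, 17), (1, 37), (2, 19), (2, 19), (3, 13), (1, 41), (1, 41), (1, 43), (1, 43), (4, 11),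
    (2, 23), (1, 47), (1, 47), (1, 47), (1, 47), (1, 47), (3, 17), (1, 53), (1, 53), (1, 53),
    (1, 53), (5, 11), (2, 29), (1, 59), (1, 59), (1, 61), (2, 31), (2, 31), (2, 31), (2, 31),
    (2, 31), (1, 67)] = 72 := by
  decide +kernel

theorem ck1 : chC 72 [
    (73, 1, 67), (75, 3, 23), (77, 1, 71), (80, 2, 37), (82, 4, 19), (85, 1, 79), (88, 2, 41),
    (90, 1, 83), (93, 2, 43), (96, 1, 89), (99, 4, 23), (102, 2, 47), (105, 1, 97),
    (109, 1, 101), (114, 2, 53), (118, 1, 109), (122, 1, 113), (127, 2, 59), (132, 3, 41),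
    (137, 1, 127), (144, 2, 67), (150, 1, 139), (157, 2, 73), (163, 1, 151), (171, 3, 53),
    (180, 1, 167), (188, 6, 29), (197, 3, 61), (209, 2, 97), (222, 2, 103), (235, 2, 109),
    (248, 1, 229), (264, 4, 61), (279, 6, 43), (297, 2, 137), (317, 1, 293), (340, 2, 157),
    (365, 1, 337), (393, 2, 181), (422, 1, 389)] = 423 := by
  decide +kernel

theorem ck2 : chC 423 [
    (455, 1, 419), (488, 1, 449), (524, 2, 241), (566, 1, 521), (612, 1, 563), (660, 1, 607),
    (712, 5, 131), (771, 1, 709), (833, 2, 383), (903, 1, 829), (978, 2, 449), (1061, 2, 487),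
    (1151, 5, 211), (1249, 5, 229), (1358, 4, 311), (1477, 2, 677), (1608, 3, 491),
    (1752, 4, 401), (1910, 1, 1747), (2085, 1, 1907), (2276, 1, 2081), (2487, 1, 2273),
    (2718, 3, 827), (2972, 1, 2713), (3254, 1, 2969)] = 3255 := by
  decide +kernel

theorem ck3 : chC 3255 [
    (3562, 1, 3251), (3902, 1, 3559), (4275, 2, 1949), (4689, 1, 4271), (5143, 4, 1171),
    (5636, 4, 1283), (6187, 3, 1877), (6791, 2, 3089), (7456, 2, 3391), (8192, 1, 7451),
    (9006, 3, 2729), (9904, 1, 9001), (10896, 1, 9901), (11987, 1, 10891), (13191, 1, 11981)] = 13192 := by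
  decide +kernel

end H14.PS
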