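import Cfsg.Agent.H14.PSD

/-! The Praeger–Saxl bound: certificates, part 1. -/

set_option autoImplicit false

namespace H14.PS

theorem ck4 : chC 13192 [
    (14522, 1, 13187), (15990, 1, 14519), (17605, 2, 7993), (19387, 3, 5867), (21349, 1, 19381),
    (23513, 6, 3557), (25901, 1, 23509), (28529, 5, 5179), (31420, 1, 28517)] = 31421 := by
  decide +kernel

theorem ck5 : chC 31421 [
    (34608, 4, 7853), (38119, 1, 34603), (41988, 1, 38113), (46246, 1, 41983), (50930, 3, 15413),
    (56088, 2, 25463)] = 56089 := by
  decide +kernel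

theorem ck6 : chC 56089 [
    (61758, 1, 56081), (67995, 1, 61751), (74849, 1, 67987), (82387, 2, 37423), (90665, 2, 41189)] = 90666 := by
  decide +kernel

theorem ck7 : chC 90666 [
    (99764, 1, 90659), (109758, 1, 99761), (120728, 2, 54877), (132769, 4, 30181)] = 132770 := by
  decide +kernel

end H14.PS
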