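import Cfsg.Agent.H14.PSD

/-! The Praeger–Saxl bound: certificates, part 2. -/

set_option autoImplicit false

namespace H14.PS

theorem ck8 : chC 132770 [
    (145977, 2, 66383), (160463, 4, 36493), (176339, 1, 160453)] = 176340 := by
  decide +kernel

theorem ck9 : chC 176340 [
    (193741, 1, 176333), (212808, 3, 64579)] = 212809 := by
  decide +kernel

theorem ck10 : chC 212809 [
    (233695, 4, 53201), (256560, 1, 233689)] = 256561 := by
  decide +kernel

theorem ck11 : chC 256561 [
    (281581, 8, 32069)] = 281582 := by
  decide +kernel

end H14.PS
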