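import Cfsg.Agent.H14.PS0
import Cfsg.Agent.S0711

/-! The Praeger–Saxl bound: Miller's bound on the degree of transitivity. -/

set_option autoImplicit false

namespace H14.PS

open MulAction Finset
open scoped Classical Pointwise

namespace CM

theorem comm_pow {Y : Type*} [Group Y] {a b s : Y} {i j : ℤ} (ha : a * s * a⁻¹ = s ^ i)
    (hb : b * s * b⁻¹ = s ^ j) : Commute ((b * a)⁻¹ * (a * b)) s := by
  have e1 : a * b * s * (a * b)⁻¹ = s ^ (i * j) := by
    calc _ = a * (b * s * b⁻¹) * a⁻¹ := by group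
      _ = _ := by rw [hb, ← conj_zpow, ha, ← zpow_mul]
  have e2 : b * a * s * (b * a)⁻¹ = s ^ (i * j) := by
    calc _ = b * (a * s * a⁻¹) * b⁻¹ := by group
      _ = _ := by rw [ha, ← conj_zpow, hb, ← zpow_mul, mul_comm j]
  have e3 := e1.trans e2.symm
  calc (b * a)⁻¹ * (a * b) * s = (b * a)⁻¹ * (a * b * s * (a * b)⁻¹) * (a * b) := by group
    _ = _ := by rw [e3]; group

variable {X α : Type*} [Group X] [Finite X] [MulAction X α]

/-- on an orbit of prime length, commutators of normalising elements have order dividing `p`. -/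
theorem orbit_fix {p : ℕ} (hp : p.Prime) {P : Subgroup X} (hP : IsPGroup p P) {z : α}
    (hz : (orbit P z).ncard = p) {a b : X} (ha : a ∈ Subgroup.normalizer (P : Set X))
    (hb : b ∈ Subgroup.normalizer (P : Set X)) (ha' : a • orbit P z = orbit P z)
    (hb' : b • orbit P z = orbit P z) : ((b * a)⁻¹ * (a * b)) ^ p • z = z := by
  have := Fact.mk hp
  have hfin : (orbit P z).Finite := Set.finite_of_ncard_ne_zero (hz ▸ hp.ne_zero)
  have hi : (stabilizer P z).index = p := (index_stabilizer P z).trans hz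
  have hn : (stabilizer P z).Normal := by
    apply Subgroup.normal_of_index_eq_minFac_card
    obtain ⟨n, hn⟩ := IsPGroup.iff_card.1 hP
    have n0 : n ≠ 0 := by
      rintro rfl
      have := Subgroup.index_dvd_card (stabilizer P z)
      rw [hi, hn, pow_zero, Nat.dvd_one] at this
      exact hp.ne_one this
    rw [hi, hn, hp.pow_minFac n0]
  let S := stabilizer X (orbit P z)
  let O : SubMulAction S α := ⟨orbit P z, fun g _ hy => by
    have := Set.smul_mem_smul_set (a := (g : X)) hy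
    rwa [g.2] at this⟩
  let ρ := toPermHom S O
  have PS : ∀ u ∈ P, u ∈ S := fun u hu => smul_orbit (⟨u, hu⟩ : P) z
  let z' : O := ⟨z, mem_orbit_self z⟩
  have fx : ∀ u (hu : u ∈ P), u • z = z → ρ ⟨u, PS u hu⟩ = 1 := by
    intro u hu e
    ext ⟨_, ⟨v, rfl⟩⟩
    have := hn.conj_mem' ⟨u, hu⟩ e v
    change ((v : X)⁻¹ * u * v) • z = z at this
    rw [mul_smul, mul_smul, inv_smul_eq_iff] at this
    exact this
  obtain ⟨s, hs⟩ : ∃ s : P, s • z ≠ z := by
    by_contra h
    push Not at h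
    have : stabilizer P z = ⊤ := eq_top_iff.2 fun s _ => h s
    rw [this, Subgroup.index_top] at hi
    exact hp.ne_one hi.symm
  have tr : ∀ v : P, ∃ i : ℤ, v • z = s ^ i • z := by
    intro v
    have hq : Nat.card (P ⧸ stabilizer P z) = p := hi
    have := mem_zpowers_of_prime_card (G := P ⧸ stabilizer P z) hq (g := s) (g' := v)
      (fun e => hs ((QuotientGroup.eq_one_iff _).1 e))
    obtain ⟨i, hi⟩ := this
    refine ⟨i, ?_⟩
    have h1 : (s ^ i)⁻¹ * v ∈ stabilizer P z := QuotientGroup.eq.1 hi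
    rw [mem_stabilizer_iff, mul_smul, inv_smul_eq_iff] at h1
    exact h1
  set σ := ρ ⟨s, PS s s.2⟩ with hσ
  have pw : ∀ u (hu : u ∈ P), ∃ i : ℤ, ρ ⟨u, PS u hu⟩ = σ ^ i := by
    intro u hu
    obtain ⟨i, hi⟩ := tr ⟨u, hu⟩
    refine ⟨i, ?_⟩
    have := fx ((s ^ i)⁻¹ * ⟨u, hu⟩ : P) (SetLike.coe_mem _) (by
      change ((s ^ i)⁻¹ * ⟨u, hu⟩ : P) • z = z
      rw [mul_smul, hi, inv_smul_smul])
    rw [hσ, ← map_zpow, eq_comm, ← inv_mul_eq_one, ← map_inv, ← map_mul]
    exact this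
  have cj : ∀ g (_ : g ∈ Subgroup.normalizer (P : Set X)) (hg' : g ∈ S),
      ∃ i : ℤ, ρ ⟨g, hg'⟩ * σ * (ρ ⟨g, hg'⟩)⁻¹ = σ ^ i := by
    intro g hg hg'
    obtain ⟨i, hi⟩ := pw _ ((Subgroup.mem_normalizer_iff.1 hg s).1 s.2)
    exact ⟨i, by rw [← hi, hσ, ← map_inv, ← map_mul, ← map_mul]; rfl⟩
  obtain ⟨i, hi'⟩ := cj a ha ha'
  obtain ⟨j, hj⟩ := cj b hb hb'
  have c := comm_pow hi' hj
  rw [← map_mul, ← map_mul, ← map_inv, ← map_mul] at c
  set γ : S := (⟨b, hb'⟩ * ⟨a, ha'⟩)⁻¹ * (⟨a, ha'⟩ * ⟨b, hb'⟩) with hγ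
  obtain ⟨v, hv⟩ := (γ • z').2
  obtain ⟨m, hm⟩ := pw v v.2
  have e1 : ρ γ z' = (σ ^ m) z' := by rw [← hm]; exact Subtype.ext hv.symm
  have e2 : ∀ n : ℕ, (ρ γ ^ n) z' = ((σ ^ m) ^ n) z' := by
    intro n
    induction n with
    | zero => rfl
    | succ n ih =>
      rw [pow_succ', Equiv.Perm.mul_apply, ih, ← Equiv.Perm.mul_apply,
        ((c.zpow_right m).pow_right n).eq, Equiv.Perm.mul_apply, e1, pow_succ,
        Equiv.Perm.mul_apply]
  have e3 : (σ ^ m) ^ p = 1 := by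
    rw [← hm, ← map_pow]
    exact fx (v ^ p : P) (SetLike.coe_mem _) (hi ▸ Subgroup.pow_index_mem (stabilizer P z) v)
  have e4 := e2 p
  rw [e3, ← map_pow] at e4
  exact congrArg Subtype.val e4

theorem core [Fintype α] (T : SubMulAction X α) (hs : Function.Surjective (toPermHom X T))
    (tr : ∀ z ∉ T, ∀ w ∉ T, ∃ x ∈ (toPermHom X T).ker, x • z = w) {k p r : ℕ} (hp : p.Prime)
    (p2 : p ≠ 2) (hT : Nat.card T = r) (hn : ((T : Set α)ᶜ).ncard = k * p) (k0 : 0 < k)
    (kp : k < p) (h : 5 ≤ r ∧ k < r ∨ r = 4 ∧ k ≤ 2) :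
    ∃ g : X, (∀ z ∉ T, g • z = z) ∧ toPermHom X T g ≠ 1 := by
  have := Fact.mk hp
  set θ := toPermHom X T with hθ
  obtain ⟨P0⟩ : Nonempty (Sylow p θ.ker) := inferInstance
  set P := (P0 : Subgroup θ.ker).map θ.ker.subtype with hP
  have pP : IsPGroup p P := P0.2.map _
  have out : ∀ (x : X), ∀ z ∉ T, x • z ∉ T := fun x z hz e => hz (by
    have := T.smul_mem x⁻¹ e
    rwa [inv_smul_smul] at this)
  have sub : ∀ z ∉ T, orbit P z ⊆ (T : Set α)ᶜ := by
    rintro z hz _ ⟨v, rfl⟩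
    exact out v z hz
  have hO : ∀ z ∉ T, (orbit P z).ncard = p := by
    intro z hz
    obtain ⟨n, hn'⟩ := pP.card_orbit z
    rw [Nat.card_coe_set_eq] at hn'
    have h1 : p ^ n < p ^ 2 := by
      have := Set.ncard_le_ncard (sub z hz)
      rw [hn', hn] at this
      have := Nat.mul_lt_mul_of_pos_right kp hp.pos
      rw [pow_two]; omega
    have h2 : n < 2 := (Nat.pow_lt_pow_iff_right hp.one_lt).1 h1
    have h3 : n ≠ 0 := by
      rintro rfl
      rw [pow_zero, Set.ncard_eq_one] at hn'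
      obtain ⟨y, hy⟩ := hn'
      have hle : (P0 : Subgroup θ.ker) ≤ stabilizer θ.ker z := fun u hu => by
        have h1 : (⟨u, u, hu, rfl⟩ : P) • z ∈ orbit P z := mem_orbit _ _
        have h2 := mem_orbit_self (M := P) z
        rw [hy] at h1 h2
        exact h1.trans h2.symm
      refine P0.not_dvd_index (Dvd.dvd.trans ?_ (Subgroup.index_dvd_of_le hle))
      have : orbit θ.ker z = (T : Set α)ᶜ := by
        apply Set.Subset.antisymm
        · rintro _ ⟨v, rfl⟩
          exact out v z hz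
        · intro w hw
          obtain ⟨x, hx, e⟩ := tr z hz w hw
          exact ⟨⟨x, hx⟩, e⟩
      rw [index_stabilizer, this, hn]
      exact dvd_mul_left p k
    rw [hn', show n = 1 by omega, pow_one]
  set L := Subgroup.normalizer (P : Set X) with hL
  have hLs : Function.Surjective (θ.comp L.subtype) := by
    rw [← MonoidHom.range_eq_top, MonoidHom.range_comp, Subgroup.range_subtype,
      ← Subgroup.map_top_of_surjective θ hs, ← P0.normalizer_sup_eq_top, Subgroup.map_sup,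
      (Subgroup.map_eq_bot_iff _).2 le_rfl, sup_bot_eq]
  have sm : ∀ (l : L) (z : α), (l : X) • orbit P z = orbit P ((l : X) • z) := by
    intro l z
    ext y
    constructor
    · rintro ⟨_, ⟨v, rfl⟩, rfl⟩
      refine ⟨⟨l * v * l⁻¹, (Subgroup.mem_normalizer_iff.1 l.2 v).1 v.2⟩, ?_⟩
      change ((l : X) * v * (l : X)⁻¹) • (l : X) • z = (l : X) • (v : X) • z
      rw [mul_smul, inv_smul_smul, mul_smul]
    · rintro ⟨v, rfl⟩
      refine ⟨_, ⟨⟨(l : X)⁻¹ * v * l, (Subgroup.mem_normalizer_iff''.1 l.2 v).1 v.2⟩, rfl⟩, ?_⟩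
      change (l : X) • ((l : X)⁻¹ * v * l) • z = (v : X) • (l : X) • z
      rw [mul_smul, mul_smul, smul_inv_smul]
  let Ω : SubMulAction L (Set α) := ⟨{O | ∃ z ∉ T, O = orbit P z}, by
    rintro l _ ⟨z, hz, rfl⟩
    exact ⟨_, out l z hz, sm l z⟩⟩
  have cΩ : Nat.card Ω = k := by
    have h1 := card_eq_sum_card_image (fun z => orbit P z) ((T : Set α)ᶜ).toFinset
    rw [sum_congr rfl (g := fun _ => p), sum_const, smul_eq_mul, ← Set.ncard_eq_toFinset_card',
      hn] at h1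
    · rw [Nat.eq_of_mul_eq_mul_right hp.pos h1, ← Nat.card_eq_finsetCard]
      refine Nat.card_congr (Equiv.subtypeEquivRight fun O => ?_)
      simp only [mem_image, Set.mem_toFinset]
      exact exists_congr fun z => and_congr_right fun _ => eq_comm
    · intro O hO'
      obtain ⟨z, hz, rfl⟩ := mem_image.1 hO'
      rw [Set.mem_toFinset] at hz
      rw [← hO z hz, ← Set.ncard_coe_finset]
      congr 1
      ext y
      simp only [coe_filter, Set.mem_toFinset, Set.mem_ofPred_eq]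
      exact ⟨fun h => h.2 ▸ mem_orbit_self y, fun h => ⟨sub z hz h, orbit_eq_iff.2 h⟩⟩
  set K := (toPermHom L Ω).ker with hK
  have hN : (K.map (θ.comp L.subtype)).Normal := Subgroup.Normal.map inferInstance _ hLs
  have hi : (K.map (θ.comp L.subtype)).index ≤ k.factorial := by
    refine (Nat.le_of_dvd (Nat.pos_of_ne_zero Subgroup.index_ne_zero_of_finite)
      (K.index_map_dvd hLs)).trans ?_
    rw [Subgroup.index_ker, ← cΩ, ← Nat.card_perm]
    exact Subgroup.card_le_card_group _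
  have hA : alternatingGroup T ≤ K.map (θ.comp L.subtype) := by
    rcases h with ⟨h1, h2⟩ | ⟨h1, h2⟩
    · refine Equiv.Perm.alternatingGroup_le_of_normal (hT ▸ h1) ?_
      rw [Subgroup.nontrivial_iff_ne_bot]
      intro e
      rw [e, Subgroup.index_bot, Nat.card_perm, hT] at hi
      exact absurd (Nat.factorial_lt_of_lt k0 h2) (by omega)
    · exact Equiv.Perm.alternatingGroup_le_of_index_le_two
        (hi.trans (Nat.factorial_le h2))
  obtain ⟨e⟩ : Nonempty (Fin 4 ↪ T) := Function.Embedding.nonempty_of_card_le (by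
    rw [Fintype.card_fin, ← Nat.card_eq_fintype_card, hT]; omega)
  let φ := Equiv.Perm.extendDomainHom (Equiv.ofInjective e.1 e.2)
  have sg : ∀ s : Equiv.Perm (Fin 4), Equiv.Perm.sign s = 1 → φ s ∈ alternatingGroup T :=
    fun s hs => Equiv.Perm.mem_alternatingGroup.2 ((Equiv.Perm.sign_extendDomain _ _).trans hs)
  obtain ⟨a, ha, ha'⟩ := hA (sg (Equiv.swap 0 1 * Equiv.swap 1 2) (by decide))
  obtain ⟨b, hb, hb'⟩ := hA (sg (Equiv.swap 0 1 * Equiv.swap 2 3) (by decide))
  have fx : ∀ a ∈ K, ∀ z ∉ T, (a : X) • orbit P z = orbit P z := fun a ha z hz =>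
    congrArg Subtype.val (Equiv.ext_iff.1 ha ⟨_, z, hz, rfl⟩)
  refine ⟨_, fun z hz => orbit_fix hp pP (hO z hz) a.2 b.2 (fx a ha z hz) (fx b hb z hz), ?_⟩
  change θ a = _ at ha'
  change θ b = _ at hb'
  rw [map_pow, map_mul, map_inv, map_mul, map_mul, ha', hb', ← map_mul, ← map_mul, ← map_inv,
    ← map_mul, ← map_pow, ne_eq, map_eq_one_iff _ (Equiv.Perm.extendDomainHom_injective _)]
  obtain ⟨j, rfl⟩ := hp.odd_of_ne_two p2
  rw [pow_succ, pow_mul, show (_ : Equiv.Perm (Fin 4)) ^ 2 = 1 by decide, one_pow, one_mul]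
  decide

end CM

theorem miller {α : Type*} [Fintype α] [DecidableEq α] (G : Subgroup (Equiv.Perm α))
    (hA : ¬ alternatingGroup α ≤ G) {k p r : ℕ} (hp : p.Prime) (p2 : p ≠ 2)
    (hn : Fintype.card α = k * p + r) (k0 : 0 < k) (kp : k < p)
    (h : 5 ≤ r ∧ k < r ∨ r = 4 ∧ k ≤ 2) : ¬ IsMultiplyPretransitive G α (r + 1) := by
  intro hM
  have kp0 : 0 < k * p := Nat.mul_pos k0 hp.pos
  obtain ⟨ι⟩ : Nonempty (Fin r ↪ α) := Function.Embedding.nonempty_of_card_le (by
    rw [Fintype.card_fin]; omega)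
  have hM' : IsMultiplyPretransitive G α r :=
    isMultiplyPretransitive_of_le (Nat.le_succ r) (by rw [Nat.card_eq_fintype_card]; omega)
  let X := stabilizer G (Set.range ι)
  let T : SubMulAction X α := ⟨Set.range ι, fun g _ hy => by
    have := Set.smul_mem_smul_set (a := (g : G)) hy
    rwa [g.2] at this⟩
  have mem : ∀ g : G, (∀ i, g • ι i ∈ Set.range ι) → g ∈ X := fun g hg =>
    Set.eq_of_subset_of_ncard_le (by rintro _ ⟨_, ⟨i, rfl⟩, rfl⟩; exact hg i)
      (Set.ncard_smul_set _ _).ge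
  have hT : Nat.card T = r :=
    (Nat.card_congr (Equiv.ofInjective ι ι.2)).symm.trans (Nat.card_fin r)
  refine (CM.core T (k := k) (fun π => ?_) (fun z hz w hw => ?_) hp p2 hT ?_ k0 kp h).elim
    fun g ⟨g1, g2⟩ => ?_
  rotate_right
  · refine hA (Cfsg.Agent.S0711.result G (k := r + 1) (by omega) (by omega) hM _ (g : G).2
      (fun e => g2 ?_) ?_).2
    · rw [show g = 1 from Subtype.ext (Subtype.ext e), map_one]
    · have : ((g : G) : Equiv.Perm α).support ⊆ univ.map ι := by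
        intro z hz
        by_contra c
        exact Equiv.Perm.mem_support.1 hz (g1 z fun ⟨i, hi⟩ => c (mem_map.2 ⟨i, mem_univ _, hi⟩))
      have := card_le_card this
      rw [card_map, card_univ, Fintype.card_fin] at this
      omega
  · let ι' : Fin r ↪ α := ⟨fun i => (π ⟨ι i, i, rfl⟩ : T), fun i j e =>
      ι.2 (congrArg Subtype.val (π.injective (Subtype.ext e)))⟩
    obtain ⟨g, hg⟩ := hM'.exists_smul_eq ι ι'
    have hg' : ∀ i, g • ι i = ι' i := fun i => by rw [← hg]; rfl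
    refine ⟨⟨g, mem g fun i => hg' i ▸ (π ⟨ι i, i, rfl⟩).2⟩, ?_⟩
    ext ⟨_, i, rfl⟩
    exact hg' i
  · have emb : ∀ z ∉ T, Function.Injective (Fin.cons z ι : Fin (r + 1) → α) := fun z hz =>
      Fin.cons_injective_iff.2 ⟨hz, ι.2⟩
    obtain ⟨g, hg⟩ := hM.exists_smul_eq ⟨_, emb z hz⟩ ⟨_, emb w hw⟩
    have hg' := Function.Embedding.ext_iff.1 hg
    have h1 : ∀ i, g • ι i = ι i := fun i => hg' i.succ
    refine ⟨⟨g, mem g fun i => (h1 i).symm ▸ ⟨i, rfl⟩⟩, ?_, hg' 0⟩
    ext ⟨_, i, rfl⟩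
    exact h1 i
  · have := Set.ncard_add_ncard_compl (T : Set α)
    rw [Nat.card_eq_fintype_card, hn, ← Nat.card_coe_set_eq] at this
    have h2 : Nat.card (T : Set α) = r := hT
    omega

end H14.PS
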