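import Cfsg.Agent.H14.PSC
import Cfsg.Agent.H14.PSA
import Cfsg.Agent.H14.PSB

/-! The Praeger–Saxl bound: the numerical recursion. -/

set_option autoImplicit false
set_option linter.unusedSectionVars false

namespace H14.PS

open MulAction Finset Real
open scoped Classical

universe u

/-- strict evaluation. -/
def frc (u : ℕ) (f : ℕ → ℕ) : ℕ :=
  match u with
  | 0 => f 0
  | k + 1 => f (k + 1)

theorem frc_eq (u : ℕ) (f : ℕ → ℕ) : frc u f = f u := by cases u <;> rfl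

/-- the recursion in fixed point arithmetic. -/
def go (lo hi : ℕ) (d f : ℕ → ℕ) : ℕ → ℕ → ℕ → ℕ → ℕ → ℕ
  | 0, _, _, _, _ => 0
  | n + 1, j, p, q, a =>
    bif Nat.ble (16 * p) 65536 then a * (65536 + p) / 65536 + 1 else
    bif Nat.ble lo j then 0 else
      frc (j + 1) fun j' => frc (d j) fun e =>
      frc ((hi - j - e) * p / (hi - j) + (e - 2) * q / (lo - j) + 2) fun p' =>
      frc (f j * q / (lo - j) + 1) fun q' =>
      frc (a * (65536 + p / (lo - j) + 1) / 65536 + 1) fun a' => go lo hi d f n j' p' q' a'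

variable {H W : Type*} [Group H] [Finite H] [MulAction H W] [Fintype W] [FaithfulSMul H W]
  {Qp : Finset W → W → W → Prop} {d f : ℕ → ℕ} {lo hi X : ℕ}

theorem le_dv (a : ℕ) {b r : ℕ} (h0 : 0 < b) (h : b ≤ r) : a ≤ r * (a / b + 1) :=
  (Nat.lt_mul_div_succ a h0).le.trans (Nat.mul_le_mul_right _ h)

theorem log_le_of {a c : ℕ} (a0 : 0 < a) (c0 : 0 < c) :
    log ((c : ℝ) / 65536) ≤ log ((a * c / 65536 + 1 : ℕ) : ℝ) - log a := by
  have : (0 : ℝ) < a := Nat.cast_pos.2 a0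
  have : (0 : ℝ) < c := Nat.cast_pos.2 c0
  rw [le_sub_iff_add_le, ← log_mul (by positivity) (by positivity)]
  refine log_le_log (by positivity) ?_
  have k : ((a * c : ℕ) : ℝ) ≤ (65536 * (a * c / 65536 + 1) : ℕ) :=
    Nat.cast_le.2 (le_dv (a * c) (by norm_num) le_rfl)
  rw [Nat.cast_mul, Nat.cast_mul] at k
  simp only [Nat.cast_ofNat] at k
  linarith

theorem go_ok (h : Hyp H Qp d f) (h1 : lo ≤ Fintype.card W) (h2 : Fintype.card W ≤ hi) :
    ∀ n j p q a : ℕ, 0 < a → go lo hi d f n j p q a ≠ 0 →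
      Iv H Qp j (p / 65536) (q / 65536) (log (go lo hi d f n j p q a) - log a) := by
  intro n
  induction n with
  | zero => exact fun _ _ _ _ _ e => absurd rfl e
  | succ n ih =>
    intro j p q a a0 e
    simp only [go, frc_eq, Bool.cond_eq_ite, Nat.ble_eq] at e ⊢
    split_ifs at e ⊢ with k1 k2
    · refine (Iv.tail j _ _).mono (le_trans ?_ (log_le_of a0 (by omega)))
      have k : (16 * p : ℝ) ≤ 65536 := by exact_mod_cast k1
      have p0 : (0 : ℝ) ≤ p := Nat.cast_nonneg p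
      refine le_trans ?_ (one_sub_inv_le_log_of_pos (by positivity))
      rw [inv_div, le_sub_comm, div_le_iff₀ (by positivity)]
      push_cast
      nlinarith
    · exact absurd rfl e
    obtain ⟨r, hr⟩ : ∃ r, j + r = Fintype.card W := ⟨Fintype.card W - j, by omega⟩
    have r1 : lo - j ≤ r := by omega
    have r2 : r ≤ hi - j := by omega
    have r0 : 0 < lo - j := by omega
    have n1 := le_dv p r0 r1
    have n2 := le_dv ((d j - 2) * q) r0 r1
    have n3 := le_dv (f j * q) r0 r1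
    have n4 : (r - d j) * p ≤ r * ((hi - j - d j) * p / (hi - j) + 1) := by
      have k3 := le_dv ((hi - j - d j) * p) (r0.trans_le (r1.trans r2)) le_rfl
      have k4 : (r - d j) * (hi - j) ≤ (hi - j - d j) * r := by
        rcases le_total r (d j) with k | k
        · simp [k]
        · obtain ⟨s, rfl⟩ := Nat.exists_eq_add_of_le k
          obtain ⟨t, e⟩ := Nat.exists_eq_add_of_le r2
          rw [e, add_assoc, Nat.add_sub_cancel_left, Nat.add_sub_cancel_left]
          nlinarith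
      refine Nat.le_of_mul_le_mul_left ?_ (r0.trans_le (r1.trans r2))
      calc (hi - j) * ((r - d j) * p) = (r - d j) * (hi - j) * p := by ring
        _ ≤ (hi - j - d j) * r * p := Nat.mul_le_mul_right _ k4
        _ = r * ((hi - j - d j) * p) := by ring
        _ ≤ _ := (Nat.mul_le_mul_left r k3).trans (le_of_eq (by ring))
    refine (Iv.step h hr (r0.trans_le r1) le_rfl (c := (65536 + p / (lo - j) + 1 : ℕ) / 65536)
      (by positivity) (.inl ?_) ?_ ?_ (ih _ _ _ _ (Nat.succ_pos _) e)).mono ?_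
    · have k : (p : ℝ) ≤ r * ((p / (lo - j) : ℕ) + 1) := by exact_mod_cast n1
      simp only [Nat.cast_add, Nat.cast_ofNat, Nat.cast_one]
      linarith
    · have k : (((r - d j) * p + (d j - 2) * q : ℕ) : ℝ) ≤ (r * ((hi - j - d j) * p / (hi - j) +
          (d j - 2) * q / (lo - j) + 2) : ℕ) := Nat.cast_le.2 ((Nat.add_le_add n4 n2).trans
            (le_of_eq (by ring)))
      rw [Nat.cast_mul, Nat.cast_add, Nat.cast_mul, Nat.cast_mul] at k
      linarith
    · have k : ((f j * q : ℕ) : ℝ) ≤ (r * (f j * q / (lo - j) + 1) : ℕ) := Nat.cast_le.2 n3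
      rw [Nat.cast_mul, Nat.cast_mul] at k
      linarith
    · linarith [log_le_of a0 (c := 65536 + p / (lo - j) + 1) (Nat.succ_pos _)]

/-- the bound `X` is verified. -/
def bd (lo hi : ℕ) (d f : ℕ → ℕ) (q X : ℕ) : Bool :=
  Nat.beq (frc (go lo hi d f hi 0 (65536 * (hi * (hi - 1))) (65536 * q) 65536) fun N =>
    bif Nat.ble 1 N && Nat.ble N (65536 * X) then 1 else 0) 1

theorem pairs_le (h2 : Fintype.card W ≤ hi) :
    Fintype.card W * (Fintype.card W - 1) ≤ hi * (hi - 1) := Nat.mul_le_mul h2 (by omega)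

theorem bd_ok (h : Hyp H Qp d f) (h1 : lo ≤ Fintype.card W) (h2 : Fintype.card W ≤ hi) {q : ℕ}
    (hq : QQ Qp ∅ ≤ q) (e : bd lo hi d f q X = true) : Nat.card H ≤ X := by
  simp only [bd, frc_eq, Bool.cond_eq_ite, Bool.and_eq_true, Nat.ble_eq, Nat.beq_eq, ite_eq_left_iff,
    zero_ne_one, imp_false, not_not] at e
  have k := (go_ok h h1 h2 hi 0 _ _ 65536 (by norm_num) (Nat.one_le_iff_ne_zero.1 e.1)).fin
    (by rw [Nat.cast_mul 65536, Nat.cast_ofNat, mul_div_cancel_left₀ _ (by norm_num)]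
        exact Nat.cast_le.2 (pairs_le h2))
    (by rw [Nat.cast_mul 65536, Nat.cast_ofNat, mul_div_cancel_left₀ _ (by norm_num)]
        exact Nat.cast_le.2 hq)
  generalize go lo hi d f hi 0 _ _ 65536 = N at e k
  have N0 : (0 : ℝ) < N := Nat.cast_pos.2 e.1
  rw [← log_div N0.ne' (by norm_num), log_le_log_iff (Nat.cast_pos.2 Nat.card_pos) (by positivity),
    le_div_iff₀ (by norm_num)] at k
  have : Nat.card H * 65536 ≤ N := by exact_mod_cast k
  omega

theorem exA (hp : IsPreprimitive H W) (h2 : ¬ IsMultiplyPretransitive H W 2) {e : ℕ}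
    (k1 : (e - 1) * (3 * (e - 1) - 8) < 4 * (lo - 1)) (k2 : e ≤ lo) (h1 : lo ≤ Fintype.card W) :
    Hyp H (fun (_ : Finset W) _ _ => False) (fun _ => e) fun _ => 0 := by
  refine ⟨fun S x y hxy hS _ => le_trans ?_ (card_le_card (s := {z | z ∉ (∅ : Finset W) ∧
    ¬ So H (insert z ∅) x y}) fun z hz => ?_), fun _ _ _ => by simp⟩
  · change e ≤ sep H ∅ x y
    rcases caseA hp h2 hxy with k | k
    · by_contra k3
      have := Nat.mul_le_mul (show sep H ∅ x y ≤ e - 1 by omega)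
        (show 3 * sep H ∅ x y - 8 ≤ 3 * (e - 1) - 8 by omega)
      omega
    · omega
  · simp only [mem_filter, mem_univ, true_and] at hz ⊢
    exact ⟨fun k => hz.2 (hS.mono (by simpa using k)), fun k => hz.2 (k.mono (by simp))⟩

theorem exB (h2 : IsMultiplyPretransitive H W 2) (a : W)
    (hi : ¬ IsPreprimitive (stabilizer H a) (SubMulAction.ofStabilizer H a)) :
    ∃ b, ∃ Qp : Finset W → W → W → Prop, 2 ≤ b ∧ 2 * b + 1 ≤ Fintype.card W ∧
      QQ Qp ∅ ≤ Fintype.card W * (Fintype.card W - 1) ∧ ∀ d f : ℕ → ℕ,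
        (∀ j D, 2 * b ≤ D → j + 3 ≤ D + b → d j ≤ D) → (∀ j, b - 1 - j ≤ f j) → Hyp H Qp d f := by
  obtain ⟨b, b1, b2, A, h3, h4⟩ := caseB h2 a hi
  refine ⟨b, fun S x y => x ≠ y ∧ S ⊆ A x y, b1, b2, QQ_le fun x e => e.1 rfl, fun d f hd hf =>
    ⟨fun S x y hxy hS k => ?_, fun S x y => ?_⟩⟩
  · obtain ⟨k1, k2⟩ := h4 S x y hxy hS fun e => k ⟨hxy, e⟩
    exact hd _ _ k1 k2
  split_ifs with k
  · refine le_trans (card_le_card (t := A x y \ S) fun z hz => ?_) ?_
    · simp only [mem_filter, mem_univ, true_and, mem_sdiff] at hz ⊢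
      exact ⟨hz.2.2 (mem_insert_self _ _), hz.1⟩
    · rw [card_sdiff_of_subset k.2, h3 x y k.1]; exact hf _
  · exact Nat.le_zero.2 (card_eq_zero.2 (eq_empty_of_forall_notMem fun z hz => by
      simp only [mem_filter, mem_univ, true_and] at hz
      exact k ⟨hz.2.1, (subset_insert _ _).trans hz.2.2⟩))

/-- the separation number in the first case. -/
def fd (lo : ℕ) : ℕ := min lo ((List.range 700).countP fun e => Nat.blt (e * (3 * e - 8)) (4 * (lo - 1)))

/-- the check in the first case. -/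
def chA (lo hi X : ℕ) : Bool :=
  Nat.beq (frc (fd lo) fun e => bif Nat.blt ((e - 1) * (3 * (e - 1) - 8)) (4 * (lo - 1)) &&
    Nat.ble e lo && bd lo hi (fun _ => e) (fun _ => 0) 0 X then 1 else 0) 1

/-- the check in the second case. -/
def chB (lo hi X : ℕ) : Bool :=
  bd lo hi (fun j => 4 + (j + 1 - 4)) (fun j => 1 - j) (hi * (hi - 1)) X &&
    bd lo hi (fun j => 6 + ((2 * j + 8) / 3 - 6)) (fun j => (hi - 1) / 2 - 1 - j) (hi * (hi - 1)) X

theorem chA_ok {m : ℕ} (e : chA lo hi X = true) (h1 : lo ≤ m) (h2 : m ≤ hi) : GA.{u} m X := by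
  intro W H _ _ _ _ _ hm hp hn
  subst hm
  simp only [chA, frc_eq, Bool.cond_eq_ite, Bool.and_eq_true, Nat.ble_eq, Nat.blt_eq, Nat.beq_eq,
    ite_eq_left_iff, zero_ne_one, imp_false, not_not] at e
  exact bd_ok (exA hp hn e.1.1 e.1.2 h1) h1 h2 (by simp [QQ]) e.2

theorem chB_ok {m : ℕ} (e : chB lo hi X = true) (h1 : lo ≤ m) (h2 : m ≤ hi) : GB.{u} m X := by
  intro W H _ _ _ _ _ hm hp a hn
  subst hm
  simp only [chB, Bool.and_eq_true] at e
  obtain ⟨b, Qp, b1, b2, hq, h⟩ := exB hp a hn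
  rcases b1.eq_or_lt with rfl | b3
  · exact bd_ok (h _ _ (fun j D _ _ => by omega) fun j => by omega) h1 h2 (hq.trans (pairs_le h2)) e.1
  · exact bd_ok (h _ _ (fun j D _ _ => by omega) fun j => by omega) h1 h2 (hq.trans (pairs_le h2)) e.2

theorem ph (h : Hyp H Qp d f) (hf : ∀ j, 2 * f j ≤ Fintype.card W - j) {δ : ℕ} {L : ℝ} :
    ∀ (i j : ℕ) (u : ℝ), (∀ l, j ≤ l → δ ≤ d l) → 4 * δ + j + i ≤ Fintype.card W →
      (∀ p q : ℝ, 0 ≤ p → 0 ≤ q → p + q ≤ u * (1 - δ / Fintype.card W) ^ i → Iv H Qp (j + i) p q L) →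
      ∀ p q : ℝ, 0 ≤ p → 0 ≤ q → p + q ≤ u → Iv H Qp j p q (i * log (Fintype.card W) + L) := by
  intro i
  induction i with
  | zero => intro j u _ _ k p q p0 q0 e; simpa using k p q p0 q0 (by simpa using e)
  | succ i ih =>
    intro j u h1 h2 k p q p0 q0 e
    obtain ⟨r, hr⟩ : ∃ r, j + r = Fintype.card W := ⟨Fintype.card W - j, by omega⟩
    have r0 : 0 < r := by omega
    have r1 : (0 : ℝ) < r := Nat.cast_pos.2 r0
    have m0 : (0 : ℝ) < Fintype.card W := Nat.cast_pos.2 (by omega)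
    refine (Iv.step h hr r0 (h1 j le_rfl) m0 (.inr le_rfl)
      (p' := ((r - δ : ℕ) * p + (δ - 2 : ℕ) * q) / r) (q' := f j * q / r)
      (by rw [mul_div_cancel₀ _ r1.ne']) (by rw [mul_div_cancel₀ _ r1.ne'])
      (ih (j + 1) (u * (1 - δ / Fintype.card W)) (fun l hl => h1 l (by omega)) (by omega)
        (fun p q p0 q0 e => by
          rw [add_assoc, add_comm 1]; exact k p q p0 q0 (by rwa [pow_succ', ← mul_assoc]))
        _ _ (by positivity) (by positivity) ?_)).mono (le_of_eq (by push_cast; ring))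
    have k1 : ((δ - 2 : ℕ) : ℝ) + f j ≤ (r - δ : ℕ) := by
      have := hf j
      exact_mod_cast (by omega : δ - 2 + f j ≤ r - δ)
    have k2 : ((r - δ : ℕ) : ℝ) ≤ r * (1 - δ / Fintype.card W) := by
      rw [Nat.cast_sub (by omega), mul_sub, mul_one, sub_le_sub_iff_left, ← mul_div_assoc,
        div_le_iff₀ m0, mul_comm]
      exact mul_le_mul_of_nonneg_left (Nat.cast_le.2 (by omega)) (Nat.cast_nonneg _)
    have k3 : (0 : ℝ) ≤ (r - δ : ℕ) := Nat.cast_nonneg _
    rw [← add_div, div_le_iff₀ r1]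
    nlinarith [mul_le_mul_of_nonneg_right k1 q0, mul_le_mul_of_nonneg_left e k3,
      mul_le_mul_of_nonneg_right k2 (le_trans (add_nonneg p0 q0) e)]

theorem ana (h : Hyp H Qp d f) (hq : QQ Qp ∅ ≤ Fintype.card W * (Fintype.card W - 1))
    (hf : ∀ j, 2 * f j ≤ Fintype.card W - j) {δ J T : ℕ} (δ0 : 0 < δ) (h1 : ∀ l, J ≤ l → δ ≤ d l)
    (h2 : 4 * δ + J + (Fintype.card W / δ + 1) * T ≤ Fintype.card W)
    (h3 : 2 * Fintype.card W ^ 2 ≤ 2 ^ T) :
    Nat.card H ≤ 2 * Fintype.card W ^ (J + (Fintype.card W / δ + 1) * T) := by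
  set m := Fintype.card W with hm
  have m0 : (0 : ℝ) < m := Nat.cast_pos.2 (by omega)
  have ρ0 : (0 : ℝ) ≤ 1 - δ / m := by
    rw [sub_nonneg, div_le_one m0]; exact Nat.cast_le.2 (by omega)
  have k1 : (1 - δ / m : ℝ) ^ (m / δ + 1) ≤ 1 / 2 := by
    refine (pow_le_pow_left₀ ρ0 (one_sub_le_exp_neg _) _).trans ?_
    rw [← exp_nat_mul]
    refine (exp_le_exp.2 (?_ : _ ≤ (-1 : ℝ))).trans (exp_neg_one_lt_d9.le.trans (by norm_num))
    rw [mul_neg, neg_le_neg_iff, ← mul_div_assoc, le_div_iff₀ m0, one_mul, mul_comm]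
    exact_mod_cast le_dv m δ0 le_rfl
  have k2 : (2 * m ^ 2 : ℝ) * (1 - δ / m) ^ ((m / δ + 1) * T) ≤ 1 := by
    rw [pow_mul]
    refine (mul_le_mul (by exact_mod_cast h3 : (2 * m ^ 2 : ℝ) ≤ 2 ^ T)
      (pow_le_pow_left₀ (by positivity) k1 T) (by positivity) (by positivity)).trans ?_
    rw [← mul_pow]; norm_num
  have k3 : ((m * (m - 1) : ℕ) : ℝ) ≤ m ^ 2 := by
    rw [sq]; exact_mod_cast Nat.mul_le_mul_left m (Nat.sub_le m 1)
  have k := (ph h hf (δ := 0) J 0 (2 * m ^ 2) (fun _ _ => Nat.zero_le _) (by omega) (fun p q p0 q0 e =>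
    ph h hf (δ := δ) (L := log 2) ((m / δ + 1) * T) _ (2 * m ^ 2) (fun l hl => h1 l (by omega)) (by omega) (fun p q p0 q0 e =>
      (Iv.tail _ p q).mono (by linarith [log_two_gt_d9])) p q p0 q0 (by simpa using e))
    (m ^ 2) (m ^ 2) (by positivity) (by positivity) (by linarith)).fin k3
    ((Nat.cast_le.2 hq).trans k3)
  rw [← add_assoc, ← add_mul, ← Nat.cast_add, ← log_pow, ← log_mul (by positivity) (by norm_num),
    log_le_log_iff (Nat.cast_pos.2 Nat.card_pos) (by positivity), mul_comm] at k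
  exact_mod_cast k

end H14.PS
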