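import Mathlib
import Cfsg.Prelude.Def_Perm
import Cfsg.Agent.H4.Induce
import Cfsg.Agent.H14.Commutant
import Cfsg.Agent.H14.NormalMT

/-! Permutation characters and orbital matrices. -/

set_option autoImplicit false
set_option linter.unusedSectionVars false

namespace H14

open Cfsg H4 Module LinearMap MulAction
open scoped ComplexConjugate Matrix

theorem isIntegral_inner_trF {G : Type*} [Group G] [Fintype G] {V : Type*} [AddCommGroup V]
    [Module ℂ V] [FiniteDimensional ℂ V] {ρ : Representation ℂ G V} {B : End ℂ V}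
    (hB : ∀ g, Commute B (ρ g)) (hi : IsIntegral ℤ B) {χ : G → ℂ} (hχ : IsCharacter G χ) :
    IsIntegral ℤ (classInner (trF ρ B) χ) := by
  obtain ⟨s, θ, hθ, hs, h⟩ := trace_decomp hB
  have h1 := h 1
  rw [pow_one] at h1
  rw [h1, classInner_sum_left]
  refine IsIntegral.sum _ fun μ hμ => ?_
  obtain ⟨n, hn⟩ := (hθ μ).inner_nat hχ
  rw [classInner_smul_left, hn, pow_one]
  exact (isIntegral_of_hasEigenvalue hi (hs μ hμ)).mul (isIntegral_natCast n)

variable {G : Type*} [Group G] {Ω : Type*} [Fintype Ω] [DecidableEq Ω] [MulAction G Ω]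

/-- matrices as endomorphisms -/
noncomputable abbrev mEnd : Matrix Ω Ω ℂ ≃ₐ[ℂ] End ℂ (Ω → ℂ) := Matrix.toLinAlgEquiv'

theorem mEnd_apply (M : Matrix Ω Ω ℂ) (v : Ω → ℂ) : mEnd M v = M *ᵥ v := rfl

variable (Ω) in
/-- permutation matrix -/
def pMat (g : G) : Matrix Ω Ω ℂ := Matrix.of fun x y => if g • y = x then 1 else 0

theorem permRep_eq (g : G) : permRep ℂ G Ω g = mEnd (pMat Ω g) := by
  refine LinearMap.ext fun v => funext fun x => ?_
  show v (g⁻¹ • x) = ∑ y, (if g • y = x then (1 : ℂ) else 0) * v y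
  simp only [← eq_inv_smul_iff]
  simp

theorem pMat_mul_apply (g : G) (M : Matrix Ω Ω ℂ) (x y : Ω) :
    (pMat Ω g * M) x y = M (g⁻¹ • x) y := by
  simp only [Matrix.mul_apply, pMat, Matrix.of_apply, ← eq_inv_smul_iff]
  simp

theorem mul_pMat_apply (g : G) (M : Matrix Ω Ω ℂ) (x y : Ω) :
    (M * pMat Ω g) x y = M x (g • y) := by
  simp [Matrix.mul_apply, pMat]

theorem trace_mEnd (M : Matrix Ω Ω ℂ) : trace ℂ _ (mEnd M) = M.trace := Matrix.trace_toLin'_eq M

theorem trF_mEnd (M : Matrix Ω Ω ℂ) (g : G) :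
    trF (permRep ℂ G Ω) (mEnd M) g = ∑ x, M (g⁻¹ • x) x := by
  rw [trF_apply, permRep_eq, ← map_mul, trace_mEnd, Matrix.trace]
  simp [pMat_mul_apply]

variable (G) in
/-- invariant matrices -/
def InvM (M : Matrix Ω Ω ℂ) : Prop := ∀ (g : G) x y, M (g • x) (g • y) = M x y

theorem commute_mEnd_iff {M : Matrix Ω Ω ℂ} :
    (∀ g, Commute (mEnd M) (permRep ℂ G Ω g)) ↔ InvM G M := by
  refine forall_congr' fun g => ?_
  rw [permRep_eq, Commute, SemiconjBy, ← map_mul, ← map_mul, mEnd.injective.eq_iff,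
    ← Matrix.ext_iff]
  simp only [pMat_mul_apply, mul_pMat_apply]
  constructor
  · intro h x y; rw [h, inv_smul_smul]
  · intro h x y; rw [← h (g⁻¹ • x), smul_inv_smul]

theorem InvM.commute {M : Matrix Ω Ω ℂ} (h : InvM G M) (g : G) :
    Commute (mEnd M) (permRep ℂ G Ω g) := commute_mEnd_iff.2 h g

theorem InvM.mul {M N : Matrix Ω Ω ℂ} (hM : InvM G M) (hN : InvM G N) : InvM G (M * N) :=
  commute_mEnd_iff.1 fun g => by
    rw [map_mul]; exact (hM.commute g).mul_left (hN.commute g)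

theorem InvM.transpose {M : Matrix Ω Ω ℂ} (hM : InvM G M) : InvM G Mᵀ := fun g x y => hM g y x

variable (G Ω) in
/-- the permutation character -/
noncomputable abbrev permC : G → ℂ := fun g => (Nat.card (fixedBy Ω g) : ℂ)

theorem char_permRep : (permRep ℂ G Ω).character = permC G Ω := by
  funext g
  rw [← trF_one, ← map_one mEnd, trF_mEnd, permC, Nat.card_eq_fintype_card, Fintype.card_subtype]
  simp only [Matrix.one_apply, inv_smul_eq_iff, mem_fixedBy, eq_comm (b := g • _)]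
  simp [eq_comm]

theorem permC_one : permC G Ω 1 = Fintype.card Ω := by
  simp [permC]

open Classical in
variable (G) in
/-- orbital matrix -/
noncomputable def orbM (a b : Ω) : Matrix Ω Ω ℂ :=
  Matrix.of fun x y => if ∃ g : G, g • a = x ∧ g • b = y then 1 else 0

theorem orbM_inv (a b : Ω) : InvM G (orbM G a b) := by
  intro g x y
  simp only [orbM, Matrix.of_apply]
  congr 1
  refine propext ⟨?_, ?_⟩
  · rintro ⟨h, h1, h2⟩
    exact ⟨g⁻¹ * h, by rw [mul_smul, h1, inv_smul_smul], by rw [mul_smul, h2, inv_smul_smul]⟩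
  · rintro ⟨h, h1, h2⟩
    exact ⟨g * h, by rw [mul_smul, h1], by rw [mul_smul, h2]⟩

theorem orbM_of_mem {a b x y : Ω} (h : ∃ g : G, g • a = x ∧ g • b = y) : orbM G a b x y = 1 :=
  if_pos h

theorem orbM_of_not_mem {a b x y : Ω} (h : ¬ ∃ g : G, g • a = x ∧ g • b = y) :
    orbM G a b x y = 0 := if_neg h

theorem orbM_zero_or_one (a b x y : Ω) : orbM G a b x y = 0 ∨ orbM G a b x y = 1 := by
  by_cases h : ∃ g : G, g • a = x ∧ g • b = y
  · exact Or.inr (orbM_of_mem h)
  · exact Or.inl (orbM_of_not_mem h)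

theorem orbM_diag {a b : Ω} (h : b ≠ a) (x : Ω) : orbM G a b x x = 0 :=
  orbM_of_not_mem fun ⟨g, h1, h2⟩ => h (smul_left_cancel g (h2.trans h1.symm))

theorem mem_orbit_stab_iff {a b y : Ω} :
    y ∈ orbit (stabilizer G a) b ↔ ∃ g : G, g • a = a ∧ g • b = y :=
  ⟨fun ⟨g, hg⟩ => ⟨g, g.2, hg⟩, fun ⟨g, h1, h2⟩ => ⟨⟨g, h1⟩, h2⟩⟩

theorem orbM_rowsum [IsPretransitive G Ω] (a b x : Ω) :
    ∑ y, orbM G a b x y = Nat.card (orbit (stabilizer G a) b) := by
  classical
  obtain ⟨g, rfl⟩ := exists_smul_eq G a x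
  rw [← Fintype.sum_equiv (toPerm g) (fun y => orbM G a b a y) _
    (fun y => (orbM_inv a b g a y).symm), Nat.card_eq_fintype_card, Fintype.card_subtype]
  simp [orbM, mem_orbit_stab_iff]

theorem isIntegral_mEnd_of_int {M : Matrix Ω Ω ℂ} (h : ∀ x y, ∃ n : ℤ, M x y = n) :
    IsIntegral ℤ (mEnd M) := by
  choose N hN using h
  have h1 : M = (Int.castRingHom ℂ).mapMatrix (Matrix.of N) := by ext x y; simp [hN]
  have h2 : IsIntegral ℤ (Matrix.of N) := Matrix.isIntegral _
  rw [h1]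
  exact (h2.map (Int.castRingHom ℂ).mapMatrix.toIntAlgHom).map
    (mEnd.toRingEquiv.toRingHom.toIntAlgHom)

theorem isIntegral_orbM (a b : Ω) : IsIntegral ℤ (mEnd (orbM G a b)) :=
  isIntegral_mEnd_of_int fun x y => (orbM_zero_or_one (G := G) a b x y).elim
    (fun h => ⟨0, by simp [h]⟩) fun h => ⟨1, by simp [h]⟩

variable [Fintype G]

theorem inner_permC_one [IsPretransitive G Ω] [Nonempty Ω] :
    classInner (permC G Ω) (fun _ => 1) = 1 := by
  rw [classInner_fixedBy_one, Nat.cast_eq_one, Nat.card_eq_one_iff_unique]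
  exact ⟨⟨fun x y => Quotient.inductionOn₂ x y fun x y => Quotient.sound (exists_smul_eq G y x)⟩,
    ‹Nonempty Ω›.map (Quotient.mk _)⟩

theorem inner_permC_self [IsPretransitive G Ω] (a : Ω) :
    classInner (permC G Ω) (permC G Ω) = Nat.card (orbitRel.Quotient (stabilizer G a) Ω) := by
  classical
  have h := classInner_indFun_right (stabilizer G a) (fun _ => 1)
    (isCharacter_fixedBy (G := G) Ω).classFun
  rw [← fixedBy_eq_indFun Ω a] at h
  exact h.trans (classInner_fixedBy_one (G := stabilizer G a) Ω)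

theorem ev_one [IsPretransitive G Ω] [Nonempty Ω] {M : Matrix Ω Ω ℂ} (hM : InvM G M) {k : ℂ}
    (hk : ∀ x, ∑ y, M x y = k) :
    classInner (trF (permRep ℂ G Ω) (mEnd M)) (fun _ => 1) = k := by
  have h := mul_cIdem_eq_smul (ρ := permRep ℂ G Ω) isIrrCharacter_one
    (by rw [char_permRep, inner_permC_one]) hM.commute
  have h1 : cIdem (permRep ℂ G Ω) (fun _ => 1) (fun _ => 1) = fun _ => 1 := by
    funext x
    have : ∀ g, permRep ℂ G Ω g (fun _ => 1) = fun _ => 1 := fun g => rfl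
    simp [cIdem, this, ← Nat.card_eq_fintype_card, card_ne_zero G]
  obtain ⟨x⟩ := ‹Nonempty Ω›
  have h2 := congrFun (DFunLike.congr_fun h (fun _ => 1)) x
  rw [End.mul_apply, LinearMap.smul_apply, h1, mEnd_apply] at h2
  simpa [Matrix.mulVec, dotProduct, hk] using h2.symm

/-- the matrix of the central idempotent -/
noncomputable def eMat (Ω : Type*) [DecidableEq Ω] [MulAction G Ω] (χ : G → ℂ) : Matrix Ω Ω ℂ :=
  (χ 1 / Nat.card G) • ∑ g, conj (χ g) • pMat Ω g

theorem mEnd_eMat (χ : G → ℂ) : mEnd (eMat Ω χ) = cIdem (permRep ℂ G Ω) χ := by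
  simp [eMat, cIdem, permRep_eq]

theorem eMat_transpose {χ : G → ℂ} (hχ : IsCharacter G χ) :
    (eMat Ω χ)ᵀ = eMat Ω (fun g => conj (χ g)) := by
  rw [eMat, eMat, conj_apply_one hχ, Matrix.transpose_smul, Matrix.transpose_sum]
  congr 1
  refine Fintype.sum_equiv (Equiv.inv G) _ _ fun g => ?_
  rw [Matrix.transpose_smul, Equiv.inv_apply, hχ.apply_inv, Complex.conj_conj]
  congr 1
  ext x y
  simp only [pMat, Matrix.transpose_apply, Matrix.of_apply, inv_smul_eq_iff, eq_comm (a := y)]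

theorem subdegree_dvd [IsPretransitive G Ω] (f : ℕ) (hf : ∀ χ : G → ℂ, IsIrrCharacter G χ →
    χ ≠ (fun _ => 1) → classInner (permC G Ω) χ ≠ 0 → ∃ m : ℕ, χ 1 = (f : ℂ) * m) (a b : Ω)
    (hab : b ≠ a) : f ∣ Nat.card (orbit (stabilizer G a) b) := by
  classical
  have : Nonempty Ω := ⟨a⟩
  have hB := (orbM_inv (G := G) a b).commute
  have h1 := (trF_classFun hB).apply_eq_sum 1
  rw [trF_apply_one, trace_mEnd, Matrix.trace, ← Finset.add_sum_erase _ _
    (Finset.mem_univ (irrOne G)), irrOne_coe, ev_one (orbM_inv a b) (orbM_rowsum a b)] at h1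
  simp only [Matrix.diag_apply, orbM_diag hab, Finset.sum_const_zero, mul_one] at h1
  have h2 : ∀ χ ∈ Finset.univ.erase (irrOne G), ∃ c, IsIntegral ℤ c ∧
      classInner (trF (permRep ℂ G Ω) (mEnd (orbM G a b))) χ * (χ : G → ℂ) 1 = f * c := by
    intro χ hχ
    by_cases h0 : classInner (permC G Ω) χ = 0
    · refine ⟨0, isIntegral_zero, ?_⟩
      rw [inner_trF_eq_zero χ.2 (by rwa [char_permRep]), zero_mul, mul_zero]
    · obtain ⟨m, hm⟩ := hf χ χ.2 (fun h => Finset.ne_of_mem_erase hχ (Subtype.ext h)) h0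
      exact ⟨_, (isIntegral_inner_trF hB (isIntegral_orbM a b) χ.2.isCharacter).mul
        (isIntegral_natCast m), by rw [hm]; ring⟩
  choose! c hc hc' using h2
  rw [Finset.sum_congr rfl hc', ← Finset.mul_sum] at h1
  rcases Nat.eq_zero_or_pos f with rfl | hf0
  · simp only [Nat.cast_zero, zero_mul, add_zero] at h1
    rw [Nat.cast_eq_zero.1 h1.symm]
  refine nat_dvd_of_isIntegral_div hf0.ne' ?_
  have : (f : ℂ) ≠ 0 := Nat.cast_ne_zero.2 hf0.ne'
  rw [eq_neg_of_add_eq_zero_left h1.symm, neg_div, mul_div_cancel_left₀ _ this]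
  exact (IsIntegral.sum _ hc).neg

theorem card_eq_sum_orbits {H : Type*} [Group H] [MulAction H Ω]
    [Fintype (orbitRel.Quotient H Ω)] :
    Fintype.card Ω = ∑ q : orbitRel.Quotient H Ω, Nat.card q.orbit := by
  rw [← Nat.card_eq_fintype_card, Nat.card_congr (selfEquivSigmaOrbits' H Ω), Nat.card_sigma]

theorem orbit_stab_self (a : Ω) : orbit (stabilizer G a) a = {a} := by
  ext x
  rw [mem_orbit_stab_iff, Set.mem_singleton_iff]
  exact ⟨fun ⟨g, h1, h2⟩ => h2.symm.trans h1, fun h => ⟨1, one_smul _ _, by rw [h, one_smul]⟩⟩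

theorem multFree_of_same_degree [IsPretransitive G Ω] (a : Ω) (f : ℕ)
    (hf : ∀ χ : G → ℂ, IsIrrCharacter G χ → χ ≠ (fun _ => 1) → classInner (permC G Ω) χ ≠ 0 →
      χ 1 = f) :
    (∀ χ : G → ℂ, IsIrrCharacter G χ → classInner (permC G Ω) χ = 0 ∨
      classInner (permC G Ω) χ = 1) ∧
      ∀ b : Ω, b ≠ a → Nat.card (orbit (stabilizer G a) b) = f := by
  classical
  have : Nonempty Ω := ⟨a⟩
  have hπ := isCharacter_fixedBy (G := G) Ω
  choose m hm using fun χ : IrrCharacter G => hπ.inner_nat χ.2.isCharacter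
  have hm1 : m (irrOne G) = 1 := by
    have := hm (irrOne G)
    rw [irrOne_coe, inner_permC_one] at this
    exact_mod_cast this.symm
  set T := Finset.univ.erase (irrOne G)
  have h1 : Fintype.card Ω = 1 + f * ∑ χ ∈ T, m χ := by
    have := hπ.classFun.apply_eq_sum 1
    rw [← Finset.add_sum_erase _ _ (Finset.mem_univ (irrOne G)), hm, hm1,
      Finset.sum_congr rfl (g := fun χ => (f : ℂ) * m χ) (fun χ hχ => by
        by_cases h0 : classInner (permC G Ω) χ = 0
        · rw [h0, ← hm, h0, zero_mul, mul_zero]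
        · rw [hf χ χ.2 (fun h => Finset.ne_of_mem_erase hχ (Subtype.ext h)) h0, hm, mul_comm]),
      ← Finset.mul_sum] at this
    have h := (permC_one (G := G) (Ω := Ω)).symm.trans this
    simp only [irrOne_apply, Nat.cast_one, mul_one] at h
    exact_mod_cast h
  have := Fintype.ofFinite (orbitRel.Quotient (stabilizer G a) Ω)
  have h2 : Fintype.card (orbitRel.Quotient (stabilizer G a) Ω) = 1 + ∑ χ ∈ T, m χ * m χ := by
    have h := hπ.classFun.inner_eq_sum (permC G Ω)
    rw [inner_permC_self a, ← Finset.add_sum_erase _ _ (Finset.mem_univ (irrOne G)),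
      Nat.card_eq_fintype_card] at h
    simp only [hm, hm1, map_natCast, Nat.cast_one, map_one, mul_one] at h
    exact_mod_cast h
  let q₀ : orbitRel.Quotient (stabilizer G a) Ω := Quotient.mk _ a
  have h3 := card_eq_sum_orbits (H := stabilizer G a) (Ω := Ω)
  rw [← Finset.add_sum_erase _ _ (Finset.mem_univ q₀), orbitRel.Quotient.orbit_mk,
    orbit_stab_self] at h3
  simp only [Nat.card_unique] at h3
  have hne : ∀ b, b ≠ a → Quotient.mk _ b ∈ Finset.univ.erase q₀ := fun b hb =>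
    Finset.mem_erase.2 ⟨fun h => hb (by
      have : b ∈ orbit (stabilizer G a) a := Quotient.exact h
      rwa [orbit_stab_self] at this), Finset.mem_univ _⟩
  have h4 : ∀ q ∈ Finset.univ.erase q₀, f ≤ Nat.card q.orbit := by
    intro q hq
    induction q using Quotient.inductionOn with | _ b => ?_
    have : Nonempty (orbit (stabilizer G a) b) := ⟨⟨b, mem_orbit_self b⟩⟩
    show f ≤ Nat.card (orbit (stabilizer G a) b)
    exact Nat.le_of_dvd Nat.card_pos (subdegree_dvd f (fun χ h h' h'' => ⟨1, by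
      rw [hf χ h h' h'', Nat.cast_one, mul_one]⟩) a b
      (fun h => Finset.ne_of_mem_erase hq (by rw [h])))
  have h5 := Finset.sum_le_sum h4
  rw [Finset.sum_const, Finset.card_erase_of_mem (Finset.mem_univ _), Finset.card_univ, h2,
    smul_eq_mul, Nat.add_sub_cancel_left] at h5
  have h6 : ∀ χ ∈ T, m χ ≤ m χ * m χ := fun χ _ => Nat.le_mul_self _
  have h7 := Finset.sum_le_sum h6
  have h8 : f * ∑ χ ∈ T, m χ ≤ (∑ χ ∈ T, m χ * m χ) * f := by
    rw [mul_comm]; exact Nat.mul_le_mul_right _ h7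
  constructor
  · intro χ hχ
    by_cases h0 : classInner (permC G Ω) χ = 0
    · exact Or.inl h0
    by_cases h01 : χ = fun _ => 1
    · rw [h01]; exact Or.inr inner_permC_one
    have hf0 : 0 < f := Nat.pos_of_ne_zero fun h =>
      hχ.apply_one_ne_zero (by rw [hf χ hχ h01 h0, h, Nat.cast_zero])
    have h9 : ∑ χ ∈ T, m χ = ∑ χ ∈ T, m χ * m χ :=
      Nat.eq_of_mul_eq_mul_left hf0 (by rw [mul_comm f (∑ χ ∈ T, m χ * m χ)]; omega)
    have h10 := (Finset.sum_eq_sum_iff_of_le h6).1 h9 ⟨χ, hχ⟩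
      (Finset.mem_erase.2 ⟨fun h => h01 (congrArg Subtype.val h), Finset.mem_univ _⟩)
    have h11 : classInner (permC G Ω) χ = m ⟨χ, hχ⟩ := hm ⟨χ, hχ⟩
    rw [h11] at h0 ⊢
    right
    rw [Nat.cast_eq_one]
    exact (Nat.mul_eq_left (by exact_mod_cast h0)).1 h10.symm
  · intro b hb
    refine ((Finset.sum_eq_sum_iff_of_le h4).1 ?_ _ (hne b hb)).symm
    rw [Finset.sum_const, Finset.card_erase_of_mem (Finset.mem_univ _), Finset.card_univ, h2,
      smul_eq_mul, Nat.add_sub_cancel_left]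
    omega

theorem multFree_of_rank_le_five [IsPretransitive G Ω] (a : Ω)
    (hr : Nat.card (orbitRel.Quotient (stabilizer G a) Ω) ≤ 5) (χ : G → ℂ)
    (hχ : IsIrrCharacter G χ) :
    classInner (permC G Ω) χ = 0 ∨ classInner (permC G Ω) χ = 1 := by
  classical
  have : Nonempty Ω := ⟨a⟩
  have hπ := isCharacter_fixedBy (G := G) Ω
  choose m hm using fun χ : IrrCharacter G => hπ.inner_nat χ.2.isCharacter
  have hm1 : m (irrOne G) = 1 := by
    have := hm (irrOne G)
    rw [irrOne_coe, inner_permC_one] at this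
    exact_mod_cast this.symm
  have h2 : Nat.card (orbitRel.Quotient (stabilizer G a) Ω) = ∑ χ, m χ * m χ := by
    have h := hπ.classFun.inner_eq_sum (permC G Ω)
    rw [inner_permC_self a] at h
    simp only [hm, map_natCast] at h
    exact_mod_cast h
  by_contra hcon
  have h11 : classInner (permC G Ω) χ = m ⟨χ, hχ⟩ := hm ⟨χ, hχ⟩
  have h3 : 2 ≤ m ⟨χ, hχ⟩ := by
    rw [h11] at hcon
    norm_cast at hcon
    omega
  obtain ⟨f, -, hf⟩ := hχ.exists_nat_apply_one
  refine hcon ((multFree_of_same_degree a f fun ψ hψ h1 h0 => ?_).1 χ hχ)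
  by_contra hne
  have h12 : classInner (permC G Ω) ψ = m ⟨ψ, hψ⟩ := hm ⟨ψ, hψ⟩
  have h4 : m ⟨ψ, hψ⟩ ≠ 0 := by rw [h12] at h0; exact_mod_cast h0
  have n1 : (⟨χ, hχ⟩ : IrrCharacter G) ≠ irrOne G := fun h => by rw [h] at h3; omega
  have n2 : (⟨ψ, hψ⟩ : IrrCharacter G) ≠ irrOne G := fun h => h1 (congrArg Subtype.val h)
  have n3 : (⟨χ, hχ⟩ : IrrCharacter G) ≠ ⟨ψ, hψ⟩ := fun h => hne (by
    rw [← hf]; exact (congrFun (congrArg Subtype.val h) 1).symm)
  have h5 := Finset.sum_le_sum_of_subset (f := fun χ => m χ * m χ)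
    (Finset.subset_univ {⟨χ, hχ⟩, ⟨ψ, hψ⟩, irrOne G})
  rw [Finset.sum_insert (by simp [n1, n3]), Finset.sum_pair n2, hm1] at h5
  have := Nat.mul_le_mul h3 h3
  have := Nat.mul_pos (Nat.pos_of_ne_zero h4) (Nat.pos_of_ne_zero h4)
  omega

theorem symm_of_multFree_real (h : ∀ χ : G → ℂ, IsIrrCharacter G χ →
    classInner (permC G Ω) χ ≠ 0 → classInner (permC G Ω) χ = 1 ∧ ∀ g : G, conj (χ g) = χ g)
    {M : Matrix Ω Ω ℂ} (hM : InvM G M) : Mᵀ = M := by
  have h1 := mem_span_cIdem (ρ := permRep ℂ G Ω) (fun χ hχ => by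
    rw [char_permRep]
    exact (em _).imp id fun h0 => (h χ hχ h0).1) hM.commute
  have h2 : ∀ S ∈ Submodule.span ℂ {E | ∃ χ, IsIrrCharacter G χ ∧
      classInner (permRep ℂ G Ω).character χ = 1 ∧ E = cIdem (permRep ℂ G Ω) χ},
      (mEnd.symm S)ᵀ = mEnd.symm S := by
    intro S hS
    induction hS using Submodule.span_induction with
    | mem x hx =>
      obtain ⟨χ, hχ, h1, rfl⟩ := hx
      rw [← mEnd_eMat, AlgEquiv.symm_apply_apply, eMat_transpose hχ.isCharacter,
        funext (h χ hχ (by rw [← char_permRep, h1]; exact one_ne_zero)).2]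
    | zero => simp
    | add x y _ _ hx hy => rw [map_add, Matrix.transpose_add, hx, hy]
    | smul a x _ hx => rw [map_smul, Matrix.transpose_smul, hx]
  simpa using h2 _ h1

theorem gen_trans_iff [IsPretransitive G Ω] : (∀ a b : Ω, ∃ g : G, g • a = b ∧ g • b = a) ↔
    ∀ χ : G → ℂ, IsIrrCharacter G χ → classInner (permC G Ω) χ ≠ 0 →
      classInner (permC G Ω) χ = 1 ∧ ∀ g : G, conj (χ g) = χ g := by
  constructor
  · intro h χ hχ h0
    have hs : ∀ M : Matrix Ω Ω ℂ, InvM G M → Mᵀ = M := fun M hM => by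
      ext x y
      obtain ⟨g, h1, h2⟩ := h x y
      rw [Matrix.transpose_apply, ← hM g x y, h1, h2]
    have h1 : classInner (permC G Ω) χ = 1 := by
      have := multFree_of_comm (ρ := permRep ℂ G Ω) (fun S T hS hT => by
        obtain ⟨M, rfl⟩ := mEnd.surjective S
        obtain ⟨N, rfl⟩ := mEnd.surjective T
        rw [commute_mEnd_iff] at hS hT
        rw [Commute, SemiconjBy, ← map_mul, ← map_mul, ← hs _ (hS.mul hT), Matrix.transpose_mul,
          hs _ hS, hs _ hT]) hχ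
      rw [char_permRep] at this
      exact this.resolve_left h0
    refine ⟨h1, ?_⟩
    have h2 : cIdem (permRep ℂ G Ω) (fun g => conj (χ g)) = cIdem (permRep ℂ G Ω) χ := by
      rw [← mEnd_eMat, ← mEnd_eMat, ← eMat_transpose hχ.isCharacter, hs]
      rw [← commute_mEnd_iff, mEnd_eMat]
      exact cIdem_commute hχ.classFun
    have h3 := trF_cIdem (ρ := permRep ℂ G Ω) hχ.conj
    rw [h2, trF_cIdem hχ, char_permRep, h1, one_smul] at h3
    have h4 := congrFun h3 1
    rw [Pi.smul_apply, conj_apply_one hχ.isCharacter, smul_eq_mul,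
      eq_comm, mul_eq_right₀ hχ.apply_one_ne_zero] at h4
    rw [h4, one_smul] at h3
    exact fun g => (congrFun h3 g).symm
  · intro h a b
    by_contra hcon
    have h1 := congrFun (congrFun (symm_of_multFree_real h (orbM_inv a b)) a) b
    rw [Matrix.transpose_apply, orbM_of_not_mem hcon,
      orbM_of_mem ⟨1, one_smul _ _, one_smul _ _⟩] at h1
    exact zero_ne_one h1

end H14
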