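import Mathlib

/-! Certificates for matrix groups acting regularly on the non-zero vectors of a plane. -/

set_option autoImplicit false

namespace H14

open Matrix Subgroup

theorem regular_of_cert {F : Type*} [Field F] (S : Set (GL (Fin 2) F))
    (m : (Fin 2 → F) → (Fin 2 → F)) (rk : (Fin 2 → F) → ℕ) (h0 : m ![1, 0] = ![0, 1])
    (h1 : ∀ A ∈ S, ∀ v, v ≠ 0 → m ((A : Matrix (Fin 2) (Fin 2) F) *ᵥ v) =
      (A : Matrix (Fin 2) (Fin 2) F) *ᵥ m v)
    (h2 : ∀ v, v ≠ 0 → v ≠ ![1, 0] →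
      ∃ A ∈ S, rk ((A : Matrix (Fin 2) (Fin 2) F) *ᵥ v) < rk v) :
    Nat.card (closure S) = Nat.card F ^ 2 - 1 ∧ ∀ v w : Fin 2 → F, v ≠ 0 → w ≠ 0 →
      ∃! h : closure S, ((h : GL (Fin 2) F) : Matrix (Fin 2) (Fin 2) F) *ᵥ v = w := by
  have hsm : ∀ (A : GL (Fin 2) F) (v : Fin 2 → F),
      (A : Matrix (Fin 2) (Fin 2) F) *ᵥ v = A • v := fun _ _ => rfl
  simp only [hsm] at h1 h2 ⊢
  have he : (![1, 0] : Fin 2 → F) ≠ 0 := fun h => one_ne_zero (congrFun h 0)
  have hn0 : ∀ (g : GL (Fin 2) F) {v : Fin 2 → F}, v ≠ 0 → g • v ≠ 0 := fun g v hv =>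
    (smul_ne_zero_iff_ne g).2 hv
  have ha : ∀ g ∈ closure S, m (g • ![1, 0]) = g • ![0, 1] := by
    intro g hg
    induction hg using closure_induction_left with
    | one => simpa using h0
    | mul_left x hx y _ ih => rw [mul_smul, h1 x hx _ (hn0 _ he), ih, mul_smul]
    | inv_mul_cancel x hx y _ ih =>
      rw [mul_smul, mul_smul, eq_inv_smul_iff, ← h1 x hx _ (hn0 _ (hn0 _ he)), smul_inv_smul, ih]
  have hb : ∀ (n : ℕ) (v : Fin 2 → F), v ≠ 0 → rk v = n → ∃ g ∈ closure S, g • v = ![1, 0] := by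
    intro n
    induction n using Nat.strong_induction_on with | _ n ih => ?_
    intro v hv hn
    by_cases h : v = ![1, 0]
    · exact ⟨1, one_mem _, by rw [h, one_smul]⟩
    obtain ⟨A, hA, hlt⟩ := h2 v hv h
    obtain ⟨g, hg, hgv⟩ := ih _ (hn ▸ hlt) (A • v) (hn0 _ hv) rfl
    exact ⟨g * A, mul_mem hg (subset_closure hA), by rw [mul_smul, hgv]⟩
  have hc : ∀ g ∈ closure S, g • (![1, 0] : Fin 2 → F) = ![1, 0] → g = 1 := by
    intro g hg h
    have h3 := ha g hg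
    rw [h, h0] at h3
    ext i j
    have h4 := congrFun h i
    have h5 := congrFun h3 i
    rw [← hsm] at h4 h5
    simp only [mulVec, dotProduct, Fin.sum_univ_two, cons_val_zero, cons_val_one, mul_one,
      mul_zero, add_zero, zero_add] at h4 h5
    fin_cases j
    · exact h4.trans (by fin_cases i <;> rfl)
    · exact h5.symm.trans (by fin_cases i <;> rfl)
  have hd : ∀ v w : Fin 2 → F, v ≠ 0 → w ≠ 0 →
      ∃! h : closure S, (h : GL (Fin 2) F) • v = w := by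
    intro v w hv hw
    obtain ⟨g, hg, hgv⟩ := hb _ v hv rfl
    obtain ⟨k, hk, hkw⟩ := hb _ w hw rfl
    refine ⟨⟨k⁻¹ * g, mul_mem (inv_mem hk) hg⟩, by
      show (k⁻¹ * g) • v = w
      rw [mul_smul, hgv, inv_smul_eq_iff, hkw], ?_⟩
    rintro ⟨u, hu⟩ huv
    have := hc (k * u * g⁻¹) (mul_mem (mul_mem hk hu) (inv_mem hg)) (by
      rw [← hgv, mul_smul, inv_smul_smul, mul_smul, show u • v = w from huv, hkw, hgv])
    refine Subtype.ext ?_
    show u = k⁻¹ * g
    rw [eq_inv_mul_iff_mul_eq, ← mul_inv_eq_one, this]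
  refine ⟨?_, hd⟩
  have hbij : Function.Bijective fun h : closure S =>
      (⟨(h : GL (Fin 2) F) • ![1, 0], hn0 _ he⟩ : ({0}ᶜ : Set (Fin 2 → F))) := by
    refine ⟨fun g k hgk => ?_, fun w => ?_⟩
    · exact (hd ![1, 0] _ he (hn0 _ he)).unique (congrArg Subtype.val hgk) rfl
    · obtain ⟨g, hg, -⟩ := hd ![1, 0] w he w.2
      exact ⟨g, Subtype.ext hg⟩
  rw [Nat.card_eq_of_bijective _ hbij]
  by_cases hF : Finite F
  · rw [Nat.card_coe_set_eq, Set.ncard_compl, Set.ncard_singleton, Nat.card_fun]; simp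
  · rw [not_finite_iff_infinite] at hF
    have : Infinite ({0}ᶜ : Set (Fin 2 → F)) := (Set.finite_singleton _).infinite_compl.to_subtype
    rw [Nat.card_eq_zero_of_infinite]; simp

/-- table lookup -/
def tab (p T w : ℕ) (x y : ZMod p) : ℕ := (T >>> (w * (x.val * p + y.val))) % 2 ^ w

/-- one generator respects the table of second columns -/
def genOK (p : ℕ) (T₁ T₂ w : ℕ) (a b c d : ZMod p) : Prop := ∀ x y : ZMod p,
  (tab p T₁ w (a * x + b * y) (c * x + d * y) : ZMod p) = a * tab p T₁ w x y + b * tab p T₂ w x y ∧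
  (tab p T₂ w (a * x + b * y) (c * x + d * y) : ZMod p) = c * tab p T₁ w x y + d * tab p T₂ w x y

instance instDecGenOK (p : ℕ) [NeZero p] (T₁ T₂ w : ℕ) (a b c d : ZMod p) :
    Decidable (genOK p T₁ T₂ w a b c d) := by unfold genOK; infer_instance

theorem mulVec_two {F : Type*} [CommRing F] (a b c d : F) (v : Fin 2 → F) :
    !![a, b; c, d] *ᵥ v = ![a * v 0 + b * v 1, c * v 0 + d * v 1] := by
  ext i; fin_cases i <;> simp [mulVec, dotProduct]

theorem genOK.apply {p T₁ T₂ w : ℕ} {a b c d : ZMod p} (h : genOK p T₁ T₂ w a b c d)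
    (v : Fin 2 → ZMod p) :
    (fun v : Fin 2 → ZMod p => (![tab p T₁ w (v 0) (v 1), tab p T₂ w (v 0) (v 1)] :
      Fin 2 → ZMod p)) (!![a, b; c, d] *ᵥ v) = !![a, b; c, d] *ᵥ
      (fun v : Fin 2 → ZMod p => (![tab p T₁ w (v 0) (v 1), tab p T₂ w (v 0) (v 1)] :
      Fin 2 → ZMod p)) v := by
  simp only [mulVec_two, cons_val_zero, cons_val_one]
  rw [(h _ _).1, (h _ _).2]

theorem vec_ne_iff {F : Type*} (v : Fin 2 → F) (a b : F) :
    v = ![a, b] ↔ v 0 = a ∧ v 1 = b := by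
  refine ⟨fun h => by simp [h], fun h => ?_⟩
  ext i; fin_cases i <;> simp [h.1, h.2]

end H14
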