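import Mathlib
import Cfsg.Agent.H14.SmallAut
import Cfsg.Agent.H14.SemiLin
import Cfsg.Agent.H14.MinNorm

/-! Linear groups regular on non-zero vectors. -/

set_option autoImplicit false
set_option linter.unusedSectionVars false

namespace H14

open Subgroup Module
open scoped IsMulCommutative

variable {p : ℕ} [hp : Fact p.Prime] {V : Type*} [AddCommGroup V] [Module (ZMod p) V] [Finite V]
  {H : Type*} [Group H]

/-- regular on non-zero vectors -/
structure Reg (ρ : Representation (ZMod p) H V) : Prop where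
  inj : Function.Injective ρ
  reg : ∀ v w, v ≠ 0 → w ≠ 0 → ∃! h, ρ h v = w

/-- the natural representation of a linear group -/
def natRep (L : Subgroup (V ≃ₗ[ZMod p] V)) : Representation (ZMod p) L V :=
  LinearEquiv.automorphismGroup.toLinearMapMonoidHom.comp L.subtype

theorem reg_natRep (L : Subgroup (V ≃ₗ[ZMod p] V))
    (hreg : ∀ v w : V, v ≠ 0 → w ≠ 0 → ∃! h : L, (h : V ≃ₗ[ZMod p] V) v = w) : Reg (natRep L) :=
  ⟨fun _ _ h => Subtype.ext (LinearEquiv.toLinearMap_injective h), hreg⟩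

/-- no irreducible cyclic normal subgroup -/
def NoIrr (ρ : Representation (ZMod p) H V) : Prop :=
  ∀ A : Subgroup H, A.Normal → IsCyclic A →
    ∃ W : Submodule (ZMod p) V, W ≠ ⊥ ∧ W ≠ ⊤ ∧ ∀ a ∈ A, ∀ v ∈ W, ρ a v ∈ W

variable {ρ : Representation (ZMod p) H V}

theorem NoIrr.nontrivial (h : NoIrr ρ) : Nontrivial V := by
  obtain ⟨W, h1, -⟩ := h ⊥ inferInstance inferInstance
  obtain ⟨w, -, hw⟩ := (Submodule.ne_bot_iff W).1 h1
  exact ⟨w, 0, hw⟩

theorem exists_max_abelian [Finite H] (M : Subgroup H) : ∃ A : Subgroup H, A.Normal ∧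
    IsMulCommutative A ∧ A ≤ M ∧
    ∀ B : Subgroup H, B.Normal → IsMulCommutative B → A ≤ B → B ≤ M → B = A := by
  obtain ⟨A, hA, hmax⟩ := Set.Finite.exists_maximal (Set.toFinite
    {A : Subgroup H | A.Normal ∧ IsMulCommutative A ∧ A ≤ M}) ⟨⊥, inferInstance, inferInstance, bot_le⟩
  exact ⟨A, hA.1, hA.2.1, hA.2.2, fun B h1 h2 h3 h4 => le_antisymm (hmax ⟨h1, h2, h4⟩ h3) h3⟩

theorem exists_min_nonabelian [Finite H] {M : Subgroup H} [hM : M.Normal] (h : ¬ IsMulCommutative M) :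
    ∃ N : Subgroup H, N.Normal ∧ N ≤ M ∧ ¬ IsMulCommutative N ∧
    ∀ B : Subgroup H, B.Normal → B ≤ N → ¬ IsMulCommutative B → B = N := by
  obtain ⟨A, hA, hmin⟩ := Set.Finite.exists_minimal (Set.toFinite
    {A : Subgroup H | A.Normal ∧ A ≤ M ∧ ¬ IsMulCommutative A}) ⟨M, hM, le_rfl, h⟩
  exact ⟨A, hA.1, hA.2.1, hA.2.2, fun B h1 h2 h3 =>
    le_antisymm h2 (hmin ⟨h1, h2.trans hA.2.1, h3⟩ h2)⟩

theorem isMulCommutative_sup {A B : Subgroup H} [hA : IsMulCommutative A] [hB : IsMulCommutative B]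
    (h : B ≤ centralizer (A : Set H)) : IsMulCommutative ↥(A ⊔ B) := by
  rw [← le_centralizer_iff_isMulCommutative, sup_le_iff, le_centralizer_iff,
    le_centralizer_iff (H := B), sup_le_iff, sup_le_iff, le_centralizer_iff_isMulCommutative,
    le_centralizer_iff_isMulCommutative]
  exact ⟨⟨hA, h⟩, le_centralizer_iff.1 h, hB⟩

theorem Fpf.min_iso [Finite H] (h : Fpf H) {M A N : Subgroup H} [A.Normal] [IsMulCommutative A]
    (hAM : A ≤ M) (hmax : ∀ B : Subgroup H, B.Normal → IsMulCommutative B → A ≤ B → B ≤ M → B = A)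
    [N.Normal] (hNM : N ≤ M) (hN : N ≤ centralizer (A : Set H)) (hna : ¬ IsMulCommutative N)
    (hmin : ∀ B : Subgroup H, B.Normal → B ≤ N → ¬ IsMulCommutative B → B = N) :
    Nonempty (N ≃* QuaternionGroup 2) ∨ Nonempty (N ≃* SL25) :=
  h.minimal_nonabelian hna fun B _ hB => by
    have : IsMulCommutative B := by_contra fun hc => hB.ne (hmin B ‹_› hB.le hc)
    have := hmax (A ⊔ B) inferInstance (isMulCommutative_sup (hB.le.trans hN)) le_sup_left
      (sup_le hAM (hB.le.trans hNM))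
    exact (le_sup_right.trans this.le).trans (le_centralizer_iff.1 hN)

theorem exists_four {N : Type*} [Group N]
    (h : Nonempty (N ≃* QuaternionGroup 2) ∨ Nonempty (N ≃* SL25)) :
    ∃ x y : N, orderOf x = 4 ∧ orderOf y = 4 ∧ ¬ Commute x y := by
  have key : ∀ {Q : Type} [Group Q], (∃ x y : Q, orderOf x = 4 ∧ orderOf y = 4 ∧ ¬ Commute x y) →
      Nonempty (N ≃* Q) → ∃ x y : N, orderOf x = 4 ∧ orderOf y = 4 ∧ ¬ Commute x y :=
    fun ⟨x, y, h1, h2, h3⟩ ⟨e⟩ => ⟨e.symm x, e.symm y, by rw [MulEquiv.orderOf_eq, h1],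
      by rw [MulEquiv.orderOf_eq, h2], fun h => h3 (by simpa using h.map e)⟩
  exact h.elim (key q8_four) (key sl25_four)

theorem Fpf.inf_eq [Finite H] (h : Fpf H) {M A N : Subgroup H} [A.Normal] [IsMulCommutative A]
    [N.Normal] (hNM : centralizer (N : Set H) ≤ M)
    (hmax : ∀ B : Subgroup H, B.Normal → IsMulCommutative B → A ≤ B → B ≤ M → B = A)
    (hN : N ≤ centralizer (A : Set H))
    (h4 : Nonempty (N ≃* QuaternionGroup 2) ∨ Nonempty (N ≃* SL25)) :
    centralizer (A : Set H) ⊓ centralizer (N : Set H) = A := by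
  have hA : A ≤ centralizer (N : Set H) := le_centralizer_iff.1 hN
  by_cases hc : IsMulCommutative ↥(centralizer (A : Set H) ⊓ centralizer (N : Set H))
  · exact hmax _ inferInstance hc (le_inf (le_centralizer A) hA) (inf_le_right.trans hNM)
  obtain ⟨L, _, h1, h2, h3⟩ := exists_min_nonabelian hc
  obtain ⟨x, -, hx, -⟩ := exists_four (h.min_iso (hA.trans hNM) hmax
    ((h1.trans inf_le_right).trans hNM) (h1.trans inf_le_left) h2 h3)
  exact absurd ((Subgroup.orderOf_coe x).trans hx)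
    (h.not_centralizer (MulEquiv.refl N) (exists_four h4) (h1 x.2).2)

theorem lt_pow_of_le {b c k₀ k : ℕ} (hb : 2 ≤ b) (h0 : c * k₀ < b ^ k₀) (hk0 : 1 ≤ k₀)
    (hk : k₀ ≤ k) : c * k < b ^ k := by
  induction k, hk using Nat.le_induction with
  | base => exact h0
  | succ k hk ih => rw [pow_succ]; nlinarith [Nat.mul_le_mul_left c (hk0.trans hk)]

theorem geom_eq {q d : ℕ} (hq : 1 ≤ q) : q ^ d - 1 = (∑ i ∈ Finset.range d, q ^ i) * (q - 1) := by
  obtain ⟨r, rfl⟩ : ∃ r, q = r + 1 := ⟨q - 1, by omega⟩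
  rw [← geom_sum_mul_add r d]; simp

theorem arith_core {p k d c n : ℕ} (hp : 3 ≤ p) (hk : 0 < k) (hd : 2 ≤ d) (hn : 0 < n)
    (h : (∑ i ∈ Finset.range d, (p ^ k) ^ i) ∣ n) :
    (d = 2 ∧ p ^ k + 1 ∣ n) ∨ (d = 3 ∧ (p ^ k) ^ 2 + p ^ k + 1 ∣ n) ∨ (p ^ k) ^ 3 < n := by
  rcases (by omega : d = 2 ∨ d = 3 ∨ 4 ≤ d) with rfl | rfl | h4
  · left; simpa [Finset.sum_range_succ, add_comm] using h
  · right; left
    refine ⟨rfl, ?_⟩
    convert h using 1
    simp [Finset.sum_range_succ]; ring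
  · right; right
    refine lt_of_lt_of_le ?_ ((Finset.sum_le_sum_of_subset (Finset.range_mono h4)).trans
      (Nat.le_of_dvd hn h))
    simp [Finset.sum_range_succ]

theorem arith_q8 {p k d : ℕ} (hp : p.Prime) (hp2 : p ≠ 2) (hk : 0 < k) (hd : 2 ≤ d)
    (h : (∑ i ∈ Finset.range d, (p ^ k) ^ i) ∣ 24 * k) :
    k = 1 ∧ d = 2 ∧ (p = 3 ∨ p = 5 ∨ p = 7 ∨ p = 11 ∨ p = 23) := by
  have h3 : 3 ≤ p := by have := hp.two_le; omega
  have hq : 3 ^ k ≤ p ^ k := Nat.pow_le_pow_left h3 k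
  have hq1 : p ≤ p ^ k := Nat.le_self_pow hk.ne' p
  have hcore := arith_core (c := 0) h3 hk hd (by omega) h
  have hlt : p ^ k < 24 * k := by
    rcases hcore with ⟨-, h⟩ | ⟨-, h⟩ | h
    · exact Nat.le_of_dvd (by omega) h
    · have := Nat.le_of_dvd (by omega) h; omega
    · exact (Nat.le_self_pow (by norm_num) _).trans_lt h
  have hk4 : k ≤ 4 := by
    by_contra hc
    have := lt_pow_of_le (b := 3) (c := 24) (k₀ := 5) (k := k) (by norm_num) (by norm_num)
      (by norm_num) (by omega)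
    omega
  have hp96 : p < 96 := by omega
  have key : ∀ k ∈ Finset.Icc 1 4, ∀ p ∈ Finset.Ico 3 96, p ^ k < 24 * k →
      (p ^ k + 1 ∣ 24 * k → k = 1 ∧ (p = 3 ∨ p = 5 ∨ p = 7 ∨ p = 11 ∨ p = 23)) ∧
      ¬ (p ^ k) ^ 2 + p ^ k + 1 ∣ 24 * k ∧ ¬ (p ^ k) ^ 3 < 24 * k := by decide +kernel
  obtain ⟨k1, k2, k3⟩ := key k (Finset.mem_Icc.2 ⟨hk, hk4⟩) p (Finset.mem_Ico.2 ⟨h3, hp96⟩) hlt
  rcases hcore with ⟨h1, h⟩ | ⟨-, h⟩ | h
  · exact ⟨(k1 h).1, h1, (k1 h).2⟩
  · exact absurd h k2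
  · exact absurd h k3

theorem arith_sl25 {p k d : ℕ} (hp : p.Prime) (hp7 : 7 ≤ p) (hk : 0 < k) (hd : 2 ≤ d)
    (h : (∑ i ∈ Finset.range d, (p ^ k) ^ i) ∣ 120 * k) :
    k = 1 ∧ d = 2 ∧ (p = 7 ∨ p = 11 ∨ p = 19 ∨ p = 23 ∨ p = 29 ∨ p = 59) := by
  have hq : 7 ^ k ≤ p ^ k := Nat.pow_le_pow_left hp7 k
  have hq1 : p ≤ p ^ k := Nat.le_self_pow hk.ne' p
  have hcore := arith_core (c := 0) (by omega) hk hd (by omega) h
  have hlt : p ^ k < 120 * k := by
    rcases hcore with ⟨-, h⟩ | ⟨-, h⟩ | h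
    · exact Nat.le_of_dvd (by omega) h
    · have := Nat.le_of_dvd (by omega) h; omega
    · exact (Nat.le_self_pow (by norm_num) _).trans_lt h
  have hk4 : k ≤ 3 := by
    by_contra hc
    have := lt_pow_of_le (b := 7) (c := 120) (k₀ := 4) (k := k) (by norm_num) (by norm_num)
      (by norm_num) (by omega)
    omega
  have hp96 : p < 360 := by omega
  have key : ∀ k ∈ Finset.Icc 1 3, ∀ p ∈ Finset.Ico 7 360, p ^ k < 120 * k →
      (p ^ k + 1 ∣ 120 * k → (k = 1 ∧ (p = 7 ∨ p = 11 ∨ p = 19 ∨ p = 23 ∨ p = 29 ∨ p = 59)) ∨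
        3 ∣ p ∨ 7 ∣ p ∧ p ≠ 7) ∧
      ¬ (p ^ k) ^ 2 + p ^ k + 1 ∣ 120 * k ∧ ¬ (p ^ k) ^ 3 < 120 * k := by decide +kernel
  obtain ⟨k1, k2, k3⟩ := key k (Finset.mem_Icc.2 ⟨hk, hk4⟩) p (Finset.mem_Ico.2 ⟨hp7, hp96⟩) hlt
  rcases hcore with ⟨h1, h⟩ | ⟨-, h⟩ | h
  · rcases k1 h with h2 | h2 | ⟨h2, h3⟩
    · exact ⟨h2.1, h1, h2.2⟩
    · have := (Nat.prime_dvd_prime_iff_eq Nat.prime_three hp).1 h2; omega
    · exact absurd ((Nat.prime_dvd_prime_iff_eq (by norm_num) hp).1 h2).symm h3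
  · exact absurd h k2
  · exact absurd h k3

namespace Reg

theorem fpf (h : Reg ρ) {g : H} (hg : g ≠ 1) (v : V) (hv : ρ g v = v) : v = 0 :=
  by_contra fun h0 => hg ((h.reg v v h0 h0).unique hv (by simp))

theorem finite (h : Reg ρ) : Finite H :=
  have : Finite (End (ZMod p) V) := Finite.of_injective _ DFunLike.coe_injective
  Finite.of_injective _ h.inj

theorem ne_zero (g : H) {v : V} (hv : v ≠ 0) : ρ g v ≠ 0 := fun e => hv (by
  rw [← End.one_apply (R := ZMod p) v, ← map_one ρ, ← inv_mul_cancel g, map_mul, End.mul_apply, e,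
    map_zero])

theorem card (h : Reg ρ) [Nontrivial V] : Nat.card H = Nat.card V - 1 := by
  obtain ⟨v, hv⟩ := exists_ne (0 : V)
  have hbij : Function.Bijective fun g : H => (⟨ρ g v, ne_zero g hv⟩ : ({0}ᶜ : Set V)) := by
    refine ⟨fun g k hgk => ?_, fun w => ?_⟩
    · exact (h.reg v _ hv (ne_zero _ hv)).unique (congrArg Subtype.val hgk) rfl
    · obtain ⟨g, hg, -⟩ := h.reg v w hv w.2
      exact ⟨g, Subtype.ext hg⟩
  rw [Nat.card_eq_of_bijective _ hbij, Nat.card_coe_set_eq, Set.ncard_compl, Set.ncard_singleton]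

theorem not_dvd (h : Reg ρ) [Nontrivial V] : ¬ p ∣ Nat.card H := fun hd => by
  have : Module.Finite (ZMod p) V := Module.Finite.of_finite
  have h1 : p ∣ Nat.card V := by
    rw [Module.natCard_eq_pow_finrank (K := ZMod p), Nat.card_zmod]
    exact dvd_pow_self p finrank_pos.ne'
  rw [h.card] at hd
  exact hp.1.one_lt.ne' (Nat.dvd_one.1 ((Nat.dvd_sub_iff_right Nat.card_pos h1).1 hd))

theorem isFpf (h : Reg ρ) [Nontrivial V] : Fpf H :=
  have := h.finite
  fpf_of_zmod h.not_dvd ρ fun _ hg => h.fpf hg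

theorem card_dvd (h : Reg ρ) (B : Subgroup H) (W : Submodule (ZMod p) V)
    (hW : ∀ a ∈ B, ∀ v ∈ W, ρ a v ∈ W) : Nat.card B ∣ Nat.card W - 1 := by
  have := h.finite
  let : MulAction B ({0}ᶜ : Set W) :=
    { smul := fun b x => ⟨⟨ρ b x, hW b b.2 _ x.1.2⟩, fun e =>
        ne_zero (b : H) (fun e => x.2 (Subtype.ext e)) (congrArg Subtype.val e)⟩
      one_smul := fun x => Subtype.ext (Subtype.ext (by
        show ρ (1 : B) x = x
        simp))
      mul_smul := fun a b x => Subtype.ext (Subtype.ext (by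
        show ρ (a * b : B) x = ρ a (ρ b x)
        simp)) }
  rw [← Set.ncard_singleton (0 : W), ← Set.ncard_compl, ← Nat.card_coe_set_eq]
  refine H4.dvd_card_of_forall_index_stabilizer (G := B) fun x => ?_
  rw [show MulAction.stabilizer B x = ⊥ from eq_bot_iff.2 fun b hb => by_contra fun hne =>
    x.2 (Subtype.ext (h.fpf (fun e => hne (Subtype.ext e)) _
      (congrArg (fun t : ({0}ᶜ : Set W) => t.1.1) hb))), index_bot]

theorem max_abelian (h : Reg ρ) (hI : NoIrr ρ) (A : Subgroup H) (hAn : A.Normal)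
    (hAc : IsMulCommutative A) : IsCyclic A ∧ ∃ W : Submodule (ZMod p) V, W ≠ ⊥ ∧ W ≠ ⊤ ∧
      (∀ a ∈ A, ∀ v ∈ W, ρ a v ∈ W) ∧ (∀ W' : Submodule (ZMod p) V, W' ≤ W →
      (∀ a ∈ A, ∀ v ∈ W', ρ a v ∈ W') → W' = ⊥ ∨ W' = W) ∧
      Nat.card A ∣ p ^ finrank (ZMod p) W - 1 := by
  have := hI.nontrivial
  have := h.finite
  have hc := h.isFpf.isCyclic_sub A
  obtain ⟨W₀, h1, h2, h3⟩ := hI A hAn hc
  have : Finite (Submodule (ZMod p) V) := Finite.of_injective _ SetLike.coe_injective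
  obtain ⟨W, ⟨h4, h5, h6⟩, hmin⟩ := Set.Finite.exists_minimal (Set.toFinite
    {W : Submodule (ZMod p) V | W ≠ ⊥ ∧ W ≤ W₀ ∧ ∀ a ∈ A, ∀ v ∈ W, ρ a v ∈ W}) ⟨W₀, h1, le_rfl, h3⟩
  refine ⟨hc, W, h4, fun e => h2 (top_le_iff.1 (e ▸ h5)), h6, fun W' h7 h8 =>
    or_iff_not_imp_left.2 fun h9 => le_antisymm h7 (hmin ⟨h9, h7.trans h5, h8⟩ h7), ?_⟩
  rw [← H1.card_submodule_zmod]
  exact h.card_dvd A W h6

theorem data (h : Reg ρ) [Nontrivial V] (A : Subgroup H) [A.Normal] [IsMulCommutative A] :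
    ∃ k d : ℕ, 0 < k ∧ 0 < d ∧ Nat.card V = (p ^ k) ^ d ∧ (centralizer (A : Set H)).index ∣ k ∧
      Nat.card A ∣ p ^ k - 1 ∧ (d = 1 → IsMulCommutative (centralizer (A : Set H)) ∧
      ∀ W : Submodule (ZMod p) V, (∀ a ∈ A, ∀ v ∈ W, ρ a v ∈ W) → W = ⊥ ∨ W = ⊤) :=
  exists_field_data ρ h.inj (fun v w hv hw => (h.reg v w hv hw).exists.imp fun _ => Or.inl) A

theorem lt_centralizer (h : Reg ρ) (hI : NoIrr ρ) (A : Subgroup H) (hAn : A.Normal)
    (hAc : IsMulCommutative A)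
    (hAmax : ∀ B : Subgroup H, B.Normal → IsMulCommutative B → A ≤ B → B = A) :
    A < centralizer (A : Set H) ∧ ¬ IsMulCommutative (centralizer (A : Set H)) := by
  have := hI.nontrivial
  have := h.finite
  have hne : centralizer (A : Set H) ≠ A := fun e => by
    obtain ⟨k, d, hk, hd, h1, h2, h3, h4⟩ := h.data A
    obtain ⟨-, W, w1, w2, w3, -⟩ := h.max_abelian hI A hAn hAc
    have hd2 : 2 ≤ d := by
      by_contra hc
      exact ((h4 (by omega)).2 W w3).elim w1 w2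
    have hq : k < p ^ k := Nat.lt_pow_self hp.1.one_lt
    have h5 := A.card_mul_index
    rw [e] at h2
    rw [h.card, h1] at h5
    have h6 := Nat.mul_le_mul (Nat.le_of_dvd (by omega) h3) (Nat.le_of_dvd hk h2)
    have h7 : (p ^ k) ^ 2 ≤ (p ^ k) ^ d := Nat.pow_le_pow_right (by omega) hd2
    generalize p ^ k = q at *
    obtain ⟨r, rfl⟩ : ∃ r, q = r + 1 := ⟨q - 1, by omega⟩
    rw [h5, Nat.add_sub_cancel] at h6
    have : r * k ≤ r * r := Nat.mul_le_mul_left _ (by omega)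
    rw [sq] at h7
    nlinarith [Nat.sub_add_cancel (show 1 ≤ (r + 1) ^ d from Nat.one_le_pow _ _ (by omega))]
  exact ⟨lt_of_le_of_ne (le_centralizer A) hne.symm,
    fun hc => hne (hAmax _ inferInstance hc (le_centralizer A))⟩

theorem count (h : Reg ρ) [Nontrivial V] {A N : Subgroup H} [A.Normal] [IsMulCommutative A]
    [N.Normal] (hN : N ≤ centralizer (A : Set H)) (hna : ¬ IsMulCommutative N)
    (hi : centralizer (A : Set H) ⊓ centralizer (N : Set H) = A) :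
    ∃ k d : ℕ, 0 < k ∧ 2 ≤ d ∧ Nat.card V = (p ^ k) ^ d ∧
      (∑ i ∈ Finset.range d, (p ^ k) ^ i) ∣ (centralizer (N : Set H)).index * k ∧
      (k = 1 → centralizer (N : Set H) = A) := by
  have := h.finite
  obtain ⟨k, d, hk, hd, h1, h2, ⟨t, h3⟩, h4⟩ := h.data A
  have hA : A ≤ centralizer (N : Set H) := le_centralizer_iff.1 hN
  have h5 : A.relIndex (centralizer (N : Set H)) ∣ k := by
    conv_lhs => rw [← hi, inf_relIndex_right]
    exact (relIndex_dvd_index_of_normal _ _).trans h2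
  refine ⟨k, d, hk, ?_, h1, ?_, fun hk1 => le_antisymm
    (relIndex_eq_one.1 (Nat.dvd_one.1 (hk1 ▸ h5))) hA⟩
  · by_contra hc
    have := (h4 (by omega)).1
    exact hna ⟨⟨fun a b => Subtype.ext (setLike_mul_comm (hN a.2) (hN b.2))⟩⟩
  · have h6 := A.card_mul_index
    rw [h.card, h1, geom_eq (Nat.one_le_pow _ _ hp.1.pos), h3, ← relIndex_mul_index hA,
      mul_left_comm _ (Nat.card A)] at h6
    rw [mul_comm]
    exact (Dvd.intro _ (Nat.eq_of_mul_eq_mul_left Nat.card_pos h6).symm).trans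
      (Nat.mul_dvd_mul_right h5 _)

theorem count_q8 (h : Reg ρ) [Nontrivial V] {A N : Subgroup H} [A.Normal] [IsMulCommutative A]
    [N.Normal] (hN : N ≤ centralizer (A : Set H)) (e : N ≃* QuaternionGroup 2)
    (hi : centralizer (A : Set H) ⊓ centralizer (N : Set H) = A) :
    Nat.card V = p ^ 2 ∧ centralizer (N : Set H) = A ∧
      (p = 3 ∨ p = 5 ∨ p = 7 ∨ p = 11 ∨ p = 23) := by
  have := h.finite
  obtain ⟨x, y, hx, -, hxy⟩ := exists_four (Or.inl ⟨e⟩)
  obtain ⟨k, d, hk, hd, h1, h2, h3⟩ := h.count hN (fun hc => hxy (hc.1.1 x y)) hi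
  obtain ⟨rfl, rfl, h4⟩ := arith_q8 hp.1 (fun h2 => h.not_dvd (h2 ▸ (Dvd.intro 2 hx.symm).trans
    ((orderOf_dvd_natCard x).trans N.card_subgroup_dvd_card))) hk hd
    (h2.trans (Nat.mul_dvd_mul_right ((index_centralizer_dvd e).trans q8_card_aut) _))
  exact ⟨by rw [h1, pow_one], h3 rfl, h4⟩

theorem count_sl25 (h : Reg ρ) [Nontrivial V] {A N : Subgroup H} [A.Normal] [IsMulCommutative A]
    [N.Normal] (hN : N ≤ centralizer (A : Set H)) (e : N ≃* SL25)
    (hi : centralizer (A : Set H) ⊓ centralizer (N : Set H) = A) :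
    Nat.card V = p ^ 2 ∧ centralizer (N : Set H) = A ∧ (A.index = 60 ∨ A.index = 120) ∧
      (p = 7 ∨ p = 11 ∨ p = 19 ∨ p = 23 ∨ p = 29 ∨ p = 59) := by
  have := h.finite
  obtain ⟨x, y, hx, -, hxy⟩ := exists_four (Or.inr ⟨e⟩)
  obtain ⟨k, d, hk, hd, h1, h2, h3⟩ := h.count hN (fun hc => hxy (hc.1.1 x y)) hi
  have h4 : (centralizer (N : Set H)).index ≤ 120 :=
    (Nat.le_of_dvd Nat.card_pos (index_centralizer_dvd e)).trans sl25_card_aut
  have h5 : 60 ∣ (centralizer (N : Set H)).index := by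
    refine dvd_trans (dvd_of_eq ?_) (relIndex_dvd_index_of_normal _ N)
    rw [← sl25_center, ← index_comap_of_surjective _ (f := e.toMonoidHom) e.surjective, relIndex]
    congr 1
    ext g
    simp only [mem_comap, mem_center_iff, mem_subgroupOf, mem_centralizer_iff,
      e.surjective.forall, MulEquiv.toMonoidHom_eq_coe, MonoidHom.coe_coe, ← map_mul,
      e.injective.eq_iff, Subtype.forall, Subtype.ext_iff, coe_mul, SetLike.mem_coe]
  have h6 : (centralizer (N : Set H)).index ≠ 0 := index_ne_zero_of_finite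
  have h7 : (centralizer (N : Set H)).index = 60 ∨ (centralizer (N : Set H)).index = 120 := by
    omega
  have h8 : ¬ p ∣ 120 := fun hd => h.not_dvd (hd.trans (by
    rw [← sl25_card, ← Nat.card_congr e.toEquiv]; exact N.card_subgroup_dvd_card))
  have h9 : 7 ≤ p := by
    by_contra hc
    have := hp.1.two_le
    have : p < 7 := by omega
    interval_cases p <;> simp_all
  obtain ⟨rfl, rfl, h10⟩ := arith_sl25 hp.1 h9 hk hd
    (h2.trans (Nat.mul_dvd_mul_right (by rcases h7 with h7 | h7 <;> simp [h7]) _))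
  exact ⟨by rw [h1, pow_one], h3 rfl, h3 rfl ▸ h7, h10⟩

theorem irreducible (h : Reg ρ) (hV : Nat.card V = p ^ 2) {N : Subgroup H}
    (h4 : Nonempty (N ≃* QuaternionGroup 2) ∨ Nonempty (N ≃* SL25)) (W : Submodule (ZMod p) V)
    (hW : ∀ n ∈ N, ∀ v ∈ W, ρ n v ∈ W) : W = ⊥ ∨ W = ⊤ := by
  have : Module.Finite (ZMod p) V := Module.Finite.of_finite
  have h2 : finrank (ZMod p) V = 2 := Nat.pow_right_injective hp.1.two_le (by
    simp only; rw [← hV, Module.natCard_eq_pow_finrank (K := ZMod p), Nat.card_zmod])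
  by_contra hc
  push Not at hc
  have h1 : finrank (ZMod p) W = 1 := by
    have := Submodule.finrank_lt hc.2
    have := mt Submodule.finrank_eq_zero.1 hc.1
    omega
  obtain ⟨w, hw, hall⟩ := finrank_eq_one_iff'.1 h1
  obtain ⟨x, y, -, -, hxy⟩ := exists_four h4
  obtain ⟨a, ha⟩ := hall ⟨_, hW x x.2 w w.2⟩
  obtain ⟨b, hb⟩ := hall ⟨_, hW y y.2 w w.2⟩
  have ha' : ρ x w = a • (w : V) := (congrArg Subtype.val ha).symm
  have hb' : ρ y w = b • (w : V) := (congrArg Subtype.val hb).symm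
  have hw' : (w : V) ≠ 0 := fun e => hw (Subtype.ext e)
  refine hxy (Subtype.ext ((h.reg w _ hw' (ne_zero (y * x : H) hw')).unique ?_ rfl))
  simp only [coe_mul, map_mul, End.mul_apply, ha', hb', map_smul, smul_smul, mul_comm]

theorem minimal (h : Reg ρ) (hI : NoIrr ρ) (A : Subgroup H) (hAn : A.Normal)
    (hAc : IsMulCommutative A)
    (hAmax : ∀ B : Subgroup H, B.Normal → IsMulCommutative B → A ≤ B → B = A) (N : Subgroup H)
    (hNn : N.Normal) (hNle : N ≤ centralizer (A : Set H)) (hNna : ¬ IsMulCommutative N)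
    (hNmin : ∀ M : Subgroup H, M.Normal → M ≤ N → ¬ IsMulCommutative M → M = N) :
    (Nonempty (N ≃* QuaternionGroup 2) ∨ Nonempty (N ≃* SL25)) ∧
    (∀ W : Submodule (ZMod p) V, (∀ n ∈ N, ∀ v ∈ W, ρ n v ∈ W) → W = ⊥ ∨ W = ⊤) ∧
      centralizer (N : Set H) = A := by
  have := hI.nontrivial
  have := h.finite
  have hm : ∀ B : Subgroup H, B.Normal → IsMulCommutative B → A ≤ B → B ≤ ⊤ → B = A :=
    fun B h1 h2 h3 _ => hAmax B h1 h2 h3
  have h4 := h.isFpf.min_iso le_top hm le_top hNle hNna hNmin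
  have hi := h.isFpf.inf_eq le_top hm hNle h4
  rcases id h4 with ⟨⟨e⟩⟩ | ⟨⟨e⟩⟩
  · obtain ⟨h1, h2, -⟩ := h.count_q8 hNle e hi
    exact ⟨h4, h.irreducible h1 h4, h2⟩
  · obtain ⟨h1, h2, -⟩ := h.count_sl25 hNle e hi
    exact ⟨h4, h.irreducible h1 h4, h2⟩

theorem type_two (h : Reg ρ) (hI : NoIrr ρ) (hs : Group.IsSolvable H) :
    Nat.card V = 25 ∨ Nat.card V = 49 ∨ Nat.card V = 121 ∨ Nat.card V = 529 := by
  have := hI.nontrivial
  have := h.finite
  obtain ⟨A, hAn, hAc, -, hm⟩ := exists_max_abelian (⊤ : Subgroup H)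
  obtain ⟨N, hNn, h1, h2, h3⟩ := exists_min_nonabelian
    (h.lt_centralizer hI A hAn hAc fun B h1 h2 h3 => hm B h1 h2 h3 le_top).2
  have h4 := h.isFpf.min_iso le_top hm le_top h1 h2 h3
  have hi := h.isFpf.inf_eq le_top hm h1 h4
  rcases h4 with ⟨⟨e⟩⟩ | ⟨⟨e⟩⟩
  swap
  · exact absurd (Group.isSolvable_of_surjective (f := e.toMonoidHom) e.surjective)
      sl25_not_solvable
  obtain ⟨h5, h6, rfl | rfl | rfl | rfl | rfl⟩ := h.count_q8 h1 e hi
  · exfalso
    obtain rfl : N = ⊤ := eq_top_of_card_eq N (by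
      rw [h.card, h5, Nat.card_congr e.toEquiv, Nat.card_eq_fintype_card, QuaternionGroup.card]
      norm_num)
    let x : QuaternionGroup 2 := .xa 0
    have key : ∀ g : QuaternionGroup 2, g * x * g⁻¹ = x ∨ g * x * g⁻¹ = x⁻¹ := by decide
    have hn : (zpowers (e.symm x : H)).Normal := ⟨by
      rintro _ ⟨k, rfl⟩ g
      rw [← conj_zpow]
      refine zpow_mem ?_ k
      rcases key (e ⟨g, mem_top g⟩) with h | h
      · have := congrArg (fun t => (e.symm t : H)) h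
        simp only [map_mul, map_inv, MulEquiv.symm_apply_apply, coe_mul, coe_inv] at this
        rw [this]; exact mem_zpowers _
      · have := congrArg (fun t => (e.symm t : H)) h
        simp only [map_mul, map_inv, MulEquiv.symm_apply_apply, coe_mul, coe_inv] at this
        rw [this]; exact inv_mem (mem_zpowers _)⟩
    have h7 := hm (A ⊔ zpowers (e.symm x : H)) inferInstance
      (isMulCommutative_sup (le_top.trans h1)) le_sup_left le_top
    have h8 : (e.symm x : H) ∈ centralizer ((⊤ : Subgroup H) : Set H) :=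
      h6 ▸ h7 ▸ mem_sup_right (mem_zpowers _)
    exact h.isFpf.not_centralizer e q8_four h8
      (by rw [Subgroup.orderOf_coe, MulEquiv.orderOf_eq, QuaternionGroup.orderOf_xa])
  all_goals simp [h5]

theorem type_three (h : Reg ρ) (hs : ¬ Group.IsSolvable H) :
    (Nat.card V = 121 ∧ Nonempty (H ≃* SL25)) ∨
    (Nat.card V = 841 ∧ Nonempty (H ≃* SL25 × Multiplicative (ZMod 7))) ∨
    (Nat.card V = 3481 ∧ Nonempty (H ≃* SL25 × Multiplicative (ZMod 29))) := by
  have : Nontrivial V := by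
    by_contra hV
    rw [not_nontrivial_iff_subsingleton] at hV
    have : Subsingleton H := h.inj.subsingleton
    exact hs inferInstance
  have := h.finite
  obtain ⟨N, hN, ⟨e⟩, -⟩ := h.isFpf.structure.resolve_left hs
  obtain ⟨A, hAn, hAc, hA, hm⟩ := exists_max_abelian (centralizer (N : Set H))
  have h1 := le_centralizer_iff.1 hA
  obtain ⟨h2, h3, h4, h5⟩ := h.count_sl25 h1 e (h.isFpf.inf_eq le_rfl hm h1 (Or.inr ⟨e⟩))
  have hNc : Nat.card N = 120 := by rw [← sl25_card, Nat.card_congr e.toEquiv]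
  have h6 : 2 ∣ Nat.card A := by
    obtain ⟨z, hz⟩ := exists_prime_orderOf_dvd_card' (G := H) 2
      ((show 2 ∣ Nat.card N by rw [hNc]; norm_num).trans N.card_subgroup_dvd_card)
    refine hz ▸ orderOf_dvd_natCard A (h3 ▸ center_le_centralizer _ (h.isFpf.invol_central ?_))
    rw [← sq, ← hz, pow_orderOf_eq_one]
  have h7 : ¬ 3 ∣ Nat.card A := fun hd => by
    have : Fact (Nat.Prime 3) := ⟨Nat.prime_three⟩
    obtain ⟨z, hz⟩ := exists_prime_orderOf_dvd_card' 3 hd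
    exact h.isFpf.not_centralizer e sl25_three (hA z.2) ((Subgroup.orderOf_coe z).trans hz)
  have h8 := A.card_mul_index
  have key : ∀ m : ℕ, m.Prime → m ∣ Nat.card A → Nat.Coprime 120 m → Nat.card H = 120 * m →
      Nonempty (H ≃* SL25 × Multiplicative (ZMod m)) := fun m hm hd hc hH => by
    have := Fact.mk hm
    obtain ⟨b, hb⟩ := exists_prime_orderOf_dvd_card' m hd
    have hB : Nat.card (zpowers (b : H)) = m := by
      rw [Nat.card_zpowers, Subgroup.orderOf_coe, hb]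
    obtain ⟨f⟩ := nonempty_sup_equiv_prod (A := N) (B := zpowers (b : H))
      (fun a ha c hc => zpowers_le.2 (hA b.2) hc a ha)
      (inf_eq_bot_of_coprime (by rw [hNc, hB]; exact hc))
    have htop : N ⊔ zpowers (b : H) = ⊤ := eq_top_of_card_eq _ (by
      rw [Nat.card_congr f.toEquiv, Nat.card_prod, hNc, hB, hH])
    exact ⟨topEquiv.symm.trans ((MulEquiv.subgroupCongr htop.symm).trans (f.trans
      (e.prodCongr (mulEquivOfPrimeCardEq hB (by simp)))))⟩
  have hH := h.card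
  rw [h2] at hH
  rw [hH] at h8
  have h9 : Nat.card A * 60 = p ^ 2 - 1 ∨ Nat.card A * 120 = p ^ 2 - 1 := by
    rcases h4 with h4 | h4 <;> rw [h4] at h8
    · exact Or.inl h8
    · exact Or.inr h8
  rcases h5 with rfl | rfl | rfl | rfl | rfl | rfl
  · omega
  · obtain rfl : N = ⊤ := eq_top_of_card_eq N (by rw [hNc, hH]; norm_num)
    exact Or.inl ⟨h2, ⟨topEquiv.symm.trans e⟩⟩
  · omega
  · omega
  · exact Or.inr (Or.inl ⟨h2, key 7 (by norm_num) (by omega) (by norm_num) hH⟩)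
  · exact Or.inr (Or.inr ⟨h2, key 29 (by norm_num) (by omega) (by norm_num) hH⟩)

end Reg

end H14
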