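import Mathlib
import Cfsg.Agent.H24.Base1

/-!
# Standard subgroup `Sz(8)`: vocabulary

`L ≅ Sz(8)` is standard in `G`, `K = C(L)`, `S = {u a b}` is a Sylow `2`-subgroup of `L` with
centre `Z = {z b}`, and `DD` is the set of conjugates of involutions of `K`.
-/

set_option autoImplicit false

namespace H14.Ru

open Cfsg H24 Subgroup

/-- The field `F₂[ω]/(ω³+ω+1)`; the code of `a + bω + cω²` is `a + 2b + 4c`. -/
def F8 : Type := Fin 8

namespace F8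

instance : DecidableEq F8 := inferInstanceAs (DecidableEq (Fin 8))
instance : Fintype F8 := inferInstanceAs (Fintype (Fin 8))
instance decAll (p : F8 → Prop) [h : DecidablePred p] : Decidable (∀ a, p a) :=
  @Nat.decidableForallFin 8 p h
instance decEx (p : F8 → Prop) [h : DecidablePred p] : Decidable (∃ a, p a) :=
  @Nat.decidableExistsFin 8 p h

/-- the element with a given code. -/
def mk (n : ℕ) : F8 := (⟨n % 8, Nat.mod_lt _ (by norm_num)⟩ : Fin 8)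
/-- the code. -/
def val (a : F8) : ℕ := Fin.val (n := 8) a

/-- multiplication of codes. -/
def mulN (a b : ℕ) : ℕ := (2821848294356612419217921029917578219971947684264937521152 >>> (3 * (8 * a + b))) % 8

instance : Add F8 := ⟨fun a b => mk (a.val ^^^ b.val)⟩
instance : Mul F8 := ⟨fun a b => mk (mulN a.val b.val)⟩
instance : Neg F8 := ⟨fun a => a⟩
instance : Inv F8 := ⟨fun a => mk (9272648 >>> (3 * a.val))⟩
instance : Zero F8 := ⟨mk 0⟩
instance : One F8 := ⟨mk 1⟩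

instance : Field F8 :=
  Field.ofMinimalAxioms F8 (by decide +kernel) (by decide +kernel) (by decide +kernel)
    (by decide +kernel) (by decide +kernel) (by decide +kernel) (by decide +kernel)
    (by decide +kernel) (by decide +kernel) ⟨0, 1, by decide +kernel⟩

theorem val_lt (a : F8) : a.val < 8 := Fin.isLt (n := 8) a
theorem mk_val : ∀ a : F8, mk a.val = a := by decide +kernel
theorem val_mk {n : ℕ} (h : n < 8) : (mk n).val = n := Nat.mod_eq_of_lt h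
theorem val_inj : ∀ {a b : F8}, a.val = b.val → a = b := by decide +kernel
theorem val_add : ∀ a b : F8, (a + b).val = a.val ^^^ b.val := by decide +kernel
theorem val_mul : ∀ a b : F8, (a * b).val = mulN a.val b.val := by decide +kernel
theorem add_self : ∀ a : F8, a + a = 0 := by decide +kernel
theorem card : Fintype.card F8 = 8 := rfl

end F8

/-- the generator `ω` (code `2`). -/
def ω : F8 := F8.mk 2

theorem exists_pow : ∀ a : F8, a ≠ 0 → ∃ i : Fin 7, a = ω ^ (i : ℕ) := by decide +kernel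
theorem exists_pow5 : ∀ a : F8, a ≠ 0 → ∃ i : Fin 7, a = (ω ^ 5) ^ (i : ℕ) := by decide +kernel

variable {G : Type*} [Group G]

/-- Coordinates in a subgroup `L ≅ Sz(8)`, and all facts on `L` and `Aut(L)` that are used. -/
structure SzD (L : Subgroup G) where
  u : F8 → F8 → G
  f : G
  u_mem : ∀ a b, u a b ∈ L
  f_mem : f ∈ L
  u_mul : ∀ a b c d, u a b * u c d = u (a + c) (b + d + a ^ 4 * c)
  u_inj : ∀ {a b c d}, u a b = u c d → a = c ∧ b = d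
  f_u : ∀ a b, f * u a b * f⁻¹ = u (ω * a) (ω ^ 5 * b)
  f7 : f ^ 7 = 1
  card : ♯L = 29120
  simple : IsSimpleGroup L
  /-- `S` is a TI-subgroup of `L` with normaliser `S⟨f⟩`. -/
  ti : ∀ g ∈ L, ∀ a b c d, u a b ≠ 1 → g * u a b * g⁻¹ = u c d → ∃ a' b', ∃ i : ℕ, g = u a' b' * f ^ i
  /-- `S⟨f⟩` is maximal in `L`. -/
  max : ∀ Y : Subgroup G, (∀ a b, u a b ∈ Y) → f ∈ Y →
    (∃ l ∈ L, l ∈ Y ∧ ¬ ∃ a' b', ∃ i : ℕ, l = u a' b' * f ^ i) → L ≤ Y
  /-- an automorphism of `L` centralising `Z` is induced by `S`. -/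
  autZ : ∀ g ∈ N[L], (∀ b, g * u 0 b = u 0 b * g) → ∃ a b, ∃ k ∈ C[L], g = u a b * k
  /-- `Out(L)` has odd order. -/
  aut2 : ∀ g ∈ N[L], PiElt {2} g → ∃ l ∈ L, ∃ k ∈ C[L], g = l * k

namespace SzD
variable {L : Subgroup G} (X : SzD L)

/-- the central elements of `S`. -/
def z (b : F8) : G := X.u 0 b

theorem u_zero : X.u 0 0 = 1 := by
  have := X.u_mul 0 0 0 0
  simp only [add_zero, mul_zero] at this
  exact mul_left_cancel (this.trans (mul_one _).symm)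

theorem u_inv (a b : F8) : (X.u a b)⁻¹ = X.u a (b + a ^ 5) := by
  rw [inv_eq_iff_mul_eq_one, X.u_mul, ← X.u_zero]
  congr 1
  · exact F8.add_self a
  · linear_combination F8.add_self b + F8.add_self (a ^ 5)

theorem z_zero : X.z 0 = 1 := X.u_zero
theorem z_mul (a b : F8) : X.z a * X.z b = X.z (a + b) := by simp [z, X.u_mul]
theorem z_sq (a : F8) : X.z a * X.z a = 1 := by rw [X.z_mul, F8.add_self, X.z_zero]
theorem z_inv (a : F8) : (X.z a)⁻¹ = X.z a := inv_eq_of_mul_eq_one_right (X.z_sq a)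
theorem z_inj {a b : F8} (h : X.z a = X.z b) : a = b := (X.u_inj h).2
theorem z_eq_one {a : F8} : X.z a = 1 ↔ a = 0 :=
  ⟨fun h => X.z_inj (h.trans X.z_zero.symm), fun h => h ▸ X.z_zero⟩
theorem u_sq (a b : F8) : X.u a b * X.u a b = X.z (a ^ 5) := by
  rw [X.u_mul, z]
  congr 1
  · exact F8.add_self a
  · linear_combination F8.add_self b
theorem z_u (a b c : F8) : X.z c * X.u a b = X.u a b * X.z c := by
  simp [z, X.u_mul, add_comm]
theorem f_z (b : F8) : X.f * X.z b * X.f⁻¹ = X.z (ω ^ 5 * b) := by simp [z, X.f_u]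

/-- the Sylow `2`-subgroup of `L`. -/
def S : Subgroup G where
  carrier := {g | ∃ a b, g = X.u a b}
  mul_mem' := by rintro _ _ ⟨a, b, rfl⟩ ⟨c, d, rfl⟩; exact ⟨_, _, X.u_mul ..⟩
  one_mem' := ⟨0, 0, X.u_zero.symm⟩
  inv_mem' := by rintro _ ⟨a, b, rfl⟩; exact ⟨_, _, X.u_inv ..⟩

/-- the centre of `S`. -/
def Z : Subgroup G where
  carrier := {g | ∃ b, g = X.z b}
  mul_mem' := by rintro _ _ ⟨a, rfl⟩ ⟨c, rfl⟩; exact ⟨_, X.z_mul ..⟩
  one_mem' := ⟨0, X.z_zero.symm⟩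
  inv_mem' := by rintro _ ⟨a, rfl⟩; exact ⟨_, X.z_inv _⟩

theorem mem_S {g : G} : g ∈ X.S ↔ ∃ a b, g = X.u a b := Iff.rfl
theorem mem_Z {g : G} : g ∈ X.Z ↔ ∃ b, g = X.z b := Iff.rfl
theorem u_mem_S (a b : F8) : X.u a b ∈ X.S := ⟨a, b, rfl⟩
theorem z_mem_Z (b : F8) : X.z b ∈ X.Z := ⟨b, rfl⟩
theorem Z_le_S : X.Z ≤ X.S := by rintro _ ⟨b, rfl⟩; exact ⟨0, b, rfl⟩
theorem S_le : X.S ≤ L := by rintro _ ⟨a, b, rfl⟩; exact X.u_mem a b

end SzD

/-- The standing hypotheses after the reduction by S1347: `L` is standard, not normal, and lies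
in the simple normal subgroup `G0` with trivial centraliser. -/
structure St (L G0 : Subgroup G) : Prop where
  std : IsStandardSubgroup L
  nrm : G0.Normal
  simple : IsSimpleGroup G0
  le : L ≤ G0
  cent : C[G0] = ⊥
  ne : ¬ L.Normal

/-- `t` is conjugate to an involution of `C(L)`. -/
def DD (L : Subgroup G) (t : G) : Prop := t ≠ 1 ∧ t * t = 1 ∧ ∃ g : G, g * t * g⁻¹ ∈ C[L]

/-- Result of step B: the Sylow `2`-subgroup `V` of `C(L)` is elementary abelian, `Z` contains no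
member of `DD`, and `N(V × S)` does not normalise `L`. -/
structure VD {L : Subgroup G} (X : SzD L) (V : Subgroup G) : Prop where
  syl : Syl 2 C[L] V
  ea : ∀ v ∈ V, v * v = 1
  zn : ∀ b, ¬ DD L (X.z b)
  ex : ∃ g ∈ N[V ⊔ X.S], g ∉ N[L]

/-- The squaring map of `Q / Z`. -/
def qf (c1 c2 : F8) (p : F8 × F8 × F8) : F8 :=
  p.2.1 ^ 5 + (c1 + p.1) * p.2.2 + c2 * p.2.1 ^ 2 * p.2.2 ^ 2

/-- Result of step C: `Q = O₂(N(E))` for `E = V × Z`, with coordinates `π : Q → Q / Z`. -/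
structure QD {L : Subgroup G} (X : SzD L) (V : Subgroup G) where
  Q : Subgroup G
  D : Subgroup G
  Vs : Finset F8
  c1 : F8
  c2 : F8
  v : F8 → G
  π : G → F8 × F8 × F8
  hVs : Vs = {0, 1} ∨ Vs = {0, ω, ω ^ 2, ω ^ 4} ∨ Vs = Finset.univ
  mem_V : ∀ g, g ∈ V ↔ ∃ c ∈ Vs, g = v c
  V_le : V ≤ Q
  S_le : X.S ≤ Q
  π_v : ∀ c ∈ Vs, π (v c) = (c, 0, 0)
  π_u : ∀ a b, π (X.u a b) = (0, a, 0)
  π_mul : ∀ g ∈ Q, ∀ h ∈ Q, π (g * h) = π g + π h
  π_ker : ∀ g ∈ Q, π g = 0 → g ∈ X.Z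
  π_mem : ∀ g ∈ Q, (π g).1 ∈ Vs
  π_surj : ∀ c ∈ Vs, ∀ x y, ∃ g ∈ Q, π g = (c, x, y)
  sq : ∀ g ∈ Q, g * g = X.z (qf c1 c2 (π g))
  zc : Q ≤ C[X.Z]
  f_N : X.f ∈ N[Q]
  π_f : ∀ g ∈ Q, π (X.f * g * X.f⁻¹) = ((π g).1, ω * (π g).2.1, ω ^ 5 * (π g).2.2)
  /-- all elements of `E \\ Z` lie in `DD`. -/
  dd : ∀ c ∈ Vs, c ≠ 0 → ∀ b, DD L (v c * X.z b)
  NE : N[V ⊔ X.Z] ≤ N[Q]
  two : ∀ g ∈ N[V ⊔ X.Z], PiElt {2} g → g ∈ Q
  oddD : Odd ♯D
  D_L : D ≤ C[L]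
  D_Q : D ≤ C[Q]
  CE : ∀ g ∈ C[V ⊔ X.Z], ∃ t ∈ V ⊔ X.S, ∃ d ∈ D, g = t * d
  CZ : Vs ≠ Finset.univ → ∀ g ∈ N[V ⊔ X.Z], g ∈ C[X.Z] → ∃ q ∈ Q, ∃ d ∈ D, g = q * d

end H14.Ru
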