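import Mathlib
import Cfsg.Agent.H14.RuDefs
import Cfsg.Agent.H24.Base2

/-! # Standard subgroup `Sz(8)`: small facts -/

set_option autoImplicit false

namespace H14.Ru

open Cfsg H24 Subgroup

variable {G : Type*} [Group G] [Finite G] {L G0 V : Subgroup G}

omit [Finite G] in
theorem SzD.card_S (X : SzD L) : ♯X.S = 64 := by
  have e : F8 × F8 ≃ X.S := Equiv.ofBijective (fun p => ⟨X.u p.1 p.2, X.u_mem_S _ _⟩)
    ⟨fun p q h => Prod.ext (X.u_inj (congrArg Subtype.val h)).1 (X.u_inj (congrArg Subtype.val h)).2,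
      by rintro ⟨_, a, b, rfl⟩; exact ⟨(a, b), rfl⟩⟩
  rw [← Nat.card_congr e, Nat.card_prod, Nat.card_eq_fintype_card, F8.card]

omit [Finite G] in
theorem SzD.card_Z (X : SzD L) : ♯X.Z = 8 := by
  have e : F8 ≃ X.Z := Equiv.ofBijective (fun p => ⟨X.z p, X.z_mem_Z _⟩)
    ⟨fun p q h => X.z_inj (congrArg Subtype.val h), by rintro ⟨_, b, rfl⟩; exact ⟨b, rfl⟩⟩
  rw [← Nat.card_congr e, Nat.card_eq_fintype_card, F8.card]

omit [Finite G] in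
theorem SzD.pi_S (X : SzD L) : IsPi {2} X.S := isPi_of_card (n := 6) Nat.prime_two X.card_S

omit [Finite G] in
theorem SzD.syl_S (X : SzD L) : Syl 2 L X.S := by
  refine Syl.mk' Nat.prime_two X.S_le X.pi_S ?_
  have := card_mul_relIndex X.S_le
  rw [X.card_S, X.card] at this
  omega

omit [Finite G] in
theorem SzD.inf_C (X : SzD L) : L ⊓ C[L] = ⊥ := by
  have := X.simple
  rcases (inferInstance : (center L).Normal).eq_bot_or_eq_top with e | e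
  · rw [eq_bot_iff]
    rintro g ⟨h1, h2⟩
    have : (⟨g, h1⟩ : L) ∈ center L := mem_center_iff.2 fun x => Subtype.ext (mem_C.1 h2 x x.2)
    rw [e, mem_bot] at this
    exact mem_bot.2 (congrArg Subtype.val this)
  · have : (⟨X.u 1 0, X.u_mem _ _⟩ : L) ∈ center L := e ▸ mem_top _
    have h := congrArg Subtype.val (mem_center_iff.1 this ⟨X.u ω 0, X.u_mem _ _⟩)
    simp only [coe_mul, X.u_mul] at h
    exact absurd (X.u_inj h).2 (by decide +kernel)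

omit [Finite G] in
theorem SzD.mem_Z_of_sq (X : SzD L) {g : G} (hg : g ∈ X.S) (h : g * g = 1) : g ∈ X.Z := by
  obtain ⟨a, b, rfl⟩ := hg
  rw [X.u_sq, X.z_eq_one] at h
  obtain rfl : a = 0 := pow_eq_zero_iff (by norm_num) |>.1 h
  exact ⟨b, rfl⟩

omit [Finite G] in
theorem SzD.fpow_u (X : SzD L) (i : ℕ) (a b : F8) :
    X.f ^ i * X.u a b * (X.f ^ i)⁻¹ = X.u (ω ^ i * a) ((ω ^ 5) ^ i * b) := by
  induction i with
  | zero => simp
  | succ i ih =>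
    rw [pow_succ' X.f, mul_inv_rev, show X.f * X.f ^ i * X.u a b * ((X.f ^ i)⁻¹ * X.f⁻¹) =
      X.f * (X.f ^ i * X.u a b * (X.f ^ i)⁻¹) * X.f⁻¹ by group, ih, X.f_u]
    congr 1 <;> ring

omit [Finite G] in
theorem SzD.fpow_z (X : SzD L) (i : ℕ) (b : F8) :
    X.f ^ i * X.z b * (X.f ^ i)⁻¹ = X.z ((ω ^ 5) ^ i * b) := by
  simp [SzD.z, X.fpow_u]

theorem w5_pow_eq_one {i : ℕ} (h : (ω ^ 5) ^ i = 1) : 7 ∣ i := by
  have h7 : (ω ^ 5) ^ 7 = 1 := by decide +kernel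
  rw [← Nat.div_add_mod i 7, pow_add, pow_mul, h7, one_pow, one_mul] at h
  have : ∀ j : Fin 7, (ω ^ 5) ^ (j : ℕ) = 1 → (j : ℕ) = 0 := by decide +kernel
  exact Nat.dvd_of_mod_eq_zero (this ⟨i % 7, Nat.mod_lt _ (by norm_num)⟩ h)

omit [Finite G] in
theorem SzD.u_z_conj (X : SzD L) (a b c : F8) : X.u a b * X.z c * (X.u a b)⁻¹ = X.z c := by
  rw [← X.z_u, mul_inv_cancel_right]

omit [Finite G] in
theorem SzD.cent_z (X : SzD L) {g : G} (hg : g ∈ L) {b : F8} (hb : b ≠ 0)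
    (h : g * X.z b = X.z b * g) : g ∈ X.S := by
  have h' : g * X.u 0 b * g⁻¹ = X.u 0 b := by rw [mul_inv_eq_iff_eq_mul]; exact h
  obtain ⟨a', b', i, rfl⟩ := X.ti g hg 0 b 0 b (fun e => hb (X.z_eq_one.1 e)) h'
  rw [mul_inv_rev, show X.u a' b' * X.f ^ i * X.u 0 b * ((X.f ^ i)⁻¹ * (X.u a' b')⁻¹) =
    X.u a' b' * (X.f ^ i * X.z b * (X.f ^ i)⁻¹) * (X.u a' b')⁻¹ by unfold SzD.z; group, X.fpow_z,
    X.u_z_conj] at h'
  obtain ⟨k, rfl⟩ := w5_pow_eq_one ((mul_left_eq_self₀.1 (X.z_inj h')).resolve_right hb)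
  rw [pow_mul, X.f7, one_pow, mul_one]
  exact X.u_mem_S _ _

theorem SzD.NS_le_NZ (X : SzD L) : N[X.S] ≤ N[X.Z] := fun g hg => mem_N_of_finite fun x hx => by
  refine X.mem_Z_of_sq (conj_mem hg (X.Z_le_S hx)) ?_
  obtain ⟨b, rfl⟩ := hx
  rw [conj_mul, X.z_sq, mul_one, mul_inv_cancel]

theorem SzD.norm_S (X : SzD L) {g : G} (hg : g ∈ N[L]) {b : F8} (hb : b ≠ 0)
    (h : g * X.z b * g⁻¹ ∈ X.Z) : g ∈ N[X.S] ∧ g ∈ N[X.Z] := by
  obtain ⟨c, hc⟩ := h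
  have hc0 : c ≠ 0 := by
    rintro rfl
    rw [X.z_zero, conj_eq_one_iff, X.z_eq_one] at hc
    exact hb hc
  have h1 : g ∈ N[X.S] := mem_N_of_finite fun x hx => by
    refine X.cent_z (conj_mem hg (X.S_le hx)) hc0 ?_
    obtain ⟨a, d, rfl⟩ := hx
    rw [← hc, conj_mul, conj_mul, X.z_u]
  exact ⟨h1, X.NS_le_NZ h1⟩

theorem SzD.frattini (X : SzD L) {g : G} (hg : g ∈ N[L]) :
    ∃ l ∈ L, ∃ n ∈ N[L], n ∈ N[X.S] ∧ n ∈ N[X.Z] ∧ g = l * n := by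
  obtain ⟨l, hl, n, hn, e⟩ := (Frattini_arg Nat.prime_two (nml_N L) X.syl_S).3 g hg
  exact ⟨l, hl, n, hn.1, hn.2, X.NS_le_NZ hn.2, e⟩

theorem SzD.inv_conj (X : SzD L) {t : G} (ht : t ∈ L) (h1 : t ≠ 1) (h2 : t * t = 1) :
    ∃ l ∈ L, l * t * l⁻¹ = X.z 1 := by
  have hp : PiElt {2} t := piElt_of_orderOf_prime Nat.prime_two
    (orderOf_eq_prime (by rw [sq, h2]) h1)
  obtain ⟨g, hg, h⟩ := Sylow_Jsub Nat.prime_two X.syl_S hp.isPi (zpowers_le.2 ht)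
  obtain ⟨b, hb⟩ := X.mem_Z_of_sq (h (conj_mem_cj g (mem_zpowers t)))
    (by rw [conj_mul, h2, mul_one, mul_inv_cancel])
  have hb0 : b ≠ 0 := by
    rintro rfl
    rw [X.z_zero, conj_eq_one_iff] at hb
    exact h1 hb
  obtain ⟨i, hi⟩ := exists_pow5 b⁻¹ (inv_ne_zero hb0)
  refine ⟨X.f ^ (i : ℕ) * g, mul_mem (pow_mem X.f_mem _) hg, ?_⟩
  rw [mul_inv_rev, show X.f ^ (i : ℕ) * g * t * (g⁻¹ * (X.f ^ (i : ℕ))⁻¹) =
    X.f ^ (i : ℕ) * (g * t * g⁻¹) * (X.f ^ (i : ℕ))⁻¹ by group, hb, X.fpow_z, ← hi,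
    inv_mul_cancel₀ hb0]

theorem SzD.f_mem_NZ (X : SzD L) : X.f ∈ N[X.S] ∧ X.f ∈ N[X.Z] :=
  X.norm_S (norm_self L X.f_mem) one_ne_zero ⟨_, X.f_z 1⟩

omit [Finite G] in
theorem SzD.not_le_NZ (X : SzD L) : ¬ L ≤ N[X.Z] := fun h => by
  have := X.simple
  have hn : X.Z ⊴ L := ⟨X.Z_le_S.trans X.S_le, h⟩
  have hc := card_subgroupOf_of_le hn.le
  rw [X.card_Z] at hc
  rcases hn.normal.eq_bot_or_eq_top with e | e <;> rw [e] at hc
  · simp at hc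
  · rw [card_top, X.card] at hc; omega

theorem SzD.le_of_not_NZ (X : SzD L) {Y : Subgroup G} (h1 : X.S ≤ Y) (h2 : X.f ∈ Y) {l : G}
    (hl : l ∈ L) (hY : l ∈ Y) (hn : l ∉ N[X.Z]) : L ≤ Y := by
  refine X.max Y (fun a b => h1 (X.u_mem_S a b)) h2 ⟨l, hl, hY, ?_⟩
  rintro ⟨a, b, i, rfl⟩
  exact hn (mul_mem (X.NS_le_NZ (norm_self _ (X.u_mem_S a b))) (pow_mem X.f_mem_NZ.2 i))

omit [Finite G] in
/-- tight embedding, element form -/
theorem St.mem_N (h : St L G0) {t g : G} (h1 : t ≠ 1) (h2 : t * t = 1) (ht : t ∈ C[L])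
    (hg : g * t * g⁻¹ ∈ C[L]) : g ∈ N[L] := by
  obtain ⟨-, ⟨-, h3⟩, -, h4⟩ := h.std
  by_contra hn
  rw [h4] at hn
  have ho := h3 g hn
  have hm : g * t * g⁻¹ ∈ C[L] ⊓ cj g C[L] := ⟨hg, conj_mem_cj g ht⟩
  have hd := orderOf_dvd_card' hm
  rw [orderOf_conj, orderOf_eq_prime (p := 2) (by rw [sq, h2]) h1] at hd
  exact (Nat.not_even_iff_odd.2 ho) (even_iff_two_dvd.2 hd)

omit [Finite G] in
theorem St.odd_normal (h : St L G0) (X : SzD L) {O : Subgroup G} (hO : O.Normal) (ho : Odd ♯O) :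
    O = ⊥ := by
  have := h.simple
  have := h.nrm
  have h0 : O ⊓ G0 = ⊥ := by
    rcases (inferInstance : (O.subgroupOf G0).Normal).eq_bot_or_eq_top with e | e
    · exact disjoint_iff.1 (subgroupOf_eq_bot.1 e)
    · have hd := card_dvd ((X.S_le.trans h.le).trans (subgroupOf_eq_top.1 e))
      rw [X.card_S] at hd
      exact absurd (ho.of_dvd_nat hd) (by decide)
  exact eq_bot_of_le h.cent (cents_of_inf_eq_bot (norm_of_normal _ _) (norm_of_normal _ _) h0)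

/-- R × S is Sylow in N(L) -/
theorem SzD.syl_N (X : SzD L) {R : Subgroup G} (hR : Syl 2 C[L] R) : Syl 2 N[L] (R ⊔ X.S) := by
  have hRS : X.S ≤ C[R] := cents_symm (cents_of_le hR.le X.S_le)
  refine syl_of_max Nat.prime_two (hR.pi.sup X.pi_S (norm_of_cent hRS))
    (sup_le (hR.le.trans (C_le_N L)) (X.S_le.trans (norm_self L))) fun Q hQ h1 h2 g hg => ?_
  obtain ⟨l, hl, k, hk, e⟩ := X.aut2 g (h2 hg) (hQ.piElt hg)
  have hlk : Commute l k := mem_C.1 hk l hl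
  have e1 : Q ⊓ L = X.S := X.syl_S.eq_of_le (hQ.inf_left L)
    (le_inf (le_sup_right.trans h1) X.S_le) inf_le_right
  have e2 : Q ⊓ C[L] = R := hR.eq_of_le (hQ.inf_left _)
    (le_inf (le_sup_left.trans h1) hR.le) inf_le_right
  have n1 : g ∈ N[X.S] := e1 ▸ norm_inf (norm_self Q) h2 hg
  have n2 : g ∈ N[R] := e2 ▸ norm_inf (norm_self Q) (norm_C h2) hg
  have c1 : k ∈ N[X.S] := C_le_N _ (C_anti X.S_le hk)
  have c2 : l ∈ N[R] := C_le_N _ (cents_symm hR.le hl)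
  have hp : l ^ orderOf g * k ^ orderOf g = 1 := by rw [← hlk.mul_pow, ← e, pow_orderOf_eq_one]
  have p1 : l ^ orderOf g = 1 := by
    rw [← mem_bot, ← X.inf_C]
    refine mem_inf.2 ⟨pow_mem hl _, ?_⟩
    rw [eq_inv_of_mul_eq_one_left hp]; exact inv_mem (pow_mem hk _)
  have p2 : k ^ orderOf g = 1 := by rwa [p1, one_mul] at hp
  have m1 : l ∈ X.S := X.syl_S.le_of_norm (piElt_of_pow_eq_one (hQ.piElt hg) p1).isPi
    (zpowers_le.2 hl) (zpowers_le.2 (by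
      rw [eq_mul_inv_of_mul_eq e.symm]; exact mul_mem n1 (inv_mem c1))) (mem_zpowers l)
  have m2 : k ∈ R := hR.le_of_norm (piElt_of_pow_eq_one (hQ.piElt hg) p2).isPi
    (zpowers_le.2 hk) (zpowers_le.2 (by
      rw [eq_inv_mul_of_mul_eq e.symm]; exact mul_mem (inv_mem c2) n2)) (mem_zpowers k)
  rw [e]
  exact mul_mem (mem_sup_right m1) (mem_sup_left m2)

/-- the additive map with prescribed values on the basis `1, ω, ω²`. -/
def lin3 (x y w a : F8) : F8 :=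
  (if a.val % 2 = 1 then x else 0) + (if a.val / 2 % 2 = 1 then y else 0) +
    (if a.val / 4 = 1 then w else 0)

theorem lin3_basis : ∀ a : F8, lin3 1 ω (ω ^ 2) a = a := by decide +kernel

theorem map_eq_lin3 (α : F8 →+ F8) (a : F8) : α a = lin3 (α 1) (α ω) (α (ω ^ 2)) a := by
  conv_lhs => rw [← lin3_basis a]
  simp only [lin3, map_add, apply_ite α, map_zero]

theorem qlemma (α β : F8 →+ F8) (hα : Function.Injective α) (h : ∀ a, β (a ^ 5) = α a ^ 5) :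
    ∃ (l : F8) (i : Fin 3), ∀ a, α a = l * a ^ 2 ^ (i : ℕ) := by
  have k : ∀ x y w : F8, (∀ a, lin3 x y w a = 0 → a = 0) →
      (∀ a c, lin3 x y w a ^ 5 + lin3 x y w c ^ 5 = lin3 x y w ((a ^ 5 + c ^ 5) ^ 3) ^ 5) →
      ∃ i : Fin 3, ∀ a, lin3 x y w a = x * a ^ 2 ^ (i : ℕ) := by decide +kernel
  have c : ∀ a : F8, (a ^ 3) ^ 5 = a := by decide +kernel
  obtain ⟨i, hi⟩ := k (α 1) (α ω) (α (ω ^ 2))
    (fun a ha => hα (by rw [map_eq_lin3, ha, map_zero])) fun a b => by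
      rw [← map_eq_lin3, ← map_eq_lin3, ← map_eq_lin3, ← h, ← h, ← h, ← map_add, c]
  exact ⟨α 1, i, fun a => by rw [← hi, ← map_eq_lin3]⟩

end H14.Ru
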