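import Mathlib
import Cfsg.Agent.H14.RuA1
import Cfsg.Agent.H24.Base3
import Cfsg.Agent.H17.RC1
import Cfsg.Agent.H8.SzLie
import Cfsg.Agent.H8.SzTori

/-! # Standard subgroup `Sz(8)`: coordinates in `Sz(8)` and its automorphisms -/

set_option autoImplicit false
set_option linter.unusedSectionVars false

namespace H14.Ru

open Cfsg H24 Subgroup

section Abs

variable {M : Type*} [Group M] [Finite M] {X : SzD (⊤ : Subgroup M)} {w : M}

/-- the Weyl element -/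
structure Wy (X : SzD (⊤ : Subgroup M)) (w : M) : Prop where
  ww : w * w = 1
  wf : X.f * w * X.f = w
  nw : w ∉ N[X.S]
  br : ∀ g, g ∈ N[X.S] ∨ ∃ a b, ∃ n ∈ N[X.S], g = X.u a b * w * n

theorem SzD.B_of (X : SzD (⊤ : Subgroup M)) {g s : M} (hs : s ∈ X.S) (h1 : s ≠ 1)
    (h : g * s * g⁻¹ ∈ X.S) : g ∈ N[X.S] := by
  obtain ⟨a, b, rfl⟩ := hs
  obtain ⟨c, d, e⟩ := h
  obtain ⟨a', b', i, rfl⟩ := X.ti g (mem_top _) a b c d h1 e
  exact mul_mem (norm_self _ (X.u_mem_S _ _)) (pow_mem X.f_mem_NZ.1 i)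

theorem SzD.z1 {G : Type*} [Group G] {L : Subgroup G} (X : SzD L) : X.z 1 ≠ 1 :=
  fun e => one_ne_zero (X.z_eq_one.1 e)

theorem SzD.of_B (X : SzD (⊤ : Subgroup M)) {g : M} (h : g ∈ N[X.S]) :
    ∃ a b, ∃ i : ℕ, g = X.u a b * X.f ^ i := by
  obtain ⟨c, d, e⟩ := conj_mem h (X.u_mem_S 0 1)
  exact X.ti g (mem_top _) 0 1 c d X.z1 e

theorem Wy.inv (h : Wy X w) : w⁻¹ = w := inv_eq_of_mul_eq_one_right h.ww

theorem Wy.key (h : Wy X w) {s : M} (hs : s ∈ X.S) (e : w * s * w⁻¹ ∈ N[X.S]) : s = 1 := by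
  by_contra h1
  exact h.nw (X.B_of hs h1 (X.syl_S.le_of_norm ((X.pi_S.piElt hs).conj w).isPi le_top
    (zpowers_le.2 e) (mem_zpowers _)))

theorem aut_S {β : MulAut M} (hβ : ∀ b, β (X.z b) = X.z b) {x : M} (hx : x ∈ X.S) : β x ∈ X.S := by
  obtain ⟨a, b, rfl⟩ := hx
  refine X.cent_z (mem_top _) one_ne_zero ?_
  rw [← hβ 1, ← map_mul, ← map_mul, X.z_u]

theorem aut_B {β : MulAut M} (hβ : ∀ b, β (X.z b) = X.z b) {n : M} (hn : n ∈ N[X.S]) :
    β n ∈ N[X.S] := by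
  obtain ⟨c, e⟩ := conj_mem (X.NS_le_NZ hn) (X.z_mem_Z 1)
  refine X.B_of (X.Z_le_S (X.z_mem_Z 1)) X.z1 ?_
  rw [← hβ 1, ← map_inv, ← map_mul, ← map_mul, e, hβ]
  exact X.Z_le_S (X.z_mem_Z c)

theorem Wy.fix (h : Wy X w) {β : MulAut M} (hβ : ∀ b, β (X.z b) = X.z b) {n : M} (hn : n ∈ N[X.S])
    (hw : β w = w * n) (x : M) : β x = x := by
  have fN := X.f_mem_NZ.1
  have hf : β X.f = X.f := by
    have m : X.f⁻¹ * β X.f ∈ X.S := X.cent_z (mem_top _) one_ne_zero (by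
      rw [← mul_inv_eq_iff_eq_mul, mul_inv_rev, inv_inv, ← hβ 1, ← map_inv, mul_assoc X.f⁻¹,
        ← map_mul, mul_assoc, ← mul_assoc (β _), ← map_mul, X.f_z, hβ, hβ, ← X.f_z]
      group)
    refine (inv_mul_eq_one.1 (h.key m ?_)).symm
    have e := congrArg β h.wf
    rw [map_mul, map_mul, hw] at e
    have e2 : w * X.f⁻¹ = X.f * w := by rw [mul_inv_eq_iff_eq_mul, h.wf]
    have e3 : w * β X.f * w⁻¹ = n * (β X.f)⁻¹ * n⁻¹ := by
      rw [← h.inv, inv_inv, eq_mul_inv_iff_mul_eq, eq_mul_inv_iff_mul_eq, mul_assoc, mul_assoc,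
        mul_assoc, inv_mul_eq_iff_eq_mul, ← e]
      simp only [mul_assoc]
    rw [show w * (X.f⁻¹ * β X.f) * w⁻¹ = w * X.f⁻¹ * w⁻¹ * (w * β X.f * w⁻¹) by group, e2, e3,
      mul_inv_cancel_right]
    exact mul_mem fN (conj_mem (norm_self _ hn) (inv_mem (aut_B hβ fN)))
  have k : ∀ a, ∃ b, β (X.u a 0) = X.u a b := fun a => by
    obtain ⟨c, d, e⟩ := aut_S hβ (X.u_mem_S a 0)
    have := hβ (a ^ 5)
    rw [← X.u_sq a 0, map_mul, e, X.u_sq, X.u_sq] at this
    obtain rfl := (by decide +kernel : ∀ a c : F8, c ^ 5 = a ^ 5 → c = a) _ _ (X.z_inj this)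
    exact ⟨d, e⟩
  choose γ hγ using k
  have uz : ∀ a b, X.u a b = X.u a 0 * X.z b := fun a b => by simp [SzD.z, X.u_mul]
  let γ' : F8 →+ F8 := AddMonoidHom.mk' γ fun a c => by
    have := map_mul β (X.u a 0) (X.u c 0)
    rw [X.u_mul, uz, map_mul, hβ, hγ, hγ, hγ, SzD.z, X.u_mul, X.u_mul] at this
    linear_combination (X.u_inj this).2
  have hu : ∀ a b, β (X.u a b) = X.u a b := fun a b => by
    have : γ a = 0 := (map_eq_lin3 γ' a).trans ((by decide +kernel : ∀ x y w : F8,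
      (∀ a, lin3 x y w (ω * a) = ω ^ 5 * lin3 x y w a) → ∀ a, lin3 x y w a = 0) _ _ _ (fun a => by
        simp only [← map_eq_lin3]
        have := congrArg β (X.f_u a 0)
        rw [map_mul, map_mul, map_inv, hf, hγ, X.f_u, mul_zero, hγ] at this
        exact (X.u_inj this).2.symm) a)
    rw [uz, map_mul, hγ, this, hβ]
  have hB : ∀ g ∈ N[X.S], β g = g := fun g hg => by
    obtain ⟨a, b, i, rfl⟩ := X.of_B hg
    rw [map_mul, map_pow, hu, hf]
  obtain rfl : n = 1 := by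
    rcases h.br (w * X.z 1 * w⁻¹) with e | ⟨a, b, m, hm, e⟩
    · exact absurd (h.key (X.Z_le_S (X.z_mem_Z 1)) e) X.z1
    obtain ⟨c, e1⟩ := conj_mem (X.NS_le_NZ hn) (X.z_mem_Z 1)
    have e2 := congrArg β e
    simp only [map_mul, map_inv, hw, hβ, hu, hB m hm] at e2
    rw [show w * n * X.z 1 * (w * n)⁻¹ = w * (n * X.z 1 * n⁻¹) * w⁻¹ by group, e1] at e2
    have e3 : w * X.z (1 + c) * w⁻¹ = m⁻¹ * n * m := by
      rw [← X.z_mul, ← conj_mul, ← X.z_inv 1, ← conj_inv, e, e2]; group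
    have e4 := h.key (X.Z_le_S (X.z_mem_Z _)) (e3 ▸ mul_mem (mul_mem (inv_mem hm) hn) hm)
    rw [e4, mul_one, mul_inv_cancel, eq_comm, ← inv_inv m, inv_inv, conj_eq_one_iff] at e3
    exact e3
  rcases h.br x with e | ⟨a, b, m, hm, rfl⟩
  · exact hB x e
  · rw [map_mul, map_mul, hu, hw, hB m hm, mul_one]

theorem Wy.autZ (h : Wy X w) {α : MulAut M} (hα : ∀ b, α (X.z b) = X.z b) :
    ∃ a b, ∀ x, α x = X.u a b * x * (X.u a b)⁻¹ := by
  rcases h.br (α w) with e | ⟨a, b, n, hn, e⟩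
  · refine absurd ?_ h.nw
    simpa using aut_B (β := α⁻¹) (fun b => by
      conv_lhs => rw [← hα b]
      simp) e
  refine ⟨a, b, fun x => ?_⟩
  have := h.fix (β := (MulAut.conj (X.u a b))⁻¹ * α) (fun c => by
      simp only [MulAut.mul_apply, hα, MulAut.conj_inv_apply]
      rw [mul_assoc, X.z_u, inv_mul_cancel_left])
    (mul_mem hn (norm_self _ (X.u_mem_S a b))) (by
      simp only [MulAut.mul_apply, e, MulAut.conj_inv_apply]; group) x
  simp only [MulAut.mul_apply, MulAut.conj_inv_apply] at this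
  conv_rhs => rw [← this]
  group

theorem aut21 {α : MulAut M} (hα : ∀ x ∈ X.S, α x ∈ X.S) (b : F8) : (α ^ 21) (X.z b) = X.z b := by
  have c : ∀ a : F8, (a ^ 3) ^ 5 = a := by decide +kernel
  have c' : ∀ a : F8, (a ^ 5) ^ 3 = a := by decide +kernel
  choose A D hA using fun a => hα _ (X.u_mem_S a 0)
  have k : ∀ a, α (X.z (a ^ 5)) = X.z (A a ^ 5) := fun a => by
    rw [← X.u_sq a 0, map_mul, hA, X.u_sq]
  have add : ∀ a b, A (a + b) = A a + A b := fun a b => by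
    have := k (a + b)
    rw [← X.u_sq _ (0 + 0 + a ^ 4 * b), ← X.u_mul, map_mul, map_mul, hA, hA, X.u_mul, X.u_sq] at this
    rw [← c' (A (a + b)), ← X.z_inj this, c']
  obtain ⟨l, i, e⟩ := qlemma (AddMonoidHom.mk' A add)
    (AddMonoidHom.mk' (fun b => A (b ^ 3) ^ 5) fun a b => X.z_inj (by
      rw [← X.z_mul, ← k, ← k, ← k, c, c, c, ← map_mul, X.z_mul]))
    (fun a b e => by
      have : A a = A b := e
      have e2 : X.z (a ^ 5) = X.z (b ^ 5) := α.injective (by rw [k, k, this])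
      rw [← c' a, X.z_inj e2, c'])
    (fun a => by simp [c'])
  replace e : ∀ a, A a = l * a ^ 2 ^ (i : ℕ) := e
  have l0 : l ≠ 0 := by
    rintro rfl
    have := k 1
    rw [e, zero_mul, zero_pow (by norm_num), X.z_zero, EmbeddingLike.map_eq_one_iff, one_pow] at this
    exact X.z1 this
  have it : ∀ n : ℕ, ∀ b, (α ^ n) (X.z b) = X.z ((fun b => (l * (b ^ 3) ^ 2 ^ (i : ℕ)) ^ 5)^[n] b) := by
    intro n
    induction n with
    | zero => simp
    | succ n ih =>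
      intro b
      rw [pow_succ, MulAut.mul_apply, Function.iterate_succ_apply, ← ih, ← e, ← k, c]
  rw [it, (by decide +kernel : ∀ l : F8, l ≠ 0 → ∀ i : Fin 3, ∀ b : F8,
    (fun b => (l * (b ^ 3) ^ 2 ^ (i : ℕ)) ^ 5)^[21] b = b) l l0 i b]

end Abs

theorem exists_wy {M : Type*} [Group M] [Finite M] {F : Type*} [Field F] [Fintype F]
    (hF : Fintype.card F = 8) (e : M ≃* ↥(Cfsg.Lie.Sz F 4)) :
    ∃ (X : SzD (⊤ : Subgroup M)) (w : M), Wy X w := by
  obtain ⟨T⟩ := H8.Sz.nonempty_ctx (F := F) (m := 1) le_rfl hF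
  let ψ : Cfsg.Sz F 1 ≃* M := T.lieEquiv.trans e.symm
  let ι : F8 ≃+* F := FiniteField.ringEquivOfCardEq (F8.card.trans hF.symm)
  have σ : ∀ x, T.σ x = x ^ 4 := T.σ_eq
  let k0 : Fˣ := Units.mk0 (ι (ω ^ 2)) (by rw [map_ne_zero]; decide +kernel)
  have hk : ∀ k : Fˣ, ∃ i : ℕ, T.h k = T.h k0 ^ i := fun k => by
    obtain ⟨i, hi⟩ := (by decide +kernel : ∀ a : F8, a ≠ 0 → ∃ i : Fin 7, a = (ω ^ 2) ^ (i : ℕ))
      (ι.symm k) (by simp)
    exact ⟨i, (congrArg T.hHom (Units.ext (by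
      simp only [k0, Units.val_pow_eq_pow_val, Units.val_mk0]
      rw [← map_pow, ← hi, ι.apply_symm_apply]))).trans (map_pow T.hHom k0 i)⟩
  have hB : ∀ g ∈ H8.Sz.B F 1, ∃ a b, ∃ i : ℕ, ψ g = ψ (T.u (ι a) (ι b)) * ψ (T.h k0) ^ i :=
    fun g hg => by
      obtain ⟨a, b, k, rfl⟩ := T.mem_B.1 hg
      obtain ⟨i, hi⟩ := hk k
      exact ⟨ι.symm a, ι.symm b, i, by simp [hi]⟩
  have hbr : ∀ g, (∃ a b, ∃ i : ℕ, g = ψ (T.u (ι a) (ι b)) * ψ (T.h k0) ^ i) ∨ ∃ a b c d, ∃ i : ℕ,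
      g = ψ (T.u (ι a) (ι b)) * ψ T.w * (ψ (T.u (ι c) (ι d)) * ψ (T.h k0) ^ i) := fun g => by
    obtain ⟨g, rfl⟩ := ψ.surjective g
    rcases T.bruhat g with h | ⟨a, b, c, d, k, rfl⟩
    · exact .inl (hB g (T.mem_B.2 h))
    · obtain ⟨i, hi⟩ := hk k
      exact .inr ⟨ι.symm a, ι.symm b, ι.symm c, ι.symm d, i, by simp [hi]⟩
  have := T.isSimpleGroup
  let X : SzD (⊤ : Subgroup M) :=
    { u := fun a b => ψ (T.u (ι a) (ι b))
      f := ψ (T.h k0)
      u_mem := fun _ _ => mem_top _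
      f_mem := mem_top _
      u_mul := fun a b c d => by rw [← map_mul, T.u_mul, σ]; simp
      u_inj := fun h => by simpa using T.u_inj.1 (ψ.injective h)
      f_u := fun a b => by
        rw [← map_inv, ← map_mul, ← map_mul, T.h_conj_u, σ]
        simp only [k0, Units.val_mk0, ← map_pow, ← map_mul]
        rw [(by decide +kernel : (ω ^ 2) ^ 4 = ω), (by decide +kernel : ω * (ω ^ 2) ^ 2 = ω ^ 5)]
      f7 := by
        rw [← map_pow, ← T.hHom_apply, ← map_pow, show k0 ^ 7 = 1 from Units.ext (by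
          simp only [k0, Units.val_pow_eq_pow_val, Units.val_mk0, ← map_pow]
          rw [(by decide +kernel : (ω ^ 2) ^ 7 = 1), map_one, Units.val_one]), map_one, map_one]
      card := by
        rw [card_top, ← Nat.card_congr ψ.toEquiv, T.card_Sz, Nat.card_eq_fintype_card, hF]
        rfl
      simple := (topEquiv.trans ψ.symm).isSimpleGroup
      ti := fun g _ a b c d h1 h2 => by
        obtain ⟨g, rfl⟩ := ψ.surjective g
        rw [← map_inv, ← map_mul, ← map_mul] at h2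
        exact hB g (T.mem_B_of_conj_mem_U (T.u_mem_U _ _) (fun e => h1 (by rw [e, map_one]))
          (ψ.injective h2 ▸ T.u_mem_U _ _))
      max := fun Y hu hf ⟨l, _, hl, hn⟩ g _ => by
        have hw : ψ T.w ∈ Y := by
          obtain ⟨a, b, c, d, i, rfl⟩ := (hbr l).resolve_left hn
          rwa [mul_mem_cancel_right (mul_mem (hu _ _) (pow_mem hf _)), mul_mem_cancel_left (hu _ _)] at hl
        rcases hbr g with ⟨a, b, i, rfl⟩ | ⟨a, b, c, d, i, rfl⟩
        · exact mul_mem (hu _ _) (pow_mem hf _)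
        · exact mul_mem (mul_mem (hu _ _) hw) (mul_mem (hu _ _) (pow_mem hf _))
      autZ := fun g _ h => by
        obtain ⟨g, rfl⟩ := ψ.surjective g
        obtain ⟨a, b, rfl⟩ := T.mem_U_of_commute (c := g) (T.u_mem_U (ι 0) (ι 1)) (T.u_ne_one (by simp))
          (ψ.injective (by rw [map_mul, map_mul]; exact h 1))
        exact ⟨ι.symm a, ι.symm b, 1, one_mem _, by simp⟩
      aut2 := fun g _ _ => ⟨g, mem_top _, 1, one_mem _, (mul_one g).symm⟩ }
  have mB : ∀ a b (i : ℕ), X.u a b * X.f ^ i ∈ N[X.S] := fun a b i =>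
    mul_mem (norm_self _ (X.u_mem_S _ _)) (pow_mem X.f_mem_NZ.1 i)
  refine ⟨X, ψ T.w, by rw [← map_mul, T.w_mul_w, map_one], ?_, fun h => ?_, fun g => ?_⟩
  · change ψ _ * _ * ψ _ = _
    rw [← map_mul, ← map_mul, mul_assoc, T.w_mul_h, ← mul_assoc, T.h_mul, mul_inv_cancel, T.h_one,
      one_mul]
  · obtain ⟨a, b, i, e⟩ := X.of_B h
    change _ = ψ _ * ψ _ ^ i at e
    rw [← map_pow, ← map_mul, ← T.hHom_apply, ← map_pow, T.hHom_apply] at e
    have := T.w_inf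
    rw [ψ.injective e, mul_smul, T.h_inf, T.u_inf] at this
    exact T.pt_ne_inf 0 0 this.symm
  · rcases hbr g with ⟨a, b, i, rfl⟩ | ⟨a, b, c, d, i, rfl⟩
    · exact .inl (mB a b i)
    · exact .inr ⟨a, b, _, mB c d i, rfl⟩

variable {G : Type*} [Group G] [Finite G] {L G0 V : Subgroup G}

theorem exists_szD {F : Type*} [Field F] [Fintype F] (hF : Fintype.card F = 8)
    (e : Nonempty (↥L ≃* ↥(Cfsg.Lie.Sz F 4))) : Nonempty (SzD L) := by
  obtain ⟨e⟩ := e
  obtain ⟨X, w, h⟩ := exists_wy hF e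
  have ap : ∀ (g : N[L]) (x : L), ((L.normalizerMonoidHom g x : L) : G) = g * x * (g : G)⁻¹ :=
    fun _ _ => rfl
  have aZ : ∀ g ∈ N[L], (∀ b, g * X.u 0 b = X.u 0 b * g) →
      ∃ a b, ∃ k ∈ C[L], g = (X.u a b : G) * k := fun g hg hz => by
    obtain ⟨a, b, e⟩ := h.autZ (α := L.normalizerMonoidHom ⟨g, hg⟩) fun b => Subtype.ext (by
      rw [ap, mul_inv_eq_iff_eq_mul]; exact hz b)
    refine ⟨a, b, (X.u a b : G)⁻¹ * g, mem_C'.2 fun x hx => ?_, by group⟩
    have := congrArg Subtype.val (e ⟨x, hx⟩)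
    rw [ap] at this
    simp only [coe_mul, InvMemClass.coe_inv] at this
    rw [mul_assoc, eq_mul_of_mul_inv_eq this]
    group
  have := X.simple
  exact ⟨{
    u := fun a b => X.u a b
    f := X.f
    u_mem := fun a b => (X.u a b).2
    f_mem := X.f.2
    u_mul := fun a b c d => congrArg Subtype.val (X.u_mul a b c d)
    u_inj := fun h => X.u_inj (Subtype.ext h)
    f_u := fun a b => congrArg Subtype.val (X.f_u a b)
    f7 := congrArg Subtype.val X.f7
    card := card_top.symm.trans X.card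
    simple := topEquiv.symm.isSimpleGroup
    ti := fun g hg a b c d h1 h2 => by
      obtain ⟨a', b', i, e⟩ := X.ti ⟨g, hg⟩ (mem_top _) a b c d (fun e => h1 (congrArg Subtype.val e))
        (Subtype.ext h2)
      exact ⟨a', b', i, congrArg Subtype.val e⟩
    max := fun Y hu hf ⟨l, hl, hY, hn⟩ g hg => X.max (Y.subgroupOf L) hu hf
      ⟨⟨l, hl⟩, mem_top _, hY, fun ⟨a, b, i, e⟩ => hn ⟨a, b, i, congrArg Subtype.val e⟩⟩
      (mem_top ⟨g, hg⟩)
    autZ := aZ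
    aut2 := fun g hg h2 => by
      have s := X.syl_S.map L.subtype
      rw [map_subtype_top] at s
      obtain ⟨P, hP, gP⟩ := Sylow_superset Nat.prime_two h2.isPi (zpowers_le.2 hg)
      obtain ⟨l, hl, e⟩ := Sylow_trans Nat.prime_two (hP.inf_nml ⟨norm_self L, le_rfl⟩) s
      have m : l * g * l⁻¹ ∈ N[L] := conj_mem (norm_self _ (norm_self _ hl)) hg
      have n : l * g * l⁻¹ ∈ N[X.S.map L.subtype] := by
        rw [e, ← cj_N]
        exact conj_mem_cj l (norm_inf (X := zpowers g) (gP.trans (norm_self P)) (zpowers_le.2 hg)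
          (mem_zpowers g))
      obtain ⟨a, b, k, hk, e⟩ := aZ _ m fun b => mem_C'.1 (H17.RC.mem_of_pow (H := C[zpowers (X.z b : G)])
        (h2.conj l) (n := 21) (by decide) (cents_symm (zpowers_le.2 (mem_C.2 (by
          have := congrArg Subtype.val (aut21 (X := X) (α := L.normalizerMonoidHom ⟨_, m⟩)
            (fun x hx => by
              obtain ⟨y, hy, e⟩ := conj_mem n ⟨x, hx, rfl⟩
              exact (Subtype.ext e : y = L.normalizerMonoidHom ⟨_, m⟩ x) ▸ hy) b)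
          rw [← map_pow, ap, mul_inv_eq_iff_eq_mul] at this
          rintro _ ⟨j, rfl⟩
          exact Commute.zpow_left this j))) (mem_zpowers _))) _ (mem_zpowers _)
      refine ⟨l⁻¹ * X.u a b * l, mul_mem (mul_mem (inv_mem hl) (X.u a b).2) hl, k, hk, ?_⟩
      rw [mul_assoc, mem_C.1 hk l hl, ← mul_assoc, mul_assoc l⁻¹, ← e]
      group }⟩

end H14.Ru
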