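import Mathlib
import Cfsg.Agent.H14.RuDefs
import Cfsg.Agent.H14.RuT
import Cfsg.Agent.H7.Cay

/-!
# The model of `M = 2^{3+8} · L₃(2)`

The code `z + 8 w + 2048 k` stands for `z(z) E(w) R(k)`, where `E(w)` is the ordered product of the
generators `e₀, …, e₇` of `Q` given by the bits of `w`, and `R(k)` is `f^i σ^j` (`k = i + 7 j < 21`)
or `f^i σ^j w f^l` (`k = 21 + i + 7 j + 21 l`).  The parameter `t` selects one of two extensions.
-/

set_option autoImplicit false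

namespace H14.Ru

open Cfsg H24 H29 H7.Cay Subgroup

/-- product in `Q`. -/
noncomputable def mq (a b : ℕ) : ℕ :=
  Nat.xor (Nat.xor a b)
    (pk (pk BT 768 (Nat.shiftRight a 3)) 3 (Nat.shiftRight b 3))

/-- action of `R(k)` on `Z`. -/
noncomputable def za (k b : ℕ) : ℕ := pk (pk ZT 24 k) 3 b

/-- action of `R(k)` on `Q`. -/
noncomputable def act (k q : ℕ) : ℕ :=
  Nat.xor (pk (pk PH 2816 k) 11 (Nat.shiftRight q 3)) (za k (Nat.land q 7))

/-- the code of `R(k) R(l)`. -/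
noncomputable def rr (t : Bool) (k l : ℕ) : ℕ :=
  pk (pk (Bool.rec CM0 CM1 t) 3192 k) 19 l

/-- the coset of `Q`. -/
def hi (a : ℕ) : ℕ := Nat.shiftRight a 11

/-- the part in `Q`. -/
def lo (a : ℕ) : ℕ := Nat.land a 2047

/-- product in `L₃(2)`. -/
noncomputable def mk (k l : ℕ) : ℕ := hi (rr false k l)

/-- product in the model. -/
noncomputable def mu (t : Bool) (a b : ℕ) : ℕ :=
  lit a fun a => lit b fun b => lit (hi a) fun k => lit (act k (lo b)) fun p =>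
    Nat.xor (mq (lo a) p) (rr t k (hi b))

/-- inverse in the model. -/
noncomputable def iv (t : Bool) (a : ℕ) : ℕ :=
  lit a fun a => lit (lo a) fun q =>
    mu t (pk (Bool.rec IR0 IR1 t) 19 (hi a)) (Nat.xor q (mq q q))

/-- conjugation `g a g⁻¹`. -/
noncomputable def cn (t : Bool) (g a : ℕ) : ℕ := lit g fun g => mu t (mu t g a) (iv t g)

/-- commutator `a b a⁻¹ b⁻¹`. -/
noncomputable def cm (t : Bool) (a b : ℕ) : ℕ :=
  lit a fun a => lit b fun b => mu t (mu t a b) (iv t (mu t b a))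

/-- commutation test. -/
noncomputable def cmt (t : Bool) (a b : ℕ) : Bool :=
  lit a fun a => lit b fun b => Nat.beq (mu t a b) (mu t b a)

/-- all codes in the listed cosets of `Q` pass a test. -/
noncomputable def allK (l : List ℕ) (f : ℕ → Bool) : Bool :=
  allL l fun k => allF 2048 fun q => lit (Nat.add (Nat.mul 2048 k) q) f

/-- the order of the model. -/
scoped notation "NM" => (344064 : ℕ)

theorem hi_eq (a : ℕ) : hi a = a / 2048 := Nat.shiftRight_eq_div_pow a 11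
theorem lo_eq (a : ℕ) : lo a = a % 2048 := Nat.and_two_pow_sub_one_eq_mod a 11
theorem lo_lt (a : ℕ) : lo a < 2048 := by rw [lo_eq]; omega
theorem hi_lt {a : ℕ} (h : a < NM) : hi a < 168 := by rw [hi_eq]; omega
theorem hi_of_lt {a : ℕ} (h : a < 2048) : hi a = 0 := by rw [hi_eq]; omega
theorem lo_of_lt {a : ℕ} (h : a < 2048) : lo a = a := by rw [lo_eq]; omega
theorem xor_def (a b : ℕ) : Nat.xor a b = a ^^^ b := rfl
theorem shr3 (a : ℕ) : Nat.shiftRight a 3 = a / 8 := Nat.shiftRight_eq_div_pow a 3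
theorem land7 (a : ℕ) : Nat.land a 7 = a % 8 := Nat.and_two_pow_sub_one_eq_mod a 3

theorem xor_mul {q : ℕ} (h : q < 2048) (k : ℕ) : q ^^^ (2048 * k) = 2048 * k + q := by
  refine Nat.eq_of_testBit_eq fun j => ?_
  have e := Nat.testBit_two_pow_mul_add k (i := 11) (b := q) h j
  have e0 := Nat.testBit_two_pow_mul_add k (i := 11) (b := 0) (by norm_num) j
  norm_num at e e0
  rw [e, Nat.testBit_xor, e0]
  split_ifs with hj
  · simp [hj]
  · have : q.testBit j = false := Nat.testBit_lt_two_pow (lt_of_lt_of_le h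
      (Nat.pow_le_pow_right (n := 2) (by norm_num) (show 11 ≤ j by omega)))
    simp [this, hj]

theorem mq_lt {a b : ℕ} (ha : a < 2048) (hb : b < 2048) : mq a b < 2048 :=
  Nat.xor_lt_two_pow (n := 11) (Nat.xor_lt_two_pow (n := 11) ha hb)
    ((pk_lt _ 3 _).trans (by norm_num))
theorem za_lt (k b : ℕ) : za k b < 8 := pk_lt _ 3 _
theorem act_lt (k q : ℕ) : act k q < 2048 :=
  Nat.xor_lt_two_pow (n := 11) (pk_lt _ 11 _) ((za_lt _ _).trans (by norm_num))

theorem xor_div8 (a b : ℕ) : (a ^^^ b) / 8 = (a / 8) ^^^ (b / 8) := by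
  have := Nat.shiftRight_xor_distrib (a := a) (b := b) (i := 3)
  simpa [Nat.shiftRight_eq_div_pow] using this

theorem mq_div (a b : ℕ) : mq a b / 8 = (a / 8) ^^^ (b / 8) := by
  rw [mq, xor_def, xor_def, xor_div8, xor_div8, Nat.div_eq_of_lt (b := 8) (pk_lt _ 3 _),
    Nat.xor_zero]

theorem mu_eq (t : Bool) (a b : ℕ) :
    mu t a b = mq (lo a) (act (hi a) (lo b)) ^^^ rr t (hi a) (hi b) := rfl

theorem chk_rr (t : Bool) : (allF 168 fun k => allF 168 fun l => lit (rr t k l) fun c =>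
    and2 (and2 (Nat.beq (hi c) (mk k l)) (lt (hi c) 168)) (lt (lo c) 8)) = true := by
  cases t <;> decide +kernel

theorem rr_spec (t : Bool) {k l : ℕ} (hk : k < 168) (hl : l < 168) :
    hi (rr t k l) = mk k l ∧ mk k l < 168 ∧ lo (rr t k l) < 8 := by
  have := allF_true.1 (allF_true.1 (chk_rr t) k hk) l hl
  simp only [lit_eq, and2_true, nbeq, lt_true] at this
  exact ⟨this.1.1, this.1.1 ▸ this.1.2, this.2⟩

theorem hi_xor {x : ℕ} (hx : x < 2048) (e : ℕ) : hi (x ^^^ e) = hi e := by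
  have := Nat.shiftRight_xor_distrib (a := x) (b := e) (i := 11)
  rw [show x >>> 11 = 0 from hi_of_lt hx, Nat.zero_xor] at this
  exact this

theorem hi_mu (t : Bool) {a b : ℕ} (ha : a < NM) (hb : b < NM) :
    hi (mu t a b) = mk (hi a) (hi b) := by
  rw [mu_eq, hi_xor (mq_lt (lo_lt _) (act_lt _ _)), (rr_spec t (hi_lt ha) (hi_lt hb)).1]

theorem mk_lt {k l : ℕ} (hk : k < 168) (hl : l < 168) : mk k l < 168 := (rr_spec false hk hl).2.1

theorem mu_lt (t : Bool) {a b : ℕ} (ha : a < NM) (hb : b < NM) : mu t a b < NM := by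
  have := mk_lt (hi_lt ha) (hi_lt hb)
  rw [← hi_mu t ha hb, hi_eq] at this
  omega

theorem chk_b0 : (allF 256 fun w => and2 (Nat.beq (pk (pk BT 768 w) 3 0) 0)
    (Nat.beq (pk (pk BT 768 0) 3 w) 0)) = true := by decide +kernel

theorem mq_z_right {a b : ℕ} (ha : a < 2048) (hb : b < 8) : mq a b = a ^^^ b := by
  have := allF_true.1 chk_b0 (a / 8) (by omega)
  simp only [and2_true, nbeq] at this
  rw [mq, shr3, shr3, Nat.div_eq_of_lt hb, this.1, xor_def, xor_def, Nat.xor_zero]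

theorem mq_z_left {a b : ℕ} (ha : a < 8) (hb : b < 2048) : mq a b = a ^^^ b := by
  have := allF_true.1 chk_b0 (b / 8) (by omega)
  simp only [and2_true, nbeq] at this
  rw [mq, shr3, shr3, Nat.div_eq_of_lt ha, this.2, xor_def, xor_def, Nat.xor_zero]

theorem chk_a0 : (allF 2048 fun q => Nat.beq (act 0 q) q) = true := by decide +kernel
theorem act_zero {q : ℕ} (h : q < 2048) : act 0 q = q := nbeq.1 (allF_true.1 chk_a0 q h)

theorem chk_r0 (t : Bool) : (allF 168 fun k => and2 (and2 (Nat.beq (rr t 0 k) (Nat.mul 2048 k))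
    (Nat.beq (rr t k 0) (Nat.mul 2048 k))) (and2 (allF 8 fun b => Nat.beq (act k b) (za k b))
    (lit (pk (Bool.rec IR0 IR1 t) 19 k) fun c => and2 (lt c 344064)
      (Nat.beq (mu t (Nat.mul 2048 k) c) 0)))) = true := by
  cases t <;> decide +kernel

theorem r0_spec (t : Bool) {k : ℕ} (hk : k < 168) : (rr t 0 k = 2048 * k ∧ rr t k 0 = 2048 * k) ∧
    (∀ b < 8, act k b = za k b) ∧ pk (Bool.rec IR0 IR1 t) 19 k < NM ∧
      mu t (2048 * k) (pk (Bool.rec IR0 IR1 t) 19 k) = 0 := by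
  have := allF_true.1 (chk_r0 t) k hk
  simpa only [lit_eq, and2_true, nbeq, lt_true, allF_true, Nat.mul_eq] using this

theorem mu_Q (t : Bool) {a b : ℕ} (ha : a < 2048) (hb : b < 2048) : mu t a b = mq a b := by
  rw [mu_eq, hi_of_lt ha, hi_of_lt hb, lo_of_lt ha, lo_of_lt hb, act_zero hb,
    (r0_spec t (by norm_num)).1.1]
  simp

theorem mu_QR (t : Bool) {q k : ℕ} (hq : q < 2048) (hk : k < 168) :
    mu t q (2048 * k) = 2048 * k + q := by
  rw [mu_eq, hi_of_lt hq, lo_of_lt hq, show lo (2048 * k) = 0 by rw [lo_eq]; omega,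
    show hi (2048 * k) = k by rw [hi_eq]; omega, act_zero (by norm_num), (r0_spec t hk).1.1,
    mq_z_right hq (by norm_num), Nat.xor_zero, xor_mul hq]

theorem mu_RQ (t : Bool) {q k : ℕ} (hq : q < 2048) (hk : k < 168) :
    mu t (2048 * k) q = 2048 * k + act k q := by
  rw [mu_eq, hi_of_lt hq, lo_of_lt hq, show lo (2048 * k) = 0 by rw [lo_eq]; omega,
    show hi (2048 * k) = k by rw [hi_eq]; omega, (r0_spec t hk).1.2,
    mq_z_left (by norm_num) (act_lt _ _), Nat.zero_xor, xor_mul (act_lt _ _)]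

theorem chk_qi : (allF 2048 fun q => Nat.beq (mq q (Nat.xor q (mq q q))) 0) = true := by
  decide +kernel

theorem allK_true {l : List ℕ} {f : ℕ → Bool} (h : allK l f = true) {a : ℕ} (ha : hi a ∈ l) :
    f a = true := by
  have := allF_true.1 (allL_true.1 h _ ha) (lo a) (lo_lt a)
  rwa [lit_eq, show Nat.add (Nat.mul 2048 (hi a)) (lo a) = a by
    rw [hi_eq, lo_eq]; exact Nat.div_add_mod a 2048] at this

variable {G : Type*} [Group G]

/-- A multiplicative map on codes. -/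
structure Mo (t : Bool) (ψ : ℕ → G) : Prop where
  mul : ∀ a < NM, ∀ b < NM, ψ (mu t a b) = ψ a * ψ b

namespace Mo
variable {t : Bool} {ψ : ℕ → G} (h : Mo t ψ)
include h

theorem zero : ψ 0 = 1 := by
  have := h.mul 0 (by norm_num) 0 (by norm_num)
  rw [mu_Q t (by norm_num) (by norm_num), mq_z_left (by norm_num) (by norm_num)] at this
  exact (mul_left_cancel (this.symm.trans (mul_one _).symm))

theorem mq {a b : ℕ} (ha : a < 2048) (hb : b < 2048) : ψ (mq a b) = ψ a * ψ b := by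
  rw [← mu_Q t ha hb, h.mul a (by omega) b (by omega)]

theorem split {a : ℕ} (ha : a < NM) : ψ a = ψ (lo a) * ψ (2048 * hi a) := by
  have := hi_lt ha
  rw [← h.mul _ (by have := lo_lt a; omega) _ (by omega), mu_QR t (lo_lt a) this, hi_eq, lo_eq,
    Nat.div_add_mod]

omit h in
theorem iv_lt {a : ℕ} (ha : a < NM) : iv t a < NM :=
  mu_lt t (r0_spec t (hi_lt ha)).2.2.1 (lt_trans
    (Nat.xor_lt_two_pow (n := 11) (lo_lt a) (mq_lt (lo_lt a) (lo_lt a))) (by norm_num))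

theorem iv {a : ℕ} (ha : a < NM) : ψ (iv t a) = (ψ a)⁻¹ := by
  have h1 := r0_spec t (hi_lt ha)
  have h2 : Nat.xor (lo a) (Ru.mq (lo a) (lo a)) < 2048 :=
    Nat.xor_lt_two_pow (n := 11) (lo_lt a) (mq_lt (lo_lt a) (lo_lt a))
  have e1 := h.mul (2048 * hi a) (by have := hi_lt ha; omega) _ h1.2.2.1
  rw [h1.2.2.2, h.zero] at e1
  have e2 := h.mq (lo_lt a) h2
  rw [nbeq.1 (allF_true.1 chk_qi _ (lo_lt a)), h.zero] at e2
  change ψ (mu t _ _) = _
  rw [h.mul _ h1.2.2.1 _ (by omega), h.split ha, mul_inv_rev, eq_inv_of_mul_eq_one_right e1.symm,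
    eq_inv_of_mul_eq_one_right e2.symm]

omit h in
theorem cn_lt {g a : ℕ} (hg : g < NM) (ha : a < NM) : cn t g a < NM :=
  mu_lt t (mu_lt t hg ha) (iv_lt hg)

theorem cn {g a : ℕ} (hg : g < NM) (ha : a < NM) : ψ (cn t g a) = ψ g * ψ a * (ψ g)⁻¹ := by
  change ψ (mu t _ _) = _
  rw [h.mul _ (mu_lt t hg ha) _ (iv_lt hg), h.mul _ hg _ ha, h.iv hg]

omit h in
theorem cm_lt {a b : ℕ} (ha : a < NM) (hb : b < NM) : cm t a b < NM :=
  mu_lt t (mu_lt t ha hb) (iv_lt (mu_lt t hb ha))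

theorem cm {a b : ℕ} (ha : a < NM) (hb : b < NM) :
    ψ (cm t a b) = ψ a * ψ b * (ψ a)⁻¹ * (ψ b)⁻¹ := by
  change ψ (mu t _ _) = _
  rw [h.mul _ (mu_lt t ha hb) _ (iv_lt (mu_lt t hb ha)), h.iv (mu_lt t hb ha), h.mul _ ha _ hb,
    h.mul _ hb _ ha]
  group

theorem comm {a b : ℕ} (ha : a < NM) (hb : b < NM) (e : cmt t a b = true) :
    ψ a * ψ b = ψ b * ψ a := by
  rw [← h.mul _ ha _ hb, ← h.mul _ hb _ ha, nbeq.1 e]

theorem R_Q {q k : ℕ} (hq : q < 2048) (hk : k < 168) :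
    ψ (2048 * k) * ψ q * (ψ (2048 * k))⁻¹ = ψ (act k q) := by
  have := act_lt k q
  rw [← h.mul _ (by omega) _ (by omega), mu_RQ t hq hk, ← mu_QR t this hk,
    h.mul _ (by omega) _ (by omega), mul_inv_cancel_right]

theorem zc {q b : ℕ} (hq : q < 2048) (hb : b < 8) : ψ q * ψ b = ψ b * ψ q := by
  rw [← h.mq hq (by omega), ← h.mq (by omega) hq, mq_z_right hq hb, mq_z_left hb hq, Nat.xor_comm]

theorem zx {q b : ℕ} (hq : q < 2048) (hb : b < 8) : ψ (q ^^^ b) = ψ q * ψ b := by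
  rw [← h.mq hq (by omega), mq_z_right hq hb]

/-- action on `Z`. -/
theorem cj_z {a b : ℕ} (ha : a < NM) (hb : b < 8) : ψ a * ψ b * (ψ a)⁻¹ = ψ (za (hi a) b) := by
  have e := h.R_Q (q := b) (by omega) (hi_lt ha)
  rw [(r0_spec t (hi_lt ha)).2.1 b hb] at e
  rw [h.split ha]
  calc _ = ψ (lo a) * (ψ (2048 * hi a) * ψ b * (ψ (2048 * hi a))⁻¹) * (ψ (lo a))⁻¹ := by group
    _ = _ := by rw [e, h.zc (lo_lt a) (za_lt _ _), mul_inv_cancel_right]

end Mo

/-- A faithful multiplicative map on codes. -/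
structure Mi (t : Bool) (ψ : ℕ → G) : Prop extends Mo t ψ where
  inj : ∀ a < NM, ∀ b < NM, ψ a = ψ b → a = b

namespace Mi
variable {t : Bool} {ψ : ℕ → G} (h : Mi t ψ)
include h

theorem cmt {a b : ℕ} (ha : a < NM) (hb : b < NM) (e : ψ a * ψ b = ψ b * ψ a) :
    cmt t a b = true :=
  nbeq.2 (h.inj _ (mu_lt t ha hb) _ (mu_lt t hb ha) (by rw [h.mul _ ha _ hb, h.mul _ hb _ ha, e]))

theorem eq_zero {a : ℕ} (ha : a < NM) (e : ψ a = 1) : a = 0 :=
  h.inj _ ha _ (by norm_num) (e.trans h.zero.symm)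

theorem sq {a : ℕ} (ha : a < NM) (e : ψ a * ψ a = 1) : mu t a a = 0 :=
  h.eq_zero (mu_lt t ha ha) (by rw [h.mul _ ha _ ha, e])

/-- action on `Q / Z`. -/
theorem cj_Q {a q : ℕ} (ha : a < NM) (hq : q < 2048) :
    ∃ c < 2048, c / 8 = act (hi a) q / 8 ∧ ψ a * ψ q * (ψ a)⁻¹ = ψ c := by
  have e := h.R_Q hq (hi_lt ha)
  have h1 := lo_lt a
  have h2 := act_lt (hi a) q
  have h3 : Nat.xor (lo a) (Ru.mq (lo a) (lo a)) < 2048 :=
    Nat.xor_lt_two_pow (n := 11) h1 (mq_lt h1 h1)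
  have e2 := h.mq h1 h3
  rw [nbeq.1 (allF_true.1 chk_qi _ h1), h.zero] at e2
  refine ⟨Ru.mq (Ru.mq (lo a) (act (hi a) q)) (Nat.xor (lo a) (Ru.mq (lo a) (lo a))),
    mq_lt (mq_lt h1 h2) h3, ?_, ?_⟩
  · rw [mq_div, mq_div, xor_def, xor_div8, mq_div, Nat.xor_self, Nat.xor_zero,
      Nat.xor_comm (lo a / 8), Nat.xor_assoc, Nat.xor_self, Nat.xor_zero]
  · rw [h.mq (mq_lt h1 h2) h3, h.mq h1 h2, ← e, eq_inv_of_mul_eq_one_right e2.symm, h.split ha]
    group

end Mi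

/-- `N(Z) = M₀ × D`, where `M₀` is one of the two model groups. -/
structure MD {L : Subgroup G} (X : SzD L) (V : Subgroup G) where
  t : Bool
  ψ : ℕ → G
  D : Subgroup G
  mi : Mi t ψ
  ψ_z : ∀ b : F8, ψ b.val = X.z b
  mem_S : ∀ g, g ∈ X.S ↔ ∃ c < 256, c / 8 % 4 = 0 ∧ g = ψ c
  mem_V : ∀ g, g ∈ V ↔ g = ψ 0 ∨ g = ψ 8 ∨ g = ψ 16 ∨ g = ψ 24
  oddD : Odd ♯D
  D_L : D ≤ C[L]
  D_ψ : ∀ c < NM, ψ c ∈ C[D]
  NZ : ∀ g ∈ N[X.Z], ∃ c < NM, ∃ d ∈ D, g = ψ c * d

end H14.Ru
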