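import Mathlib
import Cfsg.Agent.H14.RuM
import Cfsg.Agent.H14.RuT2
import Cfsg.Agent.H29.TC

/-! Kernel checks in the model of `2^{3+8} · L₃(2)`. -/

set_option autoImplicit false

namespace H14.Ru

open H29 H7.Cay

/-- inequality test. -/
noncomputable def nq (a b : ℕ) : Bool := Bool.rec true false (Nat.beq a b)

theorem nq_true {a b : ℕ} : nq a b = true ↔ a ≠ b := by
  rw [nq, Ne, ← nbeq]; cases Nat.beq a b <;> simp

/-- negation. -/
noncomputable def no (a : Bool) : Bool := Bool.rec true false a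

theorem no_true {a : Bool} : no a = true ↔ ¬ a = true := by cases a <;> simp [no]

/-- some number below `n` passes a test. -/
noncomputable def anyF (n : ℕ) (f : ℕ → Bool) : Bool := no (allF n fun a => no (f a))

theorem anyF_true {n : ℕ} {f : ℕ → Bool} : anyF n f = true ↔ ∃ a < n, f a = true := by
  simp [anyF, no_true, allF_true]

/-- choice of a table. -/
noncomputable def tb (t : Bool) (a b : ℕ) : ℕ := Bool.rec a b t

/-- codes of the members of `DD`. -/
noncomputable def dd (c : ℕ) : Bool := and2 (lt c 2048) (Nat.beq (pk DM 1 (Nat.shiftRight c 3)) 1)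

/-- codes of the elements of `W`. -/
noncomputable def inW (c : ℕ) : Bool := memL (Nat.shiftRight c 3) [0, 74, 147, 217]

/-- commutation in `Q`. -/
noncomputable def cq (a b : ℕ) : Bool := Nat.beq (mq a b) (mq b a)

/-- stabiliser of `z`. -/
def Sa : List ℕ := [0, 7, 14, 21, 28, 35, 45, 55, 61, 68, 73, 83, 88, 92, 100, 111, 117, 122, 127,
  135, 144, 149, 158, 162]
/-- `O₂` of the stabiliser of `z`. -/
def Va : List ℕ := [0, 88, 135, 162]
/-- centraliser of the plane `⟨1, 2⟩`. -/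
def Vb : List ℕ := [0, 21, 122, 135]
/-- stabiliser of the flag. -/
def D8 : List ℕ := [0, 21, 61, 83, 88, 122, 135, 162]
/-- a second conjugate of `Z` in `W`. -/
def Zp : List ℕ := [0, 1, 594, 595, 1180, 1181, 1740, 1741]

/-- inverse in `L₃(2)`. -/
noncomputable def ik (k : ℕ) : ℕ := hi (pk IR0 19 k)

/-- the rules that read a check. -/
theorem rd : (∀ n f, allF n f = true ↔ ∀ a < n, f a = true) ∧
    (∀ (l : List ℕ) f, allL l f = true ↔ ∀ a ∈ l, f a = true) ∧
    (∀ a b, and2 a b = true ↔ a = true ∧ b = true) ∧ (∀ a b, imp2 a b = true ↔ (a = true → b = true)) ∧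
    (∀ a b, or2 a b = true ↔ a = true ∨ b = true) ∧ (∀ a b, Nat.beq a b = true ↔ a = b) ∧
    (∀ a b, lt a b = true ↔ a < b) ∧ (∀ x (k : ℕ → Bool), lit x k = k x) ∧
    (∀ x (k : ℕ → ℕ), lit x k = k x) ∧ (∀ y l, memL y l = true ↔ y ∈ l) ∧
    (∀ a b, Nat.ble a b = true ↔ a ≤ b) ∧ (∀ (l : List ℕ) f, anyL l f = true ↔ ∃ a ∈ l, f a = true) ∧
    (∀ a b, nq a b = true ↔ a ≠ b) ∧ (∀ a, no a = true ↔ ¬ a = true) ∧
    (∀ n f, anyF n f = true ↔ ∃ a < n, f a = true) ∧ (∀ a b, Nat.xor a b = a ^^^ b) ∧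
    (∀ a, Nat.shiftRight a 3 = a / 8) ∧ (∀ a, Nat.shiftRight a 1 = a / 2) ∧
    (∀ a b, Nat.add a b = a + b) ∧ (∀ a b, Nat.mul a b = a * b) :=
  ⟨fun _ _ => allF_true, fun _ _ => allL_true, fun _ _ => and2_true, fun _ _ => imp2_true,
    fun _ _ => or2_true, fun _ _ => nbeq, fun _ _ => lt_true, fun _ _ => rfl, fun _ _ => rfl,
    fun _ _ => memL_true, fun _ _ => ble_true, fun _ _ => anyL_true, fun _ _ => nq_true,
    fun _ => no_true, fun _ _ => anyF_true, fun _ _ => rfl, shr3,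
    fun a => Nat.shiftRight_eq_div_pow a 1, fun _ _ => rfl, fun _ _ => rfl⟩

theorem k_ik (t : Bool) : (allF 168 fun k => and2 (Nat.beq (mk (hi (pk (Bool.rec IR0 IR1 t) 19 k)) 0)
    (ik k)) (lt (ik k) 168)) = true := by cases t <;> decide +kernel

theorem k_za : (allF 168 fun k => and2 (and2 (and2 (Nat.beq (za k 0) 0)
    (imp2 (and2 (Nat.beq (za k 1) 1) (Nat.beq (za k 2) 2))
      (and2 (memL k Vb) (imp2 (Nat.beq (za k 4) 4) (Nat.beq k 0)))))
    (and2 (imp2 (Nat.beq (za k 1) 1) (memL k Sa)) (imp2 (memL k Sa) (Nat.beq (za k 1) 1))))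
    (imp2 (Nat.beq (Nat.shiftRight (act k 8) 3) 1)
      (imp2 (or2 (Nat.beq (mk k k) 0) (Nat.beq (za k 1) 1)) (Nat.beq k 0)))) = true := by
  decide +kernel

theorem k_D8 : and2 (allL D8 fun k => and2 (and2 (allL D8 fun l => memL (mk k l) D8) (memL (ik k) D8))
      (and2 (Nat.beq (lit (mk k k) fun l => mk l l) 0) (memL k Sa)))
    (allF 168 fun k => imp2 (allL [21, 61] fun l => anyL D8 fun l' => Nat.beq (mk l' k) (mk k l))
      (memL k D8)) = true := by decide +kernel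

theorem k_Sa : (allL Sa fun k => and2 (allL Sa fun l => memL (mk k l) Sa) (memL (ik k) Sa)) = true := by
  decide +kernel

theorem k_inv : (allF 168 fun k => imp2 (and2 (nq k 0) (Nat.beq (mk k k) 0)) (lit (pk KW 8 k) fun g =>
    and2 (and2 (lt g 168) (allF 168 fun l => imp2 (Nat.beq (mk l g) (mk g k)) (Nat.beq l 88)))
      (imp2 (memL k Sa) (or2 (and2 (memL k Va) (memL g Sa)) (lit (pk KO 8 k) fun g' => and2 (memL g' Sa)
        (allF 168 fun l => imp2 (Nat.beq (mk l g') (mk g' k)) (Nat.beq l 21))))))) = true := by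
  decide +kernel

theorem c_dd (t : Bool) : (allF 2048 fun c => imp2 (dd c) (lit (pk (tb t W1x0 W1x1) 19 c) fun m =>
    and2 (lt m 344064) (Nat.beq (cn t m 8) c))) = true := by cases t <;> decide +kernel

theorem c_nd (t : Bool) : (allF 2048 fun c => imp2 (and2 (Nat.ble 8 c) (Nat.beq (mq c c) 0)) (or2 (dd c)
    (and2 (and2 (lit (pk W2 11 c) fun a => lit (pk W3 11 c) fun b =>
        and2 (and2 (Nat.beq (mq a a) 0) (no (cq a b))) (and2 (cq a c) (cq b c)))
      (lit (pk (tb t W9x0 W9x1) 19 c) fun m => and2 (lt m 344064) (Nat.beq (cn t m c) 594)))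
    (and2 (or2 (inW c) (lit (pk W6 11 c) fun v => and2 (dd v) (lt (cn t v c ^^^ c) 2)))
      (lit (pk Y1 11 c) fun a => lit (pk Y2 11 c) fun b => lit (pk Y3 11 c) fun d =>
        and2 (and2 (cq a c) (and2 (cq b c) (cq d c))) (allF 8 fun e =>
          memL e [0, mq a a, mq b b, mq d d, mq a a ^^^ mq b b, mq a a ^^^ mq d d, mq b b ^^^ mq d d,
            mq a a ^^^ mq b b ^^^ mq d d])))))) = true := by cases t <;> decide +kernel

theorem c_out (t : Bool) : (allF 2048 fun q => and2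
    (lit (Nat.add 180224 q) fun c => imp2 (Nat.beq (mu t c c) 0)
      (Nat.beq (cn t (pk (tb t W4x0 W4x1) 11 q) c) 180722))
    (lit (Nat.add 43008 q) fun c => imp2 (Nat.beq (mu t c c) 0)
      (Nat.beq (cn t (pk (tb t W7x0 W7x1) 11 q) c) 43008))) = true := by cases t <;> decide +kernel

theorem c_f1 : (allF 2048 fun q => imp2 (and2 (Nat.beq (mq q q) 0) (cq q 8)) (or2 (lt q 8) (dd q))) =
    true := by decide +kernel

theorem c_W (t : Bool) : (allF 2048 fun c => imp2 (inW c) (and2 (and2 (Nat.beq (mq c c) 0)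
      (allF 8 fun b => inW (c ^^^ b)))
    (and2 (imp2 (Nat.ble 8 c) (lit (pk (tb t W8x0 W8x1) 19 c) fun m =>
      and2 (memL (hi m) Sa) (Nat.beq (cn t m 594) c)))
    (or2 (or2 (lt c 8) (lt (mq c 594) 8)) (or2 (memL c Zp) (anyL [180312, 180432] fun y =>
      and2 (and2 (cmt t y 594) (cmt t y c)) (lit (mu t y y) fun s =>
        no (memL (Nat.shiftRight s 1) [0, 297, Nat.shiftRight c 1, Nat.shiftRight (mq 594 c) 1])))))))) =
    true := by cases t <;> decide +kernel

theorem c_wc (t : Bool) : (allF 4 fun i => allF 2048 fun q =>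
    lit (Nat.add (Nat.mul 2048 (nth 0 Vb i)) q) fun c => imp2 (Nat.beq (mu t c c) 0) (or2 (lt c 8)
      (lit (pk (tb t W5x0 W5x1) 19 (Nat.add (Nat.mul 2048 i) q)) fun s => and2
        (and2 (memL (hi s) Vb) (cmt t s c)) (lit (mu t s s) fun y =>
          and2 (Nat.ble 4 y) (Nat.ble 4 (y ^^^ c)))))) = true := by cases t <;> decide +kernel

theorem c_ra (t : Bool) : (allK [73, 117, 135, 162] fun b => imp2 (Nat.beq (mu t b b) 0)
    (imp2 (cmt t b 180722) (no (memL (cm t 496 b) [0, 1, 180722, 180723])))) = true := by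
  cases t <;> decide +kernel

theorem c_ti (t : Bool) : (allK [35, 55] fun b => imp2 (Nat.beq (mu t b b) 0)
    (imp2 (cmt t b 180722) (no (cmt t 594 b)))) = true := by cases t <;> decide +kernel

theorem c_one (t : Bool) : and2 (and2 (and2 (and2 (cmt t 4 180722) (cmt t 276600 180722))
      (no (cmt t 4 276600))) (and2 (and2 (Nat.beq (cn t 2 180722) 180723)
        (cmt t (tb t 71680 71848) 180722)) (Nat.beq (cm t 2 (tb t 71680 71848)) 4)))
    (and2 (and2 (and2 (lt (cn t 496 180722 ^^^ 180722) 2) (lt (cn t 136 43008 ^^^ 43008) 2))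
      (and2 (Nat.beq (mu t 136 136) 3) (cmt t 594 180722)))
    (and2 (and2 (cmt t 1180 180722) (dd (mu t 64 (cn t 43008 224))))
      (and2 (allF 8 fun b => Nat.beq (cn t (nth 0 [0, 1280, 256, 1024, 512, 1792, 768, 1536] b) 8)
        (8 ^^^ b)) (and2 (and2 (Nat.beq (cm t 8 1368) 1) (Nat.beq (cm t 8 328) 2))
          (and2 (Nat.beq (cm t 8 568) 4) (allL [8, 1368, 328, 568] dd)))))) = true := by
  cases t <;> decide +kernel

/-- checks on the action of `L₃(2)` on `Z`. -/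
theorem k_act : and2 (and2
    (allL Sa fun k1 => allL Sa fun k2 => allF 8 fun b => imp2 (and2 (Nat.ble 2 b)
      (and2 (lt (za k1 b ^^^ b) 2) (Nat.beq (za k2 b) b))) (allL Sa fun k3 =>
        imp2 (allF 8 fun x => Nat.beq (za k3 (za k2 (za k1 x))) (za k1 (za k2 x)))
          (allF 8 fun x => lt (za k3 x ^^^ x) 2)))
    (allL Sa fun k => allF 8 fun b => imp2 (Nat.ble 2 b) (and2
      (imp2 (lt (za k b ^^^ b) 2) (allF 8 fun x => and2 (lt (za k (za k x) ^^^ x) 2)
        (memL (za k x ^^^ x) [0, 1, b, b ^^^ 1])))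
      (imp2 (Nat.beq (za k b) b) (allF 8 fun x => Nat.beq (za k (za k x)) x)))))
    (and2 (and2 (allL Sa fun k => and2 (imp2 (allF 8 fun x => lt (za k x ^^^ x) 2)
          (and2 (memL k Va) (or2 (Nat.beq k 0) (anyF 8 fun x => Nat.beq (za k x) (x ^^^ 1)))))
        (and2 (imp2 (memL k Va) (allF 8 fun x => lt (za k x ^^^ x) 2))
          (imp2 (Nat.beq (za k 4) 5) (memL k [73, 117, 135, 162]))))
      (allF 8 fun b => and2 (imp2 (Nat.ble 2 b) (lit (nth 0 [0, 0, 0, 61, 7, 45, 14, 55] b) fun k =>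
          and2 (memL k Sa) (Nat.beq (za k 2) b)))
        (imp2 (Nat.ble 1 b) (Nat.beq (za (nth 0 [0, 0, 4, 5, 1, 3, 2, 6] b) b) 1))))
    (and2 (allF 168 fun k => and2 (imp2 (and2 (Nat.beq (mk k k) 0) (Nat.beq (mk k 88) (mk 88 k)))
        (memL k [0, 35, 55, 88, 135, 162]))
        (imp2 (and2 (Nat.beq (za k 1) 1) (Nat.beq (za k 4) 4)) (memL k [0, 35, 55, 88])))
      (allF 8 fun b0 => allF 8 fun b1 => imp2 (and2 (Nat.ble 2 b0)
        (no (memL b1 [0, 1, b0, b0 ^^^ 1]))) (allF 8 fun b =>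
          memL b [0, 1, b0, b0 ^^^ 1, b1, b1 ^^^ 1, b0 ^^^ b1, b0 ^^^ b1 ^^^ 1])))) = true := by
  decide +kernel

/-- fixed planes of two involutions. -/
theorem k_ti : (allL Sa fun k1 => imp2 (allF 8 fun x => Nat.beq (za k1 (za k1 x)) x)
    (or2 (Nat.beq k1 0) (anyF 8 fun b1 => and2 (and2 (and2 (Nat.ble 2 b1) (Nat.beq (za k1 b1) b1))
      (allF 8 fun b => imp2 (Nat.beq (za k1 b) b) (memL b [0, 1, b1, b1 ^^^ 1])))
      (allL Sa fun k2 => imp2 (allF 8 fun x => Nat.beq (za k2 (za k2 x)) x)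
        (or2 (Nat.beq (za k2 b1) b1) (anyF 8 fun b2 => and2 (Nat.beq (za k2 b2) b2)
          (no (memL b2 [0, 1, b1, b1 ^^^ 1])))))))) = true := by decide +kernel

end H14.Ru
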