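import Mathlib
import Cfsg.Agent.H14.RuNC

/-! The two interfaces of the identification of the Rudvalis group. -/

set_option autoImplicit false

namespace H14.Ru

variable {G : Type*} [Group G]

/-- Result of the local analysis: `M = N(Z)` is the model group, and how `H = C(z)` lies. -/
structure HD (t : Bool) (ψ : ℕ → G) : Prop where
  mi : Mi t ψ
  /-- `C(Z₀) ≤ M` for the plane `Z₀ = ⟨1, 2⟩`. -/
  c0 : ∀ g, g * ψ 1 * g⁻¹ = ψ 1 → g * ψ 2 * g⁻¹ = ψ 2 → ∃ c < NM, g = ψ c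
  /-- `N(Z) = M`. -/
  nz : ∀ g, (∀ b < 8, ∃ b' < 8, g * ψ b * g⁻¹ = ψ b') → ∃ c < NM, g = ψ c
  /-- `W` is normal in `H`. -/
  w : ∀ g, g * ψ 1 * g⁻¹ = ψ 1 → ∀ c, inW c = true → ∃ c', inW c' = true ∧ g * ψ c * g⁻¹ = ψ c'
  /-- `H ∩ M` is transitive on the other `H`-conjugates of `Z`. -/
  sp : ∀ g, g * ψ 1 * g⁻¹ = ψ 1 → (∃ c < NM, g = ψ c) ∨ ∃ m < NM, hi m ∈ Sa ∧
    ∀ b < 8, ∃ c ∈ Zp, ψ m * g * ψ b * (ψ m * g)⁻¹ = ψ c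
  ex : ∃ g, g * ψ 1 * g⁻¹ = ψ 1 ∧ ¬ ∃ c < NM, g = ψ c

/-- The relations between `M` and the involution `r`. -/
structure Am (ψ : ℕ → G) (r : G) : Prop where
  mi : Mi false ψ
  rr : r * r = 1
  r1 : r * ψ 88 * r⁻¹ = ψ 333458
  r2 : r * ψ 32 * r⁻¹ = ψ 256
  r3 : r * ψ 14336 * r⁻¹ = ψ 14336
  r4 : r * ψ 43008 * r⁻¹ = ψ 43009
  s3 : (r * ψ 44121) ^ 3 = 1
  s7 : (r * ψ 98304) ^ 7 = 1

/-- The subgroup generated by `M` and `r`. -/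
def Gr (ψ : ℕ → G) (r : G) : Subgroup G := Subgroup.closure (insert r (ψ '' {c | c < NM}))

theorem r_mem_Gr (ψ : ℕ → G) (r : G) : r ∈ Gr ψ r := Subgroup.subset_closure (Set.mem_insert _ _)

theorem ψ_mem_Gr (ψ : ℕ → G) (r : G) {c : ℕ} (hc : c < NM) : ψ c ∈ Gr ψ r :=
  Subgroup.subset_closure (Set.mem_insert_of_mem _ ⟨c, hc, rfl⟩)

end H14.Ru
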