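import Mathlib
import Cfsg.Agent.H14.RuA1
import Cfsg.Agent.H24.Base5
import Cfsg.Agent.H7.SpSuSimple
import Cfsg.Agent.S1169
import Cfsg.Agent.S0222
import Cfsg.Agent.S1347

/-! # Standard subgroup `Sz(8)`: reductions and the Bender arithmetic -/

set_option autoImplicit false
set_option linter.unusedSectionVars false

namespace H14.Ru

open Cfsg H24 Subgroup

variable {G : Type*} [Group G] [Finite G] {L G0 V : Subgroup G}

theorem reduce68 (hO : Cfsg.oddCore G = ⊥) (hL : IsStandardSubgroup L)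
    (hR : ¬ Cfsg.PRankLE 2 1 ↥C[L]) : L.Normal ∨ St L (Cfsg.layer G) := by
  obtain ⟨t, ht⟩ := exists_prime_orderOf_dvd_card' (G := C[L]) 2 (even_iff_two_dvd.1 hL.2.1.1)
  rw [← orderOf_coe] at ht
  by_cases hn : L.Normal
  · exact .inl hn
  rcases Cfsg.Agent.S1347.result L hL hO t ht t.2 with h | ⟨-, -, -, -, -, -, -, h⟩ | ⟨h1, h2, -⟩
  · exact .inl h
  · refine absurd (fun A _ _ => (card_le_card_group A).trans ?_) hR
    rw [h, Nat.card_zpowers, ht, pow_one]
  have nC : C[layer G].Normal := inferInstance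
  refine .inr ⟨hL, inferInstance, h2, h1, ?_, hn⟩
  rcases Nat.even_or_odd ♯C[layer G] with e | e
  · refine absurd (normalizer_eq_top_iff.1 (eq_top_iff.2 fun g _ => ?_)) hn
    rw [hL.2.2.2]
    by_contra hg
    exact Nat.not_even_iff_odd.2 (odd_of_le (hL.2.1.2 g hg) (le_inf (C_anti h1)
      ((cj_of_mem_N (norm_of_normal ⊤ _ (mem_top g))).ge.trans (cj_mono g (C_anti h1))))) e
  · exact eq_bot_of_le hO (le_sSup ⟨nC, e.coprime_two_right⟩)

theorem reduce32 [IsSimpleGroup G] (hG : ¬ IsMulCommutative G) (hL : IsStandardSubgroup L) :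
    St L ⊤ := by
  have hc : C[(⊤ : Subgroup G)] = ⊥ :=
    (inferInstance : C[(⊤ : Subgroup G)].Normal).eq_bot_or_eq_top.resolve_right fun e =>
      hG ⟨⟨fun a b => mem_C.1 (e.ge (mem_top b)) a (mem_top a)⟩⟩
  refine ⟨hL, inferInstance, topEquiv.isSimpleGroup, le_top, hc, fun hn => ?_⟩
  rcases hn.eq_bot_or_eq_top with rfl | rfl
  · have := hL.1.2
    exact not_subsingleton _ (QuotientGroup.mk_surjective (s := center (⊥ : Subgroup G))).subsingleton
  · have := hL.2.1.1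
    rw [hc, card_bot] at this
    exact absurd this (by decide)

theorem two_pow_eq {a b m d : ℕ} (hm : Odd m) (hd : Odd d) (h : 2 ^ a * m = 2 ^ b * d) : a = b := by
  have k : ∀ {a b m d : ℕ}, Odd d → 2 ^ a * m = 2 ^ b * d → a ≤ b := fun hd h =>
    (Nat.pow_dvd_pow_iff_le_right one_lt_two).1
      ((hd.coprime_two_left.pow_left _).dvd_of_dvd_mul_right ⟨_, h.symm⟩)
  exact le_antisymm (k hd h) (k hm h.symm)

theorem odd_two_pow_sub {k : ℕ} (hk : k ≠ 0) : Odd (2 ^ k - 1) :=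
  Nat.Even.sub_odd Nat.one_le_two_pow (Nat.even_pow.2 ⟨even_two, hk⟩) odd_one

theorem odd_two_pow_add {k : ℕ} (hk : k ≠ 0) : Odd (2 ^ k + 1) :=
  (Nat.even_pow.2 ⟨even_two, hk⟩).add_one

open Matrix MatrixGroups in
theorem psl_sq {F : Type*} [Field F] [CharP F 2] (g : PSL(2, F)) (h : g * g * (g * g) = 1) :
    g * g = 1 := by
  obtain ⟨A, rfl⟩ := QuotientGroup.mk_surjective g
  rw [← QuotientGroup.mk_mul, ← QuotientGroup.mk_mul, QuotientGroup.eq_one_iff,
    Matrix.SpecialLinearGroup.mem_center_iff] at h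
  obtain ⟨r, hr, e⟩ := h
  have two : (2 : F) = 0 := CharTwo.two_eq_zero
  obtain rfl : r = 1 := by
    have : (r - 1) ^ 2 = 0 := by
      simp only [Fintype.card_fin] at hr
      linear_combination hr + (1 - r) * two
    exact sub_eq_zero.1 (pow_eq_zero_iff two_ne_zero |>.1 this)
  have d := A.det_coe
  rw [det_fin_two] at d
  have e1 := congrFun (congrFun e 0) 0
  have e2 := congrFun (congrFun e 0) 1
  have e3 := congrFun (congrFun e 1) 0
  simp [Matrix.mul_apply, Fin.sum_univ_two] at e1 e2 e3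
  have t : A 0 0 + A 1 1 = 0 := by
    by_contra t
    have b : A 0 1 = 0 := mul_left_cancel₀ (pow_ne_zero 3 t) (by
      linear_combination - e2 + 2 * A 0 1 * (A 0 0 + A 1 1) * d + A 0 1 * (A 0 0 + A 1 1) * two)
    rw [b] at e1 d
    have : (A 0 0 * (A 0 0 + A 1 1)) ^ 4 = 0 := by
      have : A 0 0 * (A 0 0 + A 1 1) = A 0 0 ^ 2 + 1 := by linear_combination d
      rw [this]
      linear_combination - (A 0 0 ^ 4 - 1) * e1 + (2 * A 0 0 ^ 6 + 4 * A 0 0 ^ 4 + 2 * A 0 0 ^ 2) * two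
    rcases mul_eq_zero.1 (pow_eq_zero_iff (by norm_num) |>.1 this) with e | e
    · rw [e] at d; simp at d
    · exact t e
  rw [← QuotientGroup.mk_mul, show A * A = 1 from ?_, QuotientGroup.mk_one]
  ext i j
  fin_cases i <;> fin_cases j <;> simp [Matrix.mul_apply, Fin.sum_univ_two]
  · linear_combination A 0 0 * t - d - two
  · linear_combination A 0 1 * t
  · linear_combination A 1 0 * t
  · linear_combination A 1 1 * t - d - two

/-- consequences of a strongly embedded subgroup of `G0` -/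
theorem St.se (h : St L G0) (X : SzD L) {H : Subgroup G0} (hH : IsStronglyEmbedded H) :
    (∀ s ∈ G0, s ≠ 1 → s * s = 1 → ∃ g ∈ G0, g * s * g⁻¹ = X.z 1) ∧
      ∀ P, Syl 2 G0 P → ♯P ≠ 64 ∧ ♯P ≠ 512 := by
  have := h.simple
  have um : ∀ a b, X.u a b ∈ G0 := fun a b => h.le (X.u_mem a b)
  have z1 : X.z 1 ≠ 1 := fun e => one_ne_zero (X.z_eq_one.1 e)
  refine ⟨fun s hs h1 h2 => ?_, fun P hP => ?_⟩
  · obtain ⟨g, e⟩ := H26.BR.conj_of_se hH (u := ⟨s, hs⟩) (v := ⟨X.z 1, um 0 1⟩)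
      (by rw [← orderOf_coe]; exact orderOf_eq_prime (by rw [sq, h2]) h1)
      (by rw [← orderOf_coe]; exact orderOf_eq_prime (by rw [sq, X.z_sq]) z1)
    exact ⟨g, g.2, congrArg Subtype.val e⟩
  have hm : Odd (P.relIndex G0) := Nat.not_even_iff_odd.1 fun e =>
    hP.not_dvd Nat.prime_two (even_iff_two_dvd.1 e)
  have hc := hP.card
  have hd := card_dvd h.le
  rw [X.card] at hd
  suffices k : ∀ a, a = 6 ∨ a = 9 → ♯P ≠ 2 ^ a from ⟨k 6 (.inl rfl), k 9 (.inr rfl)⟩
  intro a ha e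
  rw [e] at hc
  rcases Cfsg.Agent.S0222.result (G := G0) ⟨⟨_, um 1 0⟩, ⟨_, um ω 0⟩, fun e => by
      have := congrArg Subtype.val e
      simp only [coe_mul, X.u_mul] at this
      exact absurd (X.u_inj this).2 (by decide +kernel)⟩ H hH with
    ⟨F, _, _, _, h4, ⟨φ⟩⟩ | ⟨-, m, h1, h2⟩ | ⟨F, _, _, q, hF, h2, h4, ⟨φ⟩⟩
  · have := psl_sq (φ ⟨_, um 1 0⟩) (by
      rw [← map_mul, ← map_mul, EmbeddingLike.map_eq_one_iff]
      exact Subtype.ext (by simp only [coe_mul, X.u_sq, X.z_sq, coe_one]))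
    rw [← map_mul, EmbeddingLike.map_eq_one_iff] at this
    have := congrArg Subtype.val this
    simp only [coe_mul, X.u_sq, coe_one, one_pow] at this
    exact z1 this
  · rw [h2, ← pow_mul, mul_assoc] at hc
    have := two_pow_eq hm ((odd_two_pow_add (by omega)).mul (odd_two_pow_sub (by omega))) hc
    obtain rfl : m = 1 := by omega
    have : L = G0 := eq_of_card_eq h.le (by rw [h2, X.card]; norm_num)
    exact h.ne (this ▸ h.nrm)
  · obtain ⟨p, _, k, hp, hk⟩ := FiniteField.card' F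
    obtain rfl : 2 = p := (Nat.prime_dvd_prime_iff_eq Nat.prime_two hp).1
      (Nat.prime_two.dvd_of_dvd_pow (hk ▸ hF ▸ dvd_pow (even_iff_two_dvd.1 h2) two_ne_zero))
    obtain ⟨j, -, rfl⟩ := (Nat.dvd_prime_pow Nat.prime_two).1
      (hk ▸ hF ▸ dvd_pow_self q two_ne_zero : q ∣ 2 ^ (k : ℕ))
    have j0 : j ≠ 0 := by rintro rfl; omega
    have c := H7.card_psu hF 3 (by norm_num)
    rw [← Nat.card_congr φ.toEquiv] at c
    have c' := c
    simp only [Finset.prod_range_succ, Finset.prod_range_zero, ← pow_mul] at c'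
    rw [← hc, if_pos (by decide), if_neg (by decide), if_pos (by decide), mul_left_comm (2 ^ j + 1),
      mul_left_comm] at c'
    have := two_pow_eq (((by decide : Odd 3).of_dvd_nat (Nat.gcd_dvd_left _ _)).mul
      ((odd_two_pow_add j0).mul hm)) (((odd_one.mul (odd_two_pow_add (by omega))).mul
      (odd_two_pow_sub (by omega))).mul (odd_two_pow_add (by omega))) c'
    obtain rfl | rfl : j = 2 ∨ j = 3 := by omega
    all_goals
      simp [Finset.prod_range_succ] at c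
      omega

theorem St.sc (h : St L G0) (X : SzD L) {P A : Subgroup G} (hP : Syl 2 ⊤ P) (hA : Abl A)
    (hsc : IsStronglyClosed A P) (h0 : A ⊓ G0 ≠ ⊥) :
    (∀ s ∈ G0, s ≠ 1 → s * s = 1 → ∃ g ∈ G0, g * s * g⁻¹ = X.z 1) ∧
      ♯(P ⊓ G0) ≠ 64 ∧ ♯(P ⊓ G0) ≠ 512 := by
  have := h.simple
  have := h.nrm
  have s0 : Syl 2 G0 (P ⊓ G0) := hP.inf_nml ⟨le_top, norm_of_normal _ _⟩
  have s1 := s0.subgroupOf le_rfl
  rw [subgroupOf_self] at s1
  obtain ⟨T, hT⟩ := Syl.exists_sylow_top Nat.prime_two s1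
  rcases Cfsg.Agent.S1169.result T (A.subgroupOf G0)
    (fun e => h0 (disjoint_iff.1 (subgroupOf_eq_bot.1 e))) (hA.subgroupOf G0)
    ⟨fun x hx => hT ▸ mem_inf.2 ⟨hsc.1 hx, x.2⟩, fun v hv g hg => hsc.2 v hv g (by
      rw [hT] at hg; exact hg.1)⟩ with c | ⟨H, c⟩
  · have a : Abl (P ⊓ G0) := by
      rw [← map_subgroupOf' (inf_le_right : P ⊓ G0 ≤ G0), ← hT]; exact Abl.map c _
    obtain ⟨g, -, e⟩ := Sylow_subJ Nat.prime_two s0 X.pi_S (X.S_le.trans h.le)
    have := ((a.cj g).of_le e).comm (X.u_mem_S 1 0) (X.u_mem_S ω 0)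
    simp only [X.u_mul] at this
    exact absurd (X.u_inj this).2 (by decide +kernel)
  · exact ⟨(h.se X c).1, (h.se X c).2 _ s0⟩

end H14.Ru
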