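import Mathlib
import Cfsg.Agent.H17.RB1

/-! # Standard subgroup `Sz(8)`: the Sylow `2`-subgroup of the centraliser -/

set_option autoImplicit false
set_option linter.unusedSectionVars false

namespace H14.Ru

open Cfsg H24 Subgroup H17.RC

variable {G : Type*} [Group G] [Finite G] {L G0 R : Subgroup G}

/-- move a `2`-subgroup of `N(L^g)` into `(R × S)^g` -/
theorem SzD.adjust (X : SzD L) (hR : Syl 2 C[L] R) {T : Subgroup G} (hT : IsPi {2} T) {g : G}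
    (hg : T ≤ N[H24.cj g L]) : ∃ g', H24.cj g' L = H24.cj g L ∧ T ≤ H24.cj g' (R ⊔ X.S) := by
  have s := (X.syl_N hR).cj g
  rw [cj_N] at s
  obtain ⟨n, hn, e⟩ := Sylow_subJ Nat.prime_two s hT hg
  exact ⟨n * g, by rw [← cj_cj, cj_of_mem_N hn], by rwa [← cj_cj]⟩

theorem SzD.mem_T' (X : SzD L) (hR : R ≤ C[L]) {g x : G} (hx : x ∈ H24.cj g (R ⊔ X.S)) :
    ∃ v ∈ H24.cj g R, ∃ a b, x = v * (X.cj g).u a b := by
  rwa [cj_sup, ← X.cj_S, (X.cj g).mem_T (cj_C g L ▸ cj_le_cj.2 hR)] at hx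

theorem St.comm_N (h : St L G0) {t : G} (h1 : t ≠ 1) (h2 : t * t = 1) (ht : t ∈ C[L]) {x : G}
    (hx : x * t = t * x) : x ∈ N[L] := h.mem_N h1 h2 ht (by rwa [hx, mul_inv_cancel_right])

theorem DD.exists_C {t : G} (h : DD L t) : ∃ g, t ∈ C[cj g L] := by
  obtain ⟨-, -, g, hg⟩ := h
  exact ⟨g⁻¹, by rw [← cj_C, mem_cj, inv_inv]; exact hg⟩

theorem dd_of_C {t g : G} (h1 : t ≠ 1) (h2 : t * t = 1) (h : t ∈ C[cj g L]) : DD L t :=
  ⟨h1, h2, g⁻¹, by rwa [← cj_C, mem_cj, ← inv_inv g, inv_inv g⁻¹] at h⟩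

theorem SzD.two_f (X : SzD L) {x : G} (hx : x ∈ N[L]) (h2 : PiElt {2} x) (hf : x * X.f = X.f * x) :
    x ∈ C[L] := by
  obtain ⟨l, hl, k, hk, rfl⟩ := X.aut2 x hx h2
  have c : Commute l k := mem_C.1 hk l hl
  by_cases h1 : l = 1
  · rwa [h1, one_mul]
  obtain ⟨n, hn⟩ := h2.exists_pow Nat.prime_two
  have e := pow_orderOf_eq_one (l * k)
  rw [hn, c.mul_pow, mul_eq_one_iff_eq_inv] at e
  obtain ⟨m, a, b⟩ := exists_inv_pow (piElt_of_pow_eq_one (piNat_self_pow Nat.prime_two n)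
    (X.eq_one (pow_mem hl _) (e ▸ inv_mem (pow_mem hk _)))) h1
  obtain ⟨y, hy, e1⟩ := X.inv_conj (pow_mem hl m) a b
  have c1 : Commute X.f l := by
    rw [mul_assoc, ← mem_C.1 hk _ X.f_mem, ← mul_assoc, ← mul_assoc] at hf
    exact (mul_right_cancel hf).symm
  have m1 := X.cent_z (conj_mem (norm_self _ hy) X.f_mem) one_ne_zero (by
    rw [← e1, conj_mul, conj_mul, (c1.pow_right m).eq])
  have := orderOf_dvd_card' m1
  rw [orderOf_conj, X.ord_f, X.card_S] at this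
  omega

/-- the configuration `R = S^g`, `S ≤ K^g` does not occur -/
theorem St.wreath (h : St L G0) (X : SzD L) {g : G} (h1 : H24.cj g X.S ≤ C[L])
    (h2 : ∀ y ∈ C[L], PiElt {2} y → y ∈ H24.cj g L) (h3 : X.S ≤ C[H24.cj g L])
    (h4 : X.f ∈ C[H24.cj g L]) : False := by
  set X1 := X.cj g
  have z1 : X.z 1 ≠ 1 := fun e => one_ne_zero (X.z_eq_one.1 e)
  have z1' : X1.z 1 ≠ 1 := fun e => one_ne_zero (X1.z_eq_one.1 e)
  rw [← X.cj_S] at h1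
  have n1 := h.not_le_N X rfl z1' (X1.u_mem 0 1) (h1 (X1.u_mem_S 0 1))
  set H := C[zpowers X.f] with hH
  have mH : ∀ {x}, x ∈ H ↔ x * X.f = X.f * x := fun {x} => by
    rw [hH, C_zpowers, mem_C1]
  have LH : H24.cj g L ≤ H := cents_symm (zpowers_le.2 h4)
  have se : IsStronglyEmbedded (N[L].subgroupOf H) := by
    refine ⟨fun e => n1 (LH.trans (subgroupOf_eq_top.1 e)), even_iff_two_dvd.2 ?_, fun x hx => ?_⟩
    · have := orderOf_dvd_card' (x := (⟨_, LH (X1.u_mem 0 1)⟩ : H)) (H := N[L].subgroupOf H)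
        (C_le_N L (h1 (X1.u_mem_S 0 1)))
      rwa [← orderOf_coe, orderOf_eq_prime (p := 2) (x := ((⟨_, _⟩ : H) : G))
        (by rw [sq]; exact X1.z_sq 1) z1'] at this
    · by_contra e
      obtain ⟨t, ht⟩ := exists_prime_orderOf_dvd_card' 2
        (even_iff_two_dvd.1 (Nat.not_odd_iff_even.1 e))
      rw [← orderOf_coe] at ht
      obtain ⟨m1, y, m2, e1⟩ := t.2
      replace e1 : x * y * x⁻¹ = t := e1
      have o : orderOf y = 2 := by rw [← orderOf_conj x y, e1, ht]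
      rw [← orderOf_coe] at ht o
      have py := piElt_of_orderOf_prime Nat.prime_two o
      refine hx (h.mem_N2 (g := x) py (fun e => by rw [e, orderOf_one] at o; omega)
        (X.two_f m2 py (mH.1 y.2)) ?_)
      rw [show (x : G) * y * (x : G)⁻¹ = t from congrArg Subtype.val e1]
      exact X.two_f m1 (piElt_of_orderOf_prime Nat.prime_two ht) (mH.1 t.1.2)
  obtain ⟨Q, hQ⟩ := H26.BR.ls_top se ⟨⟨_, LH (X1.u_mem 0 1)⟩, ⟨_, LH (X1.u_mem 0 ω)⟩,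
    fun e => z1' (congrArg Subtype.val e),
    fun e => absurd (X1.z_eq_one.1 (congrArg Subtype.val e)) (by decide +kernel),
    fun e => absurd (X1.z_inj (congrArg Subtype.val e)) (by decide +kernel),
    Subtype.ext (X1.z_sq 1), Subtype.ext (X1.z_sq ω), Subtype.ext (X1.z_u 0 ω 1)⟩
  have od := H3.B71.odd_iff_isPi.1 (H26.BR.odd_Ker (H26.BR.se_cosets se) (H26.BR.exists_move se.1)
    (a := ((1 : H) : H ⧸ N[L].subgroupOf H)))
  have dec : ∀ x ∈ H, ∃ l ∈ H24.cj g L, l⁻¹ * x ∈ N[L] := fun x hx => by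
    by_cases hn : x ∈ N[L]
    · exact ⟨1, one_mem _, by simpa using hn⟩
    obtain ⟨y, hy, yn⟩ := SetLike.not_le_iff_exists.1 n1
    obtain ⟨q, hq, e⟩ := hQ.trans ⟨y, LH hy⟩ (mem_top _) ⟨x, hx⟩ (mem_top _)
      (mt H26.BR.fix_one.1 yn) (mt H26.BR.fix_one.1 hn)
    obtain ⟨a, b, ha, hb, ma, mb, e1⟩ := exists_piElt_decomp {2} q
    obtain ⟨n, hn⟩ := hQ.two b (zpowers_le.2 hq mb)
    rw [e1, mul_smul, (mem_of_pow' hb hn).2 _ (mem_top _), ← mul_smul, ← inv_smul_eq_iff,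
      ← mul_smul, H26.BR.fix_one] at e
    have pa := ha.map H.subtype
    refine ⟨a * y, mul_mem (h2 _ (X.two_f (H26.BR.fix_one (g := a).1 (hQ.fix a (zpowers_le.2 hq ma))) pa
      (mH.1 a.2)) pa) hy, ?_⟩
    simpa using inv_mem (show x⁻¹ * (a * y) ∈ N[L] from e)
  have le : ⁅H, X1.S⁆ ≤ H24.cj g L := commutator_le.2 fun x hx s hs => by
    obtain ⟨l, hl, m⟩ := dec x hx
    refine mul_mem ?_ (inv_mem (X1.S_le hs))
    rw [show x * s * x⁻¹ = l * (l⁻¹ * x * s * (l⁻¹ * x)⁻¹) * l⁻¹ by group]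
    exact conj_mem (norm_self _ hl) (h2 _ (conj_mem (N_le_NC L m) (h1 hs)) ((X1.pi_S.piElt hs).conj _))
  have := X1.simple
  have eq : ⁅H, X1.S⁆ = H24.cj g L := by
    rcases (Nml.normal ⟨le, LH.trans (norm_comm_left _ _)⟩).eq_bot_or_eq_top with e | e
    · have := mem_C.1 (comm_eq_bot.1 (disjoint_self.1 ((subgroupOf_eq_bot.1 e).mono_right le))
        (LH (X1.u_mem 1 0))) _ (X1.u_mem_S ω 0)
      simp only [X1.u_mul] at this
      exact absurd (X1.u_inj this).2 (by decide +kernel)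
    · exact le_antisymm le (subgroupOf_eq_top.1 e)
  obtain ⟨w, hw, w1, w2⟩ := X.exists_w
  refine (h.cj g).not_le_N X1 (cj_inv_cj g L).symm z1 (X.u_mem 0 1) (h3 (X.u_mem_S 0 1))
    (X.le_of_not_NZ (h3.trans (H24.C_le_N _)) (H24.C_le_N _ h4) hw ?_ w2)
  rw [← eq]
  exact norm_comm (X := zpowers w) (zpowers_le.2 (N_le_NC _ w1))
    (zpowers_le.2 (H24.C_le_N _ (cents_symm h1 hw))) (mem_zpowers w)

theorem St.z_not_dd (h : St L G0) (X : SzD L) (b : F8) : ¬ DD L (X.z b) := fun hd => by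
  obtain ⟨R, hR⟩ := Sylow_exists Nat.prime_two C[L]
  obtain ⟨g0, h0⟩ := hd.exists_C
  have KN : C[L] ≤ N[H24.cj g0 L] := fun x hx =>
    (h.cj g0).comm_N hd.1 hd.2.1 h0 (mem_C.1 hx _ (X.u_mem 0 b)).symm
  have TN : R ⊔ X.S ≤ N[H24.cj g0 L] := sup_le (hR.le.trans KN) (by
    rintro _ ⟨c, d, rfl⟩
    exact (h.cj g0).comm_N hd.1 hd.2.1 h0 (X.z_u c d b).symm)
  obtain ⟨g, e, hg⟩ := X.adjust hR (X.syl_N hR).pi TN
  rw [← e] at h0 KN TN
  have eT : R ⊔ X.S = H24.cj g (R ⊔ X.S) := eq_of_card_eq hg (card_cj _ _).symm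
  set X1 := X.cj g
  have h1 := h.cj g
  have R1 : H24.cj g R ≤ C[H24.cj g L] := cj_C g L ▸ cj_le_cj.2 hR.le
  have R1T : H24.cj g R ≤ R ⊔ X.S := eT ▸ cj_le_cj.2 le_sup_left
  have S1T : X1.S ≤ R ⊔ X.S := eT ▸ X.cj_S g ▸ cj_le_cj.2 le_sup_right
  have pT := (X.syl_N hR).pi
  have ti : ∀ x ∈ R, x ∈ C[H24.cj g L] → x = 1 := fun x hx h2 => by
    by_contra h3
    rw [h.C_eq (hR.pi.piElt hx) h3 (hR.le hx) h2] at h0
    exact hd.1 (X.eq_one (X.u_mem 0 b) h0)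
  have cm : ∀ x ∈ C[H24.cj g L], x ∈ R ⊔ X.S → ∀ r ∈ R, x * r = r * x := fun x hx hT r hr => by
    have := ti (x * r * x⁻¹ * r⁻¹) (mul_mem (X.mem_R hR (conj_mem (norm_self _ hT) (mem_sup_left hr))
      (conj_mem (N_le_NC L ((X.syl_N hR).le hT)) (hR.le hr))) (inv_mem hr)) (by
        rw [show x * r * x⁻¹ * r⁻¹ = x * (r * x⁻¹ * r⁻¹) by group]
        exact mul_mem hx (conj_mem (N_le_NC _ (KN (hR.le hr))) (inv_mem hx)))
    rwa [mul_inv_eq_one, mul_inv_eq_iff_eq_mul] at this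
  have ZK : ∀ c, X.z c ∈ C[H24.cj g L] := by
    obtain ⟨c, c', e1⟩ := (by decide +kernel : ∀ b : F8, ∃ c c' : F8, c ^ 4 * c' = b + c' ^ 4 * c) b
    obtain ⟨x, hx, a1, b1, e2⟩ := X.mem_T' hR.le (hg (mem_sup_right (X.u_mem_S c 0)))
    obtain ⟨x', hx', a1', b1', e2'⟩ := X.mem_T' hR.le (hg (mem_sup_right (X.u_mem_S c' 0)))
    have nc : x * x' ≠ x' * x := fun e3 => by
      have e4 : X.u c 0 * X.u c' 0 = X.z b * (X.u c' 0 * X.u c 0) := by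
        simp [SzD.z, X.u_mul, e1, add_comm]
      rw [e2, e2', mul4 (R1 hx') (X1.u_mem _ _), mul4 (R1 hx) (X1.u_mem _ _), e3,
        ← mul_assoc (X.z b)] at e4
      exact hd.1 (mul_eq_right.1 (X1.uniq (R1 (mul_mem hx' hx)) (mul_mem h0 (R1 (mul_mem hx' hx)))
        (mul_mem (X1.u_mem _ _) (X1.u_mem _ _)) (mul_mem (X1.u_mem _ _) (X1.u_mem _ _)) e4).1.symm)
    obtain ⟨r, hr, a, d, rfl⟩ := (X.mem_T hR.le).1 (R1T hx)
    obtain ⟨r', hr', a', d', rfl⟩ := (X.mem_T hR.le).1 (R1T hx')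
    have k : ∀ r ∈ R, ∀ a d c, r * X.u a d ∈ C[H24.cj g L] → X.z (a ^ 4 * c + c ^ 4 * a) ∈
        C[H24.cj g L] := fun r hr a d c m => by
      have := mul_mem (inv_mem m) (conj_mem (N_le_NC _ (TN (mem_sup_right (X.u_mem_S c 0)))) m)
      rw [← conj_mul, mem_C.1 (hR.le hr) _ (X.u_mem c 0), mul_inv_cancel_right, mul_inv_rev,
        mul_assoc, inv_mul_cancel_left, X.u_inv, X.u_inv, X.u_mul, X.u_mul, X.u_mul] at this
      convert this using 1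
      rw [SzD.z]
      revert a d c
      suffices ∀ a d c : F8, 0 = a + (c + a + c) ∧ a ^ 4 * c + c ^ 4 * a = d + a ^ 5 +
        (0 + d + c ^ 4 * a + (0 + c ^ 5) + (c + a) ^ 4 * c) + a ^ 4 * (c + a + c) by
        intro a d c _ _; rw [(this a d c).2, ← (this a d c).1]
      decide +kernel
    have ne : a ^ 4 * a' ≠ a' ^ 4 * a := fun e3 => nc (by
      have c1 := cm _ (R1 hx) (R1T hx) r' hr'
      rw [mul_assoc, mem_C.1 (hR.le hr') _ (X.u_mem a d), ← mul_assoc, ← mul_assoc] at c1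
      rw [mul4 (hR.le hr') (X.u_mem _ _), mul4 (hR.le hr) (X.u_mem _ _), mul_right_cancel c1,
        X.u_mul, X.u_mul, e3, add_comm a, add_comm d])
    intro c
    obtain ⟨p, q, rfl⟩ := (by decide +kernel : ∀ a a' : F8, a ^ 4 * a' ≠ a' ^ 4 * a → ∀ c : F8,
      ∃ p q : F8, c = (a ^ 4 * p + p ^ 4 * a) + (a' ^ 4 * q + q ^ 4 * a')) a a' ne c
    rw [← X.z_mul]
    exact mul_mem (k r hr a d p (R1 hx)) (k r' hr' a' d' q (R1 hx'))
  have fN : X.f ∈ N[H24.cj g L] := h1.mem_N hd.1 hd.2.1 h0 (by rw [X.f_z]; exact ZK _)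
  have kf : ∀ {Y : Subgroup G}, X.f ∈ N[Y] → ∀ r ∈ R, ∀ a d, r * X.u a d ∈ Y →
      (X.u a d)⁻¹ * X.u (ω * a) (ω ^ 5 * d) ∈ Y := fun hY r hr a d m => by
    have := mul_mem (inv_mem m) (conj_mem hY m)
    rwa [← conj_mul, mem_C.1 (hR.le hr) _ X.f_mem, mul_inv_cancel_right, mul_inv_rev,
      mul_assoc, inv_mul_cancel_left, X.f_u] at this
  have SK : X.S ≤ C[H24.cj g L] := by
    obtain ⟨x, hx, a1, b1, e2⟩ := X.mem_T' hR.le (hg (mem_sup_right (X.u_mem_S 1 0)))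
    obtain ⟨r, hr, a, d, rfl⟩ := (X.mem_T hR.le).1 (R1T hx)
    have a0 : a ≠ 0 := by
      rintro rfl
      have e3 := congrArg (fun x => x * x) e2
      rw [mul4 (R1 hx) (X1.u_mem _ _), X.u_sq, mul4 (hR.le hr) (X.u_mem _ _), X.u_sq,
        ← mul_one (X.z (1 ^ 5))] at e3
      have m := mul_mem (R1 hx) (R1 hx)
      rw [mul4 (hR.le hr) (X.u_mem _ _), X.u_sq] at m
      have e4 := (X1.uniq (ZK _) m (one_mem _) (mul_mem (X1.u_mem _ _) (X1.u_mem _ _)) e3).1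
      rw [← one_mul (X.z (1 ^ 5))] at e4
      exact absurd (X.z_inj (X.uniq (one_mem _) (hR.le (mul_mem hr hr)) (X.u_mem _ _) (X.u_mem _ _)
        e4).2) (by decide +kernel)
    have m := kf (N_le_NC _ fN) r hr a d (R1 hx)
    rw [X.u_inv, X.u_mul] at m
    rintro _ ⟨c, e, rfl⟩
    obtain rfl | ⟨i, rfl⟩ := (by decide +kernel : ∀ a : F8, a ≠ 0 → ∀ c : F8, c = 0 ∨
      ∃ i : Fin 7, c = ω ^ (i : ℕ) * (a + ω * a)) a a0 c
    · exact ZK e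
    have m1 := conj_mem (pow_mem (N_le_NC _ fN) (i : ℕ)) m
    rw [X.fpow_u] at m1
    have m2 := mul_mem m1 (ZK (e + (ω ^ 5) ^ (i : ℕ) * (d + a ^ 5 + ω ^ 5 * d + a ^ 4 * (ω * a))))
    rwa [SzD.z, X.u_mul, add_zero, mul_zero, add_zero, add_comm e, ← add_assoc, F8.add_self,
      zero_add] at m2
  have SR : X1.S ≤ R := fun x hx => by
    obtain ⟨r, hr, a, d, rfl⟩ := (X.mem_T hR.le).1 (S1T hx)
    have := X1.eq_one (kf fN r hr a d (X1.S_le hx))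
      (SK (mul_mem (inv_mem (X.u_mem_S _ _)) (X.u_mem_S _ _)))
    obtain ⟨e1, e2⟩ := X.u_inj (inv_mul_eq_one.1 this)
    rwa [(by decide +kernel : ∀ a : F8, a = ω * a → a = 0) a e1,
      (by decide +kernel : ∀ a : F8, a = ω ^ 5 * a → a = 0) d e2, X.u_zero, mul_one]
  have RL : R ≤ H24.cj g L := fun r hr => by
    obtain ⟨x, hx, a1, b1, rfl⟩ := X.mem_T' hR.le (hg (mem_sup_left hr))
    rw [ti x ((mul_mem_cancel_right (SR (X1.u_mem_S _ _))).1 hr) (R1 hx), one_mul]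
    exact X1.u_mem _ _
  refine h.wreath X (g := g) (X.cj_S g ▸ SR.trans hR.le) (fun y hy h2 => ?_) SK ?_
  · obtain ⟨k, hk, e⟩ := Sylow_subJ Nat.prime_two hR h2.isPi (zpowers_le.2 hy)
    exact cj_le_of_mem_N RL (KN hk) (e (mem_zpowers y))
  · obtain ⟨a, d, k, hk, e⟩ := X1.autZ X.f fN fun c =>
      mem_C.1 (hR.le (SR (X1.u_mem_S 0 c))) _ X.f_mem
    have c : Commute (X1.u a d) k := mem_C.1 hk _ (X1.u_mem a d)
    rw [show X.f = (X.f ^ 4) ^ 2 by rw [← pow_mul, pow_succ, X.f7, one_mul], e, c.mul_pow,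
      show X1.u a d ^ 4 = X1.u a d * X1.u a d * (X1.u a d * X1.u a d) by
        rw [← sq, ← sq, ← pow_mul], X1.u_sq, X1.z_sq, one_mul]
    exact pow_mem (pow_mem hk _) _

theorem SzD.cent_A (X : SzD L) (hR : R ≤ C[L]) {A : Subgroup G} (h1 : A ≤ R ⊔ X.S) (h2 : ♯A = 64)
    (h3 : R ⊓ A = ⊥) {c : G} (hc : c ∈ R ⊔ X.S) (hA : c ∈ C[A]) : ∃ k ∈ R, ∃ b, c = k * X.z b := by
  have SN : X.S ≤ N[R] := norm_of_cent (cents_symm (cents_of_le hR X.S_le))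
  have AN : A ≤ N[R] := h1.trans (sup_le (norm_self R) SN)
  have e : R ⊔ A = R ⊔ X.S := eq_of_card_eq (sup_le le_sup_left h1) (by
    rw [card_sup_of_inf AN h3, h2, card_sup_of_inf SN (eq_bot_iff.2 fun x hx =>
      mem_bot.2 (X.eq_one (X.S_le hx.2) (hR hx.1))), X.card_S])
  obtain ⟨k, hk, a, b, rfl⟩ := (X.mem_T hR).1 hc
  obtain rfl : a = 0 := (by decide +kernel : ∀ a : F8, (∀ c, a ^ 4 * c = c ^ 4 * a) → a = 0) a fun c => by
    obtain ⟨r, hr, x, hx, e1⟩ := (mem_sup_of_norm AN).1 (e.ge (mem_sup_right (X.u_mem_S c 0)))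
    have := mem_C.1 hA x hx
    rw [eq_inv_mul_of_mul_eq e1.symm, mul4 (hR hk) (X.u_mem _ _),
      mul4 (hR (inv_mem hr)) (X.u_mem _ _), X.u_mul, X.u_mul] at this
    linear_combination - (X.u_inj (X.uniq (hR (mul_mem (inv_mem hr) hk))
      (hR (mul_mem hk (inv_mem hr))) (X.u_mem _ _) (X.u_mem _ _) this).2).2
  exact ⟨k, hk, b, rfl⟩

theorem SzD.z_mem (X : SzD L) (b : F8) : X.z b ∈ L := X.u_mem 0 b

theorem St.z_eq (h : St L G0) (X : SzD L) {g : G} {b : F8} (hb : X.z b ∈ C[H24.cj g L]) : b = 0 := by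
  by_contra h0
  exact h.z_not_dd X b (dd_of_C (mt X.z_eq_one.1 h0) (X.z_sq b) hb)

theorem St.step (h : St L G0) (X : SzD L) (hR : Syl 2 C[L] R) {r : G} {b : F8} (hr : r ∈ C[L])
    (hb : b ≠ 0) (hd : DD L (r * X.z b)) {C : Subgroup G} (hC : IsPi {2} C) (h1 : C ≤ C[L])
    (h2 : C ≤ C{r}) : ∃ g, r * X.z b ∈ C[H24.cj g L] ∧ C ⊔ X.S ≤ H24.cj g (R ⊔ X.S) ∧
      (∀ c ∈ C, c ∈ C[H24.cj g L] → c = 1) ∧
      ∀ c ∈ C, ∃ k ∈ H24.cj g R, ∃ d, c = k * (X.cj g).z d := by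
  obtain ⟨g0, h0⟩ := hd.exists_C
  obtain ⟨g, e, hg⟩ := X.adjust hR (hC.sup X.pi_S (norm_of_cent (cents_symm (cents_of_le h1 X.S_le))))
    (g := g0) (sup_le (fun c hc => (h.cj g0).comm_N hd.1 hd.2.1 h0 (by
      rw [← mul_assoc, mem_C1.1 (h2 hc), mul_assoc, mul_assoc, SzD.z, mem_C.1 (h1 hc) _ (X.u_mem _ _)]))
    (by
      rintro _ ⟨c, d, rfl⟩
      exact (h.cj g0).comm_N hd.1 hd.2.1 h0 (by
        rw [← mul_assoc, mem_C.1 hr _ (X.u_mem _ _), mul_assoc, mul_assoc, X.z_u])))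
  rw [← e] at h0
  have R1 : H24.cj g R ≤ C[H24.cj g L] := cj_C g L ▸ cj_le_cj.2 hR.le
  refine ⟨g, h0, hg, fun c hc h3 => ?_, fun c hc => ?_⟩
  · by_contra h4
    rw [h.C_eq (hC.piElt hc) h4 (h1 hc) h3, mul_mem_cancel_left hr] at h0
    exact hb (X.z_eq_one.1 (X.eq_one (X.u_mem _ _) h0))
  rw [cj_sup, ← X.cj_S] at hg
  refine (X.cj g).cent_A R1 (le_sup_right.trans hg) X.card_S (eq_bot_iff.2 fun x hx => ?_)
    (hg (mem_sup_left hc)) (C_anti X.S_le (h1 hc))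
  by_contra h4
  obtain ⟨n, a1, a2⟩ := exists_inv_pow (X.pi_S.piElt hx.2) h4
  obtain ⟨d, e1⟩ := X.mem_Z_of_sq (pow_mem hx.2 n) a2
  exact a1 (by rw [e1, h.z_eq X (b := d) (e1 ▸ R1 (pow_mem hx.1 n)), X.z_zero])

theorem St.elem (h : St L G0) (X : SzD L) {r : G} {b : F8} (hr : r ∈ C[L])
    (hb : b ≠ 0) (hd : DD L (r * X.z b)) {C : Subgroup G} (hC : IsPi {2} C) (h1 : C ≤ C[L])
    (h2 : C ≤ C{r}) {c : G} (hc : c ∈ C) : c * c = 1 := by
  obtain ⟨R, hR⟩ := Sylow_exists Nat.prime_two C[L]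
  obtain ⟨g, -, -, h3, h4⟩ := h.step X hR hr hb hd hC h1 h2
  have R1 : H24.cj g R ≤ C[H24.cj g L] := cj_C g L ▸ cj_le_cj.2 hR.le
  refine h3 _ (mul_mem hc hc) ?_
  obtain ⟨k, hk, d, rfl⟩ := h4 c hc
  rw [mul4 (R1 hk) ((X.cj g).z_mem d), (X.cj g).z_sq d, mul_one]
  exact R1 (mul_mem hk hk)

theorem St.C_eq2 (h : St L G0) {x a b : G} (h1 : x ≠ 1) (h2 : x * x = 1) (ha : x ∈ C[H24.cj a L])
    (hb : x ∈ C[H24.cj b L]) : H24.cj b L = H24.cj a L := by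
  have e : H24.cj b L = H24.cj (b * a⁻¹) (H24.cj a L) := by rw [cj_cj, inv_mul_cancel_right]
  rw [e] at hb ⊢
  exact (h.cj a).C_eq (piElt_of_pow_eq_one (piNat_self Nat.prime_two) (by rw [sq, h2])) h1 ha hb

theorem St.exists_VD (h : St L G0) (X : SzD L) : ∃ V, VD X V := by
  obtain ⟨R0, hR0⟩ := Sylow_exists Nat.prime_two C[L]
  obtain ⟨t, ht, hd, tn⟩ := h.exists_dd X hR0
  obtain ⟨r, hr0, a, b, rfl⟩ := (X.mem_T hR0.le).1 ht
  have hr := hR0.le hr0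
  have e := hd.2.1
  rw [mul4 hr (X.u_mem _ _), X.u_sq, ← mul_one (1 : G)] at e
  obtain ⟨r2, e⟩ := X.uniq (mul_mem hr hr) (one_mem _) (X.u_mem _ _) (one_mem _) e
  obtain rfl : a = 0 := pow_eq_zero_iff (by norm_num) |>.1 (X.z_eq_one.1 e)
  have hb : b ≠ 0 := by rintro rfl; exact tn (by rwa [X.u_zero, mul_one])
  have r1 : r ≠ 1 := by rintro rfl; exact h.z_not_dd X b (by rwa [one_mul] at hd)
  obtain ⟨C, hC, rC⟩ := Sylow_superset (M := C[L] ⊓ C{r}) Nat.prime_two (hR0.pi.piElt hr0).isPi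
    (zpowers_le.2 (mem_inf.2 ⟨hr, self_mem_C1 r⟩))
  replace rC := rC (mem_zpowers r)
  have CK := hC.le.trans inf_le_left
  have Cr := hC.le.trans inf_le_right
  obtain ⟨R, hR, CR⟩ := Sylow_superset Nat.prime_two hC.pi CK
  obtain ⟨g, h0, hg, h3, h4⟩ := h.step X hR hr hb hd hC.pi CK Cr
  set X1 := X.cj g
  have R1 : H24.cj g R ≤ C[H24.cj g L] := cj_C g L ▸ cj_le_cj.2 hR.le
  have ZZ : X.Z = X1.Z := by
    refine eq_of_card_eq ?_ (by rw [X.card_Z, X1.card_Z])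
    rintro _ ⟨c, rfl⟩
    obtain ⟨r', hr', d, e1⟩ := h4 r rC
    obtain ⟨k, hk, a1, b1, e2⟩ := X.mem_T' hR.le (hg (mem_sup_right (X.u_mem_S (c ^ 3) 0)))
    have c1 := mem_C.1 hr _ (X.u_mem (c ^ 3) 0)
    rw [e1, e2, SzD.z, mul4 (R1 hr') (X1.u_mem _ _), mul4 (R1 hk) (X1.u_mem _ _)] at c1
    have k2 := (h.cj g).elem X1 (R1 hr') (b := d) (by
        rintro rfl
        rw [X1.z_zero, mul_one] at e1
        exact r1 (h3 r rC (e1 ▸ R1 hr')))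
      (e1 ▸ DD.cj_iff.2 ⟨r1, r2, 1, by simpa using hr⟩) ((isPi_cj.2 hR.pi).piElt hk).isPi
      (zpowers_le.2 (R1 hk)) (zpowers_le.2 (mem_C1.2 (X1.uniq (R1 (mul_mem hk hr'))
        (R1 (mul_mem hr' hk)) (mul_mem (X1.u_mem _ _) (X1.u_mem _ _))
        (mul_mem (X1.u_mem _ _) (X1.u_mem _ _)) c1).1)) (mem_zpowers k)
    rw [Bs.z_eq_sq, e2, mul4 (R1 hk) (X1.u_mem _ _), k2, one_mul, X1.u_sq]
    exact X1.z_mem_Z _
  have hφ : ∀ c, ∃ d, c ∈ C → c * X.z d ∈ C[H24.cj g L] := fun c => by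
    by_cases hc : c ∈ C
    · obtain ⟨k, hk, d, rfl⟩ := h4 c hc
      obtain ⟨d', e1⟩ := ZZ.ge (X1.z_mem_Z d)
      exact ⟨d', fun _ => by rw [e1, mul_assoc, X.z_sq, mul_one]; exact R1 hk⟩
    · exact ⟨0, fun h => absurd h hc⟩
  choose φ hφ using hφ
  have φ0 : ∀ c ∈ C, c ≠ 1 → φ c ≠ 0 := fun c hc c1 e => c1 (h3 c hc (by
    simpa [e, X.z_zero] using hφ c hc))
  have uq : ∀ {c x d d'}, c * X.z d ∈ C[H24.cj x L] → c * X.z d' ∈ C[H24.cj x L] → d = d' :=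
    fun {c x d d'} h1 h2 => by
      have := mul_mem (inv_mem h1) h2
      rw [mul_inv_rev, mul_assoc, inv_mul_cancel_left, X.z_inv, X.z_mul] at this
      linear_combination h.z_eq X this - F8.add_self d'
  have cj1 : ∀ {x c}, c ∈ C → x * (c * X.z (φ c)) * x⁻¹ ∈ C[H24.cj (x * g) L] := fun {x c} hc => by
    rw [← cj_cj, ← cj_C]; exact conj_mem_cj x (hφ c hc)
  have el : ∀ c ∈ C, c * c = 1 := fun c hc => h.elem X hr hb hd hC.pi CK Cr hc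
  obtain rfl : C = R := by
    refine (hC.of_norm_le' Nat.prime_two CR fun y hy => mem_inf.2 ⟨hR.le hy.1, ?_⟩).eq_self hR.pi
    have m := conj_mem hy.2 rC
    have m1 : y * r * y⁻¹ ≠ 1 := fun e => r1 (conj_eq_one_iff.1 e)
    obtain ⟨i, hi⟩ := exists_pow5 _ (div_ne_zero (φ0 r rC r1) (φ0 _ m m1))
    have ky : ∀ c ∈ C, y * c * y⁻¹ * X.z (φ c) ∈ C[H24.cj (y * g) L] := fun c hc => by
      have := cj1 (x := y) hc
      rwa [← conj_mul, ← mem_C.1 (hR.le hy.1) _ (X.z_mem _), mul_inv_cancel_right] at this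
    have kf : ∀ c ∈ C, c * X.z ((ω ^ 5) ^ (i : ℕ) * φ c) ∈ C[H24.cj (X.f ^ (i : ℕ) * g) L] :=
      fun c hc => by
        have := cj1 (x := X.f ^ (i : ℕ)) hc
        rwa [← conj_mul, mem_C.1 (CK hc) _ (pow_mem X.f_mem _), mul_inv_cancel_right, X.fpow_z] at this
    have k1 := kf _ m
    rw [← hi, div_mul_cancel₀ _ (φ0 _ m m1)] at k1
    have e1 := h.C_eq2 (fun e => m1 (by
        rw [← mul_one (1 : G)] at e
        exact (X.uniq (CK m) (one_mem _) (X.u_mem _ _) (one_mem _) e).1))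
      (by rw [mul4 (CK m) (X.z_mem _), el _ m, one_mul, X.z_sq]) (ky r rC) k1
    obtain ⟨c, hc, c1⟩ := exists_ne_one ((hR.pi.nil Nat.prime_two).center_ne_bot (ne_bot_of_mem (CR rC) r1))
    have cC : c ∈ C := (hC.eq_of_le (hR.pi.inf_left C{r}) (le_inf CR Cr)
      (inf_le_inf_right _ hR.le)).le (mem_inf.2 ⟨hc.1, C_le_C1 (CR rC) hc.2⟩)
    have k2 := ky c cC
    rw [mem_C.1 hc.2 y hy.1, mul_inv_cancel_right, ← e1] at k2
    have e2 := mul_right_cancel₀ (φ0 c cC c1) ((uq (kf c cC) k2).trans (one_mul _).symm)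
    rw [e2, div_eq_one_iff_eq (φ0 _ m m1)] at hi
    have k3 := mul_mem (hφ r rC) (inv_mem (hφ _ m))
    rw [hi, mul_inv_rev, mul_assoc, mul_inv_cancel_left] at k3
    exact mem_C1_iff_conj.2 (mul_inv_eq_one.1 (h3 _ (mul_mem rC (inv_mem m)) k3)).symm
  refine ⟨C, hR, el, h.z_not_dd X, g, mem_N_of_le_cj hg, fun hn => ?_⟩
  rw [cj_of_mem_N hn, mul_mem_cancel_left hr] at h0
  exact hb (X.z_eq_one.1 (X.eq_one (X.u_mem _ _) h0))

end H14.Ru
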