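import Mathlib
import Cfsg.Agent.H14.RuB1
import Cfsg.Agent.H17.RC5

/-! # Standard subgroup `Sz(8)`: step C1 -/

set_option autoImplicit false

namespace H14.Ru

open Cfsg H24 Subgroup

variable {G : Type*} [Group G] [Finite G] {L G0 V : Subgroup G}

theorem St.exists_QD (h : St L G0) {X : SzD L} (hV : VD X V) : Nonempty (QD X V) :=
  H17.RC.exists_QD h hV fun _ _ a b c d => h.sc X a b c d

end H14.Ru
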