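import Mathlib
import Cfsg.Agent.H17.RQ2

/-! # Standard subgroup `Sz(8)`: determination of `Q` -/

set_option autoImplicit false
set_option linter.unusedSectionVars false

namespace H14.Ru

open Cfsg H24 Subgroup H17.RC

variable {G : Type*} [Group G] [Finite G] {L G0 V : Subgroup G}

theorem QD.rank {X : SzD L} (hV : VD X V) (Y : QD X V) (hR : ¬ Cfsg.PRankLE 2 1 ↥C[L]) :
    Y.Vs ≠ {0, 1} := fun e => hR fun A _ hA => by
  have h1 : ♯V ≤ 2 := by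
    have : (V : Set G) ⊆ {Y.v 0, Y.v 1} := fun g hg => by
      obtain ⟨c, hc, rfl⟩ := (Y.mem_V g).1 hg
      rw [e, Finset.mem_insert, Finset.mem_singleton] at hc
      rcases hc with rfl | rfl <;> simp
    exact (Set.ncard_le_ncard this).trans ((Set.ncard_insert_le _ _).trans (by simp))
  have h2 := hV.syl.card_dvd (K := A.map C[L].subtype) (isPi_iff_piElt.2 (by
    rintro _ ⟨a, ha, rfl⟩
    exact (piElt_of_pow_eq_one (piNat_self Nat.prime_two) (hA a ha)).map _)) (map_subtype_le _)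
  rw [card_map_of_injective C[L].subtype_injective] at h2
  exact (Nat.le_of_dvd Nat.card_pos h2).trans h1

theorem fun_dd {t g : G} (e : DD L (g * t * g⁻¹)) : DD L t := by
  simpa [mul_assoc] using dd_conj e g⁻¹

theorem not_dd_conj {t : G} (h : ¬ DD L t) (g : G) : ¬ DD L (g * t * g⁻¹) := fun e => h (fun_dd e)

set_option synthInstance.maxSize 2000 in
theorem chk_perp : ∀ x y c2 : F8, y ≠ 0 → ∃ a a' : F8, a ≠ 0 ∧ a' ≠ 0 ∧ a ≠ a' ∧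
    ∀ c, c = a ∨ c = a' ∨ c = a + a' →
      (x ^ 4 * c + x * c ^ 4 + c2 * (c ^ 2 * y ^ 2)) * y⁻¹ ∈ ({0, ω, ω ^ 2, ω ^ 4} : Finset F8) := by
  decide +kernel

set_option synthInstance.maxSize 2000 in
theorem chk_span : ∀ a a' : F8, a ≠ 0 → a' ≠ 0 → a ≠ a' → ∀ d, ∃ i j k : Fin 2,
    d = (i : ℕ) • a ^ 5 + (j : ℕ) • a' ^ 5 + (k : ℕ) • (a + a') ^ 5 := by decide +kernel

theorem z_nsmul {X : SzD L} {H : Subgroup G} {a : F8} (h : X.z a ∈ H) (n : ℕ) : X.z (n • a) ∈ H := by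
  induction n with
  | zero => simp [X.z_zero]
  | succ n ih => rw [succ_nsmul, ← X.z_mul]; exact mul_mem ih h

theorem QD.not_syl (h : St L G0) {X : SzD L} (hV : VD X V) (Y : QD X V) (h2 : Y.Vs ≠ {0, 1}) :
    ¬ Syl 2 ⊤ Y.Q := fun hs => Y.sc h hV hs ⟨X.Z_le_S.trans Y.S_le, by
  rintro _ ⟨b, rfl⟩ g0 hg
  by_contra hn
  have sub : ∀ c ∈ ({0, ω, ω ^ 2, ω ^ 4} : Finset F8), c ∈ Y.Vs := fun c hc => by
    rcases Y.hVs with e | e | e
    · exact absurd e h2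
    · rwa [e]
    · simp [e]
  have y0 : (Y.π (g0 * X.z b * g0⁻¹)).2.2 ≠ 0 := fun e => not_dd_conj (hV.zn b) g0
    (Y.dd_E (Y.E_of_sq hg e (by rw [conj_mul, X.z_sq]; simp)) hn)
  obtain ⟨g, e, hA⟩ := exists_ext hs (Y.zc.trans (C_le_C1 (X.z_mem_Z b))) g0
    (Y.pi_Q.inf_left C{g0 * X.z b * g0⁻¹}) inf_le_right
  obtain ⟨a, a', a0, a1, a2, k⟩ := chk_perp (Y.π (g0 * X.z b * g0⁻¹)).2.1 _ Y.c2 y0
  have k1 : ∀ c, c = a ∨ c = a' ∨ c = a + a' → X.z (c ^ 5) ∈ cj g X.Z := fun c hc => by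
    obtain ⟨q, hq, eq⟩ := Y.π_surj _ (sub _ (k c hc)) c 0
    obtain ⟨q', hq', e1⟩ := mem_cj'.1 (hA (mem_inf.2 ⟨hq, mem_C1.2 ((Y.comm_iff hg hq).2 (by
      rw [eq, bf]
      field_simp
      linear_combination ((Y.π (g0 * X.z b * g0⁻¹)).2.1 ^ 4 * c + (Y.π (g0 * X.z b * g0⁻¹)).2.1 * c ^ 4 +
        Y.c2 * c ^ 2 * (Y.π (g0 * X.z b * g0⁻¹)).2.2 ^ 2) * F8.two)).symm⟩))
    have := Y.sq q hq
    rw [eq, e1, conj_mul, Y.sq q' hq'] at this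
    simp only [qf, mul_zero, ne_eq, OfNat.ofNat_ne_zero, not_false_eq_true, zero_pow, add_zero] at this
    exact this ▸ conj_mem_cj g (X.z_mem_Z _)
  refine hn (QD.Z_le (g := g) (fun d => ?_) ▸ e ▸ conj_mem_cj g (X.z_mem_Z b))
  obtain ⟨i, j, l, rfl⟩ := chk_span a a' a0 a1 a2 d
  rw [← X.z_mul, ← X.z_mul]
  exact mul_mem (mul_mem (z_nsmul (k1 _ (.inl rfl)) _) (z_nsmul (k1 _ (.inr (.inl rfl))) _))
    (z_nsmul (k1 _ (.inr (.inr rfl))) _)⟩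

namespace QD

variable {X : SzD L} (Y : QD X V)

/-- the case `q = x⁵ + v u` -/
structure K8 (G0 : Subgroup G) : Prop where
  st : St L G0
  vd : VD X V
  vs : Y.Vs = Finset.univ
  c1 : Y.c1 = 0
  c2 : Y.c2 = 0

namespace K8

variable {Y} (h : Y.K8 G0)
include h

theorem mem (c : F8) : c ∈ Y.Vs := h.vs ▸ Finset.mem_univ c

theorem vQ (c : F8) : Y.v c ∈ Y.Q := Y.V_le (Y.v_mem (h.mem c))

theorem πv (c : F8) : Y.π (Y.v c) = (c, 0, 0) := Y.π_v c (h.mem c)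

theorem out {n : G} (hn : n ∈ N[Y.Q]) (hE : n ∉ N[V ⊔ X.Z]) (c : F8) :
    (Y.π (n * Y.v c * n⁻¹)).1 = 0 ∧ (Y.π (n * Y.v c * n⁻¹)).2.1 = 0 := by
  have k : ∀ v ∈ V, n * v * n⁻¹ ∉ V ⊔ X.Z → (Y.π (n * v * n⁻¹)).1 = 0 ∧
      (Y.π (n * v * n⁻¹)).2.1 = 0 := fun v hv e =>
    ((Y.vtype h.vd hn hv (by rintro rfl; exact e (by simp)) e).2 h.vs).2.2
  obtain ⟨v, hv, -, e⟩ := Y.exists_out hn hE
  have hc := Y.v_mem (h.mem c)
  by_cases e1 : n * Y.v c * n⁻¹ ∈ V ⊔ X.Z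
  · have e2 := k _ (mul_mem hc hv) (by rwa [← conj_mul, mul_mem_cancel_left e1])
    rw [← conj_mul, Y.π_mul _ (conj_mem hn (h.vQ c)) _ (conj_mem hn (Y.V_le hv))] at e2
    simpa [k v hv e] using e2
  · exact k _ hc e1

theorem exists_k {n : G} (hn : n ∈ N[Y.Q]) (hE : n ∉ N[V ⊔ X.Z]) (h2 : PiElt {2} n)
    (h3 : n * n ∈ Y.Q) : n ∈ C[X.Z] ∧ ∃ k, k ≠ 0 ∧ ∀ q ∈ Y.Q, Y.π (n * q * n⁻¹) =
      ((Y.π q).2.2 / k, (Y.π q).2.1, k * (Y.π q).1) := by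
  have nZ := Y.NQ_NZ hn
  let α : F8 → F8 := fun c => (Y.π (n * Y.v c * n⁻¹)).2.2
  have e1 : ∀ c, Y.π (n * Y.v c * n⁻¹) = (0, 0, α c) := fun c =>
    Prod.ext (h.out hn hE c).1 (Prod.ext (h.out hn hE c).2 rfl)
  have cg : ∀ a ∈ Y.Q, ∀ b ∈ Y.Q, Y.π a = Y.π b → Y.π (n * a * n⁻¹) = Y.π (n * b * n⁻¹) :=
    fun a ha b hb e => by
      obtain ⟨d, rfl⟩ := Y.eqz ha hb e
      obtain ⟨d', e⟩ := conj_mem nZ (X.z_mem_Z d)
      rw [← conj_mul, e, Y.π_mz (conj_mem hn hb)]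
  have e2 : ∀ q ∈ Y.Q, Y.π (n * (n * q * n⁻¹) * n⁻¹) = Y.π q := fun q hq => by
    rw [← Y.π_conj h3 hq]; congr 1; group
  have inj : Function.Injective α := fun c c' e => by
    have := cg _ (conj_mem hn (h.vQ c)) _ (conj_mem hn (h.vQ c')) (by rw [e1, e1, e])
    rw [e2 _ (h.vQ c), e2 _ (h.vQ c'), h.πv, h.πv] at this
    exact congrArg Prod.fst this
  have sur := Finite.surjective_of_injective inj
  have cv : ∀ c, ∀ q ∈ Y.Q, n * X.z (c * (Y.π q).2.2) * n⁻¹ =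
      X.z ((Y.π (n * q * n⁻¹)).1 * α c) := fun c q hq => by
    have := Y.cm (conj_mem hn (h.vQ c)) (conj_mem hn hq)
    rw [conj_inv, conj_mul, conj_mul, Y.cm (h.vQ c) hq, e1, h.πv, ← conj_mul (a := q),
      mul_right_inj] at this
    simpa [bf, h.c2] using this
  have cv' : ∀ c, ∀ q ∈ Y.Q, n * X.z ((Y.π q).1 * α c) * n⁻¹ =
      X.z (c * (Y.π (n * q * n⁻¹)).2.2) := fun c q hq => by
    have m := conj_mem hn (h.vQ c)
    have := Y.cm (conj_mem hn m) (conj_mem hn hq)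
    rw [conj_inv, conj_mul, conj_mul, Y.cm m hq, e2 _ (h.vQ c), e1, h.πv, ← conj_mul (a := q),
      mul_right_inj] at this
    simpa [bf, h.c2] using this
  have a0 : α 1 ≠ 0 := fun e => by
    have := cg _ (conj_mem hn (h.vQ 1)) _ (one_mem _) (by rw [e1, e, Y.π_one]; rfl)
    rw [e2 _ (h.vQ 1), h.πv, mul_one, mul_inv_cancel, Y.π_one] at this
    exact one_ne_zero (congrArg Prod.fst this)
  have nS : n ∈ N[X.S] := mem_N_of_finite (by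
    rintro _ ⟨a, b, rfl⟩
    have k1 := cv 1 _ (Y.u_mem a b)
    have k2 := cv' 1 _ (Y.u_mem a b)
    simp only [Y.π_u, mul_zero, zero_mul, X.z_zero, mul_one, mul_inv_cancel, one_mul] at k1 k2
    exact Y.mem_S (conj_mem hn (Y.u_mem a b))
      ((mul_eq_zero.1 (X.z_eq_one.1 k1.symm)).resolve_right a0) (X.z_eq_one.1 k2.symm))
  have nC := X.two_NS nS h2
  have cz : ∀ b, n * X.z b * n⁻¹ = X.z b := fun b => conj_eq_of_mem_C nC (X.z_mem_Z b)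
  simp only [cz] at cv cv'
  have lin : ∀ c, α c = α 1 * c := fun c => by
    have := X.z_inj (cv' 1 _ (h.vQ c))
    rw [h.πv, one_mul] at this
    exact this.symm.trans (mul_comm _ _)
  refine ⟨nC, α 1, a0, fun q hq => Prod.ext ?_ (Prod.ext ?_ ?_)⟩
  · rw [eq_div_iff a0, ← X.z_inj (cv 1 q hq), one_mul]
  · have k1 := X.z_inj (cv 1 q hq)
    have k2 := X.z_inj (cv' 1 q hq)
    have := Y.sq _ (conj_mem hn hq)
    rw [conj_mul, Y.sq q hq, cz] at this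
    have := X.z_inj this
    simp only [qf, h.c1, h.c2, zero_add, zero_mul, add_zero, one_mul] at this k1 k2
    refine (by decide +kernel : ∀ a c : F8, c ^ 5 = a ^ 5 → a = c) _ _ ?_
    rw [← k2, k1] at this
    linear_combination this
  · rw [← one_mul (Y.π (n * q * n⁻¹)).2.2, ← X.z_inj (cv' 1 q hq), mul_comm]

theorem false (hs : ∃ g ∈ N[Y.Q], PiElt {2} g ∧ g ∉ Y.Q) : False := by
  obtain ⟨g, g1, g2, g3⟩ := hs
  obtain ⟨P, hP, QP⟩ := Sylow_superset (M := N[Y.Q]) Nat.prime_two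
    (Y.pi_Q.sup g2.isPi (zpowers_le.2 g1)) (sup_le (norm_self _) (zpowers_le.2 g1))
  have gP := QP (mem_sup_right (mem_zpowers g))
  replace QP := le_sup_left.trans QP
  have nE : ∀ a ∈ P, a ∉ Y.Q → a ∉ N[V ⊔ X.Z] := fun a ha h1 h2 => h1 (Y.two a h2 (hP.pi.piElt ha))
  have idx : ∀ a ∈ P, a ∉ Y.Q → ∀ b ∈ P, b ∉ Y.Q → a * b ∈ Y.Q := fun a ha a1 b hb b1 => by
    by_contra h1
    have m := hP.le (inv_mem ha)
    have a2 := nE _ (inv_mem ha) (mt inv_mem_iff.1 a1)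
    let α : F8 → F8 := fun c => (Y.π (a⁻¹ * Y.v c * a⁻¹⁻¹)).2.2
    have e1 : ∀ c, Y.π (a⁻¹ * Y.v c * a⁻¹⁻¹) = (0, 0, α c) := fun c =>
      Prod.ext (h.out m a2 c).1 (Prod.ext (h.out m a2 c).2 rfl)
    have inj : Function.Injective α := fun c c' e => by
      obtain ⟨d, e2⟩ := Y.eqz (conj_mem m (h.vQ c)) (conj_mem m (h.vQ c')) (by rw [e1, e1, e])
      obtain ⟨d', e3⟩ := conj_mem (Y.NQ_NZ (hP.le ha)) (X.z_mem_Z d)
      have := congrArg Y.π (show Y.v c = Y.v c' * X.z d' by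
        rw [← e3, show Y.v c = a * (a⁻¹ * Y.v c * a⁻¹⁻¹) * a⁻¹ by group, e2]; group)
      rw [Y.π_mz (h.vQ c'), h.πv, h.πv] at this
      exact congrArg Prod.fst this
    have mb := conj_mem (hP.le hb) (h.vQ 1)
    obtain ⟨c, e⟩ := Finite.surjective_of_injective inj (Y.π (b * Y.v 1 * b⁻¹)).2.2
    have o := h.out (hP.le hb) (nE b hb b1) 1
    obtain ⟨d, e2⟩ := Y.eqz mb (conj_mem m (h.vQ c)) (by
      rw [e1, e]; exact Prod.ext o.1 (Prod.ext o.2 rfl))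
    obtain ⟨d', e3⟩ := conj_mem (Y.NQ_NZ (hP.le ha)) (X.z_mem_Z d)
    have e4 : a * b * Y.v 1 * (a * b)⁻¹ = Y.v c * X.z d' := by
      rw [← e3, show a * b * Y.v 1 * (a * b)⁻¹ = a * (b * Y.v 1 * b⁻¹) * a⁻¹ by group, e2]; group
    have e5 := (h.out (hP.le (mul_mem ha hb)) (nE _ (mul_mem ha hb) h1) 1).1
    rw [e4, Y.π_mz (h.vQ c), h.πv] at e5
    obtain ⟨d1, e6⟩ := Y.π_ker _ (h.vQ c) (by rw [h.πv, show c = 0 from e5]; rfl)
    obtain ⟨d2, e7⟩ := conj_mem (Y.NQ_NZ (hP.le (inv_mem (mul_mem ha hb)))) (X.z_mem_Z (d1 + d'))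
    rw [← X.z_mul, ← e6, ← e4] at e7
    have := h.πv 1
    rw [show Y.v 1 = X.z d2 by rw [← e7]; group, Y.π_z] at this
    exact zero_ne_one (congrArg Prod.fst this)
  obtain ⟨gC, k, k0, hk⟩ := h.exists_k g1 (nE g gP g3) g2 (idx g gP g3 g gP g3)
  have dec : ∀ a ∈ P, a ∉ Y.Q → ∃ q ∈ Y.Q, a = q * g := fun a ha a1 =>
    ⟨_, idx a ha a1 _ (inv_mem gP) (mt inv_mem_iff.1 g3), by group⟩
  have act : ∀ a ∈ P, a ∉ Y.Q → ∀ q ∈ Y.Q, Y.π (a * q * a⁻¹) =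
      ((Y.π q).2.2 / k, (Y.π q).2.1, k * (Y.π q).1) := fun a ha a1 q hq => by
    obtain ⟨r, hr, rfl⟩ := dec a ha a1
    rw [← hk q hq, ← Y.π_conj hr (conj_mem g1 hq)]; congr 1; group
  have PC : P ≤ C[X.Z] := fun a ha => by
    by_cases a1 : a ∈ Y.Q
    · exact Y.zc a1
    · obtain ⟨r, hr, rfl⟩ := dec a ha a1
      exact mul_mem (Y.zc hr) gC
  have nv : ∀ a ∈ P, a ∉ Y.Q → ∀ c, c ≠ 0 → ∀ b, a * Y.v c * a⁻¹ ≠ Y.v c * X.z b :=
    fun a ha a1 c c0 b e => by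
      have := act a ha a1 _ (h.vQ c)
      rw [e, Y.π_mz (h.vQ c), h.πv] at this
      exact c0 (by simpa using congrArg Prod.fst this)
  have sP : Syl 2 ⊤ P := hP.of_norm_le Nat.prime_two le_top fun n hn => by
    have nZ : n ∈ N[X.Z] := mem_N_of_finite fun x hx => by
      have m := conj_mem hn.2 (QP (Y.S_le (X.Z_le_S hx)))
      have c := conj_mem (N_le_NC P hn.2) (cents_symm PC hx)
      have q : n * x * n⁻¹ ∈ Y.Q := by
        by_contra e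
        refine nv _ m e 1 one_ne_zero 0 ?_
        rw [X.z_zero, mul_one, ← mem_C.1 c _ (QP (h.vQ 1)), mul_inv_cancel_right]
      refine Y.π_ker _ q ?_
      obtain ⟨w, hw, ew⟩ := Y.π_surj 0 (h.mem 0) 0 1
      have k1 := (Y.comm_iff q (h.vQ 1)).1 (mem_C.1 c _ (QP (h.vQ 1))).symm
      have k2 := (Y.comm_iff q hw).1 (mem_C.1 c _ (QP hw)).symm
      have k3 := fun a => (Y.comm_iff q (Y.u_mem a 0)).1 (mem_C.1 c _ (QP (Y.u_mem a 0))).symm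
      simp only [bf, h.πv, ew, Y.π_u, h.c2, mul_zero, zero_mul, add_zero, zero_add, one_mul, mul_one,
        ne_eq, OfNat.ofNat_ne_zero, not_false_eq_true, zero_pow] at k1 k2 k3
      exact Prod.ext k2 (Prod.ext ((by decide +kernel : ∀ x : F8, (∀ a, x ^ 4 * a + x * a ^ 4 = 0) →
        x = 0) _ k3) k1)
    refine mem_N_of_finite fun x hx => ?_
    by_contra e
    have m := conj_mem hn.2 (QP hx)
    have k1 : ∀ c, c ≠ 0 → n⁻¹ * Y.v c * n⁻¹⁻¹ ∉ Y.Q := fun c c0 e1 => by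
      obtain ⟨d, e2⟩ := conj_mem nZ (X.z_mem_Z (bf Y.c2 (Y.π x) (Y.π (n⁻¹ * Y.v c * n⁻¹⁻¹))))
      refine nv _ m e c c0 d ?_
      rw [← e2, show n * x * n⁻¹ * Y.v c * (n * x * n⁻¹)⁻¹ =
        n * (x * (n⁻¹ * Y.v c * n⁻¹⁻¹) * x⁻¹) * n⁻¹ by group, Y.cm hx e1]
      group
    have m1 := fun c => conj_mem (inv_mem hn.2) (QP (h.vQ c))
    have := idx _ (m1 1) (k1 1 one_ne_zero) _ (m1 ω) (k1 ω (by decide +kernel))
    obtain ⟨d, e2⟩ := Y.eqz (h.vQ (1 + ω)) (mul_mem (h.vQ 1) (h.vQ ω)) (by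
      rw [Y.π_mul _ (h.vQ 1) _ (h.vQ ω), h.πv, h.πv, h.πv]; simp)
    refine k1 (1 + ω) (by decide +kernel) ?_
    rw [e2, ← conj_mul, ← conj_mul]
    exact mul_mem this (Y.S_le (X.Z_le_S (conj_mem (inv_mem nZ) (X.z_mem_Z d))))
  let θ : G → F8 × F8 := fun q => ((Y.π q).2.1, (Y.π q).2.2 + k * (Y.π q).1)
  have θm : ∀ a ∈ Y.Q, ∀ b ∈ Y.Q, θ (a * b) = θ a + θ b := fun a ha b hb => by
    simp only [θ, Y.π_mul a ha b hb, Prod.fst_add, Prod.snd_add, Prod.mk_add_mk]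
    congr 1; ring
  have θi : ∀ a ∈ Y.Q, θ a⁻¹ = θ a := fun a ha => by simp only [θ, Y.π_inv ha]
  have θc : ∀ a ∈ P, ∀ q ∈ Y.Q, θ (a * q * a⁻¹) = θ q := fun a ha q hq => by
    by_cases a1 : a ∈ Y.Q
    · simp only [θ, Y.π_conj a1 hq]
    · simp only [θ, act a ha a1 q hq, mul_div_cancel₀ _ k0, add_comm]
  have θ2 : ∀ p : F8 × F8, p + p = 0 := fun p => by ext <;> simp [F8.add_self]
  have cQ : ∀ a ∈ P, ∀ q ∈ Y.Q, a * q * a⁻¹ * q⁻¹ ∈ Y.Q ∧ θ (a * q * a⁻¹ * q⁻¹) = 0 :=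
    fun a ha q hq => ⟨mul_mem (conj_mem (hP.le ha) hq) (inv_mem hq), by
      rw [θm _ (conj_mem (hP.le ha) hq) _ (inv_mem hq), θc a ha q hq, θi q hq, θ2]⟩
  have cP : ∀ a ∈ P, ∀ b ∈ P, a * b * a⁻¹ * b⁻¹ ∈ Y.Q ∧ θ (a * b * a⁻¹ * b⁻¹) = 0 :=
    fun a ha b hb => by
      by_cases b1 : b ∈ Y.Q
      · exact cQ a ha b b1
      by_cases a1 : a ∈ Y.Q
      · have := cQ b hb a a1
        rw [show a * b * a⁻¹ * b⁻¹ = (b * a * b⁻¹ * a⁻¹)⁻¹ by group]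
        exact ⟨inv_mem this.1, (θi _ this.1).trans this.2⟩
      · have := cQ a ha _ (idx b hb b1 _ (inv_mem ha) (mt inv_mem_iff.1 a1))
        rwa [show a * (b * a⁻¹) * a⁻¹ * (b * a⁻¹)⁻¹ = a * b * a⁻¹ * b⁻¹ by group] at this
  have om : ∀ q ∈ Y.Q, θ q = 0 → q * q = 1 → q ∈ X.Z := fun q hq e1 e2 => by
    rw [Y.sq_iff hq] at e2
    have e3 : (Y.π q).2.1 = 0 := congrArg Prod.fst e1
    have e4 : (Y.π q).2.2 = k * (Y.π q).1 := by
      have : (Y.π q).2.2 + k * (Y.π q).1 = 0 := congrArg Prod.snd e1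
      linear_combination this - F8.add_self (k * (Y.π q).1)
    simp only [qf, h.c1, h.c2, e3, e4, zero_add, zero_mul, add_zero, ne_eq, OfNat.ofNat_ne_zero,
      not_false_eq_true, zero_pow, mul_eq_zero, k0, false_or, or_self] at e2
    exact Y.π_ker q hq (Prod.ext e2 (Prod.ext e3 (by rw [e4, e2, mul_zero]; rfl)))
  obtain ⟨w, hw, ew⟩ := Y.π_surj 0 (h.mem 0) 0 1
  refine (h.st.sc_Z X (h.vd.zn 1) sP ⟨(X.Z_le_S.trans Y.S_le).trans QP, ?_⟩).1 _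
    (Y.comm_f h.st hw).1.2 ?_
  · rintro _ ⟨b, rfl⟩ g0 ht
    by_contra hn
    obtain ⟨g', e, hA⟩ := exists_ext sP (PC.trans (C_le_C1 (X.z_mem_Z b))) g0
      (Y.pi_Q.inf_left C{g0 * X.z b * g0⁻¹}) inf_le_right
    have t2 : g0 * X.z b * g0⁻¹ * (g0 * X.z b * g0⁻¹) = 1 := by rw [conj_mul, X.z_sq]; simp
    generalize g0 * X.z b * g0⁻¹ = t at *
    have ex : ∃ β : F8 → F8, ∃ j, ∀ x, ∃ q ∈ Y.Q, t * q = q * t ∧ Y.π q = (β x, x, j * β x) := by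
      by_cases t1 : t ∈ Y.Q
      · have y0 : (Y.π t).2.2 ≠ 0 := fun e1 => not_dd_conj (h.vd.zn b) g'
          (e ▸ Y.dd_E (Y.E_of_sq t1 e1 t2) hn)
        refine ⟨fun x => ((Y.π t).2.1 ^ 4 * x + (Y.π t).2.1 * x ^ 4) / (Y.π t).2.2, 0, fun x => ?_⟩
        obtain ⟨q, hq, eq⟩ := Y.π_surj _ (h.mem (((Y.π t).2.1 ^ 4 * x + (Y.π t).2.1 * x ^ 4) /
          (Y.π t).2.2)) x 0
        refine ⟨q, hq, (Y.comm_iff t1 hq).2 ?_, by rw [eq, zero_mul]⟩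
        simp only [eq, bf, h.c2, div_mul_cancel₀ _ y0, mul_zero, zero_mul, add_zero, F8.add_self]
      · have k1 : ∀ x, ∃ c, ∃ q ∈ Y.Q, t * q = q * t ∧ Y.π q = (c, x, k * c) := fun x => by
          obtain ⟨d, e1⟩ := Y.eqz (conj_mem (hP.le ht) (Y.u_mem x 0)) (Y.u_mem x 0) (by
            rw [act t ht t1 _ (Y.u_mem x 0), Y.π_u]; simp)
          obtain ⟨c, hc⟩ := (by decide +kernel : ∀ k d : F8, k ≠ 0 → ∃ c, c * (k * c) = d) k d k0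
          have m := conj_mem (hP.le ht) (h.vQ c)
          have e2 : Y.π (Y.v c * (t * Y.v c * t⁻¹)) = (c, 0, k * c) := by
            rw [Y.π_mul _ (h.vQ c) _ m, act t ht t1 _ (h.vQ c), h.πv]; simp
          refine ⟨c, _, mul_mem (Y.u_mem x 0) (mul_mem (h.vQ c) m), ?_, by
            rw [Y.π_mul _ (Y.u_mem x 0) _ (mul_mem (h.vQ c) m), e2, Y.π_u]; simp⟩
          have e3 : t * (Y.v c * (t * Y.v c * t⁻¹)) * t⁻¹ = (Y.v c * (t * Y.v c * t⁻¹))⁻¹ := by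
            rw [mul_inv_rev, conj_inv, inv_eq_of_mul_eq_one_right (h.vd.ea _ (Y.v_mem (h.mem c))),
              inv_eq_of_mul_eq_one_right t2]
            simp only [← mul_assoc, mul_assoc _ t t, t2, mul_one]
          rw [← mul_inv_eq_iff_eq_mul, ← conj_mul, e1, e3, Y.inv_eq (mul_mem (h.vQ c) m), e2,
            ← Y.zq (mul_mem (h.vQ c) m), mul_assoc, ← mul_assoc (X.z d), X.z_mul]
          simp [qf, h.c1, h.c2, hc, F8.add_self, X.z_zero]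
        choose β hβ using k1
        exact ⟨β, k, hβ⟩
    obtain ⟨β, j, hβ⟩ := ex
    refine hn (QD.Z_le (g := g') (fun d => ?_) ▸ e ▸ conj_mem_cj g' (X.z_mem_Z b))
    obtain ⟨c, c', e1⟩ := (by decide +kernel : ∀ b : F8, ∃ c c' : F8, c ^ 4 * c' + c * c' ^ 4 = b) d
    obtain ⟨q, hq, q1, q2⟩ := hβ c
    obtain ⟨q', hq', q1', q2'⟩ := hβ c'
    have e2 : q * q' * q⁻¹ * q'⁻¹ = X.z d := by
      rw [Y.cm hq hq', ← Y.zq hq', mul_inv_cancel_right, q2, q2', bf, h.c2]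
      congr 1
      linear_combination e1 + j * β c * β c' * F8.two
    obtain ⟨a, ha, rfl⟩ := mem_cj'.1 (hA (mem_inf.2 ⟨hq, mem_C1.2 q1.symm⟩))
    obtain ⟨a', ha', rfl⟩ := mem_cj'.1 (hA (mem_inf.2 ⟨hq', mem_C1.2 q1'.symm⟩))
    rw [conj_inv, conj_inv, conj_mul, conj_mul, conj_mul] at e2
    refine e2 ▸ conj_mem_cj g' (om _ (cP a ha a' ha').1 (cP a ha a' ha').2 ?_)
    have := X.z_sq d
    rwa [← e2, conj_mul, conj_eq_one_iff] at this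
  · have m := (Y.comm_f h.st hw).1.1
    have e := hk _ m
    rw [(Y.comm_f h.st hw).2, ew] at e
    refine fun_dd (g := g) (Y.dd_E ((Y.mem_E (conj_mem g1 m)).2 (by rw [e]; simp)) ?_)
    rintro ⟨b, e1⟩
    rw [e1, Y.π_z] at e
    have := congrArg Prod.fst e
    simp only [Prod.fst_zero, mul_one] at this
    exact div_ne_zero (by decide +kernel) k0 this.symm

end K8

end QD

theorem QD.ru (h : St L G0) {X : SzD L} (hV : VD X V) (Y : QD X V) (h2 : Y.Vs ≠ {0, 1}) :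
    Y.Vs = {0, ω, ω ^ 2, ω ^ 4} ∧ Y.c1 = 1 ∧ Y.c2 = 1 := by
  obtain ⟨R, h3, h4, -, h5⟩ := exists_lt_norm_of_not_syl Nat.prime_two Y.pi_Q le_top
    (QD.not_syl h hV Y h2)
  obtain ⟨g, g1, g2⟩ := SetLike.exists_of_lt h4
  obtain ⟨v, hv, v1, e⟩ := Y.exists_out (h5 g1) fun e => g2 (Y.two g e (h3.piElt g1))
  have k := Y.vtype hV (h5 g1) hv v1 e
  rcases Y.hVs with e | e | e
  · exact absurd e h2
  · exact ⟨e, k.1 e⟩
  · exact (QD.K8.false ⟨h, hV, e, (k.2 e).1, (k.2 e).2.1⟩ ⟨g, h5 g1, h3.piElt g1, g2⟩).elim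

end H14.Ru
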