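import Mathlib
import Cfsg.Agent.H17.RD4

/-! # Standard subgroup `Sz(8)`: the Sylow `2`-subgroup of the centraliser has order above two -/

set_option autoImplicit false

namespace H14.Ru

open Cfsg H24 Subgroup

variable {G : Type*} [Group G] [Finite G] {L V : Subgroup G}

theorem QD.a1 (h : St L ⊤) (hbal : ∀ t : G, orderOf t = 2 → Cfsg.centralizerPPrimeCore 2 t = ⊥)
    {X : SzD L} (hV : VD X V) (Y : QD X V) : Y.Vs ≠ {0, 1} := fun vs =>
  have h' := Y.a1_of h hV vs hbal
  h'.c2.2.elim h'.false0 h'.false1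

end H14.Ru
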