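import Mathlib
import Cfsg.Agent.H7.REe

/-! The identification of the Rudvalis group from the amalgam relations. -/

set_option autoImplicit false

namespace H14.Ru

variable {G : Type*} [Group G]

theorem Am.iso [Finite G] {ψ : ℕ → G} {r : G} (h : Am ψ r) : Cfsg.Spor.IsoRu (Gr ψ r) ∧
    ∃ g ∈ Gr ψ r, g * ψ 8 * g⁻¹ = ψ 8 ∧ ∃ b < 8, ∀ b' < 8, g * ψ b * g⁻¹ ≠ ψ b' :=
  H7.RE.iso h

end H14.Ru
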