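import Mathlib
import Cfsg.Agent.H14.RuNC
import Cfsg.Agent.H14.RuA1
import Cfsg.Agent.H17.RC1
import Cfsg.Agent.H24.Base4

/-! First consequences of the structure of `N(Z)`. -/

set_option autoImplicit false
set_option linter.unusedSectionVars false

namespace H14.Ru

open Cfsg H24 H29 H7.Cay Subgroup H17.RC

variable {G : Type*} [Group G] [Finite G] {L G0 V : Subgroup G} {X : SzD L}

/-- The dihedral group generated by two involutions, modulo a subgroup `N`. -/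
theorem dih {a b : G} (ha : a * a = 1) (hb : b * b = 1) (N Y : Subgroup G) (haY : a ∈ Y)
    (hbY : b ∈ Y) : (∃ g ∈ Y, ∃ n ∈ N, g * a * g⁻¹ = n * b) ∨
      ∃ u ∈ Y, u ∉ N ∧ u * u ∈ N ∧ a * u * a⁻¹ = u⁻¹ ∧ b * u * b⁻¹ = u⁻¹ ∧
        ((∃ g ∈ Y, g * (u * a) * g⁻¹ = b) ∨ ∃ g ∈ Y, g * (u * b) * g⁻¹ = b) := by
  classical
  have ia : a⁻¹ = a := inv_eq_of_mul_eq_one_right ha
  have ib : b⁻¹ = b := inv_eq_of_mul_eq_one_right hb
  have hx : a * b ∈ Y := mul_mem haY hbY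
  have e1 : ∀ k : ℕ, a * (a * b) ^ k * a⁻¹ = ((a * b) ^ k)⁻¹ := fun k => by
    rw [← conj_pow, ← inv_pow, ← mul_assoc, ha, one_mul, mul_inv_rev, ib]
  have e2 : ∀ k : ℕ, b * (a * b) ^ k * b⁻¹ = ((a * b) ^ k)⁻¹ := fun k => by
    rw [← conj_pow, ← inv_pow, mul_inv_rev, ia, mul_assoc, mul_inv_cancel_right, ib]
  have ex : ∃ n, 0 < n ∧ (a * b) ^ n ∈ N :=
    ⟨_, orderOf_pos _, by rw [pow_orderOf_eq_one]; exact one_mem _⟩
  obtain ⟨h0, h1⟩ := Nat.find_spec ex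
  have f1 : ∀ k : ℕ, (a * b) ^ k * a * (a * b) ^ k = a := fun k => by
    have := e1 k
    rw [mul_inv_eq_iff_eq_mul] at this
    rw [mul_assoc, this, mul_inv_cancel_left]
  have f2 : ∀ k : ℕ, (a * b) ^ k * b * (a * b) ^ k = b := fun k => by
    have := e2 k
    rw [mul_inv_eq_iff_eq_mul] at this
    rw [mul_assoc, this, mul_inv_cancel_left]
  rcases Nat.even_or_odd' (Nat.find ex) with ⟨m, hm | hm⟩
  · refine Or.inr ⟨(a * b) ^ m, pow_mem hx _, fun h => Nat.find_min ex (m := m) (by omega)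
      ⟨by omega, h⟩, by rwa [← pow_add, ← two_mul, ← hm], e1 m, e2 m, ?_⟩
    rcases Nat.even_or_odd' m with ⟨k, rfl | rfl⟩
    · refine Or.inr ⟨((a * b) ^ k)⁻¹, inv_mem (pow_mem hx _), ?_⟩
      conv_rhs => rw [← f2 k]
      rw [two_mul, pow_add]; group
    · refine Or.inl ⟨a * ((a * b) ^ k)⁻¹, mul_mem haY (inv_mem (pow_mem hx _)), ?_⟩
      calc _ = a * ((a * b) * ((a * b) ^ k * a * (a * b) ^ k)) * a⁻¹ := by
            rw [two_mul, add_assoc, pow_add, pow_succ']; group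
        _ = (a * a) * b := by rw [f1 k]; group
        _ = b := by rw [ha, one_mul]
  · refine Or.inl ⟨(a * b) ^ m, pow_mem hx _, _, h1, ?_⟩
    rw [hm]
    calc _ = (a * b) ^ m * ((a * b) ^ m * a * (a * b) ^ m) * ((a * b) ^ m)⁻¹ := by rw [f1 m]
      _ = (a * b) ^ (2 * m + 1) * (b⁻¹ * (a⁻¹ * a)) := by
            rw [two_mul, pow_succ, pow_add]; group
      _ = _ := by rw [inv_mul_cancel, mul_one, ib]

theorem pi2 {g : G} (n : ℕ) (h : g ^ 2 ^ n = 1) : PiElt {2} g :=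
  piElt_of_pow_eq_one (piNat_self_pow Nat.prime_two n) h

theorem pi_inv {g : G} (h : g * g = 1) : PiElt {2} g := pi2 1 (by rwa [pow_one, pow_two])

theorem pi_four {g : G} (h : g * g * (g * g) = 1) : PiElt {2} g :=
  pi2 2 (by rwa [show 2 ^ 2 = 2 + 2 from rfl, pow_add, pow_two])

theorem pi_cj {g : G} (h : PiElt {2} g) (x : G) : PiElt {2} (x * g * x⁻¹) := by
  obtain ⟨k, hk⟩ := h.exists_pow Nat.prime_two
  exact pi2 k (by rw [conj_pow, ← hk, pow_orderOf_eq_one, mul_one, mul_inv_cancel])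

theorem eq_one_of_odd {D : Subgroup G} (hD : Odd ♯D) {d : G} (hd : d ∈ D) (h : PiElt {2} d) :
    d = 1 := by
  obtain ⟨k, hk⟩ := h.exists_pow Nat.prime_two
  have h1 := orderOf_dvd_card' hd
  rw [hk] at h1
  cases k with
  | zero => exact orderOf_eq_one_iff.1 hk
  | succ k => exact absurd (even_iff_two_dvd.2 ((dvd_pow_self 2 (by omega)).trans h1))
                (Nat.not_even_iff_odd.2 hD)

theorem hi_iv (t : Bool) {a : ℕ} (ha : a < NM) : hi (iv t a) = ik (hi a) := by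
  have h1 := r0_spec t (hi_lt ha)
  have h2 : Nat.xor (lo a) (mq (lo a) (lo a)) < 2048 :=
    Nat.xor_lt_two_pow (n := 11) (lo_lt a) (mq_lt (lo_lt a) (lo_lt a))
  have := k_ik t
  simp only [rd] at this
  change hi (mu t _ _) = _
  rw [hi_mu t h1.2.2.1 (by omega), hi_of_lt h2, (this _ (hi_lt ha)).1]

theorem mq_self_lt (q : ℕ) : mq q q < 8 := by
  have := mq_div q q
  rw [Nat.xor_self] at this
  omega

theorem xor_lt8 {a b : ℕ} (ha : a < 8) (hb : b < 8) : a ^^^ b < 8 := Nat.xor_lt_two_pow (n := 3) ha hb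

theorem hi_R (k : ℕ) : hi (2048 * k) = k := by rw [hi_eq]; omega

theorem lt_of_hi {c : ℕ} (h : hi c < 168) : c < NM := by rw [hi_eq] at h; omega

theorem lt_of_hi0 {c : ℕ} (h : hi c = 0) : c < 2048 := by rw [hi_eq] at h; omega

theorem Sa_lt {k : ℕ} (h : k ∈ Sa) : k < 168 := by revert k; decide

theorem dd_lt {c : ℕ} (h : dd c = true) : c < 2048 := by
  simp only [dd, rd] at h; exact h.1

theorem inW_lt {c : ℕ} (h : inW c = true) : c < 2048 := by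
  simp only [inW, rd, List.mem_cons, List.not_mem_nil, or_false] at h; omega

namespace Mi
variable {t : Bool} {ψ : ℕ → G} (h : Mi t ψ)
include h

theorem zz {a b : ℕ} (ha : a < 8) (hb : b < 8) : ψ a * ψ b = ψ (a ^^^ b) :=
  (h.zx (by omega) hb).symm

theorem z_sq {b : ℕ} (hb : b < 8) : ψ b * ψ b = 1 := by rw [h.zz hb hb, Nat.xor_self, h.zero]

theorem z_inv {b : ℕ} (hb : b < 8) : (ψ b)⁻¹ = ψ b := inv_eq_of_mul_eq_one_right (h.z_sq hb)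

theorem pi_Q {q : ℕ} (hq : q < 2048) : PiElt {2} (ψ q) :=
  pi_four (by rw [← h.mq hq hq, h.z_sq (mq_self_lt q)])

theorem pi_of {c : ℕ} (hc : c < NM) (e : (lit (Ru.mk (hi c) (hi c)) fun l => Ru.mk l l) = 0) :
    PiElt {2} (ψ c) := by
  have h1 := mu_lt t hc hc
  have h2 : mu t (mu t c c) (mu t c c) < 2048 :=
    lt_of_hi0 (by rw [hi_mu t h1 h1, hi_mu t hc hc]; exact e)
  obtain ⟨k, hk⟩ := (h.pi_Q h2).exists_pow Nat.prime_two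
  refine pi2 (2 + k) ?_
  rw [pow_add, pow_mul, ← hk, show 2 ^ 2 = 2 + 2 from rfl, pow_add, pow_two, ← h.mul _ hc _ hc,
    ← h.mul _ h1 _ h1, pow_orderOf_eq_one]

theorem ne_one {c : ℕ} (hc : c < NM) (h0 : c ≠ 0) : ψ c ≠ 1 := fun e => h0 (h.eq_zero hc e)

theorem cq {a b : ℕ} (ha : a < 2048) (hb : b < 2048) :
    ψ a * ψ b = ψ b * ψ a ↔ Ru.cq a b = true := by
  rw [← h.mq ha hb, ← h.mq hb ha, Ru.cq, nbeq]
  exact ⟨h.inj _ (by have := mq_lt ha hb; omega) _ (by have := mq_lt hb ha; omega), fun e => e ▸ rfl⟩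

theorem sqQ {a : ℕ} (ha : a < 2048) (e : ψ a * ψ a = 1) : Ru.mq a a = 0 := by
  rw [← mu_Q t ha ha]; exact h.sq (by omega) e

theorem hi_conj {g a c : ℕ} (hg : g < NM) (ha : a < NM) (hc : c < NM)
    (e : ψ g * ψ a * (ψ g)⁻¹ = ψ c) : Ru.mk (hi c) (hi g) = Ru.mk (hi g) (hi a) := by
  rw [← hi_mu t hc hg, ← hi_mu t hg ha, h.inj _ (mu_lt t hc hg) _ (mu_lt t hg ha)
    (by rw [h.mul _ hc _ hg, h.mul _ hg _ ha, ← e, inv_mul_cancel_right])]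

theorem hi_sq {c : ℕ} (hc : c < NM) (e : ψ c * ψ c = 1) : Ru.mk (hi c) (hi c) = 0 := by
  rw [← hi_mu t hc hc, h.sq hc e]; rfl

theorem pow {c : ℕ} (hc : c < NM) (n : ℕ) : ∃ c' < NM, ψ c ^ n = ψ c' := by
  induction n with
  | zero => exact ⟨0, by norm_num, by rw [pow_zero, h.zero]⟩
  | succ n ih =>
    obtain ⟨c', h1, h2⟩ := ih
    exact ⟨_, mu_lt t h1 hc, by rw [pow_succ, h2, h.mul _ h1 _ hc]⟩

theorem z_mul' {n b : ℕ} (hn : n < 8) (hb : b < NM) : ψ n * ψ b = ψ (b ^^^ n) ∧ b ^^^ n < NM := by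
  have h3 : mu t n b = b ^^^ n := by
    rw [mu_eq, hi_of_lt (a := n) (by omega), lo_of_lt (a := n) (by omega), act_zero (lo_lt b),
      (r0_spec t (hi_lt hb)).1.1, mq_z_left hn (lo_lt b), Nat.xor_assoc,
      xor_mul (lo_lt b), hi_eq, lo_eq, Nat.div_add_mod, Nat.xor_comm]
  rw [← h3]
  exact ⟨(h.mul n (by omega) b hb).symm, mu_lt t (by omega) hb⟩

theorem z_mul {b : ℕ} (hb : b < NM) : ψ 1 * ψ b = ψ (b ^^^ 1) ∧ b ^^^ 1 < NM :=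
  h.z_mul' (by norm_num) hb

/-- `x = z^ε y` in codes. -/
theorem near {a b : ℕ} (hb : b < NM) (e : a ^^^ b < 2) : ψ a = ψ b ∨ ψ a = ψ 1 * ψ b := by
  have e1 : a = b ^^^ (a ^^^ b) := by rw [Nat.xor_comm a, ← Nat.xor_assoc, Nat.xor_self, Nat.zero_xor]
  obtain e2 | e2 : a ^^^ b = 0 ∨ a ^^^ b = 1 := by omega
  · rw [e2, Nat.xor_zero] at e1; exact Or.inl (e1 ▸ rfl)
  · rw [e2] at e1
    exact Or.inr (by rw [(h.z_mul hb).1, ← e1])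

theorem near' {a b : ℕ} (ha : a < NM) (hb : b < NM) (e : ψ a = ψ b ∨ ψ a = ψ 1 * ψ b) :
    a ^^^ b < 2 := by
  rcases e with e | e
  · rw [h.inj _ ha _ hb e, Nat.xor_self]; norm_num
  · rw [h.inj _ ha _ (h.z_mul hb).2 (e.trans (h.z_mul hb).1), Nat.xor_comm b, Nat.xor_assoc,
      Nat.xor_self]; norm_num

/-- the preimage of a subgroup of `L₃(2)`. -/
def sub (l : List ℕ) (h0 : 0 ∈ l) (h1 : ∀ k ∈ l, (∀ k' ∈ l, Ru.mk k k' ∈ l) ∧ ik k ∈ l) :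
    Subgroup G where
  carrier := {g | ∃ c < NM, hi c ∈ l ∧ g = ψ c}
  mul_mem' := by
    rintro _ _ ⟨a, a1, a2, rfl⟩ ⟨b, b1, b2, rfl⟩
    exact ⟨_, mu_lt t a1 b1, hi_mu t a1 b1 ▸ (h1 _ a2).1 _ b2, (h.mul _ a1 _ b1).symm⟩
  one_mem' := ⟨0, by norm_num, h0, h.zero.symm⟩
  inv_mem' := by
    rintro _ ⟨a, a1, a2, rfl⟩
    exact ⟨_, Mo.iv_lt a1, hi_iv t a1 ▸ (h1 _ a2).2, (h.iv a1).symm⟩

/-- the Sylow `2`-subgroup. -/
def P : Subgroup G := h.sub D8 (by decide) fun k hk => by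
  have := k_D8
  simp only [rd] at this
  exact (this.1 k hk).1

theorem mem_P {c : ℕ} (hc : hi c ∈ D8) : ψ c ∈ h.P :=
  ⟨c, lt_of_hi (by revert hc; generalize hi c = k; revert k; decide), hc, rfl⟩

theorem pi_P : IsPi {2} h.P := isPi_iff_piElt.2 <| by
  rintro _ ⟨c, h1, h2, rfl⟩
  have := k_D8
  simp only [rd] at this
  exact h.pi_of h1 (this.1 _ h2).2.1

end Mi

namespace MD
variable (Y : MD X V)

theorem mem_Z {g : G} : g ∈ X.Z ↔ ∃ b < 8, g = Y.ψ b :=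
  ⟨fun ⟨b, e⟩ => ⟨b.val, b.val_lt, e.trans (Y.ψ_z b).symm⟩, fun ⟨b, hb, e⟩ =>
    ⟨F8.mk b, by rw [e, ← Y.ψ_z, F8.val_mk hb]⟩⟩

theorem z_mem {b : ℕ} (hb : b < 8) : Y.ψ b ∈ X.Z := Y.mem_Z.2 ⟨b, hb, rfl⟩

theorem ψ_NZ {c : ℕ} (hc : c < NM) : Y.ψ c ∈ N[X.Z] := mem_N_of_finite fun x hx => by
  obtain ⟨b, hb, rfl⟩ := Y.mem_Z.1 hx
  rw [Y.mi.cj_z hc hb]
  exact Y.z_mem (za_lt _ _)

theorem D_Z : Y.D ≤ C[X.Z] := cents_of_le Y.D_L (X.Z_le_S.trans X.S_le)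

theorem mem_CZ {g : G} : g ∈ C[X.Z] ↔ ∀ b < 8, g * Y.ψ b * g⁻¹ = Y.ψ b :=
  ⟨fun h b hb => conj_eq_of_mem_C h (Y.z_mem hb), fun h => mem_C'.2 fun x hx => by
    obtain ⟨b, hb, rfl⟩ := Y.mem_Z.1 hx
    exact mul_inv_eq_iff_eq_mul.1 (h b hb)⟩

theorem Q_CZ {q : ℕ} (hq : q < 2048) : Y.ψ q ∈ C[X.Z] :=
  Y.mem_CZ.2 fun b hb => by rw [Y.mi.zc hq hb, mul_inv_cancel_right]

theorem actN {g : G} (hg : g ∈ N[X.Z]) :
    ∃ k < 168, ∀ b < 8, g * Y.ψ b * g⁻¹ = Y.ψ (za k b) := by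
  obtain ⟨c, hc, d, hd, rfl⟩ := Y.NZ g hg
  refine ⟨hi c, hi_lt hc, fun b hb => ?_⟩
  rw [← Y.mi.cj_z hc hb]
  conv_rhs => rw [← Y.mem_CZ.1 (Y.D_Z hd) b hb]
  group

theorem za_eq {k b b' : ℕ} (hb' : b' < 8) (e : Y.ψ (za k b) = Y.ψ b') : za k b = b' :=
  Y.mi.inj _ (by have := za_lt k b; omega) _ (by omega) e

theorem lt_of_CZ {c : ℕ} (hc : c < NM) (h : Y.ψ c ∈ C[X.Z]) : c < 2048 := by
  have e : ∀ b < 8, za (hi c) b = b := fun b hb =>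
    Y.za_eq hb (by rw [← Y.mi.cj_z hc hb, Y.mem_CZ.1 h b hb])
  have := k_za
  simp only [rd] at this
  exact lt_of_hi0 (((this _ (hi_lt hc)).1.1.2 ⟨e 1 (by norm_num), e 2 (by norm_num)⟩).2
    (e 4 (by norm_num)))

theorem eq_one_D {c : ℕ} (hc : c < NM) (h : Y.ψ c ∈ Y.D) : Y.ψ c = 1 :=
  eq_one_of_odd Y.oddD h (Y.mi.pi_Q (Y.lt_of_CZ hc (Y.D_Z h)))

theorem two {g : G} (hg : g ∈ N[X.Z]) (h2 : PiElt {2} g) : ∃ c < NM, g = Y.ψ c := by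
  obtain ⟨c, hc, d, hd, rfl⟩ := Y.NZ g hg
  obtain ⟨k, hk⟩ := h2.exists_pow Nat.prime_two
  have e := pow_orderOf_eq_one (Y.ψ c * d)
  obtain ⟨c', h1, h3⟩ := Y.mi.pow hc (2 ^ k)
  rw [hk, Commute.mul_pow (mem_C'.1 (Y.D_ψ c hc) d hd), h3] at e
  have e2 : Y.ψ c' = 1 := Y.eq_one_D h1 (by
    rw [eq_inv_of_mul_eq_one_left e]; exact inv_mem (pow_mem hd _))
  rw [e2, one_mul] at e
  exact ⟨c, hc, by rw [eq_one_of_odd Y.oddD hd (pi2 k e), mul_one]⟩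

theorem CZ {g : G} (hg : g ∈ C[X.Z]) : ∃ q < 2048, ∃ d ∈ Y.D, g = Y.ψ q * d := by
  obtain ⟨c, hc, d, hd, rfl⟩ := Y.NZ g (C_le_N _ hg)
  exact ⟨c, Y.lt_of_CZ hc (by simpa using mul_mem hg (inv_mem (Y.D_Z hd))), d, hd, rfl⟩

theorem twoC {g : G} (hg : g ∈ C[X.Z]) (h2 : PiElt {2} g) : ∃ q < 2048, g = Y.ψ q := by
  obtain ⟨c, hc, rfl⟩ := Y.two (C_le_N _ hg) h2
  exact ⟨c, Y.lt_of_CZ hc hg, rfl⟩

include Y in
theorem sq_mem {g : G} (hg : g ∈ C[X.Z]) (h2 : PiElt {2} g) : g * g ∈ X.Z := by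
  obtain ⟨q, hq, rfl⟩ := Y.twoC hg h2
  rw [← Y.mi.mq hq hq]
  exact Y.z_mem (mq_self_lt q)

theorem mem_Sa {c : ℕ} (hc : c < NM) : Y.ψ c ∈ C{Y.ψ 1} ↔ hi c ∈ Sa := by
  have := k_za
  simp only [rd] at this
  rw [mem_C1_iff_conj, Y.mi.cj_z hc (by norm_num)]
  exact ⟨fun e => (this _ (hi_lt hc)).1.2.1 (Y.za_eq (by norm_num) e),
    fun e => by rw [(this _ (hi_lt hc)).1.2.2 e]⟩

theorem actH {g : G} (hg : g ∈ N[X.Z]) (h1 : g ∈ C{Y.ψ 1}) :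
    ∃ k ∈ Sa, ∀ b < 8, g * Y.ψ b * g⁻¹ = Y.ψ (za k b) := by
  obtain ⟨k, hk, e⟩ := Y.actN hg
  have := k_za
  simp only [rd] at this
  exact ⟨k, (this _ hk).1.2.1 (Y.za_eq (by norm_num)
    ((e 1 (by norm_num)).symm.trans (mem_C1_iff_conj.1 h1))), e⟩

/-- every involution outside `Q` is conjugate to a fixed one. -/
theorem inv_out {c : ℕ} (hc : c < NM) (h1 : Y.ψ c * Y.ψ c = 1) (h2 : ¬ c < 2048) :
    (∃ m < NM, (hi c ∈ Va → hi m ∈ Sa) ∧ Y.ψ m * Y.ψ c * (Y.ψ m)⁻¹ = Y.ψ 180722) ∧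
      (hi c ∈ Sa → hi c ∈ Va ∨ ∃ m < NM, hi m ∈ Sa ∧ Y.ψ m * Y.ψ c * (Y.ψ m)⁻¹ = Y.ψ 43008) := by
  have k1 := k_inv
  have k2 := c_out Y.t
  have k3 := k_Sa
  simp only [rd] at k1 k2 k3
  obtain ⟨⟨a1, a2⟩, a3⟩ := k1 _ (hi_lt hc) ⟨fun e => h2 (lt_of_hi0 e), Y.mi.hi_sq hc h1⟩
  have key : ∀ g < 168, ∀ k T r, (∀ l < 168, Ru.mk l g = Ru.mk g (hi c) → l = k) →
      (∀ q < 2048, mu Y.t (2048 * k + q) (2048 * k + q) = 0 →
        cn Y.t (pk T 11 q) (2048 * k + q) = r) →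
      ∃ m < NM, (g ∈ Sa → hi m ∈ Sa) ∧ Y.ψ m * Y.ψ c * (Y.ψ m)⁻¹ = Y.ψ r := by
    intro g hg k T r b1 b2
    have g1 : 2048 * g < NM := by omega
    have c1 := Mo.cn_lt (t := Y.t) g1 hc
    have c2 := Y.mi.cn g1 hc
    have c3 := b1 _ (hi_lt c1) (by simpa only [hi_R] using Y.mi.hi_conj g1 hc c1 c2.symm)
    generalize cn Y.t (2048 * g) c = c' at c1 c2 c3
    have c4 : 2048 * k + lo c' = c' := by rw [← c3, hi_eq, lo_eq, Nat.div_add_mod]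
    have c5 := b2 _ (lo_lt c') (by
      rw [c4]; exact Y.mi.sq c1 (by rw [c2, conj_mul, h1, mul_one, mul_inv_cancel]))
    rw [c4] at c5
    have q1 : pk T 11 (lo c') < 2048 := pk_lt _ _ _
    refine ⟨_, mu_lt Y.t (a := pk T 11 (lo c')) (by omega) g1, fun hS => ?_, ?_⟩
    · rw [hi_mu _ (by omega) g1, hi_of_lt q1, hi_R]
      exact (k3 0 (by decide)).1 g hS
    · rw [← c5, Y.mi.cn (by omega) c1, c2, Y.mi.mul _ (by omega) _ g1]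
      group
  refine ⟨?_, fun hS => ?_⟩
  · obtain ⟨m, m1, m2, m3⟩ := key _ a1 88 _ _ a2 fun q hq => (k2 q hq).1
    refine ⟨m, m1, fun hV => m2 ?_, m3⟩
    have hS : hi c ∈ Sa := by revert hV; generalize hi c = k; revert k; decide
    rcases a3 hS with b | b
    · exact b.2
    · have k4 := k_inv
      have : ∀ k ∈ Va, k ≠ 0 → pk KW 8 k ∈ Sa := by decide +kernel
      exact this _ hV fun e => h2 (lt_of_hi0 e)
  · rcases a3 hS with b | b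
    · exact Or.inl b.1
    · obtain ⟨m, m1, m2, m3⟩ := key _ (Sa_lt b.1) 21 _ _ b.2 fun q hq => (k2 q hq).2
      exact Or.inr ⟨m, m1, m2 b.1, m3⟩

end MD

end H14.Ru
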