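import Mathlib
import Cfsg.Agent.H14.RuN1

/-! The class `DD` in `N(Z)`, the Sylow subgroup, and `C(Z₀) ≤ N(Z)`. -/

set_option autoImplicit false
set_option linter.unusedSectionVars false

namespace H14.Ru

open Cfsg H24 H29 H7.Cay Subgroup H17.RC

variable {G : Type*} [Group G] [Finite G] {L G0 V : Subgroup G} {X : SzD L}

theorem dd_cj {t g : G} : DD L (g * t * g⁻¹) ↔ DD L t :=
  ⟨fun h => by simpa [mul_assoc] using dd_conj h g⁻¹, fun h => dd_conj h g⟩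

theorem cj_sq {g a : G} (h : a * a = 1) : g * a * g⁻¹ * (g * a * g⁻¹) = 1 := by
  rw [conj_mul, h, mul_one, mul_inv_cancel]

theorem cj_comm' {a b : G} (g : G) (h : a * b = b * a) :
    g * a * g⁻¹ * (g * b * g⁻¹) = g * b * g⁻¹ * (g * a * g⁻¹) := by rw [conj_mul, conj_mul, h]

theorem fix_of_comm {a b : G} (h : a * b = b * a) : a * b * a⁻¹ = b := by
  rw [h, mul_inv_cancel_right]

theorem comm_of_fix {a b : G} (h : a * b * a⁻¹ = b) : a * b = b * a := mul_inv_eq_iff_eq_mul.1 h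

theorem cj_of_inv {a u : G} (h : a * u * a⁻¹ = u⁻¹) : u * a * u⁻¹ = u * u * a :=
  calc u * a * u⁻¹ = u * (a * u * a⁻¹)⁻¹ * a := by group
    _ = u * u * a := by rw [h, inv_inv]

theorem xor4 : ∀ b < 8, ¬ b < 4 → b ^^^ 4 < 4 ∧ b = b ^^^ 4 ^^^ 4 ∧ 4 = b ^^^ 4 ^^^ b := by decide

/-- in a `2`-subgroup of the centraliser of a member of `DD` the involutions are central. -/
theorem ddc (B : Bs X V G0) {t a b : G} {R : Subgroup G} (ht : DD L t) (hR : IsPi {2} R)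
    (ha : a ∈ R) (hb : b ∈ R) (h1 : a * t = t * a) (h2 : b * t = t * b) (h3 : a * a = 1) :
    a * b = b * a := by
  obtain ⟨t1, t2, g, hg⟩ := ht
  have hle : cj g (R ⊓ C{t}) ≤ N[L] := by
    intro x hx
    obtain ⟨y, hy, rfl⟩ := mem_cj'.1 hx
    refine B.st.mem_N (fun e => t1 (conj_eq_one_iff.1 e)) (cj_sq t2) hg ?_
    rwa [fix_of_comm (cj_comm' g (mem_C1.1 hy.2))]
  obtain ⟨k, -, hk⟩ := Sylow_Jsub Nat.prime_two (X.syl_N B.vd.syl) ((hR.inf_left _).cj g) hle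
  rw [← cj_mul] at hk
  have a1 := hk (conj_mem_cj _ (show a ∈ R ⊓ C{t} from ⟨ha, mem_C1.2 h1⟩))
  have b1 := hk (conj_mem_cj _ (show b ∈ R ⊓ C{t} from ⟨hb, mem_C1.2 h2⟩))
  have := mem_C.1 (B.T_CE b1) _ (B.mem_E_of_sq a1 (cj_sq h3))
  rw [conj_mul, conj_mul] at this
  simpa using this

namespace MD
variable (B : Bs X V G0) (Y : MD X V)

theorem v_mem : Y.ψ 8 ∈ V := (Y.mem_V _).2 (by simp)

theorem v_sq : Y.ψ 8 * Y.ψ 8 = 1 := by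
  rw [← Y.mi.mq (by norm_num) (by norm_num), show mq 8 8 = 0 by decide +kernel, Y.mi.zero]

theorem z_lt {c : ℕ} (hc : c < NM) (h : Y.ψ c ∈ X.Z) : c < 8 := by
  obtain ⟨b, hb, e⟩ := Y.mem_Z.1 h
  rwa [Y.mi.inj _ hc _ (by omega) e]

theorem Z_H {b : ℕ} (hb : b < 8) : Y.ψ b ∈ C{Y.ψ 1} := mem_C1.2 (Y.mi.zc (by omega) (by norm_num))

theorem CZ_H {g : G} (hg : g ∈ C[X.Z]) : g ∈ C{Y.ψ 1} := C_le_C1 (Y.z_mem (by norm_num)) hg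

theorem Z_span {g : G} {K : Subgroup G} (h1 : g * Y.ψ 1 * g⁻¹ ∈ K) (h2 : g * Y.ψ 2 * g⁻¹ ∈ K)
    (h4 : g * Y.ψ 4 * g⁻¹ ∈ K) {b : ℕ} (hb : b < 8) : g * Y.ψ b * g⁻¹ ∈ K := by
  have m : ∀ a < 8, ∀ b < 8, g * Y.ψ a * g⁻¹ ∈ K → g * Y.ψ b * g⁻¹ ∈ K →
      g * Y.ψ (a ^^^ b) * g⁻¹ ∈ K := fun a ha b hb h h' => by
    rw [← Y.mi.zz ha hb, ← conj_mul]; exact mul_mem h h'
  have h3 := m 1 (by norm_num) 2 (by norm_num) h1 h2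
  interval_cases b
  exacts [by simp [Y.mi.zero], h1, h2, h3, h4, m 1 (by norm_num) 4 (by norm_num) h1 h4,
    m 2 (by norm_num) 4 (by norm_num) h2 h4, m 3 (by norm_num) 4 (by norm_num) h3 h4]

theorem NZ_of {g : G} (h1 : g * Y.ψ 1 * g⁻¹ ∈ X.Z) (h2 : g * Y.ψ 2 * g⁻¹ ∈ X.Z)
    (h4 : g * Y.ψ 4 * g⁻¹ ∈ X.Z) : g ∈ N[X.Z] := mem_N_of_finite fun x hx => by
  obtain ⟨b, hb, rfl⟩ := Y.mem_Z.1 hx
  exact Y.Z_span h1 h2 h4 hb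

include B

theorem DD8 : DD L (Y.ψ 8) := B.dd_V Y.v_mem (Y.mi.ne_one (by norm_num) (by norm_num))

theorem not_DD {g : G} {b : ℕ} (hb : b < 8) : ¬ DD L (g * Y.ψ b * g⁻¹) := by
  rw [dd_cj, ← F8.val_mk hb, Y.ψ_z]; exact B.vd.zn _

theorem not_DD' {b : ℕ} (hb : b < 8) : ¬ DD L (Y.ψ b) := by simpa using Y.not_DD B (g := 1) hb

omit B in
theorem dd_conj8 {c : ℕ} (h : dd c = true) : ∃ m < NM, Y.ψ c = Y.ψ m * Y.ψ 8 * (Y.ψ m)⁻¹ := by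
  have := c_dd Y.t
  simp only [rd] at this
  obtain ⟨h1, h2⟩ := this c (dd_lt h) h
  exact ⟨_, h1, by rw [← Y.mi.cn h1 (by norm_num), h2]⟩

theorem DD_of_dd {c : ℕ} (h : dd c = true) : DD L (Y.ψ c) := by
  obtain ⟨m, -, e⟩ := Y.dd_conj8 h
  exact e ▸ dd_conj (Y.DD8 B) _

theorem dd_of_DD {c : ℕ} (hc : c < NM) (h : DD L (Y.ψ c)) : dd c = true := by
  by_cases h1 : c < 2048
  · by_cases h2 : c < 8
    · exact absurd h (Y.not_DD' B h2)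
    have := c_nd Y.t
    simp only [rd] at this
    rcases this c h1 ⟨by omega, Y.mi.sqQ h1 h.2.1⟩ with e | ⟨⟨⟨⟨a1, a2⟩, a3, a4⟩, -⟩, -⟩
    · exact e
    have b1 : pk W2 11 c < 2048 := pk_lt _ _ _
    have b2 : pk W3 11 c < 2048 := pk_lt _ _ _
    refine absurd ((Y.mi.cq b1 b2).1 (ddc B h Y.mi.pi_P (Y.mi.mem_P ?_) (Y.mi.mem_P ?_)
      ((Y.mi.cq b1 h1).2 a3) ((Y.mi.cq b2 h1).2 a4) ?_)) a2
    · rw [hi_of_lt b1]; decide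
    · rw [hi_of_lt b2]; decide
    · rw [← Y.mi.mq b1 b1, a1, Y.mi.zero]
  · obtain ⟨⟨m, -, -, e⟩, -⟩ := Y.inv_out hc h.2.1 h1
    have := c_one Y.t
    simp only [rd] at this
    obtain ⟨⟨⟨⟨a1, a2⟩, a3⟩, -⟩, -⟩ := this
    exact absurd (Y.mi.cmt (by norm_num) (by norm_num) (ddc B (e ▸ dd_conj h _) Y.mi.pi_P
      (Y.mi.mem_P (by decide)) (Y.mi.mem_P (by decide)) (Y.mi.comm (by norm_num) (by norm_num) a1)
      (Y.mi.comm (by norm_num) (by norm_num) a2) (Y.mi.z_sq (by norm_num)))) a3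

theorem v_N {g : G} (h : g * Y.ψ 8 * g⁻¹ = Y.ψ 8) : g ∈ N[L] :=
  B.st.mem_N (Y.DD8 B).1 Y.v_sq (B.le Y.v_mem) (by rw [h]; exact B.le Y.v_mem)

theorem F1' {g : G} (h : g * Y.ψ 8 * g⁻¹ = Y.ψ 8) {b : ℕ} (hb : b < 8) (h0 : b ≠ 0)
    (hz : g * Y.ψ b * g⁻¹ ∈ X.Z) : g ∈ N[X.Z] := by
  rw [← F8.val_mk hb, Y.ψ_z] at hz
  refine (X.norm_S (Y.v_N B h) (fun e => h0 ?_) hz).2
  rw [← F8.val_mk hb, e]; rfl

/-- an element of `H` that fixes `v Z` centralises `Z`. -/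
theorem star {g : G} (hg : g ∈ C{Y.ψ 1}) {b : ℕ} (hb : b < 8)
    (h : g * Y.ψ 8 * g⁻¹ = Y.ψ b * Y.ψ 8) : g ∈ C[X.Z] := by
  have k1 := c_one Y.t
  have k2 := k_za
  simp only [rd] at k1 k2
  have k3 := k1.2.2.2.1 b hb
  have q1 : nth 0 [0, 1280, 256, 1024, 512, 1792, 768, 1536] b < 2048 := by
    interval_cases b <;> decide
  generalize nth 0 [0, 1280, 256, 1024, 512, 1792, 768, 1536] b = q at k3 q1
  have e1 : Y.ψ b * Y.ψ 8 = Y.ψ (8 ^^^ b) := (Y.mi.z_mul' hb (by norm_num)).1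
  have e2 := Y.mi.cn (g := q) (a := 8) (by omega) (by norm_num)
  rw [k3, ← e1, ← h] at e2
  have g1 : (Y.ψ q)⁻¹ * g ∈ C{Y.ψ 1} := mul_mem (inv_mem (Y.CZ_H (Y.Q_CZ q1))) hg
  have g2 : (Y.ψ q)⁻¹ * g * Y.ψ 8 * ((Y.ψ q)⁻¹ * g)⁻¹ = Y.ψ 8 := by
    rw [show (Y.ψ q)⁻¹ * g * Y.ψ 8 * ((Y.ψ q)⁻¹ * g)⁻¹ =
      (Y.ψ q)⁻¹ * (g * Y.ψ 8 * g⁻¹) * Y.ψ q by group, e2]; group
  have g3 := Y.F1' B g2 (b := 1) (by norm_num) (by norm_num)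
    (by rw [mem_C1_iff_conj.1 g1]; exact Y.z_mem (by norm_num))
  refine (mul_mem_cancel_left (inv_mem (Y.Q_CZ q1))).1 ?_
  generalize (Y.ψ q)⁻¹ * g = x at g1 g2 g3
  obtain ⟨c, hc, d, hd, rfl⟩ := Y.NZ x g3
  have d1 : d * Y.ψ 8 * d⁻¹ = Y.ψ 8 :=
    fix_of_comm (mem_C.1 (Y.D_ψ 8 (by norm_num)) d hd)
  obtain ⟨c', c1, c2, c3⟩ := Y.mi.cj_Q hc (q := 8) (by norm_num)
  have c4 : c' = 8 := Y.mi.inj _ (by omega) _ (by norm_num) (by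
    rw [← c3, ← d1]
    exact Eq.trans (by group) (g2.trans d1.symm))
  have c5 := (Y.mem_Sa hc).1 ((mul_mem_cancel_right (Y.CZ_H (Y.D_Z hd))).1 g1)
  exact mul_mem (Y.Q_CZ (lt_of_hi0 ((k2 _ (hi_lt hc)).2 (by omega)
    (Or.inr ((k2 _ (hi_lt hc)).1.2.2 c5))))) (Y.D_Z hd)

theorem F2 {t : G} (h : DD L t) (ht : t ∈ N[X.Z]) : ∃ c, dd c = true ∧ t = Y.ψ c := by
  obtain ⟨c, hc, rfl⟩ := Y.two ht (pi_inv h.2.1)
  exact ⟨c, Y.dd_of_DD B hc h, rfl⟩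

include Y in
theorem F2' {t : G} (h : DD L t) (ht : t ∈ N[X.Z]) : t ∈ C[X.Z] := by
  obtain ⟨c, hc, rfl⟩ := Y.F2 B h ht
  exact Y.Q_CZ (dd_lt hc)

/-- two conjugates of `Z` with nontrivial intersection, centralised by a member of `DD`, agree. -/
theorem F1 {u g : G} (h : DD L u) (h1 : u ∈ C[X.Z])
    (h2 : ∀ b < 8, u * (g * Y.ψ b * g⁻¹) = g * Y.ψ b * g⁻¹ * u) {b0 : ℕ} (hb : b0 < 8)
    (h0 : b0 ≠ 0) (hz : g * Y.ψ b0 * g⁻¹ ∈ X.Z) : g ∈ N[X.Z] := by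
  obtain ⟨c, hc, rfl⟩ := Y.F2 B h (C_le_N _ h1)
  obtain ⟨m, hm, e⟩ := Y.dd_conj8 hc
  have m1 := Y.ψ_NZ hm
  refine (mul_mem_cancel_left (inv_mem m1)).1 ?_
  have h3 : ∀ b < 8, Y.ψ 8 * ((Y.ψ m)⁻¹ * g * Y.ψ b * ((Y.ψ m)⁻¹ * g)⁻¹) =
      (Y.ψ m)⁻¹ * g * Y.ψ b * ((Y.ψ m)⁻¹ * g)⁻¹ * Y.ψ 8 := fun b hb => by
    have := cj_comm' (Y.ψ m)⁻¹ (h2 b hb)
    rw [e] at this
    simpa [mul_assoc] using this
  have h4 : (Y.ψ m)⁻¹ * g * Y.ψ b0 * ((Y.ψ m)⁻¹ * g)⁻¹ ∈ X.Z := by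
    simpa [mul_assoc] using conj_mem' m1 hz
  generalize (Y.ψ m)⁻¹ * g = k at h3 h4
  obtain ⟨b1, hb1, e1⟩ := Y.mem_Z.1 h4
  refine mem_N_of_finite fun x hx => ?_
  obtain ⟨b, hb', rfl⟩ := Y.mem_Z.1 hx
  have y1 := fix_of_comm (h3 b hb').symm
  have y2 := cj_sq (g := k) (Y.mi.z_sq hb')
  have y3 := Y.F1' B y1 hb1 (fun e2 => Y.mi.ne_one (c := b0) (by omega) h0
    (conj_eq_one_iff.1 (e1.trans (e2 ▸ Y.mi.zero)))) (by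
      rw [← e1, fix_of_comm (cj_comm' k (Y.mi.zc (by omega) hb))]; exact h4)
  obtain ⟨y, hy, y4⟩ := Y.two y3 (pi_inv y2)
  have y5 := Y.not_DD B (g := k) hb'
  rw [y4] at y1 y2 y5 ⊢
  obtain ⟨c', c1, c2, c3⟩ := Y.mi.cj_Q hy (q := 8) (by norm_num)
  have c4 : c' = 8 := Y.mi.inj _ (by omega) _ (by norm_num) (c3.symm.trans y1)
  have k2 := k_za
  have k3 := c_f1
  simp only [rd] at k2 k3
  have c5 := lt_of_hi0 ((k2 _ (hi_lt hy)).2 (by omega) (Or.inl (Y.mi.hi_sq hy y2)))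
  rcases k3 y c5 ⟨Y.mi.sqQ c5 y2, (Y.mi.cq c5 (by norm_num)).1 (comm_of_fix y1)⟩ with c6 | c6
  exacts [Y.z_mem c6, absurd (Y.DD_of_dd B c6) y5]

theorem syl_P : Syl 2 ⊤ Y.mi.P := by
  by_contra hn
  obtain ⟨R, r1, r2, -, r3⟩ := exists_lt_norm_of_not_syl Nat.prime_two Y.mi.pi_P le_top hn
  refine r2.not_ge fun g hg => ?_
  have g1 := r3 hg
  have k1 := c_one Y.t
  have k2 := k_D8
  simp only [rd] at k1 k2
  obtain ⟨⟨a1, a2⟩, a3, a4⟩ := k1.2.2.2.2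
  have f1 : ∀ c ∈ [8, 1368, 328, 568], ∃ q < 2048, g * Y.ψ c * g⁻¹ = Y.ψ q := fun c hc => by
    obtain ⟨q, q1, -, q2⟩ := conj_mem g1 (Y.mi.mem_P (c := c) (by rw [hi_of_lt (dd_lt (a4 c hc))]; decide))
    exact ⟨q, dd_lt (Y.dd_of_DD B q1 (q2 ▸ dd_conj (Y.DD_of_dd B (a4 c hc)) g)), q2⟩
  have f2 : ∀ c ∈ [8, 1368, 328, 568], g * Y.ψ (cm Y.t 8 c) * g⁻¹ ∈ X.Z := fun c hc => by
    obtain ⟨p, p1, p2⟩ := f1 8 (by simp)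
    obtain ⟨q, q1, q2⟩ := f1 c hc
    have := dd_lt (a4 c hc)
    rw [Y.mi.cm (by norm_num) (by omega), show g * (Y.ψ 8 * Y.ψ c * (Y.ψ 8)⁻¹ * (Y.ψ c)⁻¹) * g⁻¹ =
      g * Y.ψ 8 * g⁻¹ * (g * Y.ψ c * g⁻¹) * (g * Y.ψ c * g⁻¹ * (g * Y.ψ 8 * g⁻¹))⁻¹ by group, p2, q2,
      ← Y.mi.mq p1 q1, ← Y.mi.mq q1 p1]
    have e1 : (mq p q ^^^ mq q p) < 8 := by
      have := xor_div8 (mq p q) (mq q p)
      rw [mq_div, mq_div, Nat.xor_comm (q / 8), Nat.xor_self] at this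
      omega
    have e2 := (Y.mi.z_mul' e1 (b := mq q p) (by have := mq_lt q1 p1; omega)).1
    rw [Nat.xor_comm (mq p q), ← Nat.xor_assoc, Nat.xor_self, Nat.zero_xor] at e2
    rw [← e2, mul_inv_cancel_right]
    exact Y.z_mem (Nat.xor_comm (mq p q) _ ▸ e1)
  obtain ⟨c, hc, rfl⟩ := Y.two (Y.NZ_of (a1 ▸ f2 _ (by simp)) (a2 ▸ f2 _ (by simp))
    (a3 ▸ f2 _ (by simp))) (r1.piElt hg)
  refine Y.mi.mem_P (k2.2 _ (hi_lt hc) fun l hl => ?_)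
  have l1 : l ∈ D8 ∧ l < 168 := by revert l; decide
  obtain ⟨q, q1, q2, q3⟩ := conj_mem g1 (Y.mi.mem_P (c := 2048 * l) (by rw [hi_R]; exact l1.1))
  exact ⟨_, q2, by simpa only [hi_R] using Y.mi.hi_conj hc (by omega) q1 q3⟩

omit B in
/-- `ψ 4` is weakly closed modulo `Z₀` in `C(Z₀)`. -/
theorem WC {g : G} (h1 : g * Y.ψ 1 * g⁻¹ = Y.ψ 1) (h2 : g * Y.ψ 2 * g⁻¹ = Y.ψ 2)
    (h4 : g * Y.ψ 4 * g⁻¹ ∈ N[X.Z]) : g ∈ N[X.Z] := by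
  have t2 := cj_sq (g := g) (Y.mi.z_sq (b := 4) (by norm_num))
  obtain ⟨c, hc, e⟩ := Y.two h4 (pi_inv t2)
  refine Y.NZ_of (h1.symm ▸ Y.z_mem (by norm_num)) (h2.symm ▸ Y.z_mem (by norm_num)) ?_
  have k1 := k_za
  have k2 := c_wc Y.t
  have k3 := k_D8
  simp only [rd] at k1 k2 k3
  have f0 : ∀ b < 8, g * Y.ψ b * g⁻¹ = Y.ψ b → za (hi c) b = b := fun b hb h => Y.za_eq hb (by
    rw [← Y.mi.cj_z hc hb, ← e, ← h]; exact fix_of_comm (cj_comm' g (Y.mi.zc (by norm_num) hb)))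
  have c1 := ((k1 _ (hi_lt hc)).1.1.2 ⟨f0 1 (by norm_num) h1, f0 2 (by norm_num) h2⟩).1
  obtain ⟨i, hi4, i1⟩ : ∃ i < 4, nth 0 Vb i = hi c := by
    revert c1; generalize hi c = k; revert k; decide
  have k4 := k2 i hi4 _ (lo_lt c)
  rw [i1, show 2048 * hi c + lo c = c by rw [hi_eq, lo_eq, Nat.div_add_mod]] at k4
  rw [e] at t2 ⊢
  rcases k4 (Y.mi.sq hc t2) with k5 | ⟨⟨s1, s2⟩, s3, s4⟩
  · exact Y.z_mem k5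
  exfalso
  generalize pk _ 19 _ = s at s1 s2 s3 s4
  have s5 : hi s ∈ D8 ∧ hi s < 168 ∧ za (hi s) 1 = 1 ∧ za (hi s) 2 = 2 := by
    revert s1; generalize hi s = k; revert k; decide +kernel
  have s6 := lt_of_hi s5.2.1
  have f1 : ∀ b < 8, ∀ x, g * Y.ψ b * g⁻¹ = x → Y.ψ s * x = x * Y.ψ s →
      g⁻¹ * Y.ψ s * g⁻¹⁻¹ * Y.ψ b * (g⁻¹ * Y.ψ s * g⁻¹⁻¹)⁻¹ = Y.ψ b := by
    rintro b hb _ rfl h
    refine fix_of_comm ?_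
    simpa [mul_assoc] using cj_comm' g⁻¹ h
  have f2 : g⁻¹ * Y.ψ s * g⁻¹⁻¹ ∈ C[X.Z] := by
    refine mem_C'.2 fun x hx => ?_
    obtain ⟨b, hb, rfl⟩ := Y.mem_Z.1 hx
    refine (mem_C1.1 ?_).symm
    simpa using Y.Z_span (g := 1) (K := C{g⁻¹ * Y.ψ s * g⁻¹⁻¹})
      (by simpa using mem_C1.2 (comm_of_fix (f1 1 (by norm_num) _ h1 (comm_of_fix (by
        rw [Y.mi.cj_z s6 (by norm_num), s5.2.2.1])))).symm)
      (by simpa using mem_C1.2 (comm_of_fix (f1 2 (by norm_num) _ h2 (comm_of_fix (by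
        rw [Y.mi.cj_z s6 (by norm_num), s5.2.2.2])))).symm)
      (by simpa using mem_C1.2 (comm_of_fix (f1 4 (by norm_num) _ e (Y.mi.comm s6 hc s2))).symm) hb
  obtain ⟨b, hb, f3⟩ := Y.mem_Z.1 (Y.sq_mem f2 (pi_cj (Y.mi.pi_P.piElt (Y.mi.mem_P s5.1)) _))
  have f4 : Y.ψ (mu Y.t s s) = g * Y.ψ b * g⁻¹ := by
    rw [← f3, Y.mi.mul _ s6 _ s6]; group
  have f5 : ∀ n < 4, g * Y.ψ n * g⁻¹ = Y.ψ n := fun n hn => by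
    interval_cases n
    exacts [by simp [Y.mi.zero], h1, h2, by
      rw [show 3 = 1 ^^^ 2 from rfl, ← Y.mi.zz (by norm_num) (by norm_num), ← conj_mul, h1, h2]]
  have y1 := mu_lt Y.t s6 s6
  generalize mu Y.t s s = y at *
  by_cases hb4 : b < 4
  · rw [f5 b hb4] at f4
    have := Y.mi.inj _ y1 _ (by omega) f4
    omega
  · have b1 := xor4 b hb hb4
    rw [b1.2.1, ← Y.mi.zz (by omega) (by norm_num), ← conj_mul, f5 _ b1.1, e,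
      (Y.mi.z_mul' (by omega) hc).1] at f4
    rw [Y.mi.inj _ y1 _ (Y.mi.z_mul' (by omega) hc).2 f4, Nat.xor_comm c, Nat.xor_assoc,
      Nat.xor_self, Nat.xor_zero] at s4
    omega

/-- `C(Z₀) ≤ N(Z)`. -/
theorem R4 {g : G} (h1 : g * Y.ψ 1 * g⁻¹ = Y.ψ 1) (h2 : g * Y.ψ 2 * g⁻¹ = Y.ψ 2) :
    g ∈ N[X.Z] := by
  let N : Subgroup G :=
    { carrier := {x | ∃ n < 4, x = Y.ψ n}
      mul_mem' := by
        rintro _ _ ⟨a, ha, rfl⟩ ⟨b, hb, rfl⟩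
        exact ⟨_, Nat.xor_lt_two_pow (n := 2) ha hb, Y.mi.zz (by omega) (by omega)⟩
      one_mem' := ⟨0, by norm_num, Y.mi.zero.symm⟩
      inv_mem' := by
        rintro _ ⟨a, ha, rfl⟩
        exact ⟨a, ha, Y.mi.z_inv (by omega)⟩ }
  have hN : ∀ x ∈ C{Y.ψ 1} ⊓ C{Y.ψ 2}, ∀ n < 4, x * Y.ψ n * x⁻¹ = Y.ψ n := fun x hx n hn => by
    have a1 := mem_C1_iff_conj.1 hx.1
    have a2 := mem_C1_iff_conj.1 hx.2
    interval_cases n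
    exacts [by simp [Y.mi.zero], a1, a2, by
      rw [show 3 = 1 ^^^ 2 from rfl, ← Y.mi.zz (by norm_num) (by norm_num), ← conj_mul, a1, a2]]
  have hg : g ∈ C{Y.ψ 1} ⊓ C{Y.ψ 2} := ⟨mem_C1_iff_conj.2 h1, mem_C1_iff_conj.2 h2⟩
  have hQ : ∀ q < 2048, Y.ψ q ∈ C{Y.ψ 1} ⊓ C{Y.ψ 2} := fun q hq =>
    ⟨mem_C1.2 (Y.mi.zc hq (by norm_num)), mem_C1.2 (Y.mi.zc hq (by norm_num))⟩
  have wc : ∀ x ∈ C{Y.ψ 1} ⊓ C{Y.ψ 2}, x * Y.ψ 4 * x⁻¹ ∈ N[X.Z] → x ∈ N[X.Z] := fun x hx =>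
    Y.WC (mem_C1_iff_conj.1 hx.1) (mem_C1_iff_conj.1 hx.2)
  have z4 : Y.ψ 4 ∈ X.Z := Y.z_mem (by norm_num)
  rcases dih Y.v_sq (cj_sq (g := g) (Y.mi.z_sq (b := 4) (by norm_num))) N _ (hQ 8 (by norm_num))
    (mul_mem (mul_mem hg (hQ 4 (by norm_num))) (inv_mem hg)) with
    ⟨k, -, _, ⟨n, hn, rfl⟩, e⟩ | ⟨u, u1, u2, ⟨n, hn, u3⟩, u4, u5, u6⟩
  · rw [← hN g hg n hn, conj_mul, Y.mi.zz (by omega) (by norm_num)] at e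
    exact absurd (e ▸ dd_conj (Y.DD8 B) k) (Y.not_DD B (xor_lt8 (by omega) (by norm_num)))
  have u7 : u ∈ C[X.Z] := Y.star B u1.1 (b := n) (by omega) (by rw [cj_of_inv u4, u3])
  rcases u6 with ⟨k, hk, e⟩ | ⟨k, hk, e⟩
  · have e1 : k⁻¹ * g * Y.ψ 4 * (k⁻¹ * g)⁻¹ = u * Y.ψ 8 := by
      rw [show k⁻¹ * g * Y.ψ 4 * (k⁻¹ * g)⁻¹ = k⁻¹ * (g * Y.ψ 4 * g⁻¹) * k by group, ← e]; group
    obtain ⟨b, hb, e2⟩ := Y.mem_Z.1 (conj_mem (wc _ (mul_mem (inv_mem hk) hg)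
      (e1 ▸ C_le_N _ (mul_mem u7 (Y.Q_CZ (by norm_num))))) z4)
    have e3 : u = Y.ψ (8 ^^^ b) := by
      rw [← (Y.mi.z_mul' hb (by norm_num)).1, ← e2, e1, mul_assoc, Y.v_sq, mul_one]
    have e4 : DD L u := e3 ▸ Y.DD_of_dd B (by interval_cases b <;> decide +kernel)
    refine Y.F1 B e4 u7 (fun b hb => (mem_C1.1 (Y.Z_span (K := C{u}) ?_ ?_ ?_ hb)).symm)
      (b0 := 1) (by norm_num) (by norm_num) (h1.symm ▸ Y.z_mem (by norm_num))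
    · rw [h1]; exact mem_C1_comm.1 u1.1
    · rw [h2]; exact mem_C1_comm.1 u1.2
    · rw [mem_C1_iff_conj, u5]; exact inv_eq_of_mul_eq_one_right e4.2.1
  · have s4 := Y.mi.z_sq (b := 4) (by norm_num)
    have v1 : g⁻¹ * u * g ∈ C{Y.ψ 1} ⊓ C{Y.ψ 2} := mul_mem (mul_mem (inv_mem hg) u1) hg
    have v2 : g⁻¹ * u * g * Y.ψ 4 * (g⁻¹ * u * g)⁻¹ = Y.ψ n * Y.ψ 4 := by
      rw [cj_of_inv (a := Y.ψ 4) (by
        rw [show (g⁻¹ * u * g)⁻¹ = g⁻¹ * u⁻¹ * g by group, ← u5]; group),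
        ← hN g⁻¹ (inv_mem hg) n hn, ← u3]
      group
    have v3 := wc _ v1 (by
      rw [v2]; exact norm_self _ (mul_mem (Y.z_mem (by omega)) z4))
    have v4 : g⁻¹ * k⁻¹ * g * Y.ψ 4 * (g⁻¹ * k⁻¹ * g)⁻¹ = g⁻¹ * u * g * Y.ψ 4 := by
      rw [show g⁻¹ * k⁻¹ * g * Y.ψ 4 * (g⁻¹ * k⁻¹ * g)⁻¹ = g⁻¹ * k⁻¹ * (g * Y.ψ 4 * g⁻¹) * k * g by
        group, ← e]; group
    have v5 := conj_mem (wc _ (mul_mem (mul_mem (inv_mem hg) (inv_mem hk)) hg)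
      (v4 ▸ mul_mem v3 (norm_self _ z4))) z4
    rw [v4, mul_mem_cancel_right z4] at v5
    obtain ⟨b, hb, v6⟩ := Y.mem_Z.1 v5
    have v7 : u = g * Y.ψ b * g⁻¹ := by rw [← v6]; group
    have b4 : ¬ b < 4 := fun hb4 => u2 ⟨b, hb4, v7.trans (hN g hg b hb4)⟩
    have b1 := xor4 b hb b4
    refine wc g hg ?_
    rw [b1.2.2, ← Y.mi.zz (by omega) hb, ← conj_mul, hN g hg _ b1.1, ← v7]
    exact mul_mem (norm_self _ (Y.z_mem (by omega))) (C_le_N _ u7)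

omit B in
theorem MB {b : ℕ} (hb : b < 8) (h2 : 2 ≤ b) :
    ∃ m ∈ N[X.Z], m ∈ C{Y.ψ 1} ∧ m * Y.ψ 2 * m⁻¹ = Y.ψ b := by
  have := k_act
  simp only [rd] at this
  obtain ⟨a1, a2⟩ := (this.2.1.2 b hb).1 h2
  generalize nth 0 _ b = k at a1 a2
  have k1 : 2048 * k < NM := by have := Sa_lt a1; omega
  exact ⟨_, Y.ψ_NZ k1, (Y.mem_Sa k1).2 (by rwa [hi_R]), by
    rw [Y.mi.cj_z k1 (by norm_num), hi_R, a2]⟩

omit B in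
theorem FB {b : ℕ} (hb : b < 8) (h0 : b ≠ 0) : ∃ m ∈ N[X.Z], m * Y.ψ b * m⁻¹ = Y.ψ 1 := by
  have := k_act
  simp only [rd] at this
  have a2 := (this.2.1.2 b hb).2 (by omega)
  have k1 : 2048 * nth 0 [0, 0, 4, 5, 1, 3, 2, 6] b < NM := by interval_cases b <;> decide
  exact ⟨_, Y.ψ_NZ k1, by rw [Y.mi.cj_z k1 hb, hi_R, a2]⟩

omit B in
theorem two_le {g : G} (hg : g ∈ C{Y.ψ 1}) {b b' : ℕ} (hb : b < NM) (h2 : 2 ≤ b)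
    (e : g * Y.ψ b * g⁻¹ = Y.ψ b') : 2 ≤ b' := by
  by_contra h
  obtain rfl | rfl : b' = 0 ∨ b' = 1 := by omega
  · exact Y.mi.ne_one hb (by omega) (conj_eq_one_iff.1 (e.trans Y.mi.zero))
  · rw [← mem_C1_iff_conj.1 hg] at e
    have := Y.mi.inj b hb 1 (by norm_num) (by simpa using e)
    omega

/-- an element of `H` that maps a point of `Z / z` into `Z` normalises `Z`. -/
theorem R4' {g : G} (hg : g ∈ C{Y.ψ 1}) {b : ℕ} (hb : b < 8) (h2 : 2 ≤ b)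
    (h : g * Y.ψ b * g⁻¹ ∈ X.Z) : g ∈ N[X.Z] := by
  obtain ⟨b', hb', e⟩ := Y.mem_Z.1 h
  obtain ⟨m, m1, m2, m3⟩ := Y.MB hb h2
  obtain ⟨n, n1, n2, n3⟩ := Y.MB hb' (Y.two_le hg (by omega) h2 e)
  have := Y.R4 B (mem_C1_iff_conj.1 (mul_mem (mul_mem (inv_mem n2) hg) m2)) (by
    rw [show n⁻¹ * g * m * Y.ψ 2 * (n⁻¹ * g * m)⁻¹ = n⁻¹ * (g * (m * Y.ψ 2 * m⁻¹) * g⁻¹) * n by group,
      m3, e, ← n3]; group)
  rwa [mul_mem_cancel_right m1, mul_mem_cancel_left (inv_mem n1)] at this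

end MD

end H14.Ru
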