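import Mathlib
import Cfsg.Agent.H14.RuN2

/-! The conjugates of `Z` under `H = C(z)` lie in `W`. -/

set_option autoImplicit false
set_option linter.unusedSectionVars false

namespace H14.Ru

open Cfsg H24 H29 H7.Cay Subgroup H17.RC

variable {G : Type*} [Group G] [Finite G] {L G0 V : Subgroup G} {X : SzD L}

theorem k_W : (allL [0, 74, 147, 217] fun a => allF 8 fun b => lit (Nat.add (Nat.mul 8 a) b) fun c =>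
    and2 (imp2 (Nat.ble 8 c) (Nat.ble 2 (mq (mq c 8) (mq c 8))))
      (allL [0, 74, 147, 217] fun a' => allF 8 fun b' => cq c (Nat.add (Nat.mul 8 a') b'))) = true := by
  decide +kernel

theorem W_spec {c : ℕ} (h : inW c = true) : (8 ≤ c → 2 ≤ mq (mq c 8) (mq c 8)) ∧
    ∀ c', inW c' = true → cq c c' = true := by
  have k := k_W
  simp only [rd, inW] at k h ⊢
  have := k _ h (c % 8) (by omega)
  rw [Nat.div_add_mod] at this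
  refine ⟨this.1, fun c' h' => ?_⟩
  have := this.2 _ h' (c' % 8) (by omega)
  rwa [Nat.div_add_mod] at this

theorem inW_of_lt {c : ℕ} (h : c < 8) : inW c = true := by interval_cases c <;> decide

theorem za_zero : ∀ x < 8, za 0 x = x := by decide +kernel

namespace MD
variable (B : Bs X V G0) (Y : MD X V)

/-- membership in `W`. -/
def InW (x : G) : Prop := ∃ c, inW c = true ∧ x = Y.ψ c

/-- the conjugate of `Z` lies in `W`. -/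
def ZW (g : G) : Prop := ∀ b < 8, Y.InW (g * Y.ψ b * g⁻¹)

theorem InW.CZ {x : G} (h : Y.InW x) : x ∈ C[X.Z] := by
  obtain ⟨c, hc, rfl⟩ := h
  exact Y.Q_CZ (inW_lt hc)

theorem InW.comm {x y : G} (h : Y.InW x) (h' : Y.InW y) : x * y = y * x := by
  obtain ⟨c, hc, rfl⟩ := h
  obtain ⟨c', hc', rfl⟩ := h'
  exact (Y.mi.cq (inW_lt hc) (inW_lt hc')).2 ((W_spec hc).2 _ hc')

theorem ZW_of_NZ {g : G} (h : g ∈ N[X.Z]) : Y.ZW g := fun b hb => by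
  obtain ⟨c, hc, e⟩ := Y.mem_Z.1 (conj_mem h (Y.z_mem hb))
  exact ⟨c, inW_of_lt hc, e⟩

theorem cj_xor (h : G) {a b : ℕ} (ha : a < 8) (hb : b < 8) :
    h * Y.ψ a * h⁻¹ * (h * Y.ψ b * h⁻¹) = h * Y.ψ (a ^^^ b) * h⁻¹ := by
  rw [conj_mul, Y.mi.zz ha hb]

theorem cj_inj {h : G} {a b : ℕ} (ha : a < 8) (hb : b < 8)
    (e : h * Y.ψ a * h⁻¹ = h * Y.ψ b * h⁻¹) : a = b :=
  Y.mi.inj _ (by omega) _ (by omega) (by simpa using e)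

theorem CZ_of {g x : G} (h : ∀ b < 8, x * (g * Y.ψ b * g⁻¹) = g * Y.ψ b * g⁻¹ * x) :
    g⁻¹ * x * g⁻¹⁻¹ ∈ C[X.Z] := mem_C'.2 fun y hy => by
  obtain ⟨b, hb, rfl⟩ := Y.mem_Z.1 hy
  simpa [mul_assoc] using cj_comm' g⁻¹ (h b hb)

theorem ψ_H {c : ℕ} (h : hi c ∈ Sa) : Y.ψ c ∈ C{Y.ψ 1} :=
  (Y.mem_Sa (lt_of_hi (Sa_lt h))).2 h

include B

/-- action on a conjugate of `Z`. -/
theorem actT {h y : G} (hh : h ∈ C{Y.ψ 1}) (hy : y ∈ C{Y.ψ 1}) {b : ℕ} (hb : b < 8) (h2 : 2 ≤ b)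
    (e : y * (h * Y.ψ b * h⁻¹) * y⁻¹ = h * Y.ψ b * h⁻¹ ∨
      y * (h * Y.ψ b * h⁻¹) * y⁻¹ = Y.ψ 1 * (h * Y.ψ b * h⁻¹)) :
    h⁻¹ * y * h ∈ N[X.Z] ∧ ∃ k ∈ Sa, za k b ^^^ b < 2 ∧
      ∀ x < 8, y * (h * Y.ψ x * h⁻¹) * y⁻¹ = h * Y.ψ (za k x) * h⁻¹ := by
  have y1 : h⁻¹ * y * h ∈ C{Y.ψ 1} := mul_mem (mul_mem (inv_mem hh) hy) hh
  have y0 : ∀ x, h⁻¹ * y * h * x * (h⁻¹ * y * h)⁻¹ = h⁻¹ * (y * (h * x * h⁻¹) * y⁻¹) * h :=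
    fun x => by group
  have y2 : h⁻¹ * y * h * Y.ψ b * (h⁻¹ * y * h)⁻¹ = Y.ψ b ∨
      h⁻¹ * y * h * Y.ψ b * (h⁻¹ * y * h)⁻¹ = Y.ψ 1 * Y.ψ b := by
    rw [y0]
    refine e.imp (fun e => by rw [e]; group) fun e => ?_
    rw [e, ← mem_C1_iff_conj.1 hh, conj_mul, mem_C1_iff_conj.1 hh]; group
  have y3 := Y.R4' B y1 hb h2 (by
    rcases y2 with e | e <;> rw [e]
    exacts [Y.z_mem hb, mul_mem (Y.z_mem (by norm_num)) (Y.z_mem hb)])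
  obtain ⟨k, k1, k2⟩ := Y.actH y3 y1
  refine ⟨y3, k, k1, Y.mi.near' (by have := za_lt k b; omega) (by omega) (k2 b hb ▸ y2),
    fun x hx => ?_⟩
  rw [← k2 x hx]; group

theorem E {h u : G} (hh : h ∈ C{Y.ψ 1}) (hu : DD L u) (h1 : u ∈ C[X.Z]) {b : ℕ} (hb : b < 8)
    (h2 : 2 ≤ b) (e : u * (h * Y.ψ b * h⁻¹) * u⁻¹ = h * Y.ψ b * h⁻¹ ∨
      u * (h * Y.ψ b * h⁻¹) * u⁻¹ = Y.ψ 1 * (h * Y.ψ b * h⁻¹)) : h ∈ N[X.Z] := by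
  have u1 := Y.F2' B (by simpa using dd_conj hu h⁻¹) (Y.actT B hh (Y.CZ_H h1) hb h2 e).1
  refine Y.F1 B hu h1 (fun x hx => ?_) (b0 := 1) (by norm_num) (by norm_num)
    ((mem_C1_iff_conj.1 hh).symm ▸ Y.z_mem (by norm_num))
  simpa [mul_assoc] using cj_comm' h (mem_C'.1 u1 _ (Y.z_mem hx))

theorem AQ {h : G} (hh : h ∈ C{Y.ψ 1}) {b c : ℕ} (hb : b < 8) (h2 : 2 ≤ b) (hc : c < 2048)
    (e : h * Y.ψ b * h⁻¹ = Y.ψ c) : inW c = true ∧ ∀ x < 8, h * Y.ψ x * h⁻¹ ∈ C[X.Z] := by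
  by_cases c8 : c < 8
  · exact ⟨inW_of_lt c8, fun x hx =>
      (Y.ZW_of_NZ (Y.R4' B hh hb h2 (e ▸ Y.z_mem c8)) x hx).CZ⟩
  have k1 := c_nd Y.t
  have k2 := k_act
  simp only [rd] at k1 k2
  obtain d | ⟨-, a1, ⟨a2, a3, a4⟩, a5⟩ :=
    k1 c hc ⟨by omega, Y.mi.sqQ hc (e ▸ cj_sq (Y.mi.z_sq hb))⟩
  · exact absurd (e ▸ Y.DD_of_dd B d) (Y.not_DD B hb)
  refine ⟨a1.resolve_right fun ⟨d1, d2⟩ => c8 ?_, fun x hx => ?_⟩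
  · have d3 := dd_lt d1
    have := Y.mi.near (by omega) d2
    rw [Y.mi.cn (by omega) (by omega), ← e] at this
    exact Y.z_lt (by omega) (e ▸ conj_mem (Y.E B hh (Y.DD_of_dd B d1) (Y.Q_CZ d3) hb h2 this)
      (Y.z_mem hb))
  have f : ∀ y < 2048, cq y c = true → Y.ψ (mq y y) ∈ C{h * Y.ψ x * h⁻¹} := fun y hy hc' => by
    have y1 := fix_of_comm ((Y.mi.cq hy hc).2 hc')
    rw [← e] at y1
    obtain ⟨-, k, s1, -, s3⟩ := Y.actT B hh (Y.CZ_H (Y.Q_CZ hy)) hb h2 (Or.inl y1)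
    have s4 := (k2.1.2 k s1 b hb h2).2 (Y.cj_inj (za_lt _ _) hb ((s3 b hb).symm.trans y1)) x hx
    rw [mem_C1_iff_conj, Y.mi.mq hy hy]
    conv_rhs => rw [← s4, ← s3 _ (za_lt _ _), ← s3 x hx]
    group
  have f1 := f _ (pk_lt _ _ _) a2
  have f2 := f _ (pk_lt _ _ _) a3
  have f3 := f _ (pk_lt _ _ _) a4
  have l := mq_self_lt
  refine mem_C'.2 fun y hy => (mem_C1.1 ?_).symm
  obtain ⟨y, hy', rfl⟩ := Y.mem_Z.1 hy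
  have := a5 y hy'
  simp only [List.mem_cons, List.not_mem_nil, or_false] at this
  rcases this with rfl | rfl | rfl | rfl | rfl | rfl | rfl | rfl
  · rw [Y.mi.zero]; exact one_mem _
  · exact f1
  · exact f2
  · exact f3
  · exact Y.mi.zz (l _) (l _) ▸ mul_mem f1 f2
  · exact Y.mi.zz (l _) (l _) ▸ mul_mem f1 f3
  · exact Y.mi.zz (l _) (l _) ▸ mul_mem f2 f3
  · exact Y.mi.zz (xor_lt8 (l _) (l _)) (l _) ▸ mul_mem (Y.mi.zz (l _) (l _) ▸ mul_mem f1 f2) f3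

theorem AB0 {h : G} (hh : h ∈ C{Y.ψ 1}) {b : ℕ} (hb : b < 8) (h2 : 2 ≤ b)
    (e : h * Y.ψ b * h⁻¹ ∈ C[X.Z]) : Y.ZW h := fun x hx => by
  obtain ⟨c, hc, e1⟩ := Y.twoC e (pi_inv (cj_sq (Y.mi.z_sq hb)))
  obtain ⟨c', hc', e2⟩ := Y.twoC ((Y.AQ B hh hb h2 hc e1).2 x hx) (pi_inv (cj_sq (Y.mi.z_sq hx)))
  by_cases x2 : 2 ≤ x
  · exact ⟨c', (Y.AQ B hh hx x2 hc' e2).1, e2⟩
  obtain rfl | rfl : x = 0 ∨ x = 1 := by omega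
  · exact ⟨0, by decide, by simp [Y.mi.zero]⟩
  · exact ⟨1, by decide, mem_C1_iff_conj.1 hh⟩

theorem ZW_inv {h : G} (hh : h ∈ C{Y.ψ 1}) (e : Y.ZW h) : Y.ZW h⁻¹ :=
  Y.AB0 B (inv_mem hh) (b := 2) (by norm_num) le_rfl (Y.CZ_of fun b hb =>
    mem_C.1 (e b hb).CZ _ (Y.z_mem (by norm_num)))

theorem not_ZW {h : G} (hh : h ∈ C{Y.ψ 1}) {b c : ℕ} (hb : b < 8) (hc : c < NM) (h2 : ¬ c < 2048)
    (e : h * Y.ψ b * h⁻¹ = Y.ψ c) : ¬ Y.ZW h⁻¹ := fun hz => by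
  have := (Y.ZW_inv B (inv_mem hh) hz b hb).CZ
  rw [inv_inv, e] at this
  exact h2 (Y.lt_of_CZ hc this)

theorem ARa {h : G} (hh : h ∈ C{Y.ψ 1}) {b : ℕ} (hb : b < 8) (h2 : 2 ≤ b) :
    h * Y.ψ b * h⁻¹ ≠ Y.ψ 180722 := fun e => by
  have k1 := c_one Y.t
  have k2 := k_act
  simp only [rd] at k1 k2
  obtain ⟨⟨⟨⟨a1, -⟩, -⟩, ⟨a2, a3⟩, a4⟩, ⟨⟨a5, -⟩, -⟩, -⟩ := k1
  have g0 : hi (tb Y.t 71680 71848) ∈ Sa := by cases Y.t <;> decide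
  have g1 := lt_of_hi (Sa_lt g0)
  generalize tb Y.t 71680 71848 = g at a3 a4 g0 g1
  have n1 : ∀ y < NM, hi y ∈ Sa → cn Y.t y 180722 ^^^ 180722 < 2 → _ := fun y hy hs e1 =>
    (Y.actT B hh (Y.ψ_H hs) hb h2 (by
      rw [e, ← Y.mi.cn hy (by norm_num)]; exact Y.mi.near (by norm_num) e1)).2
  have n2 : ∀ y < NM, hi y ∈ Sa → cmt Y.t y 180722 = true → ∃ k ∈ Sa, za k b = b ∧
      ∀ x < 8, Y.ψ y * (h * Y.ψ x * h⁻¹) * (Y.ψ y)⁻¹ = h * Y.ψ (za k x) * h⁻¹ := fun y hy hs e1 => by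
    have y1 := fix_of_comm (Y.mi.comm hy (by norm_num) e1)
    rw [← e] at y1
    obtain ⟨-, k, s1, -, s3⟩ := Y.actT B hh (Y.ψ_H hs) hb h2 (Or.inl y1)
    exact ⟨k, s1, Y.cj_inj (za_lt _ _) hb ((s3 b hb).symm.trans y1), s3⟩
  obtain ⟨k1, p1, p2, p3⟩ := n1 2 (by norm_num) (by decide) (by rw [a2]; decide)
  obtain ⟨k2', q1, q2, q3⟩ := n2 g g1 g0 a3
  obtain ⟨k3, r1, -, r3⟩ := n2 4 (by norm_num) (by decide) a1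
  obtain ⟨k4, s1, s2, s3⟩ := n1 496 (by norm_num) (by decide) a5
  have e4 : Y.ψ 4 * Y.ψ g * Y.ψ 2 = Y.ψ 2 * Y.ψ g := by
    rw [← a4, Y.mi.cm (by norm_num) g1]; group
  have t1 := k2.1.1 k1 p1 k2' q1 b hb ⟨h2, p2, q2⟩ k3 r1 fun x hx =>
    Y.cj_inj (h := h) (za_lt _ _) (za_lt _ _) (by
      rw [← r3 _ (za_lt _ _), ← q3 _ (za_lt _ _), ← p3 _ hx, ← p3 _ (za_lt _ _), ← q3 _ hx]
      exact Eq.trans (by group) ((congrArg (fun y => y * (h * Y.ψ x * h⁻¹) * y⁻¹) e4).trans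
        (by group)))
  rcases ((k2.2.1.1 k3 r1).1 t1).2 with rfl | ⟨x, hx, t2⟩
  · exact Y.not_ZW B hh hb (by norm_num) (by norm_num) e (Y.AB0 B (inv_mem hh) (b := 4)
      (by norm_num) (by norm_num) (Y.CZ_of fun x hx => comm_of_fix (by rw [r3 x hx, za_zero x hx])))
  have x1 := cj_sq (g := h) (Y.mi.z_sq hx)
  have x2 : h * Y.ψ x * h⁻¹ ∈ C{Y.ψ 1} := mul_mem (mul_mem hh (Y.Z_H hx)) (inv_mem hh)
  have x3 : h * Y.ψ x * h⁻¹ * Y.ψ 4 * (h * Y.ψ x * h⁻¹)⁻¹ = Y.ψ 5 := by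
    have := r3 x hx
    rw [t2, ← Y.cj_xor h hx (by norm_num), mem_C1_iff_conj.1 hh] at this
    generalize h * Y.ψ x * h⁻¹ = β at this x1
    rw [show 5 = 1 ^^^ 4 from rfl, ← Y.mi.zz (by norm_num) (by norm_num),
      inv_eq_of_mul_eq_one_right x1, mul_assoc, mul_inv_eq_iff_eq_mul.1 this, ← mul_assoc,
      ← mul_assoc, x1, one_mul]
  obtain ⟨c, hc, x4⟩ := Y.two (Y.R4' B x2 (b := 4) (by norm_num) (by norm_num)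
    (x3.symm ▸ Y.z_mem (by norm_num))) (pi_inv x1)
  have x5 := s3 x hx
  have x6 := cj_comm' h (Y.mi.zc (q := x) (by omega) hb)
  rw [x4] at x1 x2 x3 x5 x6
  rw [Y.mi.cj_z hc (by norm_num)] at x3
  have k5 := allK_true (c_ra Y.t) ((k2.2.1.1 _ ((Y.mem_Sa hc).1 x2)).2.2
    (Y.za_eq (by norm_num) x3))
  simp only [rd] at k5
  refine k5 (Y.mi.sq hc x1) (Y.mi.cmt hc (by norm_num) (e ▸ x6)) ?_
  have x7 : Y.ψ (cm Y.t 496 c) = h * Y.ψ (za k4 x ^^^ x) * h⁻¹ := by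
    rw [Y.mi.cm (by norm_num) hc, x5, inv_eq_of_mul_eq_one_right x1, ← x4,
      Y.cj_xor h (za_lt _ _) hx]
  have x8 := ((k2.1.2 k4 s1 b hb h2).1 s2 x hx).2
  have x9 := Mo.cm_lt (t := Y.t) (a := 496) (by norm_num) hc
  simp only [List.mem_cons, List.not_mem_nil, or_false] at x8 ⊢
  rcases x8 with t | t | t | t <;> rw [t] at x7
  · exact Or.inl (Y.mi.eq_zero x9 (by simpa [Y.mi.zero] using x7))
  · exact Or.inr (Or.inl (Y.mi.inj _ x9 _ (by norm_num) (x7.trans (mem_C1_iff_conj.1 hh))))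
  · exact Or.inr (Or.inr (Or.inl (Y.mi.inj _ x9 _ (by norm_num) (x7.trans e))))
  · refine Or.inr (Or.inr (Or.inr (Y.mi.inj _ x9 _ (by norm_num) (x7.trans ?_))))
    rw [Nat.xor_comm, ← Y.cj_xor h (by norm_num) hb, mem_C1_iff_conj.1 hh, e]
    exact (Y.mi.z_mul (by norm_num)).1

theorem AR {h : G} (hh : h ∈ C{Y.ψ 1}) {b c : ℕ} (hb : b < 8) (h2 : 2 ≤ b) (hc : c < NM)
    (hV : hi c ∈ Va) (e : h * Y.ψ b * h⁻¹ = Y.ψ c) : Y.ZW h := by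
  by_cases c1 : c < 2048
  · exact Y.AB0 B hh hb h2 (e ▸ Y.Q_CZ c1)
  obtain ⟨⟨m, -, m2, m3⟩, -⟩ := Y.inv_out hc (e ▸ cj_sq (Y.mi.z_sq hb)) c1
  exact absurd (by rw [← m3, ← e]; group) (Y.ARa B (mul_mem (Y.ψ_H (m2 hV)) hh) hb h2)

theorem Aout {h : G} (hh : h ∈ C{Y.ψ 1}) {b : ℕ} (hb : b < 8) (h2 : 2 ≤ b) :
    h * Y.ψ b * h⁻¹ ≠ Y.ψ 43008 := fun e => by
  have k1 := c_one Y.t
  have k2 := k_act
  simp only [rd] at k1 k2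
  obtain ⟨-, ⟨⟨-, a1⟩, a2, -⟩, -⟩ := k1
  obtain ⟨y1, k, s1, s2, s3⟩ := Y.actT B hh (Y.ψ_H (c := 136) (by decide)) hb h2 (by
    rw [e, ← Y.mi.cn (by norm_num) (by norm_num)]; exact Y.mi.near (by norm_num) a1)
  have e3 : Y.ψ 3 = Y.ψ 136 * Y.ψ 136 := by rw [← a2, Y.mi.mul _ (by norm_num) _ (by norm_num)]
  obtain ⟨c, hc, e4⟩ := Y.two (g := h⁻¹ * Y.ψ 3 * h⁻¹⁻¹) (by
    convert mul_mem y1 y1 using 1; rw [e3]; group) (pi_inv (cj_sq (Y.mi.z_sq (by norm_num))))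
  have c1 := (Y.mem_Sa hc).1 (e4 ▸ mul_mem (mul_mem (inv_mem hh) (Y.Z_H (by norm_num)))
    (inv_mem (inv_mem hh)))
  refine Y.not_ZW B hh hb (by norm_num) (by norm_num) e (Y.AR B (inv_mem hh) (b := 3) (by norm_num)
    (by norm_num) hc ((k2.2.1.1 _ c1).1 fun x hx => ?_).1 e4)
  rw [Y.cj_inj (h := h) (za_lt (hi c) x) (za_lt k (za k x)) (by
    rw [← s3 _ (za_lt _ _), ← s3 x hx, ← Y.mi.cj_z hc hx, ← e4, e3]; group)]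
  exact ((k2.1.2 k s1 b hb h2).1 s2 x hx).1

theorem A {h : G} (hh : h ∈ C{Y.ψ 1}) {b : ℕ} (hb : b < 8) (h2 : 2 ≤ b)
    (e : h * Y.ψ b * h⁻¹ ∈ N[X.Z]) : Y.ZW h := by
  have t1 := cj_sq (g := h) (Y.mi.z_sq hb)
  obtain ⟨c, hc, e1⟩ := Y.two e (pi_inv t1)
  by_cases c1 : c < 2048
  · exact Y.AB0 B hh hb h2 (e1 ▸ Y.Q_CZ c1)
  rcases (Y.inv_out hc (e1 ▸ t1) c1).2 ((Y.mem_Sa hc).1
    (e1 ▸ mul_mem (mul_mem hh (Y.Z_H hb)) (inv_mem hh))) with hV | ⟨m, -, m2, m3⟩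
  · exact Y.AR B hh hb h2 hc hV e1
  · exact absurd (by rw [← m3, ← e1]; group) (Y.Aout B (mul_mem (Y.ψ_H m2) hh) hb h2)

omit B in
theorem W8 {c : ℕ} (hc : inW c = true) (h8 : 8 ≤ c) :
    ∃ m, hi m ∈ Sa ∧ Y.ψ m * Y.ψ 594 * (Y.ψ m)⁻¹ = Y.ψ c := by
  have k := c_W Y.t
  simp only [rd] at k
  obtain ⟨a1, a2⟩ := (k c (inW_lt hc) hc).2.1 h8
  exact ⟨_, a1, by rw [← Y.mi.cn (lt_of_hi (Sa_lt a1)) (by norm_num), a2]⟩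

omit B in
/-- some conjugate of `Z` under `H` meets `W \ Z`. -/
def NT : Prop := ∃ k ∈ C{Y.ψ 1}, ∃ c, inW c = true ∧ 8 ≤ c ∧ k * Y.ψ 2 * k⁻¹ = Y.ψ c

omit B in
theorem NT.ex (h : Y.NT) {c : ℕ} (hc : inW c = true) (h8 : 8 ≤ c) :
    ∃ k ∈ C{Y.ψ 1}, k * Y.ψ 2 * k⁻¹ = Y.ψ c := by
  obtain ⟨k, hk, c0, c1, c2, e⟩ := h
  obtain ⟨m, m1, m2⟩ := Y.W8 hc h8
  obtain ⟨n, n1, n2⟩ := Y.W8 c1 c2
  refine ⟨_, mul_mem (mul_mem (Y.ψ_H m1) (inv_mem (Y.ψ_H n1))) hk, ?_⟩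
  rw [← m2, show Y.ψ 594 = (Y.ψ n)⁻¹ * (k * Y.ψ 2 * k⁻¹) * Y.ψ n by rw [e, ← n2]; group]
  group

theorem NW1 (h : Y.NT) {g x : G} (hg : g ∈ C{Y.ψ 1}) (hz : Y.ZW g) (hx : Y.InW x) :
    Y.InW (g * x * g⁻¹) := by
  obtain ⟨c, hc, rfl⟩ := hx
  by_cases c8 : c < 8
  · exact hz c c8
  obtain ⟨k, hk, e⟩ := h.ex Y hc (by omega)
  have e1 : g * k * Y.ψ 2 * (g * k)⁻¹ = g * Y.ψ c * g⁻¹ := by rw [← e]; group
  rw [← e1]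
  refine Y.AB0 B (mul_mem hg hk) (by norm_num) le_rfl ?_ 2 (by norm_num)
  rw [e1]
  simpa using Y.CZ_of (g := g⁻¹) fun b hb =>
    InW.comm Y ⟨c, hc, rfl⟩ (Y.ZW_inv B hg hz b hb)

/-- every `H`-conjugate of `Z` lies in `W`. -/
theorem R5 {h : G} (hh : h ∈ C{Y.ψ 1}) : Y.ZW h := by
  let N : Subgroup G :=
    { carrier := {x | ∃ n < 2, x = Y.ψ n}
      mul_mem' := by
        rintro _ _ ⟨a, ha, rfl⟩ ⟨b, hb, rfl⟩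
        exact ⟨_, Nat.xor_lt_two_pow (n := 1) ha hb, Y.mi.zz (by omega) (by omega)⟩
      one_mem' := ⟨0, by norm_num, Y.mi.zero.symm⟩
      inv_mem' := by
        rintro _ ⟨a, ha, rfl⟩
        exact ⟨a, ha, Y.mi.z_inv (by omega)⟩ }
  have hN : ∀ x ∈ C{Y.ψ 1}, ∀ n < 2, x * Y.ψ n * x⁻¹ = Y.ψ n := fun x hx n hn => by
    interval_cases n
    exacts [by simp [Y.mi.zero], mem_C1_iff_conj.1 hx]
  have z2 : Y.ψ 2 ∈ X.Z := Y.z_mem (by norm_num)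
  have s2 := Y.mi.z_sq (b := 2) (by norm_num)
  rcases dih Y.v_sq (cj_sq (g := h) s2) N _ (Y.ψ_H (c := 8) (by decide))
    (mul_mem (mul_mem hh (Y.Z_H (by norm_num))) (inv_mem hh)) with
    ⟨k, -, _, ⟨n, hn, rfl⟩, e⟩ | ⟨u, u1, u2, ⟨n, hn, u3⟩, u4, u5, u6⟩
  · rw [← hN h hh n hn, Y.cj_xor h (by omega) (by norm_num)] at e
    exact absurd (e ▸ dd_conj (Y.DD8 B) k) (Y.not_DD B (xor_lt8 (by omega) (by norm_num)))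
  have u7 : u ∈ C[X.Z] := Y.star B u1 (b := n) (by omega) (by rw [cj_of_inv u4, u3])
  rcases u6 with ⟨k, hk, e⟩ | ⟨k, hk, e⟩
  · have e1 : k⁻¹ * h * Y.ψ 2 * (k⁻¹ * h)⁻¹ = u * Y.ψ 8 := by
      rw [show k⁻¹ * h * Y.ψ 2 * (k⁻¹ * h)⁻¹ = k⁻¹ * (h * Y.ψ 2 * h⁻¹) * k by group, ← e]; group
    obtain ⟨c, c1, e2⟩ := Y.AB0 B (mul_mem (inv_mem hk) hh) (by norm_num) le_rfl
      (e1 ▸ mul_mem u7 (Y.Q_CZ (by norm_num))) 2 (by norm_num)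
    have c2 := inW_lt c1
    have e3 : u = Y.ψ (mq c 8) := by
      rw [Y.mi.mq c2 (by norm_num), ← e2, e1, mul_assoc, Y.v_sq, mul_one]
    by_cases c8 : c < 8
    · refine Y.ZW_of_NZ (Y.E B hh (e3 ▸ Y.DD_of_dd B (by interval_cases c <;> decide +kernel)) u7
        (b := 2) (by norm_num) le_rfl ?_)
      rw [cj_of_inv u5, u3]
      interval_cases n
      exacts [Or.inl (by rw [Y.mi.zero, one_mul]), Or.inr rfl]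
    · have c3 := mq_lt c2 (b := 8) (by norm_num)
      rw [e3, ← Y.mi.mq c3 c3] at u3
      have := (W_spec c1).1 (by omega)
      have := Y.mi.inj _ (by have := mq_lt c3 c3; omega) _ (by omega) u3
      omega
  have v1 : h⁻¹ * u * h ∈ C{Y.ψ 1} := mul_mem (mul_mem (inv_mem hh) u1) hh
  have v3 := Y.R4' B v1 (b := 2) (by norm_num) le_rfl (by
    rw [cj_of_inv (a := Y.ψ 2) (by
      rw [show (h⁻¹ * u * h)⁻¹ = h⁻¹ * u⁻¹ * h by group, ← u5]; group),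
      show h⁻¹ * u * h * (h⁻¹ * u * h) = h⁻¹ * (u * u) * h⁻¹⁻¹ by group, u3, hN _ (inv_mem hh) n hn]
    exact mul_mem (Y.z_mem (by omega)) z2)
  have v4 : h⁻¹ * k⁻¹ * h * Y.ψ 2 * (h⁻¹ * k⁻¹ * h)⁻¹ = h⁻¹ * u * h * Y.ψ 2 := by
    rw [show h⁻¹ * k⁻¹ * h * Y.ψ 2 * (h⁻¹ * k⁻¹ * h)⁻¹ = h⁻¹ * k⁻¹ * (h * Y.ψ 2 * h⁻¹) * k * h by
      group, ← e]; group
  have v5 := mul_mem (mul_mem (inv_mem hh) (inv_mem hk)) hh
  obtain ⟨c, c1, e2⟩ := Y.A B v5 (by norm_num) le_rfl (v4 ▸ mul_mem v3 (norm_self _ z2)) 2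
    (by norm_num)
  have c2 := inW_lt c1
  have kW := c_W Y.t
  simp only [rd] at kW
  have c3 := (kW c c2 c1).1.2 2 (by norm_num)
  have v6 : h * Y.ψ (c ^^^ 2) * h⁻¹ = u := by
    rw [Y.mi.zx c2 (by norm_num), ← e2, v4, mul_assoc _ _ (Y.ψ 2), s2]; group
  have c4 : 2 ≤ c ^^^ 2 := not_lt.1 fun c5 => u2 ⟨_, c5, v6 ▸ hN h hh _ c5⟩
  by_cases c8 : c ^^^ 2 < 8
  · exact Y.AB0 B hh c8 c4 (v6 ▸ u7)
  have nt : Y.NT := ⟨_, v5, c, c1, not_lt.1 fun c5 => c8 (xor_lt8 c5 (by norm_num)), e2⟩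
  obtain ⟨k1, m1, m2⟩ := nt.ex Y c3 (by omega)
  have m3 := Y.ZW_inv B m1 (Y.AB0 B m1 (by norm_num) le_rfl (m2 ▸ Y.Q_CZ (inW_lt c3)))
  have m4 := Y.AB0 B (mul_mem hh m1) (b := 2) (by norm_num) le_rfl (by
    convert u7 using 1; rw [← v6, ← m2]; group)
  intro x hx
  convert Y.NW1 B nt (mul_mem hh m1) m4 (m3 x hx) using 1
  group

theorem nt_of {g : G} (hg : g ∈ C{Y.ψ 1}) (h : g ∉ N[X.Z]) :
    ∃ c, inW c = true ∧ 8 ≤ c ∧ g * Y.ψ 2 * g⁻¹ = Y.ψ c := by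
  obtain ⟨c, c1, e⟩ := Y.R5 B hg 2 (by norm_num)
  exact ⟨c, c1, not_lt.1 fun c8 => h (Y.R4' B hg (by norm_num) le_rfl (e ▸ Y.z_mem c8)), e⟩

/-- the five conjugates of `Z`. -/
theorem spread {g : G} (hg : g ∈ C{Y.ψ 1}) (h : g ∉ N[X.Z]) : ∃ m < NM, hi m ∈ Sa ∧
    ∀ b < 8, ∃ c ∈ Zp, Y.ψ m * g * Y.ψ b * (Y.ψ m * g)⁻¹ = Y.ψ c := by
  obtain ⟨c0, c1, c2, e⟩ := Y.nt_of B hg h
  obtain ⟨n, n1, n2⟩ := Y.W8 c1 c2
  have n3 := lt_of_hi (Sa_lt n1)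
  have k1 := k_Sa
  have k2 := k_act
  have kW := c_W Y.t
  simp only [rd] at k1 k2 kW
  have m1 : hi (iv Y.t n) ∈ Sa := hi_iv Y.t n3 ▸ (k1 _ n1).2
  refine ⟨_, Mo.iv_lt n3, m1, fun b hb => ?_⟩
  have g1 := mul_mem (Y.ψ_H m1) hg
  have g2 : Y.ψ (iv Y.t n) * g ∉ N[X.Z] := by rwa [mul_mem_cancel_left (Y.ψ_NZ (Mo.iv_lt n3))]
  have g3 : Y.ψ (iv Y.t n) * g * Y.ψ 2 * (Y.ψ (iv Y.t n) * g)⁻¹ = Y.ψ 594 := by
    rw [Y.mi.iv n3, show Y.ψ 594 = (Y.ψ n)⁻¹ * (g * Y.ψ 2 * g⁻¹) * Y.ψ n by rw [e, ← n2]; group]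
    group
  generalize Y.ψ (iv Y.t n) * g = h at g1 g2 g3
  have g4 := mem_C1_iff_conj.1 g1
  have g5 : h * Y.ψ 3 * h⁻¹ = Y.ψ 595 := by
    rw [show 3 = 1 ^^^ 2 from rfl, ← Y.cj_xor h (by norm_num) (by norm_num), g3, g4]
    exact (Y.mi.z_mul (by norm_num)).1
  by_cases b4 : b < 4
  · interval_cases b
    exacts [⟨0, by decide, by simp [Y.mi.zero]⟩, ⟨1, by decide, g4⟩, ⟨594, by decide, g3⟩,
      ⟨595, by decide, g5⟩]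
  obtain ⟨c, hc, e1⟩ := Y.R5 B g1 b hb
  have c3 := inW_lt hc
  have e2 : h * Y.ψ (2 ^^^ b) * h⁻¹ = Y.ψ (mq 594 c) := by
    rw [← Y.cj_xor h (by norm_num) hb, g3, e1, Y.mi.mq (by norm_num) c3]
  rcases (kW c c3 hc).2.2 with (t | t) | t | ⟨y, y1, ⟨y2, y3⟩, y4⟩
  · exact absurd (Y.R4' B g1 hb (by omega) (e1 ▸ Y.z_mem t)) g2
  · refine absurd (Y.R4' B g1 (b := b ^^^ 2) (xor_lt8 hb (by norm_num))
      (by interval_cases b <;> decide) ?_) g2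
    rw [← Y.cj_xor h hb (by norm_num), g3, e1, ← Y.mi.mq c3 (by norm_num)]
    exact Y.z_mem t
  · exact ⟨c, t, e1⟩
  exfalso
  have y5 : hi y ∈ D8 ∧ hi y ∈ Sa ∧ y < NM :=
    (by decide : ∀ y ∈ [180312, 180432], hi y ∈ D8 ∧ hi y ∈ Sa ∧ y < NM) y y1
  have sp := k2.2.2.2 2 (by norm_num) b hb ⟨le_rfl, by interval_cases b <;> decide⟩
  have f : ∀ P : G → Prop, P 1 → P (Y.ψ 1) → P (Y.ψ 594) → P (Y.ψ 1 * Y.ψ 594) → P (Y.ψ c) →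
      P (Y.ψ 1 * Y.ψ c) → P (Y.ψ (mq 594 c)) → P (Y.ψ 1 * Y.ψ (mq 594 c)) →
      ∀ x < 8, P (h * Y.ψ x * h⁻¹) := fun P p0 p1 p2 p3 p4 p5 p6 p7 x hx => by
    have := sp x hx
    simp only [List.mem_cons, List.not_mem_nil, or_false] at this
    have g6 : ∀ a < 8, h * Y.ψ (a ^^^ 1) * h⁻¹ = Y.ψ 1 * (h * Y.ψ a * h⁻¹) := fun a ha => by
      rw [Nat.xor_comm, ← Y.cj_xor h (by norm_num) ha, g4]
    rcases this with rfl | rfl | rfl | rfl | rfl | rfl | rfl | rfl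
    · simpa [Y.mi.zero] using p0
    · rwa [g4]
    · rwa [g3]
    · rwa [g6 _ (by norm_num), g3]
    · rwa [e1]
    · rwa [g6 _ hb, e1]
    · rwa [e2]
    · rwa [g6 _ (xor_lt8 (by norm_num) hb), e2]
  have z1 := mem_C1_comm.1 (Y.ψ_H y5.2.1)
  have z2 := mem_C1.2 (Y.mi.comm y5.2.2 (by norm_num) y2).symm
  have z3 := mem_C1.2 (Y.mi.comm y5.2.2 (by omega) y3).symm
  have z4 : Y.ψ (mq 594 c) ∈ C{Y.ψ y} := Y.mi.mq (a := 594) (by norm_num) c3 ▸ mul_mem z2 z3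
  obtain ⟨x, hx, x1⟩ := Y.mem_Z.1 (Y.sq_mem (Y.CZ_of fun x hx => (mem_C1.1 (f (· ∈ C{Y.ψ y})
    (one_mem _) z1 z2 (mul_mem z1 z2) z3 (mul_mem z1 z3) z4 (mul_mem z1 z4) x hx)).symm)
    (pi_cj (Y.mi.pi_P.piElt (Y.mi.mem_P y5.1)) _))
  have s1 := mu_lt Y.t y5.2.2 y5.2.2
  have x2 : Y.ψ (mu Y.t y y) = h * Y.ψ x * h⁻¹ := by
    rw [← x1, Y.mi.mul _ y5.2.2 _ y5.2.2]; group
  generalize mu Y.t y y = s at y4 s1 x2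
  have nr : ∀ a < 2048, (Y.ψ s = Y.ψ a ∨ Y.ψ s = Y.ψ 1 * Y.ψ a) → s / 2 = a / 2 := fun a ha e => by
    have h1 := Y.mi.near' s1 (by omega) e
    have h2 := Nat.shiftRight_xor_distrib (a := s) (b := a) (i := 1)
    simp only [Nat.shiftRight_eq_div_pow, pow_one] at h2
    exact Nat.eq_of_xor_eq_zero (by omega)
  have c4 := mq_lt (a := 594) (by norm_num) c3
  simp only [List.mem_cons, List.not_mem_nil, or_false, not_or] at y4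
  obtain ⟨y6, y7, y8, y9⟩ := y4
  exact f (Y.ψ s ≠ ·) (fun e => y6 (nr 0 (by norm_num) (Or.inl (e.trans Y.mi.zero.symm))))
    (fun e => y6 (nr 1 (by norm_num) (Or.inl e))) (fun e => y7 (nr 594 (by norm_num) (Or.inl e)))
    (fun e => y7 (nr 594 (by norm_num) (Or.inr e))) (fun e => y8 (nr c c3 (Or.inl e)))
    (fun e => y8 (nr c c3 (Or.inr e))) (fun e => y9 (nr _ c4 (Or.inl e)))
    (fun e => y9 (nr _ c4 (Or.inr e))) x hx x2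

end MD

end H14.Ru
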