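import Mathlib
import Cfsg.Agent.H14.RuN3
import Cfsg.Agent.H14.RuB1
import Cfsg.Agent.H14.RuAm

/-! `C(z)` does not normalise `Z`; generation; `D = 1`. -/

set_option autoImplicit false
set_option linter.unusedSectionVars false

namespace H14.Ru

open Cfsg H24 H29 H7.Cay Subgroup H17.RC

variable {G : Type*} [Group G] [Finite G] {L G0 V : Subgroup G} {X : SzD L}

/-- no elementary abelian subgroup of order eight. -/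
noncomputable def pig (k1 k2 k4 : ℕ) : Bool :=
  lit (mk k1 k2) fun k3 => lit (mk k1 k4) fun k5 => lit (mk k2 k4) fun k6 =>
    imp2 (allL [k1, k2, k3, k4, k5, k6] fun k => Nat.beq (mk k k) 0)
      (memL 0 [k1, k2, k3, k4, k5, k6, mk k3 k4])

theorem k_pig : and2 (allL Sa fun k1 => imp2 (Nat.beq (mk k1 k1) 0) (allL Sa fun k2 =>
      allL Sa fun k4 => pig k1 k2 k4))
    (allL [0, 35, 55, 88, 135, 162] fun k2 => allL [0, 35, 55, 88, 135, 162] fun k4 =>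
      pig 88 k2 k4) = true := by decide +kernel

namespace MD
variable (B : Bs X V G0) (Y : MD X V)

theorem comm_Z {p q : ℕ} (p1 : p < 2048) (q1 : q < 2048) :
    Y.ψ p * Y.ψ q * (Y.ψ p)⁻¹ * (Y.ψ q)⁻¹ ∈ X.Z := by
  rw [mul_assoc (_ * _), ← mul_inv_rev, ← Y.mi.mq p1 q1, ← Y.mi.mq q1 p1]
  have e1 : (mq p q ^^^ mq q p) < 8 := by
    have := xor_div8 (mq p q) (mq q p)
    rw [mq_div, mq_div, Nat.xor_comm (q / 8), Nat.xor_self] at this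
    omega
  have e2 := (Y.mi.z_mul' e1 (b := mq q p) (by have := mq_lt q1 p1; omega)).1
  rw [Nat.xor_comm (mq p q), ← Nat.xor_assoc, Nat.xor_self, Nat.zero_xor] at e2
  rw [← e2, mul_inv_cancel_right]
  exact Y.z_mem (Nat.xor_comm (mq p q) _ ▸ e1)

theorem pigeon {g : G} (h : ∀ b < 8, g * Y.ψ b * g⁻¹ ∈ N[X.Z]) :
    ∃ c : ℕ → ℕ, (∀ b < 8, c b < NM ∧ g * Y.ψ b * g⁻¹ = Y.ψ (c b) ∧
      Ru.mk (hi (c b)) (hi (c b)) = 0) ∧ (pig (hi (c 1)) (hi (c 2)) (hi (c 4)) = true →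
        ∃ b < 8, b ≠ 0 ∧ g * Y.ψ b * g⁻¹ ∈ C[X.Z]) := by
  choose! c c1 c2 using fun b hb => Y.two (h b hb) (pi_inv (cj_sq (Y.mi.z_sq hb)))
  have c3 : ∀ b < 8, Ru.mk (hi (c b)) (hi (c b)) = 0 := fun b hb =>
    Y.mi.hi_sq (c1 b hb) (c2 b hb ▸ cj_sq (Y.mi.z_sq hb))
  have c4 : ∀ a < 8, ∀ b < 8, Ru.mk (hi (c a)) (hi (c b)) = hi (c (a ^^^ b)) := fun a ha b hb => by
    rw [← hi_mu Y.t (c1 a ha) (c1 b hb), Y.mi.inj _ (mu_lt _ (c1 a ha) (c1 b hb)) _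
      (c1 _ (xor_lt8 ha hb)) (by
        rw [Y.mi.mul _ (c1 a ha) _ (c1 b hb), ← c2 a ha, ← c2 b hb, Y.cj_xor g ha hb,
          c2 _ (xor_lt8 ha hb)])]
  refine ⟨c, fun b hb => ⟨c1 b hb, c2 b hb, c3 b hb⟩, fun hp => ?_⟩
  simp only [pig, rd] at hp
  rw [c4 1 (by norm_num) 2 (by norm_num), c4 1 (by norm_num) 4 (by norm_num),
    c4 2 (by norm_num) 4 (by norm_num), c4 _ (by decide) 4 (by norm_num)] at hp
  have f : ∀ b < 8, b ≠ 0 → 0 = hi (c b) → ∃ b < 8, b ≠ 0 ∧ g * Y.ψ b * g⁻¹ ∈ C[X.Z] :=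
    fun b hb h0 e => ⟨b, hb, h0, c2 b hb ▸ Y.Q_CZ (lt_of_hi0 e.symm)⟩
  have := hp (by
    simp only [List.mem_cons, List.not_mem_nil, or_false]
    rintro _ (rfl | rfl | rfl | rfl | rfl | rfl) <;> exact c3 _ (by decide))
  simp only [List.mem_cons, List.not_mem_nil, or_false] at this
  rcases this with e | e | e | e | e | e | e <;> exact f _ (by decide) (by decide) e

section TI
variable (hT : C{Y.ψ 1} ≤ N[X.Z])
include hT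

theorem TI1 {g : G} {b : ℕ} (hb : b < 8) (h0 : b ≠ 0) (h : g * Y.ψ b * g⁻¹ ∈ X.Z) :
    g ∈ N[X.Z] := by
  obtain ⟨b', hb', e⟩ := Y.mem_Z.1 h
  obtain ⟨m, m1, m2⟩ := Y.FB hb h0
  obtain ⟨n, n1, n2⟩ := Y.FB hb' fun e1 => Y.mi.ne_one (c := b) (by omega) h0
    (conj_eq_one_iff.1 (e.trans (e1 ▸ Y.mi.zero)))
  have := hT (mem_C1_iff_conj.2 (show n * g * m⁻¹ * Y.ψ 1 * (n * g * m⁻¹)⁻¹ = Y.ψ 1 by
    conv_rhs => rw [← n2, ← e]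
    rw [← m2]; group))
  rwa [mul_mem_cancel_right (inv_mem m1), mul_mem_cancel_left n1] at this

theorem TI1' {g y : G} {b : ℕ} (hb : b < 8) (h0 : b ≠ 0)
    (h : y * (g * Y.ψ b * g⁻¹) = g * Y.ψ b * g⁻¹ * y) : g⁻¹ * y * g⁻¹⁻¹ ∈ N[X.Z] :=
  Y.TI1 hT hb h0 (by
    rw [fix_of_comm (by simpa [mul_assoc] using cj_comm' g⁻¹ h)]; exact Y.z_mem hb)

include B in
theorem TIa {g : G} (h : g * Y.ψ 1 * g⁻¹ ∈ C[X.Z]) : g ∈ N[X.Z] := by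
  by_contra hg
  have ti : ∀ b < 8, g * Y.ψ b * g⁻¹ ∈ X.Z → b = 0 := fun b hb e => by
    by_contra h0; exact hg (Y.TI1 hT hb h0 e)
  have h1 : ∀ b < 8, g⁻¹ * Y.ψ b * g⁻¹⁻¹ ∈ C{Y.ψ 1} := fun b hb => mem_C1.2 (by
    simpa [mul_assoc] using cj_comm' g⁻¹ (mem_C.1 h _ (Y.z_mem hb)))
  obtain ⟨c, c1, c2⟩ := Y.pigeon fun b hb => hT (h1 b hb)
  have k1 := k_pig
  have k2 := c_nd Y.t
  have c3 : ∀ b < 8, hi (c b) ∈ Sa := fun b hb =>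
    (Y.mem_Sa (c1 b hb).1).1 ((c1 b hb).2.1 ▸ h1 b hb)
  simp only [rd] at k1 k2
  obtain ⟨y, y1, y2, y3⟩ := c2 (k1.1 _ (c3 1 (by norm_num)) (c1 1 (by norm_num)).2.2 _
    (c3 2 (by norm_num)) _ (c3 4 (by norm_num)))
  have h2 : ∀ x < 8, g * Y.ψ x * g⁻¹ ∈ N[X.Z] := fun x hx => Y.TI1 hT y1 y2 (by
    rw [fix_of_comm (by simpa [mul_assoc] using cj_comm' g (mem_C.1 y3 _ (Y.z_mem hx)))]
    exact Y.z_mem y1)
  have h3 : ∀ q < 2048, g⁻¹ * Y.ψ q * g⁻¹⁻¹ ∈ N[X.Z] → ∀ x < 8,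
      Y.ψ q * (g * Y.ψ x * g⁻¹) * (Y.ψ q)⁻¹ * (g * Y.ψ x * g⁻¹)⁻¹ ∈ X.Z →
      Y.ψ q * (g * Y.ψ x * g⁻¹) = g * Y.ψ x * g⁻¹ * Y.ψ q := fun q hq hn x hx hz => by
    obtain ⟨b, hb, e⟩ := Y.mem_Z.1 (mul_mem (conj_mem hn (Y.z_mem hx)) (inv_mem (Y.z_mem hx)))
    have e1 : Y.ψ q * (g * Y.ψ x * g⁻¹) * (Y.ψ q)⁻¹ * (g * Y.ψ x * g⁻¹)⁻¹ = g * Y.ψ b * g⁻¹ := by
      rw [← e]; group
    rw [e1] at hz
    rw [ti b hb hz, Y.mi.zero, mul_one, mul_inv_cancel, mul_inv_eq_one] at e1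
    exact comm_of_fix e1
  have h4 : ∀ x < 8, g * Y.ψ x * g⁻¹ ∈ C[X.Z] := fun x hx => mem_C.2 fun y hy => by
    obtain ⟨b, hb, rfl⟩ := Y.mem_Z.1 hy
    refine h3 b (by omega) (hT (h1 b hb)) x hx ?_
    rw [mul_assoc, mul_assoc, ← mul_assoc (g * Y.ψ x * g⁻¹)]
    exact mul_mem (Y.z_mem hb) (conj_mem (h2 x hx) (inv_mem (Y.z_mem hb)))
  obtain ⟨t, t1, t2⟩ := Y.twoC h (pi_inv (cj_sq (Y.mi.z_sq (by norm_num))))
  have t3 : 8 ≤ t := not_lt.1 fun t8 => one_ne_zero (ti 1 (by norm_num) (t2 ▸ Y.z_mem t8))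
  obtain d | ⟨-, -, ⟨a2, a3, a4⟩, a5⟩ :=
    k2 t t1 ⟨t3, Y.mi.sqQ t1 (t2 ▸ cj_sq (Y.mi.z_sq (by norm_num)))⟩
  · exact absurd (t2 ▸ Y.DD_of_dd B d) (Y.not_DD B (by norm_num))
  have f : ∀ a < 2048, cq a t = true → mq a a = 0 := fun a ha e => by
    have a1 := Y.TI1' hT (b := 1) (by norm_num) (by norm_num) (t2 ▸ (Y.mi.cq ha t1).2 e)
    obtain ⟨b, hb, e1⟩ := Y.mem_Z.1 (Y.sq_mem (Y.CZ_of fun x hx => h3 a ha a1 x hx (by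
      obtain ⟨s, s1, s2⟩ := Y.twoC (h4 x hx) (pi_inv (cj_sq (Y.mi.z_sq hx)))
      rw [s2]; exact Y.comm_Z ha s1)) (pi_cj (Y.mi.pi_Q ha) _))
    have e2 : g * Y.ψ b * g⁻¹ = Y.ψ (mq a a) := by rw [← e1, Y.mi.mq ha ha]; group
    rw [ti b hb (e2 ▸ Y.z_mem (mq_self_lt a)), Y.mi.zero, mul_one, mul_inv_cancel] at e2
    exact Y.mi.eq_zero (by have := mq_self_lt a; omega) e2.symm
  have := a5 1 (by norm_num)
  rw [f _ (pk_lt _ _ _) a2, f _ (pk_lt _ _ _) a3, f _ (pk_lt _ _ _) a4] at this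
  exact absurd this (by decide)

include B in
theorem TIa' {g : G} {b : ℕ} (hb : b < 8) (h0 : b ≠ 0) (h : g * Y.ψ b * g⁻¹ ∈ C[X.Z]) :
    g ∈ N[X.Z] := by
  obtain ⟨m, m1, m2⟩ := Y.FB hb h0
  refine (mul_mem_cancel_right (inv_mem m1)).1 (Y.TIa B hT ?_)
  convert h using 1
  rw [← m2]; group

include B in
theorem TIb {g : G} : g * Y.ψ 1 * g⁻¹ ≠ Y.ψ 180722 := fun e => by
  have hg : g ∉ N[X.Z] := fun hg => absurd (Y.z_lt (by norm_num)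
    (e ▸ conj_mem hg (Y.z_mem (by norm_num)))) (by norm_num)
  have k1 := k_pig
  have k2 := k_act
  have k3 := k_ti
  have k4 := c_one Y.t
  simp only [rd] at k1 k2 k3 k4
  have n1 : ¬ ∀ b < 8, g * Y.ψ b * g⁻¹ ∈ N[X.Z] := fun h => by
    obtain ⟨c, c1, c2⟩ := Y.pigeon h
    have c3 : c 1 = 180722 := Y.mi.inj _ (c1 1 (by norm_num)).1 _ (by norm_num)
      ((c1 1 (by norm_num)).2.1.symm.trans e)
    have c4 : ∀ b < 8, hi (c b) ∈ [0, 35, 55, 88, 135, 162] := fun b hb => by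
      refine (k2.2.2.1 _ (hi_lt (c1 b hb).1)).1 ⟨(c1 b hb).2.2, ?_⟩
      exact Y.mi.hi_conj (g := 180722) (by norm_num) (c1 b hb).1 (c1 b hb).1 (by
        rw [← e, ← (c1 b hb).2.1]; exact fix_of_comm (cj_comm' g (Y.mi.zc (by norm_num) hb)))
    obtain ⟨y, y1, y2, y3⟩ := c2 (c3 ▸ k1.2 _ (c4 2 (by norm_num)) _ (c4 4 (by norm_num)))
    exact hg (Y.TIa' B hT y1 y2 y3)
  have n2 : ∀ y < NM, Y.ψ y * Y.ψ y = 1 → Y.ψ y * Y.ψ 180722 = Y.ψ 180722 * Y.ψ y → ∃ k ∈ Sa,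
      (∀ x < 8, za k (za k x) = x) ∧
      ∀ x < 8, Y.ψ y * (g * Y.ψ x * g⁻¹) * (Y.ψ y)⁻¹ = g * Y.ψ (za k x) * g⁻¹ := fun y hy y1 y2 => by
    have y3 : g⁻¹ * Y.ψ y * g⁻¹⁻¹ ∈ C{Y.ψ 1} := mem_C1.2 (by
      rw [← e] at y2; simpa [mul_assoc] using cj_comm' g⁻¹ y2)
    obtain ⟨k, s1, s2⟩ := Y.actH (hT y3) y3
    have s3 : ∀ x < 8, Y.ψ y * (g * Y.ψ x * g⁻¹) * (Y.ψ y)⁻¹ = g * Y.ψ (za k x) * g⁻¹ :=
      fun x hx => by rw [← s2 x hx]; group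
    refine ⟨k, s1, fun x hx => Y.cj_inj (h := g) (za_lt _ _) hx ?_, s3⟩
    rw [← s3 _ (za_lt _ _), ← s3 x hx, show ∀ a, Y.ψ y * (Y.ψ y * a * (Y.ψ y)⁻¹) * (Y.ψ y)⁻¹ =
      (Y.ψ y * Y.ψ y) * a * (Y.ψ y * Y.ψ y)⁻¹ from fun a => by group, y1]
    group
  have n3 : ∀ y < 8, y ≠ 0 → ∀ x, Y.ψ y * x * (Y.ψ y)⁻¹ = x → x ∈ N[X.Z] := fun y hy y0 x h =>
    Y.TI1 hT hy y0 (by rw [fix_of_comm (comm_of_fix h).symm]; exact Y.z_mem hy)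
  obtain ⟨⟨⟨⟨a1, -⟩, -⟩, -⟩, ⟨-, -, a2⟩, -⟩ := k4
  obtain ⟨k, p1, p2, p3⟩ := n2 1 (by norm_num) (Y.mi.z_sq (by norm_num))
    (mem_C1.1 (Y.ψ_H (by decide))).symm
  obtain ⟨l, q1, q2, q3⟩ := n2 4 (by norm_num) (Y.mi.z_sq (by norm_num))
    (Y.mi.comm (by norm_num) (by norm_num) a1)
  have w1 : Y.ψ 594 * Y.ψ 594 = 1 := by
    rw [← Y.mi.mq (by norm_num) (by norm_num), show mq 594 594 = 0 by decide +kernel, Y.mi.zero]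
  have w2 := Y.mi.comm (by norm_num) (by norm_num) a2
  obtain ⟨m, -, -, r3⟩ := n2 594 (by norm_num) w1 w2
  rcases k3 k p1 p2 with rfl | ⟨b1, hb1, ⟨⟨b2, b3⟩, b4⟩, b5⟩
  · exact n1 fun b hb => n3 1 (by norm_num) (by norm_num) _ (by rw [p3 b hb, za_zero b hb])
  have x1 := p3 b1 hb1
  rw [b3] at x1
  have x2 := n3 1 (by norm_num) (by norm_num) _ x1
  rcases b5 l q1 q2 with b6 | ⟨b', hb', b6, b7⟩
  · have x3 := q3 b1 hb1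
    have x4 := cj_sq (g := g) (Y.mi.z_sq hb1)
    obtain ⟨c, hc, x5⟩ := Y.two x2 (pi_inv x4)
    have x6 : c ≥ 2048 := not_lt.1 fun h => hg (Y.TIa' B hT hb1 (by omega) (x5 ▸ Y.Q_CZ h))
    have x7 : ¬ mu Y.t 180722 c < 2048 := fun h => hg (Y.TIa' B hT (b := 1 ^^^ b1)
      (xor_lt8 (by norm_num) hb1) (by interval_cases b1 <;> decide) (by
        rw [← Y.cj_xor g (by norm_num) hb1, e, x5, ← Y.mi.mul _ (by norm_num) _ hc]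
        exact Y.Q_CZ h))
    have x8 := cj_comm' g (Y.mi.zc (q := b1) (b := 1) (by omega) (by norm_num))
    have x9 := r3 b1 hb1
    have y1 := b4 _ (za_lt m b1) (Y.cj_inj (h := g) (za_lt _ _) (za_lt _ _) (by
      rw [← p3 _ (za_lt _ _), ← x9]
      refine fix_of_comm (mem_C1.1 ?_).symm
      exact mul_mem (mul_mem (Y.ψ_H (by decide)) (mem_C1.2 (comm_of_fix x1).symm))
        (inv_mem (Y.ψ_H (by decide)))))
    rw [b6, x5] at x3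
    rw [x5] at x1 x4 x8 x9
    rw [e] at x8
    have f0 : ∀ b < 8, Y.ψ b * Y.ψ c * (Y.ψ b)⁻¹ = Y.ψ c → za (hi c) b = b := fun b hb h =>
      Y.za_eq hb (by rw [← Y.mi.cj_z hc hb]; exact fix_of_comm (comm_of_fix h).symm)
    have y2 := (k2.2.2.1 _ (hi_lt hc)).2 ⟨f0 1 (by norm_num) x1, f0 4 (by norm_num) x3⟩
    have y3 : Ru.mk 88 (hi c) ≠ 0 := fun h =>
      x7 (lt_of_hi0 ((hi_mu Y.t (by norm_num) hc).trans h))
    have y4 : hi c ≠ 0 := fun h => by have := lt_of_hi0 h; omega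
    have y5 : hi c ∈ [35, 55] ∧ Ru.mk (Ru.mk 88 (hi c)) 0 ≠ Ru.mk 0 (hi c) := by
      revert y2 y3 y4; generalize hi c = k; revert k; decide +kernel
    have k5 := allK_true (c_ti Y.t) y5.1
    simp only [rd] at k5
    have y6 := k5 (Y.mi.sq hc x4) (Y.mi.cmt hc (by norm_num) x8)
    simp only [List.mem_cons, List.not_mem_nil, or_false] at y1
    rcases y1 with t | t | t | t <;> rw [t] at x9
    · exact Y.mi.ne_one hc (by omega) (by simpa [Y.mi.zero] using x9)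
    · rw [e, ← fix_of_comm w2] at x9
      rw [Y.mi.inj c hc 180722 (by norm_num) (by simpa using x9)] at y5
      exact absurd y5.1 (by decide)
    · exact y6 (Y.mi.cmt (by norm_num) hc (comm_of_fix (x9.trans x5)))
    · rw [Nat.xor_comm, ← Y.cj_xor g (by norm_num) hb1, e, x5,
        ← Y.mi.mul 180722 (by norm_num) _ hc] at x9
      have := Y.mi.hi_conj (by norm_num) hc (mu_lt _ (a := 180722) (by norm_num) hc) x9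
      rw [hi_mu _ (by norm_num) hc] at this
      exact y5.2 this
  · have x3 := q3 b' hb'
    rw [b6] at x3
    have x4 := n3 4 (by norm_num) (by norm_num) _ x3
    have x5 : g * Y.ψ 1 * g⁻¹ ∈ N[X.Z] := e ▸ Y.ψ_NZ (by norm_num)
    refine n1 fun b hb => ?_
    have := k2.2.2.2 b1 hb1 b' hb' ⟨b2, b7⟩ b hb
    simp only [List.mem_cons, List.not_mem_nil, or_false] at this
    have o : (1 : ℕ) < 8 := by norm_num
    rcases this with rfl | rfl | rfl | rfl | rfl | rfl | rfl | rfl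
    · simp [Y.mi.zero]
    · exact x5
    · exact x2
    · exact Y.cj_xor g hb1 o ▸ mul_mem x2 x5
    · exact x4
    · exact Y.cj_xor g hb' o ▸ mul_mem x4 x5
    · exact Y.cj_xor g hb1 hb' ▸ mul_mem x2 x4
    · exact Y.cj_xor g (xor_lt8 hb1 hb') o ▸ mul_mem (Y.cj_xor g hb1 hb' ▸ mul_mem x2 x4) x5

end TI

include B

theorem not_TI : ∃ g ∈ C{Y.ψ 1}, g ∉ N[X.Z] := by
  by_contra hn
  have hT : C{Y.ψ 1} ≤ N[X.Z] := fun g hg => by_contra fun h => hn ⟨g, hg, h⟩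
  have k4 := c_one Y.t
  simp only [rd] at k4
  have := B.st.nrm
  have s : ∀ c < 256, c / 8 % 4 = 0 → Y.ψ c ∈ G0 := fun c h1 h2 =>
    B.st.le (X.S_le ((Y.mem_S _).2 ⟨c, h1, h2, rfl⟩))
  have d := Y.DD_of_dd B k4.2.2.1.2
  have sc : IsStronglyClosed X.Z Y.mi.P := by
    refine ⟨fun x hx => ?_, fun x hx g hg => ?_⟩ <;> obtain ⟨b, hb, rfl⟩ := Y.mem_Z.1 hx
    · exact Y.mi.mem_P (by rw [hi_of_lt (by omega)]; decide)
    by_cases b0 : b = 0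
    · simp [b0, Y.mi.zero]
    obtain ⟨c, hc, -, e⟩ := hg
    by_cases c1 : c < 2048
    · exact conj_mem (Y.TIa' B hT hb b0 (e ▸ Y.Q_CZ c1)) hx
    obtain ⟨⟨m, -, -, m1⟩, -⟩ := Y.inv_out hc (e ▸ cj_sq (Y.mi.z_sq hb)) c1
    obtain ⟨n, -, n1⟩ := Y.FB hb b0
    exact absurd (by rw [← m1, ← e, ← n1]; group) (Y.TIb B hT (g := Y.ψ m * g * n⁻¹))
  obtain ⟨g, -, e⟩ := (B.st.sc X (A := X.Z) (Y.syl_P B) (abl_iff.2 fun x hx => by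
    obtain ⟨b, hb, rfl⟩ := Y.mem_Z.1 hx
    exact Y.Q_CZ (by omega)) sc (fun h => Y.mi.ne_one (c := 1)
      (by norm_num) (by norm_num) (mem_bot.1 (h ▸ ⟨Y.z_mem (by norm_num),
        s 1 (by norm_num) rfl⟩)))).1 _ (by
      rw [Y.mi.mul _ (by norm_num) _ (Mo.cn_lt (by norm_num) (by norm_num)),
        Y.mi.cn (by norm_num) (by norm_num)]
      exact mul_mem (s 64 (by norm_num) rfl) (this.conj_mem _ (s 224 (by norm_num) rfl) _)) d.1 d.2.1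
  exact B.vd.zn 1 (e ▸ dd_conj d g)

theorem W_norm {g x : G} (hg : g ∈ C{Y.ψ 1}) (hx : Y.InW x) : Y.InW (g * x * g⁻¹) := by
  obtain ⟨k, k1, k2⟩ := Y.not_TI B
  exact Y.NW1 B ⟨k, k1, Y.nt_of B k1 k2⟩ hg (Y.R5 B hg) hx

/-- a subgroup that contains `C(z)`, `N(Z)` and `L` is the whole group. -/
theorem gen {K : Subgroup G} (h1 : C{Y.ψ 1} ≤ K) (h2 : N[X.Z] ≤ K) (h3 : L ≤ K) : K = ⊤ := by
  obtain ⟨k, k1, k2⟩ := Y.not_TI B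
  have nt : Y.NT := ⟨k, k1, Y.nt_of B k1 k2⟩
  have kc := c_one Y.t
  have kn := c_nd Y.t
  simp only [rd] at kc kn
  have f0 : ∀ x y g, g ∈ K → g * x * g⁻¹ = y →
      (∃ g ∈ K, g * y * g⁻¹ = Y.ψ 1 ∨ g * y * g⁻¹ = Y.ψ 8) →
      ∃ g ∈ K, g * x * g⁻¹ = Y.ψ 1 ∨ g * x * g⁻¹ = Y.ψ 8 := by
    rintro x _ g hg rfl ⟨l, hl, e⟩
    exact ⟨l * g, mul_mem hl hg, by simpa [mul_assoc] using e⟩
  have f1 : ∀ b < 8, b ≠ 0 → ∃ g ∈ K, g * Y.ψ b * g⁻¹ = Y.ψ 1 ∨ g * Y.ψ b * g⁻¹ = Y.ψ 8 :=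
    fun b hb h0 => let ⟨m, m1, m2⟩ := Y.FB hb h0; ⟨m, h2 m1, Or.inl m2⟩
  have f2 : ∀ x ∈ C[X.Z], x ≠ 1 → x * x = 1 →
      ∃ g ∈ K, g * x * g⁻¹ = Y.ψ 1 ∨ g * x * g⁻¹ = Y.ψ 8 := fun x hx x1 x2 => by
    obtain ⟨c, hc, rfl⟩ := Y.twoC hx (pi_inv x2)
    by_cases c8 : c < 8
    · exact f1 c c8 fun e => x1 (e ▸ Y.mi.zero)
    obtain d | ⟨⟨-, a1, a2⟩, -⟩ := kn c hc ⟨by omega, Y.mi.sqQ hc x2⟩
    · obtain ⟨m, m1, m2⟩ := Y.dd_conj8 d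
      exact ⟨_, inv_mem (h2 (Y.ψ_NZ m1)), Or.inr (by rw [m2]; group)⟩
    obtain ⟨l, l1, l2⟩ := nt.ex Y (c := 594) (by decide) (by norm_num)
    refine f0 _ _ _ (h2 (Y.ψ_NZ a1)) (by rw [← Y.mi.cn a1 (by omega), a2])
      (f0 _ _ _ (inv_mem (h1 l1)) (by rw [← l2]; group) (f1 2 (by norm_num) (by norm_num)))
  have f3 : ∀ x ∈ K, x ≠ 1 → x * x = 1 →
      ∃ g ∈ K, g * x * g⁻¹ = Y.ψ 1 ∨ g * x * g⁻¹ = Y.ψ 8 := fun x hx x1 x2 => by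
    obtain ⟨g, hg, e⟩ := Sylow_Jsub Nat.prime_two ((Y.syl_P B).of_le (L := K) (by
      rintro _ ⟨c, hc, -, rfl⟩; exact h2 (Y.ψ_NZ hc)) le_top) (pi_inv x2).isPi (zpowers_le.2 hx)
    obtain ⟨c, hc, -, e⟩ := e (conj_mem_cj g (mem_zpowers x))
    have y1 : Y.ψ c ≠ 1 := fun h => x1 (conj_eq_one_iff.1 (e.trans h))
    have y2 : Y.ψ c * Y.ψ c = 1 := e ▸ cj_sq x2
    refine f0 _ _ _ hg e ?_
    by_cases c1 : c < 2048
    · exact f2 _ (Y.Q_CZ c1) y1 y2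
    obtain ⟨⟨m, m1, -, m2⟩, -⟩ := Y.inv_out hc y2 c1
    obtain ⟨n, n1, n2, n3⟩ := Y.spread B k1 k2
    refine f0 _ _ _ (h2 (Y.ψ_NZ m1)) m2 (f0 _ _ (Y.ψ n * k)⁻¹
      (inv_mem (mul_mem (h2 (Y.ψ_NZ n1)) (h1 k1))) rfl (f2 _ (Y.CZ_of fun b hb => ?_)
        (fun h => y1 (conj_eq_one_iff.1 (m2.trans (conj_eq_one_iff.1 h)))) (cj_sq (m2 ▸ cj_sq y2))))
    obtain ⟨p, p1, p2⟩ := n3 b hb
    have z1 := mem_C1_comm.1 (Y.ψ_H (c := 180722) (by decide))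
    have z2 := mem_C1.2 (Y.mi.comm (by norm_num) (by norm_num) kc.2.1.2.2)
    have z3 := mem_C1.2 (Y.mi.comm (by norm_num) (by norm_num) kc.2.2.1.1)
    have z4 : Y.ψ 1741 ∈ C{Y.ψ 180722} ∨ Y.ψ 1740 ∈ C{Y.ψ 180722} := by
      have := mul_mem z2 z3
      rw [← Y.mi.mq (by norm_num) (by norm_num)] at this
      rcases (by decide +kernel : mq 594 1180 = 1741 ∨ mq 594 1180 = 1740) with t | t <;> rw [t] at this
      exacts [Or.inl this, Or.inr this]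
    have z5 : ∀ c < NM, Y.ψ c ∈ C{Y.ψ 180722} → Y.ψ (c ^^^ 1) ∈ C{Y.ψ 180722} := fun c hc h =>
      (Y.mi.z_mul hc).1 ▸ mul_mem z1 h
    have z6 : Y.ψ 1740 ∈ C{Y.ψ 180722} := z4.elim (z5 1741 (by norm_num)) id
    rw [p2]
    refine (mem_C1.1 ?_).symm
    simp only [Zp, List.mem_cons, List.not_mem_nil, or_false] at p1
    rcases p1 with rfl | rfl | rfl | rfl | rfl | rfl | rfl | rfl
    exacts [Y.mi.zero ▸ one_mem _, z1, z2, z5 594 (by norm_num) z2, z3, z5 1180 (by norm_num) z3,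
      z6, z5 1740 (by norm_num) z6]
  have f4 : ∀ y, y * Y.ψ 8 * y⁻¹ = Y.ψ 8 → y ∈ K := fun y hy => by
    obtain ⟨l, l1, n, -, -, n1, rfl⟩ := X.frattini (Y.v_N B hy)
    exact mul_mem (h3 l1) (h2 n1)
  have f5 : ∀ x ∈ K, x ≠ 1 → x * x = 1 → ∀ y, y * x * y⁻¹ = x → y ∈ K := fun x hx x1 x2 y hy => by
    obtain ⟨g, hg, e⟩ := f3 x hx x1 x2
    have e1 : g * y * g⁻¹ * (g * x * g⁻¹) * (g * y * g⁻¹)⁻¹ = g * x * g⁻¹ :=
      fix_of_comm (cj_comm' g (comm_of_fix hy))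
    refine (conj_mem_iff (norm_self K hg)).1 ?_
    rcases e with e | e <;> rw [e] at e1
    exacts [h1 (mem_C1_iff_conj.2 e1), f4 _ e1]
  refine eq_top_iff.2 fun g _ => ?_
  have d := dd_conj (Y.DD8 B) g
  rcases dih (Y.mi.z_sq (b := 1) (by norm_num)) d.2.1 ⊥ ⊤ trivial trivial with
    ⟨l, -, n, hn, e⟩ | ⟨u, -, u1, u2, u3, u4, -⟩
  · rw [mem_bot.1 hn, one_mul] at e
    exact absurd (e ▸ d) (Y.not_DD B (by norm_num))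
  rw [mem_bot] at u1 u2
  rw [inv_eq_of_mul_eq_one_right u2] at u3 u4
  obtain ⟨l, l1, e | e⟩ := f3 _ (f5 u (h1 (mem_C1.2 (comm_of_fix u3).symm)) u1 u2 _ u4) d.1 d.2.1
  · exact absurd (e ▸ dd_conj d l) (Y.not_DD' B (by norm_num))
  · exact (mul_mem_cancel_left l1).1 (f4 _ (Eq.trans (by group) e))

theorem D_bot : Y.D = ⊥ := by
  refine B.st.odd_normal X (normalizer_eq_top_iff.1 (Y.gen B (fun g hg => ?_) (fun g hg => ?_)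
    (norm_of_cent (cents_symm Y.D_L)))) Y.oddD
  · refine mem_N_of_finite fun d hd => ?_
    obtain ⟨q, hq, d', hd', e⟩ := Y.CZ (g := g * d * g⁻¹) (by
      simpa using Y.CZ_of (g := g⁻¹) fun b hb => by
        obtain ⟨c, hc, e⟩ := Y.R5 B (inv_mem hg) b hb
        rw [e]; exact mem_C.1 (Y.D_ψ c (by have := inW_lt hc; omega)) d hd)
    have e1 := congrArg (· ^ ♯Y.D) e
    have p : ∀ d ∈ Y.D, d ^ ♯Y.D = 1 := fun d hd => orderOf_dvd_iff_pow_eq_one.1 (orderOf_dvd_card' hd)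
    simp only [conj_pow, p d hd, Commute.mul_pow (mem_C'.1 (Y.D_ψ q (by omega)) d' hd'),
      p d' hd', mul_one, mul_inv_cancel] at e1
    rw [e]
    exact mul_mem (mem_of_pow (Y.mi.pi_Q hq) Y.oddD (e1 ▸ one_mem _)) hd'
  · obtain ⟨c, hc, d, hd, rfl⟩ := Y.NZ g hg
    exact mul_mem (C_le_N _ (Y.D_ψ c hc)) (norm_self _ hd)

theorem NZ' {g : G} (hg : g ∈ N[X.Z]) : ∃ c < NM, g = Y.ψ c := by
  obtain ⟨c, hc, d, hd, rfl⟩ := Y.NZ g hg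
  exact ⟨c, hc, by rw [Y.D_bot B, mem_bot] at hd; rw [hd, mul_one]⟩

theorem hd : HD Y.t Y.ψ where
  mi := Y.mi
  c0 g h1 h2 := Y.NZ' B (Y.R4 B h1 h2)
  nz g h := Y.NZ' B (mem_N_of_finite fun x hx => by
    obtain ⟨b, hb, rfl⟩ := Y.mem_Z.1 hx
    exact Y.mem_Z.2 (h b hb))
  w g h c hc := Y.W_norm B (mem_C1_iff_conj.2 h) ⟨c, hc, rfl⟩
  sp g h := (em _).imp (Y.NZ' B) (Y.spread B (mem_C1_iff_conj.2 h))
  ex := by
    obtain ⟨g, g1, g2⟩ := Y.not_TI B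
    exact ⟨g, mem_C1_iff_conj.1 g1, fun ⟨c, hc, e⟩ => g2 (e ▸ Y.ψ_NZ hc)⟩

end MD

end H14.Ru
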