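import Mathlib
import Cfsg.Agent.H18.RR5

/-! The involution `r` and its relations with `M`. -/

set_option autoImplicit false

namespace H14.Ru

open H18.RR

variable {G : Type*} [Group G]

theorem HD.am {t : Bool} {ψ : ℕ → G} (h : HD t ψ) : ∃ ψ' r, Am ψ' r ∧ (∀ q < 2048, ψ' q = ψ q) ∧
    (∀ c < NM, ∃ c' < NM, ψ c = ψ' c') ∧ (∀ c < NM, ∃ c' < NM, ψ' c = ψ c') ∧
    r * ψ 1 * r⁻¹ = ψ 1 ∧ ∀ b < 8, ∃ c ∈ Zp, r * ψ b * r⁻¹ = ψ c := by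
  obtain ⟨rfl, r, q, s, p | p⟩ := exists_S4 h
  · obtain ⟨r, a, e⟩ := s.am h p
    exact ⟨ψ, r, a, fun _ _ => rfl, fun c hc => ⟨c, hc, rfl⟩, fun c hc => ⟨c, hc, rfl⟩, e⟩
  · have m := h.mi.toMo
    obtain ⟨r, a, e1, e2⟩ := (tw_S2 m s).am (tw_HD h) (tw_88 m p)
    have k : ∀ {a}, a < 2048 → tw ψ a = ψ a := fun ha => tw_small m (by omega)
    refine ⟨tw ψ, r, a, fun _ => k, fun c hc => ⟨_, th_lt hc, tw_th m hc⟩,
      fun c hc => ⟨_, th_lt hc, tw_eq m hc⟩, by rwa [k (by norm_num)] at e1, fun b hb => ?_⟩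
    obtain ⟨c, hc, e⟩ := e2 b hb
    exact ⟨c, hc, by rwa [k (by omega), k (Zp_lt hc)] at e⟩

end H14.Ru
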