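import Mathlib
import Cfsg.Agent.H17.RM7
import Cfsg.Agent.H14.RuB2
import Cfsg.Agent.H26.S01a
import Cfsg.Agent.H4.InvAct

/-! # Standard subgroup `Sz(8)`: the model of `N(Z)` -/

set_option autoImplicit false
set_option linter.unusedSectionVars false

namespace H14.Ru

open Cfsg H24 H29 H7.Cay Subgroup H17.RC

variable {G : Type*} [Group G] [Finite G] {L G0 V : Subgroup G} {X : SzD L} {Y : QD X V}

namespace Fr
variable {ψ : ℕ → G} (h : Fr Y ψ)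
include h

theorem au_mem {H : Subgroup G} : ∀ (l : List ℕ), (∀ x ∈ l, x < 2048 ∧ ψ x ∈ H) → ∀ w a, a < 2048 →
    ψ a ∈ H → ψ (au l w a) ∈ H
  | [], _, _, _, _, h1 => h1
  | x :: l, hl, w, a, ha, h1 => by
    have hx := hl x List.mem_cons_self
    change ψ (au l _ (Bool.rec a (mq a x) (tb w 0))) ∈ H
    cases tb w 0
    · exact au_mem l (fun y hy => hl y (List.mem_cons_of_mem _ hy)) _ _ ha h1
    · exact au_mem l (fun y hy => hl y (List.mem_cons_of_mem _ hy)) _ _ (mq_lt ha hx.1)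
        (h.mul ha hx.1 ▸ mul_mem h1 hx.2)

theorem le {H : Subgroup G} (h1 : X.Z ≤ H) (h2 : ∀ e ∈ ES, ψ e ∈ H) : Y.Q ≤ H := fun g hg => by
  obtain ⟨c, hc, rfl⟩ := h.surj g hg
  rw [← xor_split c, h.xz (by omega) (by omega)]
  refine mul_mem (h1 (X.zz_mem _)) ?_
  rw [show 8 * (c / 8) = _ from (nbeq.1 (allF_true.1 chk_es (c / 8) (by omega))).symm]
  exact h.au_mem ES (fun x hx => ⟨ES_lt x hx, h2 x hx⟩) _ _ (by norm_num) (h.zero ▸ one_mem H)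

theorem vm (hr : Y.IsRu) : ψ 8 ∈ V ∧ ψ 16 ∈ V ∧ ψ 24 = ψ 8 * ψ 16 :=
  ⟨h.e0 ▸ Y.v_mem (by rw [hr.1]; decide +kernel), h.e1 ▸ Y.v_mem (by rw [hr.1]; decide +kernel), by
    rw [← h.mul (by norm_num) (by norm_num), (by decide +kernel : mq 8 16 = 24)]⟩

end Fr

theorem Pr.NZ {ψ : ℕ → G} {F σ w : G} (h : Pr Y ψ F σ w) (hs : St L G0) (hV : VD X V) (hr : Y.IsRu) :
    N[X.Z] ≤ N[Y.Q] := by
  have syl : Syl 2 C[X.Z] Y.Q := by
    by_contra hn
    obtain ⟨R, h1, h2, h3, h4⟩ := exists_lt_norm_of_not_syl Nat.prime_two Y.pi_Q Y.zc hn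
    exact h2.not_ge fun g hg => Y.two g (QD.CZ_NE hV hr (h4 hg) (h3 hg)) (h1.piElt hg)
  have ZQ := X.Z_le_S.trans Y.S_le
  have CN := C_le_N X.Z
  have nQ : X.Z ⊴ Y.Q := ⟨ZQ, Y.zc.trans CN⟩
  have sd := H26.Burnside_normal_complement Nat.prime_two (syl.quo CN) (by
    rw [← quo_inf_N _ nQ CN, quo_cents (inf_le_left.trans CN) nQ.norm, commutator_le]
    intro g hg x hx
    obtain ⟨q, hq, d, hd, rfl⟩ := QD.dec hV hr hg.2 hg.1
    rw [commutatorElement_def, show q * d * x * (q * d)⁻¹ = q * (d * x * d⁻¹) * q⁻¹ by group,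
      conj_eq_of_mem_C (Y.D_Q hd) hx, Y.cm hq hx, ← Y.zq hx, mul_inv_cancel_right]
    exact X.z_mem_Z _)
  set W := coq X.Z O[{2}ᶜ, quo C[X.Z] X.Z]
  have WC : W ≤ C[X.Z] := coq_le_of_le_quo ⟨ZQ.trans Y.zc, CN⟩ (pcore_le _ _)
  have NW : N[X.Z] ≤ N[W] := norm_coq le_rfl (norm_pcore _ (quo_norm _ (N_le_NC _)))
  obtain ⟨O, OW, pO, hO⟩ := exists_compl (Hall.mk' (le_coq _) (Y.pi_Q.of_le ZQ)
    (by rw [relIndex_coq_self]; exact pcore_pi _ _) : Hall {2} W X.Z) (coq_le_N _)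
  have NO : N[X.Z] ≤ N[O] := fun g hg => mem_N_of_finite fun d hd => by
    obtain ⟨z, hz, d', hd', e⟩ := hO _ (conj_mem (NW hg) (OW hd))
    rwa [(piElt_decomp_unique (piElt_one _) ((pO.piElt hd).conj g) (Y.pi_Q.piElt (ZQ hz)) (pO.piElt hd')
      (by simp) (mem_C.1 (WC (OW hd')) z hz) (by rw [one_mul, e])).2]
  have k : ∀ v ∈ V, v ≠ 1 → ∀ x ∈ O, x * v = v * x → x ∈ C[X.S] := fun v hv v1 x hx e => by
    obtain ⟨a, b, k, hk, e1⟩ := X.autZ x (hs.comm_N v1 (hV.ea v hv) (hV.syl.le hv) e)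
      fun b => mem_C'.1 (WC (OW hx)) _ (X.z_mem_Z b)
    refine C_anti X.S_le (mem_of_pow' (n := 2) (pO.piElt hx) ?_)
    rw [e1, Commute.mul_pow (mem_C.1 hk _ (X.u_mem a b)), show X.u a b ^ 2 ^ 2 =
      X.u a b * X.u a b * (X.u a b * X.u a b) by rw [← pow_two, ← pow_two, ← pow_mul]; rfl,
      Y.Q4 (Y.u_mem a b), one_mul]
    exact pow_mem hk _
  obtain ⟨v1, v2, v3⟩ := h.vm hr
  have ne : ∀ a < 2048, a ≠ 0 → ψ a ≠ 1 := fun a ha h0 e =>
    h0 (h.inj ha (by norm_num) (e.trans h.zero.symm))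
  have vn : ∀ v ∈ V, ∀ x ∈ O, v * x * v ∈ O := fun v hv x hx => by
    have := conj_mem (NO (nQ.norm (Y.V_le hv))) hx
    rwa [inv_eq_of_mul_eq_one_right (hV.ea v hv)] at this
  have OS : O ≤ C[X.S] := H4.le_of_four
    (Nat.coprime_two_left.1 ((piNat_compl_iff_coprime Nat.prime_two).1 pO)) (hV.ea _ v1) (hV.ea _ v2)
    (by rw [← v3, ← h.mul (by norm_num) (by norm_num), (by decide +kernel : mq 16 8 = 24)])
    (ne _ (by norm_num) (by norm_num)) (ne _ (by norm_num) (by norm_num))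
    (fun e => absurd (h.inj (by norm_num) (by norm_num) e) (by norm_num)) (vn _ v1) (vn _ v2)
    (k _ v1 (ne _ (by norm_num) (by norm_num))) (k _ v2 (ne _ (by norm_num) (by norm_num)))
    (k _ (mul_mem v1 v2) (v3 ▸ ne _ (by norm_num) (by norm_num)))
  have SO := cents_symm OS
  have ac : ∀ {g k}, Ac ψ g (act k) → ∀ a < 2048, ψ a ∈ C[O] → ∀ b, act k a = b → ψ b ∈ C[O] :=
    fun ha a hl h1 b e => e ▸ ha a hl ▸ conj_mem (N_le_NC _ (NO (Y.NQ_NZ (h.mem_N ha)))) h1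
  have m2 : ψ 32 ∈ C[O] := h.e2 ▸ SO (X.u_mem_S _ _)
  have m3 : ψ 64 ∈ C[O] := h.e3 ▸ SO (X.u_mem_S _ _)
  have m4 : ψ 128 ∈ C[O] := h.e4 ▸ SO (X.u_mem_S _ _)
  have m5 := ac h.aw 32 (by norm_num) m2 256 (by decide +kernel)
  have f3 : ∀ a < 2048, ψ a ∈ C[O] → ψ (act 1 (act 1 (act 1 a))) ∈ C[O] := fun a ha h1 =>
    ac h.aF _ (act_lt _ _) (ac h.aF _ (act_lt _ _) (ac h.aF a ha h1 _ rfl) _ rfl) _ rfl
  have m6 := f3 _ (by norm_num) m5
  rw [cF.2.2.2.2.2.1] at m6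
  have m7 := f3 _ (by norm_num) m6
  rw [cF.2.2.2.2.2.2.1] at m7
  have l1 : mq 16 64 < 2048 := mq_lt (by norm_num) (by norm_num)
  have l2 : mq (mq 16 64) 128 < 2048 := mq_lt l1 (by norm_num)
  have l3 : mq (mq (mq 16 64) 128) 512 < 2048 := mq_lt l2 (by norm_num)
  have m1 := ac h.aw 512 (by norm_num) m6 (4 ^^^ mq (mq (mq (mq 16 64) 128) 512) 1024)
    (by decide +kernel)
  rw [h.xz (by norm_num) (mq_lt l3 (by norm_num)), mul_mem_cancel_left (SO (X.Z_le_S (X.zz_mem 4))),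
    h.mul l3 (by norm_num), mul_mem_cancel_right m7, h.mul l2 (by norm_num), mul_mem_cancel_right m6,
    h.mul l1 (by norm_num), mul_mem_cancel_right m4, h.mul (by norm_num) (by norm_num),
    mul_mem_cancel_right m3] at m1
  have m0 := ac h.aσ 16 (by norm_num) m1 24 (by decide +kernel)
  rw [v3, mul_mem_cancel_right m1] at m0
  have OQ := cents_symm (h.le (X.Z_le_S.trans SO) (by
    simp only [ES, List.forall_mem_cons, List.not_mem_nil, false_imp_iff, implies_true, and_true]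
    exact ⟨m0, m1, m2, m3, m4, m5, m6, m7⟩))
  refine (N_le_NC _).trans (syl.norm_le_norm_of_nml fun g hg => ?_)
  obtain ⟨o, ho, q', hq', e⟩ := (mem_sup_of_norm sd.norm).1 (sd.sup.ge (cs_mem_quo hg (CN hg)))
  obtain ⟨q, hq, qN, rfl⟩ := mem_quo.1 hq'
  have : g * q⁻¹ ∈ W := mem_coq.2 ⟨mul_mem (CN hg) (inv_mem qN), by
    rwa [show cs X.Z (g * q⁻¹) = cs X.Z g * (cs X.Z q)⁻¹ from
      (ap_mul _ (CN hg) (inv_mem qN)).trans (congrArg _ (ap_inv _ qN)), e, mul_inv_cancel_right]⟩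
  obtain ⟨z, hz, d, hd, e1⟩ := hO _ this
  rw [mul_inv_eq_iff_eq_mul.1 e1]
  exact mul_mem (mul_mem (norm_self _ (ZQ hz)) (C_le_N _ (OQ hd))) (norm_self _ hq)

theorem chk_SV : ∀ w < 256, ((vec w).1 = 0 ∧ (vec w).2.2 = 0 ↔ w < 32 ∧ w % 4 = 0) := by
  decide +kernel

theorem QD.exists_MD (h : St L G0) {X : SzD L} (hV : VD X V) (Y : QD X V)
    (hr : Y.Vs = {0, ω, ω ^ 2, ω ^ 4} ∧ Y.c1 = 1 ∧ Y.c2 = 1) (hs : ¬ Syl 2 ⊤ Y.Q) :
    Nonempty (MD X V) := by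
  obtain ⟨ψ, F, σ, w, P, hF, hσ, hw⟩ := QD.exists_pr hV hr hs
  obtain ⟨t, R, mi, R0, zR, mR⟩ := P.exists_mi
  have e0 : ∀ c < 2048, ψ (lo c) * R (hi c) = ψ c := fun c hc => by
    rw [lo_of_lt hc, hi_of_lt hc, R0, mul_one]
  obtain ⟨v1, v2, v3⟩ := P.vm hr
  refine ⟨⟨t, _, Y.D, mi, fun b => ?_, fun g => ⟨fun hg => ?_, ?_⟩, fun g => ?_, Y.oddD, Y.D_L,
    fun c _ => mul_mem (cents_symm Y.D_Q (P.mem _)) (mR _ hF hσ hw _), fun g hg => ?_⟩⟩
  · have := b.val_lt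
    rw [e0 _ (by omega), P.z this, X.zz_val]
  · obtain ⟨c, hc, rfl⟩ := P.surj g (Y.S_le hg)
    obtain ⟨a, b, e⟩ := hg
    have := (chk_SV (c / 8) (by omega)).1 (by rw [← P.pi hc, e, Y.π_u]; exact ⟨rfl, rfl⟩)
    exact ⟨c, by omega, this.2, (e0 c hc).symm⟩
  · rintro ⟨c, hc, e, rfl⟩
    have := (chk_SV (c / 8) (by omega)).2 ⟨by omega, e⟩
    rw [← P.pi (by omega)] at this
    rw [e0 c (by omega)]
    exact Y.mem_S (P.mem c) this.1 this.2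
  · rw [e0 0 (by norm_num), e0 8 (by norm_num), e0 16 (by norm_num), e0 24 (by norm_num)]
    have k : ∀ c < 2048, ψ c ∈ V → g ∈ V → Y.π g = vec (c / 8) → g = ψ c := fun c hc h1 h2 e => by
      obtain ⟨b, e1⟩ := Y.eqz (Y.V_le h2) (P.mem c) (e.trans (P.pi hc).symm)
      rw [e1, mul_mem_cancel_left h1] at h2
      rw [e1, X.eq_one (X.z_mem b) (hV.syl.le h2), mul_one]
    have v0 : ψ 0 ∈ V := P.zero ▸ one_mem V
    have v4 : ψ 24 ∈ V := v3 ▸ mul_mem v1 v2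
    refine ⟨fun hg => ?_, by rintro (rfl | rfl | rfl | rfl) <;> assumption⟩
    obtain ⟨c, hc, e⟩ := (Y.mem_V g).1 hg
    have e1 := e ▸ Y.π_v c hc
    rw [hr.1] at hc
    simp only [Finset.mem_insert, Finset.mem_singleton] at hc
    rcases hc with rfl | rfl | rfl | rfl
    exacts [.inl (k _ (by norm_num) v0 hg (e1.trans (by decide +kernel))),
      .inr (.inl (k _ (by norm_num) v1 hg (e1.trans (by decide +kernel)))),
      .inr (.inr (.inl (k _ (by norm_num) v2 hg (e1.trans (by decide +kernel))))),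
      .inr (.inr (.inr (k _ (by norm_num) v4 hg (e1.trans (by decide +kernel)))))]
  · obtain ⟨k, hk⟩ := SzD.exists_za hg
    have RN := mR _ (P.mem_N P.aF) (P.mem_N P.aσ) (P.mem_N P.aw) k
    obtain ⟨q, hq, d, hd, e⟩ := QD.dec hV hr (mul_mem (inv_mem RN) (P.NZ h hV hr hg))
      (hk.cent (zR k hk.1))
    obtain ⟨c, hc, e1⟩ := P.surj _ (conj_mem RN hq)
    have := hk.1
    refine ⟨2048 * k + c, by omega, d, hd, ?_⟩
    rw [hi_eq, lo_eq, show (2048 * k + c) % 2048 = c by omega, show (2048 * k + c) / 2048 = k by omega,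
      ← e1, inv_mul_cancel_right, mul_assoc, ← e, mul_inv_cancel_left]

end H14.Ru
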