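import Mathlib
import Cfsg.Agent.H14.RuA2
import Cfsg.Agent.H14.RuC1
import Cfsg.Agent.H14.RuC2
import Cfsg.Agent.H14.RuN4
import Cfsg.Agent.H14.RuR
import Cfsg.Agent.H14.RuR3
import Cfsg.Agent.H14.RuE
import Cfsg.Agent.H10.RuMain

/-! # Standard subgroup `Sz(8)`: the identification of the Rudvalis group -/

set_option autoImplicit false

namespace H14.Ru

open Cfsg H24 Subgroup H17.RC

variable {G : Type*} [Group G] [Finite G] {L G0 V : Subgroup G} {X : SzD L}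

theorem MD.iso (B : Bs X V G0) (Y : MD X V) : Cfsg.Spor.IsoRu G := by
  classical
  obtain ⟨ψ, r, a, q1, q2, -, q4, q5⟩ := (Y.hd B).am
  obtain ⟨⟨e⟩, g, g1, g2, b, hb, g3⟩ := a.iso
  have h2 : N[X.Z] ≤ Gr ψ r := fun x hx => by
    obtain ⟨c, hc, rfl⟩ := Y.NZ' B hx
    obtain ⟨c', hc', e⟩ := q2 c hc
    exact e ▸ ψ_mem_Gr ψ r hc'
  have sj : ∀ c ∈ Zp, ∃ b < 8, r * Y.ψ b * r⁻¹ = Y.ψ c := fun c hc => by
    have := Finset.eq_of_subset_of_card_le
      (s := (Finset.range 8).image fun b => r * Y.ψ b * r⁻¹) (t := Zp.toFinset.image Y.ψ)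
      (fun x hx => by
        obtain ⟨b, hb, rfl⟩ := Finset.mem_image.1 hx
        obtain ⟨c, hc, e⟩ := q5 b (Finset.mem_range.1 hb)
        exact Finset.mem_image.2 ⟨c, List.mem_toFinset.2 hc, e.symm⟩)
      (by
        rw [Finset.card_image_of_injOn fun a ha b hb e =>
          Y.cj_inj (Finset.mem_range.1 ha) (Finset.mem_range.1 hb) e]
        exact Finset.card_image_le.trans (by decide))
    obtain ⟨b, hb, e⟩ := Finset.mem_image.1
      (this.ge (Finset.mem_image_of_mem _ (List.mem_toFinset.2 hc)))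
    exact ⟨b, Finset.mem_range.1 hb, e⟩
  have top : Gr ψ r = ⊤ := Y.gen B (fun x hx => ?_) h2 ?_
  · exact ⟨(topEquiv.symm.trans (MulEquiv.subgroupCongr top.symm)).trans e⟩
  · by_cases hn : x ∈ N[X.Z]
    · exact h2 hn
    obtain ⟨m, hm, -, s⟩ := Y.spread B hx hn
    have : r⁻¹ * (Y.ψ m * x) ∈ N[X.Z] := mem_N_of_finite fun y hy => by
      obtain ⟨b, hb, rfl⟩ := Y.mem_Z.1 hy
      obtain ⟨c, hc, e1⟩ := s b hb
      obtain ⟨b', hb', e2⟩ := sj c hc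
      refine Y.mem_Z.2 ⟨b', hb', ?_⟩
      calc _ = r⁻¹ * (Y.ψ m * x * Y.ψ b * (Y.ψ m * x)⁻¹) * r := by group
        _ = _ := by rw [e1, ← e2]; group
    exact (mul_mem_cancel_left (h2 (Y.ψ_NZ hm))).1
      ((mul_mem_cancel_left (inv_mem (r_mem_Gr ψ r))).1 (h2 this))
  · rw [q1 8 (by norm_num)] at g2
    obtain ⟨l, l1, n, -, -, n1, rfl⟩ := X.frattini (Y.v_N B g2)
    refine X.le_of_not_NZ ((norm_self _).trans (X.NS_le_NZ.trans h2)) (h2 X.f_mem_NZ.2) l1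
      ((mul_mem_cancel_right (h2 n1)).1 g1) fun hl => ?_
    obtain ⟨b', hb', e⟩ := Y.mem_Z.1 (conj_mem (mul_mem hl n1) (Y.z_mem hb))
    exact g3 b' hb' (by rw [q1 b (by omega), q1 b' (by omega), e])

theorem QD.iso (h : St L G0) (hV : VD X V) (Y : QD X V) (h2 : Y.Vs ≠ {0, 1}) :
    Cfsg.Spor.IsoRu G :=
  let ⟨M⟩ := QD.exists_MD h hV Y (QD.ru h hV Y h2) (QD.not_syl h hV Y h2)
  M.iso ⟨h, hV⟩

theorem St.closure (h : St L G0) (X : SzD L) (e : Cfsg.Spor.IsoRu G) :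
    Cfsg.Spor.IsoRu (normalClosure (L : Set G)) := by
  obtain ⟨e⟩ := e
  have := H10.Ru.simple_Ru
  have : IsSimpleGroup G := e.isSimpleGroup
  rcases (normalClosure_normal (s := (L : Set G))).eq_bot_or_eq_top with h1 | h1
  · exact absurd (by rw [eq_bot_iff.2 (le_normalClosure.trans h1.le)]; infer_instance) h.ne
  · exact ⟨((MulEquiv.subgroupCongr h1).trans topEquiv).trans e⟩

theorem main68 (hO : Cfsg.oddCore G = ⊥) (hL : IsStandardSubgroup L) {F : Type*} [Field F]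
    [Fintype F] (hF : Fintype.card F = 8) (e : Nonempty (↥L ≃* ↥(Cfsg.Lie.Sz F 4)))
    (hR : ¬ Cfsg.PRankLE 2 1 ↥C[L]) :
    L.Normal ∨ Cfsg.Spor.IsoRu (normalClosure (L : Set G)) :=
  (reduce68 hO hL hR).imp_right fun h =>
    let ⟨X⟩ := exists_szD hF e
    let ⟨_, hV⟩ := h.exists_VD X
    let ⟨Y⟩ := h.exists_QD hV
    h.closure X (Y.iso h hV (QD.rank hV Y hR))

end H14.Ru
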