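import Mathlib

/-! Subgroups of powers of a non-abelian simple group (Scott's lemma). -/

set_option autoImplicit false
set_option linter.unusedSectionVars false

namespace H14

open Subgroup
open scoped commutatorElement

variable {T : Type*} [Group T] [IsSimpleGroup T] [Finite T] {I : Type*} [Finite I] [DecidableEq I]

theorem center_eq_bot_of_simple (hT : ¬ IsMulCommutative T) : center T = ⊥ := by
  rcases IsSimpleGroup.eq_bot_or_eq_top_of_normal (center T) inferInstance with h | h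
  · exact h
  · exact absurd ⟨⟨fun a b => mem_center_iff.1 (h ▸ mem_top b) a⟩⟩ hT

theorem commutator_top_of_simple (hT : ¬ IsMulCommutative T) :
    ⁅(⊤ : Subgroup T), (⊤ : Subgroup T)⁆ = ⊤ := by
  rcases IsSimpleGroup.eq_bot_or_eq_top_of_normal ⁅(⊤ : Subgroup T), (⊤ : Subgroup T)⁆
    inferInstance with h | h
  · refine absurd ⟨⟨fun a b => ?_⟩⟩ hT
    have := commutator_mem_commutator (mem_top a) (mem_top b)
    rwa [h, mem_bot, commutatorElement_eq_one_iff_mul_comm] at this
  · exact h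

theorem ker_eq_of_le {D : Type*} [Group D] [Finite D] {f g : D →* T} (hf : Function.Surjective f)
    (hg : Function.Surjective g) (h : f.ker ≤ g.ker) : f.ker = g.ker := by
  refine eq_of_le_of_card_ge h ?_
  have h1 := f.ker.card_mul_index
  have h2 := g.ker.card_mul_index
  rw [index_ker, MonoidHom.range_eq_top.2 hf] at h1
  rw [index_ker, MonoidHom.range_eq_top.2 hg, ← h1] at h2
  exact (Nat.eq_of_mul_eq_mul_right Nat.card_pos h2).le

theorem normal_pi_le_ker (hT : ¬ IsMulCommutative T) (L : Subgroup (I → T)) [hL : L.Normal]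
    (hne : L ≠ ⊤) : ∃ j, ∀ x ∈ L, x j = 1 := by
  by_contra hcon
  push Not at hcon
  apply hne
  have := Fintype.ofFinite I
  have key : ∀ j t, Pi.mulSingle j t ∈ L := by
    intro j
    obtain ⟨x, hx, hxj⟩ := hcon j
    have hn : (L.comap (MonoidHom.mulSingle (fun _ : I => T) j)).Normal := hL.comap _
    rcases hn.eq_bot_or_eq_top with h | h
    · exfalso
      apply hxj
      rw [← mem_bot, ← center_eq_bot_of_simple hT, mem_center_iff]
      intro t
      rw [← commutatorElement_eq_one_iff_mul_comm, ← mem_bot, ← h, mem_comap]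
      have h1 : (MonoidHom.mulSingle (fun _ : I => T) j) ⁅t, x j⁆ =
          Pi.mulSingle j t * x * (Pi.mulSingle j t)⁻¹ * x⁻¹ := by
        funext i
        by_cases hi : i = j
        · subst hi; simp [commutatorElement_def]
        · simp [hi, commutatorElement_def]
      rw [h1]
      exact L.mul_mem (hL.conj_mem x hx _) (L.inv_mem hx)
    · intro t
      exact (h ▸ mem_top t : t ∈ L.comap (MonoidHom.mulSingle (fun _ : I => T) j))
  rw [eq_top_iff]
  intro x _
  rw [← Finset.noncommProd_mulSingle x]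
  exact L.noncommProd_mem _ fun j _ => key j _

theorem eq_of_ker_eval_eq {i j : I} (h : ∀ x : I → T, x i = 1 → x j = 1) : i = j := by
  by_contra hne
  obtain ⟨t, ht⟩ := exists_ne (1 : T)
  exact ht (by simpa using h (Pi.mulSingle j t) (by simp [hne]))

theorem exists_perm_of_mulAut (hT : ¬ IsMulCommutative T) (ψ : MulAut (I → T)) :
    ∃ σ : Equiv.Perm I, ∀ i x, x (σ i) = 1 ↔ ψ x i = 1 := by
  have key : ∀ i, ∃ j, ∀ x, x j = 1 ↔ ψ x i = 1 := by
    intro i
    let f : (I → T) →* T := (Pi.evalMonoidHom (fun _ : I => T) i).comp ψ.toMonoidHom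
    have hf : Function.Surjective f := (Function.surjective_eval i).comp ψ.surjective
    obtain ⟨j, hj⟩ := normal_pi_le_ker hT f.ker (by
      intro h
      obtain ⟨t, ht⟩ := exists_ne (1 : T)
      obtain ⟨x, rfl⟩ := hf t
      exact ht (h ▸ mem_top x : x ∈ f.ker))
    have := ker_eq_of_le (g := Pi.evalMonoidHom (fun _ : I => T) j) hf
      (Function.surjective_eval j) hj
    exact ⟨j, fun x => (SetLike.ext_iff.1 this x).symm⟩
  choose σ hσ using key
  have hinj : Function.Injective σ := fun i j hij => eq_of_ker_eval_eq (T := T) fun x hx => by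
    obtain ⟨y, rfl⟩ := ψ.surjective x
    rw [← hσ, ← hij, hσ]; exact hx
  exact ⟨Equiv.ofBijective σ (Finite.injective_iff_bijective.1 hinj), hσ⟩

/-- Scott's lemma: a subdirect product of non-abelian simple groups is a product of diagonals. -/
theorem scott_lemma (hT : ¬ IsMulCommutative T) (D : Subgroup (I → T))
    (hD : ∀ i t, ∃ d ∈ D, d i = t) :
    ∃ (c : I → I) (α : I → MulAut T), (∀ i j, c i = c j ↔ ∀ d ∈ D, d i = 1 ↔ d j = 1) ∧
      ∀ x, x ∈ D ↔ ∀ i j, c i = c j → α i (x i) = α j (x j) := by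
  let r : Setoid I := ⟨fun i j => ∀ d ∈ D, d i = 1 ↔ d j = 1, fun _ _ _ => Iff.rfl,
    fun h d hd => (h d hd).symm, fun h h' d hd => (h d hd).trans (h' d hd)⟩
  let c : I → I := fun i => (Quotient.mk r i).out
  have hc : ∀ i j, c i = c j ↔ ∀ d ∈ D, d i = 1 ↔ d j = 1 := fun i j =>
    Quotient.out_inj.trans Quotient.eq
  have hcc : ∀ i, c (c i) = c i := fun i => congrArg Quotient.out (Quotient.out_eq _)
  let f : I → D →* T := fun i => (Pi.evalMonoidHom (fun _ : I => T) i).comp D.subtype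
  have hf : ∀ i, Function.Surjective (f i) := fun i t => by
    obtain ⟨d, hd, h⟩ := hD i t
    exact ⟨⟨d, hd⟩, h⟩
  have hα : ∀ i, ∃ α : MulAut T, ∀ d ∈ D, α (d i) = d (c i) := by
    intro i
    have hk : (f i).ker = (f (c i)).ker := by
      ext d
      exact (hc i (c i)).1 (hcc i).symm d d.2
    exact ⟨(QuotientGroup.quotientKerEquivOfSurjective _ (hf i)).symm.trans
      ((QuotientGroup.quotientMulEquivOfEq hk).trans
        (QuotientGroup.quotientKerEquivOfSurjective _ (hf (c i)))), fun d hd => by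
      have : (QuotientGroup.quotientKerEquivOfSurjective _ (hf i)).symm (d i) =
          QuotientGroup.mk ⟨d, hd⟩ := by
        rw [MulEquiv.symm_apply_eq]; rfl
      rw [MulEquiv.trans_apply, this]; rfl⟩
  choose α hα using hα
  refine ⟨c, α, hc, fun x => ⟨fun hx i j hij => by rw [hα i x hx, hα j x hx, hij], fun hx => ?_⟩⟩
  have crt : ∀ (j : I) (s : Finset I), (∀ i ∈ s, c i ≠ c j) →
      (D ⊓ Subgroup.pi (s : Set I) fun _ => ⊥).map (Pi.evalMonoidHom (fun _ : I => T) j) = ⊤ := by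
    intro j s
    induction s using Finset.induction_on with
    | empty =>
      intro _
      rw [eq_top_iff]
      intro t _
      obtain ⟨d, hd, h⟩ := hD j t
      exact ⟨d, ⟨hd, fun i hi => by simp at hi⟩, h⟩
    | insert i s hi ih =>
      intro hs
      have h1 := ih fun l hl => hs l (Finset.mem_insert_of_mem hl)
      have h2 : ((f i).ker.map D.subtype).map (Pi.evalMonoidHom (fun _ : I => T) j) = ⊤ := by
        rw [map_map]
        rcases (Normal.map (inferInstance : (f i).ker.Normal) (f j) (hf j)).eq_bot_or_eq_top with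
          h | h
        · exfalso
          rw [Subgroup.map_eq_bot_iff] at h
          have := ker_eq_of_le (hf i) (hf j) h
          exact hs i (Finset.mem_insert_self _ _) ((hc i j).2 fun d hd =>
            SetLike.ext_iff.1 this ⟨d, hd⟩)
        · exact h
      rw [eq_top_iff, ← commutator_top_of_simple hT]
      nth_rewrite 1 [← h1]
      rw [← h2, ← map_commutator]
      refine map_mono (commutator_le.2 ?_)
      rintro u hu _ ⟨v, hv, rfl⟩
      refine ⟨D.mul_mem (D.mul_mem (D.mul_mem hu.1 v.2) (D.inv_mem hu.1)) (D.inv_mem v.2),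
        fun l hl => ?_⟩
      rcases Finset.mem_insert.1 hl with rfl | hl
      · have : (v : I → T) l = 1 := hv
        simp [commutatorElement_def, this]
      · have : u l = 1 := hu.2 l hl
        simp [commutatorElement_def, this]
  have := Fintype.ofFinite I
  have key : ∀ s : Finset I, ∃ d ∈ D, ∀ i, (c i ∈ s → d i = x i) ∧ (c i ∉ s → d i = 1) := by
    intro s
    induction s using Finset.induction_on with
    | empty => exact ⟨1, D.one_mem, fun i => by simp⟩
    | insert j s hj ih =>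
      obtain ⟨d, hd, h⟩ := ih
      obtain ⟨d', hd', h'⟩ : x j ∈ (D ⊓ Subgroup.pi
          ((Finset.univ.filter fun i => c i ≠ c j : Finset I) : Set I) fun _ => ⊥).map
          (Pi.evalMonoidHom (fun _ : I => T) j) := by
        rw [crt j _ fun i hi => (Finset.mem_filter.1 hi).2]; trivial
      have h1 : ∀ i, c i ≠ c j → d' i = 1 := fun i hi => hd'.2 i (by simpa using hi)
      have h2 : d' j = x j := h'
      by_cases hjj : c j = j
      · refine ⟨d * d', D.mul_mem hd hd'.1, fun i => ⟨fun hi => ?_, fun hi => ?_⟩⟩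
        · rcases Finset.mem_insert.1 hi with hi | hi
          · rw [Pi.mul_apply, (h i).2 (hi ▸ hj), one_mul]
            apply (α i).injective
            rw [hα i d' hd'.1, hx i j (hi.trans hjj.symm), ← h2, hα j d' hd'.1, hi, hjj]
          · rw [Pi.mul_apply, (h i).1 hi, h1 i (fun hh => hj (hjj ▸ hh ▸ hi)), mul_one]
        · rw [Finset.mem_insert, not_or] at hi
          rw [Pi.mul_apply, (h i).2 hi.2, h1 i (fun hh => hi.1 (hh.trans hjj)), mul_one]
      · refine ⟨d, hd, fun i => ⟨fun hi => ?_, fun hi => ?_⟩⟩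
        · rcases Finset.mem_insert.1 hi with hi | hi
          · exact absurd (hi ▸ hcc i) hjj
          · exact (h i).1 hi
        · exact (h i).2 fun hh => hi (Finset.mem_insert_of_mem hh)
  obtain ⟨d, hd, h⟩ := key Finset.univ
  rwa [show x = d from funext fun i => ((h i).1 (Finset.mem_univ _)).symm]

theorem onan_scott_pi [Nonempty I] (hT : ¬ IsMulCommutative T) (A : Subgroup (MulAut (I → T)))
    (D : Subgroup (I → T)) (hDA : ∀ ψ ∈ A, ∀ d ∈ D, ψ d ∈ D) (hne : D ≠ ⊤)
    (hmax : ∀ X : Subgroup (I → T), D ≤ X → (∀ ψ ∈ A, ∀ x ∈ X, ψ x ∈ X) → X = D ∨ X = ⊤)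
    (hmin : ∀ X : Subgroup (I → T), X.Normal → (∀ ψ ∈ A, ∀ x ∈ X, ψ x ∈ X) → X = ⊥ ∨ X = ⊤) :
    (∃ K : I → Subgroup T, (∀ i, K i ≠ ⊤) ∧ ∀ x, x ∈ D ↔ ∀ i, x i ∈ K i) ∨
      ∃ (k : ℕ) (c : I → I) (α : I → MulAut T), 2 ≤ k ∧
        (∀ j, Nat.card {i // c i = j} = k ∨ Nat.card {i // c i = j} = 0) ∧
        ∀ x, x ∈ D ↔ ∀ i j, c i = c j → α i (x i) = α j (x j) := by
  choose σ hσ using exists_perm_of_mulAut (I := I) hT
  have hσ' : ∀ (ψ : MulAut (I → T)) (i : I) (x y : I → T), x (σ ψ i) = y (σ ψ i) → ψ x i = ψ y i := fun ψ i x y h => by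
    have := (hσ ψ i (x⁻¹ * y)).1 (by simp [h])
    rwa [map_mul, map_inv, Pi.mul_apply, Pi.inv_apply, inv_mul_eq_one] at this
  obtain ⟨t, ht⟩ := exists_ne (1 : T)
  have htr : ∀ i j, ∃ ψ ∈ A, σ ψ i = j := by
    intro i j
    by_contra hcon
    push Not at hcon
    let L : Subgroup (I → T) := ⨅ ψ : A,
      ((Pi.evalMonoidHom (fun _ : I => T) i).comp (ψ : MulAut (I → T)).toMonoidHom).ker
    have hL : ∀ x, x ∈ L ↔ ∀ ψ ∈ A, ψ x i = 1 := fun x => by
      rw [mem_iInf]; exact ⟨fun h ψ hψ => h ⟨ψ, hψ⟩, fun h ψ => h ψ ψ.2⟩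
    rcases hmin L (normal_iInf_normal fun _ => inferInstance) (fun ψ hψ x hx => (hL _).2
      fun φ hφ => (hL x).1 hx (φ * ψ) (A.mul_mem hφ hψ)) with h | h
    · have : Pi.mulSingle j t ∈ L := (hL _).2 fun ψ hψ => (hσ ψ i _).1 (by simp [hcon ψ hψ])
      rw [h, mem_bot] at this
      exact ht (by simpa using congrFun this j)
    · exact ht ((hL (fun _ => t)).1 (h ▸ mem_top _) 1 A.one_mem)
  by_cases hD : ∀ i t, ∃ d ∈ D, d i = t
  · right
    obtain ⟨c, α, hc, hx⟩ := scott_lemma hT D hD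
    obtain ⟨i₀⟩ := ‹Nonempty I›
    have hcσ : ∀ ψ ∈ A, ∀ i j, c i = c j ↔ c (σ ψ i) = c (σ ψ j) := by
      intro ψ hψ i j
      rw [hc, hc]
      refine ⟨fun h d hd => ?_, fun h d hd => ?_⟩
      · rw [hσ, hσ]; exact h _ (hDA ψ hψ d hd)
      · have := h _ (hDA _ (A.inv_mem hψ) d hd)
        rw [hσ, hσ] at this
        simpa using this
    have hk : ∀ j, Nat.card {i // c i = c j} = Nat.card {i // c i = c i₀} := by
      intro j
      obtain ⟨ψ, hψ, rfl⟩ := htr i₀ j
      exact (Nat.card_congr ((σ ψ).subtypeEquiv fun i => hcσ ψ hψ i i₀)).symm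
    refine ⟨Nat.card {i // c i = c i₀}, c, α, ?_, fun j => ?_, hx⟩
    · by_contra hlt
      apply hne
      rw [eq_top_iff]
      intro x _
      refine (hx x).2 fun i j hij => ?_
      have : Subsingleton {i // c i = c j} := Finite.card_le_one_iff_subsingleton.1 (by
        rw [hk]; omega)
      have := congrArg Subtype.val (Subsingleton.elim (⟨i, hij⟩ : {i // c i = c j}) ⟨j, rfl⟩)
      simp only at this
      rw [this]
    · by_cases hj : ∃ i, c i = j
      · obtain ⟨i, rfl⟩ := hj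
        exact Or.inl (hk i)
      · have : IsEmpty {i // c i = j} := ⟨fun x => hj ⟨x.1, x.2⟩⟩
        exact Or.inr Nat.card_of_isEmpty
  · left
    push Not at hD
    obtain ⟨i, u, hu⟩ := hD
    refine ⟨fun j => D.map (Pi.evalMonoidHom (fun _ : I => T) j), fun j hj => ?_, fun x => ?_⟩
    · obtain ⟨ψ, hψ, rfl⟩ := htr i j
      obtain ⟨d, hd, h⟩ : ψ.symm (fun _ => u) (σ ψ i) ∈
        D.map (Pi.evalMonoidHom (fun _ : I => T) (σ ψ i)) := hj.ge (mem_top _)
      exact hu _ (hDA ψ hψ d hd) (by rw [hσ' ψ i d _ h]; simp)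
    · rcases hmax (Subgroup.pi Set.univ fun j => D.map (Pi.evalMonoidHom (fun _ : I => T) j))
        (fun d hd j _ => ⟨d, hd, rfl⟩) (fun ψ hψ x hx j _ => by
          obtain ⟨d, hd, h⟩ := hx (σ ψ j) trivial
          exact ⟨ψ d, hDA ψ hψ d hd, hσ' ψ j d x h⟩) with h | h
      · exact ⟨fun hx i => ⟨x, hx, rfl⟩, fun hx => h ▸ fun i _ => hx i⟩
      · obtain ⟨d, hd, h⟩ := (h ▸ mem_top (fun _ => u) : (fun _ => u) ∈
          Subgroup.pi Set.univ fun j => D.map (Pi.evalMonoidHom (fun _ : I => T) j)) i trivial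
        exact absurd h (hu d hd)

theorem onan_scott {G : Type*} [Group G] (N K : Subgroup G) [N.Normal]
    (hmin : ∀ M : Subgroup G, M.Normal → M ≤ N → M = ⊥ ∨ M = N)
    (hKN : ∀ g : G, ∃ k ∈ K, ∃ n ∈ N, k * n = g)
    (hmax : ∀ X : Subgroup G, X ≤ N → K ⊓ N ≤ X → K ≤ normalizer (X : Set G) →
      X = K ⊓ N ∨ X = N) (hne : ¬ N ≤ K) [Nonempty I] (hT : ¬ IsMulCommutative T)
    (e : N ≃* (I → T)) : ∃ e : N ≃* (I → T),
    (∃ L : I → Subgroup T, (∀ i, L i ≠ ⊤) ∧ ∀ n : N, (n : G) ∈ K ↔ ∀ i, e n i ∈ L i) ∨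
      ∃ (k : ℕ) (c : I → I), 2 ≤ k ∧
        (∀ j, Nat.card {i // c i = j} = k ∨ Nat.card {i // c i = j} = 0) ∧
        ∀ n : N, (n : G) ∈ K ↔ ∀ i j, c i = c j → e n i = e n j := by
  let φ : G →* MulAut (I → T) := (MulAut.congr e).toMonoidHom.comp MulAut.conjNormal
  have hφ : ∀ (g : G) (n : N), φ g (e n) = e (MulAut.conjNormal g n) := fun g n => by simp [φ]
  let f : (I → T) →* G := N.subtype.comp e.symm.toMonoidHom
  have hf : Function.Injective f := N.subtype_injective.comp e.symm.injective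
  have hfe : ∀ n : N, f (e n) = n := fun n => by simp [f]
  have hfr : (⊤ : Subgroup (I → T)).map f = N := by
    ext x
    exact ⟨by rintro ⟨y, -, rfl⟩; exact (e.symm y).2, fun hx => ⟨e ⟨x, hx⟩, trivial, hfe _⟩⟩
  have hle : ∀ X : Subgroup (I → T), X.map f ≤ N := fun X => hfr ▸ map_mono le_top
  have hnorm : ∀ X : Subgroup (I → T), (∀ ψ ∈ K.map φ, ∀ x ∈ X, ψ x ∈ X) →
      K ≤ normalizer ((X.map f : Subgroup G) : Set G) := by
    intro X hX
    rw [le_normalizer_iff]
    rintro k hk _ ⟨x, hx, rfl⟩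
    obtain ⟨n, rfl⟩ := e.surjective x
    exact ⟨_, hX _ ⟨k, hk, rfl⟩ _ hx, by rw [hφ, hfe, hfe]; rfl⟩
  have hD : (K.comap f).map f = K ⊓ N := by
    rw [map_comap_eq, MonoidHom.range_eq_map, hfr, inf_comm]
  have hmem : ∀ n : N, (n : G) ∈ K ↔ e n ∈ K.comap f := fun n => by rw [mem_comap, hfe]
  rcases onan_scott_pi hT (K.map φ) (K.comap f) (by
      rintro _ ⟨k, hk, rfl⟩ d hd
      obtain ⟨n, rfl⟩ := e.surjective d
      rw [hφ, ← hmem]
      exact K.mul_mem (K.mul_mem hk ((hmem n).2 hd)) (K.inv_mem hk))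
    (fun h => hne fun n hn => (hmem ⟨n, hn⟩).2 (h ▸ mem_top _))
    (fun X hX hX' => by
      rcases hmax (X.map f) (hle X) (hD ▸ map_mono hX) (hnorm X hX') with h | h
      · exact Or.inl (map_injective hf (h.trans hD.symm))
      · exact Or.inr (map_injective hf (h.trans hfr.symm)))
    (fun X hX hX' => by
      have hn : (X.map f).Normal := by
        rw [← normalizer_eq_top_iff, eq_top_iff]
        intro g _
        obtain ⟨k, hk, n, hn, rfl⟩ := hKN g
        refine mul_mem (hnorm X hX' hk) ?_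
        have := le_normalizer_map (H := X) f
        rw [normalizer_eq_top, hfr] at this
        exact this hn
      rcases hmin _ hn (hle X) with h | h
      · exact Or.inl ((map_eq_bot_iff_of_injective _ hf).1 h)
      · exact Or.inr (map_injective hf (h.trans hfr.symm))) with ⟨L, h1, h2⟩ | ⟨k, c, α, h1, h2, h3⟩
  · exact ⟨e, Or.inl ⟨L, h1, fun n => (hmem n).trans (h2 _)⟩⟩
  · exact ⟨e.trans (MulEquiv.piCongrRight α), Or.inr ⟨k, c, h1, h2,
      fun n => (hmem n).trans (h3 _)⟩⟩

end H14
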