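import Mathlib
import Cfsg.Agent.H24.Su1

/-! The group of translations `Q₁` and the elements `d x`. -/

set_option autoImplicit false
set_option linter.unusedSectionVars false
set_option synthInstance.maxSize 4000

namespace H14.SuD

open H24 H24.Sz H24.Sz.Dat H26 H26.Gold Subgroup
open H9 (F4)
open H7.SJ (p2)

variable {G : Type*} [Group G] [Finite G] {X : Dat G} {g k e n : G} {x y c x' c' : F4}

theorem orb1 {P : F4 → Prop} (h0 : P 0) (h1 : P 1) (h : ∀ x, P x → P (om * x)) (x : F4) : P x := by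
  rcases (by decide : ∀ x : F4, x = 0 ∨ x = 1 ∨ x = om * 1 ∨ x = om * (om * 1)) x with
    rfl | rfl | rfl | rfl
  exacts [h0, h1, h _ h1, h _ (h _ h1)]

theorem orb2 {P : F4 → F4 → Prop} (h0 : ∀ y, P 0 y) (h1 : ∀ y, P 1 y)
    (h : ∀ x y, P x y → P (om * x) (om * y)) (x : F4) : ∀ y, P x y :=
  orb1 (P := fun x => ∀ y, P x y) h0 h1 (fun x p y => by
    have := h _ _ (p (om * om * y))
    rwa [(by decide : ∀ y : F4, om * (om * om * y) = y)] at this) x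

theorem bi {m : F4 → F4 → F4} (h1 : ∀ x y y', m x (y + y') = m x y + m x y')
    (h2 : ∀ x x' y, m (x + x') y = m x y + m x' y)
    (h3 : ∀ x y, m (om * om * x) (om * y) = om * om * m x y) (x y : F4) :
    m x y = m 1 1 * (x * x) * y := by
  have a0 : ∀ x, m x 0 = 0 := fun x => by simpa using h1 x 0 0
  have b0 : ∀ x, m 0 x = 0 := fun x => by simpa using h2 0 0 x
  have a2 : ∀ x, m x (1 + om) = m x 1 + m x om := fun x => h1 x 1 om
  have b2 : ∀ x, m (1 + om) x = m 1 x + m om x := fun x => h2 1 om x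
  have k1 : m (1 + om) om = om * om * m 1 1 := h3 1 1
  have k2 : m 1 om = om * om * m om 1 := h3 om 1
  have k3 : m 1 (1 + om) = om * om * m om om := h3 om om
  rw [b2] at k1
  rw [a2] at k3
  obtain ⟨e1, e2, e3⟩ : m 1 om = om * m 1 1 ∧ m om 1 = om * om * m 1 1 ∧ m om om = m 1 1 :=
    (by decide : ∀ A B C D : F4, B + D = om * om * A → B = om * om * C → A + B = om * om * D →
      B = om * A ∧ C = om * om * A ∧ D = A) _ _ _ _ k1 k2 k3
  have c : ∀ x : F4, x = 0 ∨ x = 1 ∨ x = om ∨ x = 1 + om := by decide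
  rcases c x with rfl | rfl | rfl | rfl <;> rcases c y with rfl | rfl | rfl | rfl <;>
    (try simp only [a0, b0, a2, b2, e1, e2, e3]) <;> generalize m 1 1 = A <;> revert A <;> decide

theorem odd_one {E O : Subgroup G} (hE : EA E) (hO : OddG O) {o : G} (ho : o ∈ O)
    (h : o * o ∈ E) : o = 1 :=
  mem_bot.1 ((hE.two.inf_eq_bot hO).le ⟨H7.SJ.mem_of_odd (hO.piElt ho) h, ho⟩)

theorem sq_mul {E O : Subgroup G} (hE : EA E) (hO : OddG O) (hEO : E ≤ C[O]) (g1 : g ∈ N[E])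
    (k1 : k ∈ N[E]) (g2 : g ∈ C[O]) (g3 : g * g ∈ E) (k3 : k * k ∈ E) {o : G} (he : e ∈ E)
    (ho : o ∈ O) (h : g * k * (g * k) = e * o) : g * k * (g * k) ∈ E := by
  have m := mul_mem g1 k1
  have e1 := mul_mem g3 k3
  have e2 : g * (g * k * (g * k)) * g⁻¹ * (g * k * (g * k)) ∈ E := by
    have := mul_mem e1 (conj_mem' m e1)
    rwa [show g * g * (k * k) * ((g * k)⁻¹ * (g * g * (k * k)) * (g * k)) =
      g * (g * k * (g * k)) * g⁻¹ * (g * k * (g * k)) by group] at this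
  rw [h, ← conj_mul, conj_eq_of_mem_C g2 ho, mul_assoc _ o, ← mul_assoc o, ← comm_of_cent hEO he ho,
    mul_mem_cancel_left (conj_mem g1 he), mul_assoc, mul_mem_cancel_left he] at e2
  rw [h, odd_one hE hO ho e2, mul_one]
  exact he

/-- `g` translates `R` by the vector `(x, c)`. -/
structure Act (X : Dat G) (g : G) (x c : F4) : Prop where
  cA : g ∈ C[X.A]
  cO : g ∈ C[X.O]
  tr : ∀ y ∈ X.Λ, g * X.r y * g⁻¹ = X.r y * (X.a (y * x) * X.z (y * c))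

/-- `g` is a `2`-element that translates `R` by the vector `(x, c)`. -/
structure Qa (X : Dat G) (g : G) (x c : F4) : Prop extends Act X g x c where
  sq : g * g ∈ X.R ⊔ X.A

theorem az_A (X : Dat G) (x c : F4) : X.a x * X.z c ∈ X.A := mul_mem (a_A x) (z_A c)

section
variable (h : X.S1)
include h

theorem L_CO : X.L ≤ C[X.O] := cents_symm O_K
theorem L_CR : X.L ≤ C[X.R] := cents_symm h.sylR.le
theorem A_L : X.A ≤ X.L := A_S.trans h.S_L
theorem E_CO : X.R ⊔ X.A ≤ C[X.O] := sup_le (cents_symm O_R) ((A_L h).trans (L_CO h))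
theorem E_CA : X.R ⊔ X.A ≤ C[X.A] := h.eaE.le_C.trans (C_anti le_sup_right)

theorem Act.mul (p : Act X g x c) (q : Act X k x' c') : Act X (g * k) (x + x') (c + c') :=
  ⟨mul_mem p.cA q.cA, mul_mem p.cO q.cO, fun y hy => by
    rw [show g * k * X.r y * (g * k)⁻¹ = g * (k * X.r y * k⁻¹) * g⁻¹ by group, q.tr y hy, ← conj_mul,
      p.tr y hy, conj_eq_of_mem_C p.cA (az_A X _ _), mul_assoc, h.mul_A, mul_add, mul_add]⟩

theorem Act.inv (p : Act X g x c) : Act X g⁻¹ x c :=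
  ⟨inv_mem p.cA, inv_mem p.cO, fun y hy => by
    have e := az_A X (y * x) (y * c)
    have : g * (X.r y * (X.a (y * x) * X.z (y * c))) * g⁻¹ = X.r y := by
      rw [← conj_mul, p.tr y hy, conj_eq_of_mem_C p.cA e, mul_assoc, h.eaA.sq e, mul_one]
    conv_lhs => rw [← this]
    group⟩

theorem act_E (he : e ∈ X.R ⊔ X.A) : Act X e 0 0 :=
  ⟨E_CA h he, E_CO h he, fun y hy => by
    rw [mul_zero, h.a0, h.z0, mul_one, mul_one,
      conj_eq_of_mem_C (h.eaE.le_C he) (mem_sup_left (r_R hy))]⟩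

theorem Act.rA (p : Act X g x c) (he : e ∈ X.R ⊔ X.A) : g * e * g⁻¹ * e ∈ X.A := by
  obtain ⟨s, hs, m, n, rfl⟩ := h.mem_E.1 he
  have e := az_A X m n
  have k := comm_of_cent ((A_L h).trans (L_CR h)) (mul_mem (az_A X (s * x) (s * c)) e) (r_R hs)
  rw [mul_assoc (X.r s), ← conj_mul, p.tr s hs, conj_eq_of_mem_C p.cA e, mul_assoc (X.r s),
    mul_assoc (X.r s), ← mul_assoc _ (X.r s), k, mul_assoc (X.r s), ← mul_assoc (X.r s), h.rr hs,
    one_mul]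
  exact mul_mem (mul_mem (az_A X _ _) e) e

theorem Act.NE (p : Act X g x c) : g ∈ N[X.R ⊔ X.A] := mem_N_of_finite fun _ he =>
  (mul_mem_cancel_right he).1 (mem_sup_right (p.rA h he))

theorem Act.ker (p : Act X g 0 0) : ∃ e ∈ X.R ⊔ X.A, ∃ o ∈ X.O, g = e * o :=
  h.CE p.cA (mem_C'.2 fun u hu => by
    obtain ⟨y, hy, rfl⟩ := h.mem_R.1 hu
    have := p.tr y hy
    rwa [mul_zero, h.a0, h.z0, mul_one, mul_one, mul_inv_eq_iff_eq_mul] at this)

theorem Qa.ker (p : Qa X g 0 0) : g ∈ X.R ⊔ X.A := by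
  obtain ⟨e, he, o, ho, rfl⟩ := p.toAct.ker h
  have := p.sq
  rw [mul_assoc, ← mul_assoc o, ← comm_of_cent (E_CO h) he ho, mul_assoc, ← mul_assoc,
    h.eaE.sq he, one_mul] at this
  rwa [odd_one h.eaE O_odd ho this, mul_one]

theorem Qa.mul (p : Qa X g x c) (q : Qa X k x' c') : Qa X (g * k) (x + x') (c + c') := by
  have m := p.toAct.mul h q.toAct
  have m2 := m.mul h m
  rw [f4_add_self, f4_add_self] at m2
  obtain ⟨e, he, o, ho, e1⟩ := m2.ker h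
  exact ⟨m, sq_mul h.eaE O_odd (E_CO h) (p.NE h) (q.NE h) p.cO p.sq q.sq he ho e1⟩

theorem Qa.inv (p : Qa X g x c) : Qa X g⁻¹ x c :=
  ⟨p.toAct.inv h, by rw [← mul_inv_rev]; exact inv_mem p.sq⟩

theorem qa_E (he : e ∈ X.R ⊔ X.A) : Qa X e 0 0 := ⟨act_E h he, mul_mem he he⟩

theorem Qa.eq (p : Qa X g x c) (q : Qa X k x c) : ∃ e ∈ X.R ⊔ X.A, k = g * e := by
  have := (p.inv h).mul h q
  rw [f4_add_self, f4_add_self] at this
  exact ⟨_, this.ker h, (mul_inv_cancel_left _ _).symm⟩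

theorem NE_of (n1 : n ∈ X.L) (n2 : n ∈ N[X.A]) : n ∈ N[X.R ⊔ X.A] :=
  norm_sup (X := X.L ⊓ N[X.A]) (norm_of_cent (inf_le_left.trans (L_CR h))) inf_le_right ⟨n1, n2⟩

theorem Qa.cj (p : Qa X g x c) (n1 : n ∈ X.L) (n2 : n ∈ N[X.A])
    (n3 : ∀ y, n * (X.a (y * x) * X.z (y * c)) * n⁻¹ = X.a (y * x') * X.z (y * c')) :
    Qa X (n * g * n⁻¹) x' c' :=
  ⟨⟨conj_mem (N_le_NC _ n2) p.cA, conj_mem (norm_self _ (L_CO h n1)) p.cO, fun y hy => by
    have e := conj_eq_of_mem_C (L_CR h n1) (r_R hy)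
    calc _ = n * g * n⁻¹ * (n * X.r y * n⁻¹) * (n * g * n⁻¹)⁻¹ := by rw [e]
      _ = n * (g * X.r y * g⁻¹) * n⁻¹ := by group
      _ = _ := by rw [p.tr y hy, ← conj_mul, e, n3]⟩, by rw [conj_mul]; exact conj_mem (NE_of h n1 n2) p.sq⟩

omit h in
theorem NA_of (h : X.Fr) (n3 : ∀ x c, n * (X.a x * X.z c) * n⁻¹ ∈ X.A) : n ∈ N[X.A] :=
  mem_N_of_finite fun u hu => by obtain ⟨x, c, rfl⟩ := h.mem_A.1 hu; exact n3 x c

theorem h_az (x c : F4) : X.h * (X.a x * X.z c) * X.h⁻¹ = X.a (om * om * x) * X.z (om * c) := by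
  rw [← conj_mul, h.ha, h.hz]
theorem w_az (x c : F4) : X.w * (X.a x * X.z c) * X.w⁻¹ = X.a c * X.z x := by
  rw [← conj_mul, h.wa, h.wz, h.az]
theorem b_az (y x c : F4) : X.b y * (X.a x * X.z c) * (X.b y)⁻¹ = X.a x * X.z (x * y + c) := by
  rw [← conj_mul, h.bab, ← h.bz, mul_inv_cancel_right, h.z_add, mul_assoc]

theorem h_NA : X.h ∈ N[X.A] := NA_of h.toFr fun x c => h_az h x c ▸ az_A X _ _
theorem w_NA : X.w ∈ N[X.A] := NA_of h.toFr fun x c => w_az h x c ▸ az_A X _ _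
theorem b_NA (y : F4) : X.b y ∈ N[X.A] := h.S_NA (b_S y)

theorem Qa.cjh (p : Qa X g x c) : Qa X (X.h * g * X.h⁻¹) (om * om * x) (om * c) :=
  p.cj h h.hL (h_NA h) fun y => by rw [h_az h, mul_left_comm, mul_left_comm om y]
theorem Qa.cjw (p : Qa X g x c) : Qa X (X.w * g * X.w⁻¹) c x :=
  p.cj h h.wL (w_NA h) fun _ => w_az h _ _
theorem Qa.cjb (p : Qa X g x c) (y : F4) : Qa X (X.b y * g * (X.b y)⁻¹) x (x * y + c) :=
  p.cj h (h.bL y) (b_NA h y) fun _ => by rw [b_az h, mul_add, mul_assoc]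

theorem mem_RZ (he : e ∈ X.R ⊔ X.A) (hS : e ∈ C[X.S]) : ∃ s ∈ X.Λ, ∃ c, e = X.r s * X.z c := by
  obtain ⟨s, hs, m, c, rfl⟩ := h.mem_E.1 he
  have k := conj_eq_of_mem_C (cents_symm (le_refl C[X.S]) (b_S 1)) hS
  rw [mul_assoc (X.r s), ← conj_mul, b_az h, conj_eq_of_mem_C (L_CR h (h.bL 1)) (r_R hs)] at k
  have := (h.inj_A (mul_left_cancel k)).2
  rw [mul_one, add_eq_right] at this
  exact ⟨s, hs, c, by rw [this, h.a0, mul_one]⟩

end

/-- the elements `d x` before their relations are known. -/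
structure D0 (X : Dat G) : Prop extends X.S1 where
  d0 : X.d 0 = 1
  dS : ∀ x, X.d x ∈ C[X.S]
  hd : ∀ x, X.h * X.d x * X.h⁻¹ = X.d (om * x)
  dr : ∀ x, ∀ y ∈ X.Λ, X.d x * X.r y * (X.d x)⁻¹ = X.r y * X.z (y * x)
  dO : ∀ x, X.d x ∈ C[X.O]
  sq : ∀ x, X.d x * X.d x ∈ X.R ⊔ X.Z
  d3 : X.d 1 * X.d om * X.d (om * om) = 1

theorem D0.symm (h : D0 X) : D0 X.symm :=
  ⟨h.toS1.symm, h.d0, symm_S (X := X) ▸ h.dS, h.hd, h.dr, h.dO, h.sq, h.d3⟩

theorem h_NS (h : X.Fr) : X.h ∈ N[X.S] := mem_N_of_finite fun u hu => by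
  obtain ⟨x, y, c, rfl⟩ := h.mem_S.1 hu
  rw [← conj_mul, ← conj_mul, h.ha, h.hb, h.hz]
  exact mul_mem (mul_mem (a_S _) (b_S _)) (z_S _)

theorem exists_d (h : X.S2) : ∃ d, D0 { X with d := d } := by
  have h1 := h.toS1
  obtain ⟨g, g1, g2⟩ := h.d1
  have hS := N_le_NC _ (h_NS h.toFr)
  have hr : ∀ y ∈ X.Λ, X.h * X.r y * X.h⁻¹ = X.r y := fun y hy =>
    conj_eq_of_mem_C (L_CR h1 h.hL) (r_R hy)
  have gi : ∀ y ∈ X.Λ, g⁻¹ * X.r y * g = X.r y * X.z y := fun y hy => by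
    have : g * (X.r y * X.z y) * g⁻¹ = X.r y := by
      rw [← conj_mul, g2 y hy, conj_eq_of_mem_C g1 (z_S y), mul_assoc, h.zz, mul_one]
    conv_lhs => rw [← this]
    group
  have gO : g ∈ N[X.O] := mem_N_of_finite fun o ho => by
    have oS : o ∈ C[X.S] := C_anti h.S_L (O_K ho)
    obtain ⟨e, he, o', ho', e1⟩ := h1.CS (conj_mem (norm_self _ g1) oS) (mem_C'.2 fun u hu => by
      obtain ⟨y, hy, rfl⟩ := h1.mem_R.1 hu
      have : o * (g⁻¹ * X.r y * g) = g⁻¹ * X.r y * g * o := by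
        rw [gi y hy, ← mul_assoc, mem_C'.1 (O_R ho) _ (r_R hy), mul_assoc,
          mem_C'.1 oS _ (z_S y), mul_assoc]
      calc _ = g * (o * (g⁻¹ * X.r y * g)) * g⁻¹ := by group
        _ = _ := by rw [this]; group)
    have he' := sup_le_sup_left Z_A _ he
    refine H7.SJ.mem_of_odd ((O_odd.piElt ho).conj g) ?_
    rw [e1, mul_assoc, ← mul_assoc o', ← comm_of_cent (E_CO h1) he' ho', mul_assoc, ← mul_assoc,
      h1.eaE.sq he', one_mul]
    exact mul_mem ho' ho'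
  have a1 : Act X (g * X.h * g⁻¹ * X.h⁻¹) 0 (om * om) :=
    ⟨C_anti A_S (by
      rw [mul_assoc g, mul_assoc g]; exact mul_mem g1 (conj_mem hS (inv_mem g1))),
    mul_mem (conj_mem (N_le_NC _ gO) (L_CO h1 h.hL)) (inv_mem (L_CO h1 h.hL)), fun y hy => by
      calc _ = g * (X.h * (g⁻¹ * (X.h⁻¹ * (X.h * X.r y * X.h⁻¹) * X.h) * g) * X.h⁻¹) * g⁻¹ := by
            rw [hr y hy]; group
        _ = g * (X.h * (g⁻¹ * X.r y * g) * X.h⁻¹) * g⁻¹ := by group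
        _ = _ := by
          rw [gi y hy, ← conj_mul (b := X.h), hr y hy, h.hz, ← conj_mul, g2 y hy,
            conj_eq_of_mem_C g1 (z_S _), mul_zero, h.a0, one_mul, mul_assoc, ← h.z_add,
            (by decide : ∀ y : F4, y + om * y = y * (om * om))]⟩
  have s1 : g * X.h * g⁻¹ * X.h⁻¹ ∈ C[X.S] := by
    rw [mul_assoc g, mul_assoc g]; exact mul_mem g1 (conj_mem hS (inv_mem g1))
  generalize g * X.h * g⁻¹ * X.h⁻¹ = k at a1 s1
  obtain ⟨j, hj⟩ := oddG_iff.1 (O_odd (X := X))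
  have m2 := a1.mul h1 a1
  rw [f4_add_self, f4_add_self] at m2
  have pw : ∀ i : ℕ, Act X (k * (k * k) ^ i) 0 (om * om) := fun i => by
    induction i with
    | zero => simpa using a1
    | succ i ih => simpa [pow_succ, mul_assoc] using ih.mul h1 m2
  obtain ⟨e, he, o, ho, e1⟩ := m2.ker h1
  have q1 : Qa X (k * (k * k) ^ j) 0 (om * om) := ⟨pw j, by
    rw [← sq k, ← pow_mul, ← pow_succ', ← hj, ← sq, ← pow_mul, mul_comm, pow_mul, sq, e1,
      Commute.mul_pow (comm_of_cent (E_CO h1) he ho), 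
      show o ^ ♯X.O = 1 from congrArg Subtype.val (pow_card_eq_one' (x := (⟨o, ho⟩ : X.O))), mul_one]
    exact pow_mem he _⟩
  have s2 : k * (k * k) ^ j ∈ C[X.S] := mul_mem s1 (pow_mem (mul_mem s1 s1) j)
  generalize k * (k * k) ^ j = k at q1 s2
  have st : ∀ k c, Qa X k 0 c ∧ k ∈ C[X.S] → Qa X (k * (X.h * k⁻¹ * X.h⁻¹)) 0 (om * om * c) ∧
      k * (X.h * k⁻¹ * X.h⁻¹) ∈ C[X.S] := fun k c p => ⟨by
    have := p.1.mul h1 ((p.1.inv h1).cjh h1)
    rwa [mul_zero, add_zero, (by decide : ∀ c : F4, c + om * c = om * om * c)] at this,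
    mul_mem p.2 (conj_mem hS (inv_mem p.2))⟩
  have p := st _ _ ⟨q1, s2⟩
  generalize k * (X.h * k⁻¹ * X.h⁻¹) = k at p
  replace p := st _ _ p
  rw [(by decide : om * om * (om * om * (om * om)) = 1)] at p
  have h3 : X.h * (X.h * X.h) = 1 := (mul_assoc _ _ _).symm.trans h.h3
  let d1 := k * (X.h * k⁻¹ * X.h⁻¹)
  let d : F4 → G := fun x => if x = 0 then 1 else if x = 1 then d1 else
    if x = om then X.h * d1 * X.h⁻¹ else X.h * (X.h * d1 * X.h⁻¹) * X.h⁻¹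
  have v0 : d 0 = 1 := rfl
  have v1 : d 1 = d1 := rfl
  have v2 : d om = X.h * d1 * X.h⁻¹ := rfl
  have v3 : d (om * om) = X.h * (X.h * d1 * X.h⁻¹) * X.h⁻¹ := rfl
  have hd : ∀ x, X.h * d x * X.h⁻¹ = d (om * x) := fun x => by
    rcases (by decide : ∀ x : F4, x = 0 ∨ x = 1 ∨ x = om ∨ x = om * om) x with rfl | rfl | rfl | rfl
    · rw [mul_zero, v0, mul_one, mul_inv_cancel]
    · rfl
    · rfl
    · rw [(by decide : om * (om * om) = 1), v1, v3]
      calc _ = X.h * (X.h * X.h) * d1 * (X.h * (X.h * X.h))⁻¹ := by group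
        _ = _ := by rw [h3]; group
  have P : ∀ x, Qa X (d x) 0 x ∧ d x ∈ C[X.S] := orb1 ⟨qa_E h1 (one_mem _), one_mem _⟩ p
    fun x p => hd x ▸ ⟨by simpa using p.1.cjh h1, conj_mem hS p.2⟩
  refine ⟨d, ⟨⟨⟨?_, h.tight, h.nc, h.ev⟩, h.one, h.r_add, h.rK, h.r_inj, h.sylR, h.IL⟩, v0,
    fun x => (P x).2, hd, fun x y hy => by simpa [h.a0] using (P x).1.tr y hy, fun x => (P x).1.cO,
    fun x => ?_, ?_⟩⟩
  · exact { h.toFr with }
  · obtain ⟨s, hs, c, e⟩ := mem_RZ h1 (P x).1.sq (mul_mem (P x).2 (P x).2)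
    exact (e : d x * d x = _) ▸ mul_mem (mem_sup_left (r_R hs)) (mem_sup_right (z_Z c))
  · change d 1 * d om * d (om * om) = 1
    rw [v1, v2, v3]
    calc _ = k * (X.h * (X.h * X.h)) * k⁻¹ * (X.h * (X.h * X.h))⁻¹ := by simp only [d1]; group
      _ = _ := by rw [h3]; group

end H14.SuD
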