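import Mathlib
import Cfsg.Agent.H14.SuD1

/-! The relations in `Q₁`. -/

set_option autoImplicit false
set_option linter.unusedSectionVars false
set_option synthInstance.maxSize 4000

namespace H14.SuD

open H24 H24.Sz H24.Sz.Dat H26 H26.Gold Subgroup
open H9 (F4)

variable {G : Type*} [Group G] [Finite G] {X : Dat G} {g k : G} {x y c s s' κ γ : F4}

/-- normal forms in `Q₁`. -/
def nf (X : Dat G) (x y s m n : F4) : G := X.q x * X.d y * X.r s * X.a m * X.z n

theorem sw {u v : G} (h : u * v = v * u) (t : G) : u * (v * t) = v * (u * t) := by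
  rw [← mul_assoc, h, mul_assoc]

theorem sw3 {u v p : G} (h : u * v = p) (t : G) : u * (v * t) = p * t := by rw [← mul_assoc, h]

theorem cj3 {u v t : G} (n : G) (h : u * v * u⁻¹ = t) :
    n * u * n⁻¹ * (n * v * n⁻¹) * (n * u * n⁻¹)⁻¹ = n * t * n⁻¹ := by rw [← h]; group

namespace D0

variable (h : D0 X)
include h

theorem qd (y : F4) : Qa X (X.d y) 0 y :=
  ⟨⟨C_anti A_S (h.dS y), h.dO y, fun s hs => by rw [h.dr y s hs, mul_zero, h.a0, one_mul]⟩,
    sup_le_sup_left Z_A _ (h.sq y)⟩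

theorem qq (x : F4) : Qa X (X.q x) x 0 := (h.qd x).cjw h.toS1

theorem qqd (x y : F4) : Qa X (X.q x * X.d y) x y := by
  simpa using (h.qq x).mul h.toS1 (h.qd y)

theorem q0 : X.q 0 = 1 := by rw [q, h.d0, mul_one, mul_inv_cancel]

theorem hq (x : F4) : X.h * X.q x * X.h⁻¹ = X.q (om * om * x) := by
  have e : X.h * X.w = X.w * (X.h * X.h) := by
    rw [eq_inv_of_mul_eq_one_left h.h3, ← h.wh, h.wi]
    simp only [← mul_assoc, h.ww, one_mul]
  calc _ = X.h * X.w * X.d x * (X.h * X.w)⁻¹ := by rw [q]; group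
    _ = X.w * (X.h * (X.h * X.d x * X.h⁻¹) * X.h⁻¹) * X.w⁻¹ := by rw [e]; group
    _ = _ := by rw [h.hd, h.hd, ← mul_assoc om]; rfl

theorem wq (x : F4) : X.w * X.q x * X.w⁻¹ = X.d x := by
  rw [q, h.wi]; simp only [← mul_assoc, h.ww, one_mul]; rw [mul_assoc, h.ww, mul_one]

theorem sqA (p : Qa X g x c) : g * g ∈ X.A := by
  have h1 := h.toS1
  obtain ⟨s, hs, κ, e0⟩ := mem_RZ h1 (h.qd 1).sq (mul_mem (h.dS 1) (h.dS 1))
  have cj : ∀ n ∈ X.L, n ∈ N[X.A] → ∀ g, g * g * X.r s ∈ X.A →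
      n * g * n⁻¹ * (n * g * n⁻¹) * X.r s ∈ X.A := fun n n1 n2 g p => by
    rw [← conj_eq_of_mem_C (L_CR h1 n1) (r_R hs), conj_mul, conj_mul]; exact conj_mem n2 p
  have tr : ∀ {g k x c}, Qa X g x c → Qa X k x c → g * g * X.r s ∈ X.A → k * k * X.r s ∈ X.A :=
    fun {g k x c} p q m => by
      obtain ⟨e, he, rfl⟩ := p.eq h1 q
      have a := (p.toAct.inv h1).rA h1 he
      rw [show g * e * (g * e) * X.r s = g * g * (g⁻¹ * e * g⁻¹⁻¹ * e * X.r s) by group,
        comm_of_cent ((A_L h1).trans (L_CR h1)) a (r_R hs), ← mul_assoc]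
      exact mul_mem m a
  have pd : ∀ y, y ≠ 0 → X.d y * X.d y * X.r s ∈ X.A :=
    orb1 (P := fun y => y ≠ 0 → X.d y * X.d y * X.r s ∈ X.A) (fun e => absurd rfl e)
      (fun _ => by
        rw [e0, mul_assoc, ← mem_C.1 (L_CR h1 (h.zL κ)) _ (r_R hs), ← mul_assoc, h1.rr hs, one_mul]
        exact z_A κ)
      fun y p e => h.hd y ▸ cj _ h.hL (h_NA h1) _ (p (right_ne_zero_of_mul e))
  have all : ∀ {g x c}, Qa X g x c → (x ≠ 0 ∨ c ≠ 0) → g * g * X.r s ∈ X.A := fun {g x c} p e => by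
    by_cases hx : x = 0
    · subst hx; exact tr (h.qd c) p (pd c (e.resolve_left fun e => e rfl))
    · have := (h.qq x).cjb h1 (x⁻¹ * c)
      rw [mul_inv_cancel_left₀ hx, add_zero] at this
      exact tr this p (cj _ (h.bL _) (b_NA h1 _) _ (cj _ h.wL (w_NA h1) _ (pd x hx)))
  have N : ∀ {g x c}, Qa X g x c → g ∈ N[X.A] := fun p => C_le_N _ p.cA
  have rN : X.r s ∈ N[X.A] := C_le_N _ (E_CA h1 (mem_sup_left (r_R hs)))
  have π : ∀ {g x c}, Qa X g x c → (x ≠ 0 ∨ c ≠ 0) →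
      cs X.A g * cs X.A g = (cs X.A (X.r s))⁻¹ := fun p e => by
    rw [← mul_eq_one_iff_eq_inv, ← ap_mul _ (N p) (N p), ← ap_mul _ (mul_mem (N p) (N p)) rN]
    exact cs_of_mem (all p e)
  have iv : ∀ y, y ≠ 0 → cs X.A (X.q 1) * cs X.A (X.d y) * (cs X.A (X.q 1))⁻¹ =
      (cs X.A (X.d y))⁻¹ := fun y hy => by
    have := (π (h.qqd 1 y) (.inr hy)).trans (π (h.qq 1) (.inl one_ne_zero)).symm
    rw [cs, ap_mul _ (N (h.qq 1)) (N (h.qd y)), mul_assoc, mul_right_inj] at this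
    have e := π (h.qq 1) (.inl one_ne_zero)
    calc _ = (cs X.A (X.d y))⁻¹ * (cs X.A (X.d y) * (cs X.A (X.q 1) * cs X.A (X.d y))) *
          (cs X.A (X.q 1))⁻¹ := by group
      _ = _ := by rw [this]; group
  have d3 : cs X.A (X.d 1) * cs X.A (X.d om) * cs X.A (X.d (om * om)) = 1 := by
    rw [← ap_mul _ (N (h.qd _)) (N (h.qd _)), ← ap_mul _ (mul_mem (N (h.qd _)) (N (h.qd _)))
      (N (h.qd _)), h.d3, ap_one]
  have d4 := congrArg (fun t => cs X.A (X.q 1) * t * (cs X.A (X.q 1))⁻¹) d3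
  simp only [← conj_mul] at d4
  rw [iv 1 (by decide), iv om (by decide), iv _ (by decide), mul_one, mul_inv_cancel] at d4
  have p1 := π (h.qd 1) (.inr (by decide))
  have p2 := π (h.qd om) (.inr (by decide))
  have p3 := π (h.qd (om * om)) (.inr (by decide))
  have r2 : cs X.A (X.r s) * cs X.A (X.r s) = 1 := by rw [← ap_mul _ rN rN, h1.rr hs, ap_one]
  have r1 : cs X.A (X.r s) = 1 := by
    generalize cs X.A (X.d 1) = u, cs X.A (X.d om) = v, cs X.A (X.d (om * om)) = w,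
      cs X.A (X.r s) = ρ at *
    obtain rfl : w = (u * v)⁻¹ := eq_inv_of_mul_eq_one_right d3
    have c : u * v = v * u := by
      rw [inv_inv, mul_assoc, inv_mul_eq_one] at d4
      rw [← mul_right_inj v⁻¹, ← d4]; group
    rw [← mul_inv_rev, mul_assoc, sw c.symm, ← mul_assoc, p1, p2, inv_inj, ← mul_inv_rev, r2,
      inv_one] at p3
    exact p3.symm
  have hr := (cs_eq_one rN).1 r1
  by_cases e : x ≠ 0 ∨ c ≠ 0
  · exact (mul_mem_cancel_right hr).1 (all p e)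
  · obtain ⟨rfl, rfl⟩ : x = 0 ∧ c = 0 := by simpa using e
    rw [h1.eaE.sq (p.ker h1)]; exact one_mem _

theorem ex_κ : ∃ κ, ∀ y y', X.d y * X.d y' = X.d (y + y') * X.z (κ * (y * y) * (y' * y')) := by
  have h1 := h.toS1
  obtain ⟨m, κ, e0⟩ := h.mem_A.1 (h.sqA (h.qd 1))
  have k := conj_eq_of_mem_C (cents_symm (le_refl C[X.S]) (b_S 1)) (mul_mem (h.dS 1) (h.dS 1))
  rw [e0, b_az h1] at k
  obtain rfl : m = 0 := by simpa using (h.inj_A k).2
  rw [h.a0, one_mul] at e0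
  have sq : ∀ y, X.d y * X.d y = X.z (κ * y) :=
    orb1 (by rw [h.d0, mul_zero, h.z0, mul_one]) (by rw [e0, mul_one]) fun y p => by
      rw [← h.hd, conj_mul, p, h.hz, mul_left_comm]
  have iv : ∀ y, (X.d y)⁻¹ = X.d y * X.z (κ * y) := fun y =>
    inv_eq_of_mul_eq_one_right (by rw [← mul_assoc, sq, h.zz])
  have dz : ∀ y c, X.z c * X.d y = X.d y * X.z c := fun y c => mem_C.1 (h.dS y) _ (z_S c)
  refine ⟨κ, orb2 (fun y => by simp [h.d0, h.z0]) (fun y => ?_) fun y y' p => ?_⟩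
  · rcases (by decide : ∀ x : F4, x = 0 ∨ x = 1 ∨ x = om ∨ x = om * om) y with rfl | rfl | rfl | rfl
    · simp [h.d0, h.z0]
    · simp [h.d0, e0]
    · rw [eq_inv_of_mul_eq_one_left h.d3, iv, (by decide : 1 + om = om * om), mul_one, mul_one]
    · have e : X.d om = (X.d 1)⁻¹ * (X.d (om * om))⁻¹ := by
        rw [← eq_inv_of_mul_eq_one_left h.d3, inv_mul_cancel_left]
      rw [(by decide : 1 + om * om = om), e, iv, iv, mul_assoc (X.d 1), sw (dz _ _), mul_assoc,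
        mul_assoc, ← h.z_add, ← h.z_add,
        (by decide : ∀ κ : F4, κ * 1 + κ * (om * om) + κ * (1 * 1) * (om * om * (om * om)) = 0),
        h.z0, mul_one]
  · rw [← mul_add, ← h.hd, ← h.hd, ← h.hd, conj_mul, p, ← conj_mul, h.hz]
    congr 2
    exact (by decide : ∀ κ y y' : F4, om * (κ * (y * y) * (y' * y')) =
      κ * (om * y * (om * y)) * (om * y' * (om * y'))) κ y y'

theorem ex_γ (dd : ∀ y y', X.d y * X.d y' = X.d (y + y') * X.z (κ * (y * y) * (y' * y'))) :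
    ∃ γ, ∀ x y, X.q x * X.d y * (X.q x)⁻¹ =
      X.d y * X.a (γ * (x * x) * y) * X.z (γ * x * (y * y)) := by
  have h1 := h.toS1
  have : ∀ x y, ∃ m n, X.q x * X.d y * (X.q x)⁻¹ = X.d y * (X.a m * X.z n) := fun x y => by
    obtain ⟨m, n, e⟩ := h.mem_A.1 (mul_mem (mul_mem (h.sqA ((h.qd y).inv h1))
      (h.sqA ((h.qd y).mul h1 (h.qq x)))) (h.sqA ((h.qq x).inv h1)))
    exact ⟨m, n, by rw [← e]; group⟩
  choose m n e using this
  have dA : ∀ y x c, X.a x * X.z c * X.d y = X.d y * (X.a x * X.z c) := fun y x c =>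
    mem_C.1 (h.qd y).cA _ (az_A X x c)
  have ad : ∀ x y y', m x (y + y') = m x y + m x y' ∧ n x (y + y') = n x y + n x y' := by
    intro x y y'
    have := congrArg (fun t => X.q x * t * (X.q x)⁻¹) (dd y y')
    beta_reduce at this
    rw [← conj_mul, ← conj_mul, e, e, e, conj_eq_of_mem_C (h.qq x).cA (z_A _), mul_assoc (X.d y),
      sw (dA _ _ _), ← mul_assoc (X.d y), dd, h.mul_A, mul_assoc (X.d _), mul_assoc (X.d _),
      mul_right_inj, mul_assoc (X.a _), ← h.z_add, ← one_mul (X.z (_ * _)), ← h.a0, h.mul_A] at this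
    have := h.inj_A this
    rw [zero_add, add_comm (κ * _ * _), add_left_inj] at this
    exact ⟨this.1.symm, this.2.symm⟩
  have sy : ∀ x y, n x y = m y x := fun x y => by
    have k := cj3 X.w (e x y)
    rw [h.wq, ← conj_mul (c := X.a _ * X.z _), w_az h1] at k
    have k2 := e y x
    rw [mul_inv_eq_iff_eq_mul, mul_assoc, ← mem_C'.1 (h.qq y).cA _ (az_A X _ _)] at k2
    change X.d x * X.q y * _ = X.q y * _ at k
    rw [mul_inv_eq_iff_eq_mul, mul_assoc, dA, ← mul_assoc, k2, mul_assoc, mul_assoc, h.mul_A,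
      mul_right_inj, left_eq_mul] at k
    exact (by decide : ∀ a b : F4, a + b = 0 → b = a) _ _ (h.a_mem_Z (k ▸ one_mem _))
  have wt : ∀ x y, m (om * om * x) (om * y) = om * om * m x y := fun x y => by
    have k := cj3 X.h (e x y)
    rw [h.hq, h.hd, e, ← conj_mul, h.hd, h_az h1, mul_right_inj] at k
    exact (h.inj_A k).1
  have f := bi (fun x y y' => (ad x y y').1) (fun x x' y => by rw [← sy, ← sy, ← sy, (ad _ _ _).2]) wt
  exact ⟨m 1 1, fun x y => by
    rw [e, sy, f x y, f y x, mul_assoc (X.d y), mul_right_comm (m 1 1) x]⟩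

section
variable (dd : ∀ y y', X.d y * X.d y' = X.d (y + y') * X.z (κ * (y * y) * (y' * y')))
  (e : ∀ x y, X.q x * X.d y * (X.q x)⁻¹ = X.d y * X.a (γ * (x * x) * y) * X.z (γ * x * (y * y)))
include dd e

theorem mul_nf (hs : s ∈ X.Λ) (hs' : s' ∈ X.Λ) (x y m n x' y' m' n' : F4) :
    nf X x y s m n * nf X x' y' s' m' n' = nf X (x + x') (y + y') (s + s')
      (κ * (x * x) * (x' * x') + (γ * (x' * x') * y + (s * x' + (m + m'))))
      (κ * (y * y) * (y' * y') + (γ * x' * (y * y) + (s * y' + (n + n')))) := by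
  have h1 := h.toS1
  have c : ∀ {g x c}, Qa X g x c → (∀ m t, X.a m * (g * t) = g * (X.a m * t)) ∧
      ∀ m t, X.z m * (g * t) = g * (X.z m * t) := fun p =>
    ⟨fun m => sw (mem_C.1 p.cA _ (a_A m)), fun m => sw (mem_C.1 p.cA _ (z_A m))⟩
  have r := c (qa_E h1 (mem_sup_left (r_R hs)))
  have r' := c (qa_E h1 (mem_sup_left (r_R hs')))
  have qq : X.q x * X.q x' = X.q (x + x') * X.a (κ * (x * x) * (x' * x')) := by
    rw [q, q, conj_mul, dd, ← conj_mul, h.wz]; rfl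
  have dq : X.d y * X.q x' = X.q x' * (X.d y * (X.a (γ * (x' * x') * y) * X.z (γ * x' * (y * y)))) := by
    have k := az_A X (γ * (x' * x') * y) (γ * x' * (y * y))
    rw [← mul_assoc, mul_inv_eq_iff_eq_mul.1 (e x' y), mul_assoc (X.d y), mul_assoc (X.d y),
      mul_assoc (X.d y), mul_assoc, ← mem_C.1 (h.qq x').cA _ k, ← mul_assoc (_ * _), h.eaA.sq k,
      one_mul]
  have rq : X.r s * X.q x' = X.q x' * (X.r s * X.a (s * x')) := by
    have := ((h.qq x').inv h1).tr s hs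
    rw [mul_zero, h.z0, mul_one] at this
    rw [← this]; group
  have rd : X.r s * X.d y' = X.d y' * (X.r s * X.z (s * y')) := by
    have := ((h.qd y').inv h1).tr s hs
    rw [mul_zero, h.a0, one_mul] at this
    rw [← this]; group
  simp only [nf, mul_assoc, h.a_add, h.z_add, h.r_add s hs s' hs', (c (h.qq _)).1, (c (h.qq _)).2,
    (c (h.qd _)).1, (c (h.qd _)).2, r.1, r.2, r'.1, r'.2, sw3 rq, sw3 rd, sw3 dq, sw3 qq, sw3 (dd y y'),
    sw (h.az _ _)]

omit dd e in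
theorem inj_nf (hs : s ∈ X.Λ) (hs' : s' ∈ X.Λ) {x y m n m' n' : F4}
    (k : nf X x y s m n = nf X x y s' m' n') : s = s' ∧ m = m' ∧ n = n' := by
  simp only [nf, mul_assoc, mul_right_inj] at k
  have h1 := h.toS1
  have : s + s' = 0 := h.r_inj _ (add_mem hs hs') (mem_bot.1 (h.LK.le ⟨by
    rw [h.r_add s hs s' hs', show X.r s' = X.r s * (X.a m * X.z n) * (X.a m' * X.z n')⁻¹ by
      rw [k, mul_inv_cancel_right], ← mul_assoc, ← mul_assoc, h1.rr hs, one_mul]
    exact A_L h1 (mul_mem (az_A X _ _) (inv_mem (az_A X _ _))), h.rK _ (add_mem hs hs')⟩))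
  obtain rfl := (by decide : ∀ a b : F4, a + b = 0 → a = b) _ _ this
  exact ⟨rfl, h.inj_A (mul_left_cancel k)⟩

theorem main : κ = 0 ∧ X.Hf γ := by
  have h1 := h.toS1
  have z := zero_mem X.Λ
  have : ∀ y x, ∃ s ∈ X.Λ, ∃ m n, X.b y * X.q x * (X.b y)⁻¹ = nf X x (y * x) s m n := fun y x => by
    have p := (h.qq x).cjb h1 y
    rw [add_zero, mul_comm x] at p
    obtain ⟨e, he, e1⟩ := (h.qqd x (y * x)).eq h1 p
    obtain ⟨s, hs, m, n, rfl⟩ := h1.mem_E.1 he
    exact ⟨s, hs, m, n, by rw [e1, nf, ← mul_assoc, ← mul_assoc]⟩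
  choose s hs M F b using this
  have cb : ∀ y x c s m n, s ∈ X.Λ → X.b y * nf X x c s m n * (X.b y)⁻¹ =
      X.b y * X.q x * (X.b y)⁻¹ * nf X 0 c s m (m * y + n) := fun y x c s m n hs => by
    rw [nf, nf, mul_assoc _ (X.a m), mul_assoc _ (X.a m), ← conj_mul, ← conj_mul, ← conj_mul, b_az h1,
      conj_eq_of_mem_C (L_CR h1 (h.bL y)) (r_R hs),
      conj_eq_of_mem_C (cents_symm (le_refl C[X.S]) (b_S y)) (h.dS c), h.q0, one_mul]
    simp only [mul_assoc]
  have nq : ∀ x, X.q x = nf X x 0 0 0 0 := fun x => by simp [nf, h.d0, h1.r0, h.a0, h.z0]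
  have nd : ∀ x, X.d x = nf X 0 x 0 0 0 := fun x => by simp [nf, h.q0, h1.r0, h.a0, h.z0]
  have g : ∀ y x, s y x = γ * y * (x * x) := fun y x => by
    have k : X.b y * (X.d 1 * X.q x) * (X.b y)⁻¹ = X.d 1 * (X.b y * X.q x * (X.b y)⁻¹) := by
      rw [← conj_mul, conj_eq_of_mem_C (cents_symm (le_refl C[X.S]) (b_S y)) (h.dS 1)]
    rw [b, nd 1, h.mul_nf dd e z (hs y x), nq x, h.mul_nf dd e z z, cb _ _ _ _ _ _ (add_mem z z), b,
      h.mul_nf dd e (hs _ _) (add_mem z z)] at k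
    simp only [add_zero, zero_add, mul_zero, zero_mul, mul_one, add_comm 1 (y * x)] at k
    have k3 := (h.inj_nf (hs _ _) (hs _ _) k).2.2
    generalize s y x = S, F y x = F, κ * (y * x * (y * x)) = κ at k3
    clear * - k3
    revert γ S F x y κ
    decide +kernel
  have I : ∀ x y y', F (y + y') x = κ * (y' * x * (y' * x)) * (y * x * (y * x)) +
      (0 + (γ * y' * (x * x) * (y * x) + (F y' x + (M y x * y' + F y x)))) := fun x y y' => by
    have k : X.b (y + y') * X.q x * (X.b (y + y'))⁻¹ =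
      X.b y' * (X.b y * X.q x * (X.b y)⁻¹) * (X.b y')⁻¹ := by rw [add_comm, h.b_add]; group
    rw [b, b, cb _ _ _ _ _ _ (hs _ _), b, h.mul_nf dd e (hs _ _) (hs _ _), add_zero, ← add_mul,
      add_comm y' y] at k
    rw [(h.inj_nf (hs _ _) (add_mem (hs _ _) (hs _ _)) k).2.2, g, mul_zero, zero_mul]
  have F0 : ∀ x, F 0 x = 0 := fun x => by simpa using I x 0 0
  have k0 : κ = 0 := by
    have k1 := I 1 1 1
    have k2 := I 1 om om
    have k3 := (I 1 1 om).symm.trans ((congrArg (F · 1) (add_comm _ _)).trans (I 1 om 1))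
    rw [f4_add_self, F0] at k1 k2
    generalize M 1 1 = A, M om 1 = B, F 1 1 = C, F om 1 = D at k1 k2 k3
    clear * - k1 k2 k3
    revert κ γ A B C D
    decide
  have m : ∀ y x, M y x = γ * y * (x * x * x) := fun y x => by
    have k1 := I x y y
    have k2 := I x 0 1
    rw [f4_add_self, F0, k0] at k1
    rw [zero_add, F0, k0] at k2
    by_cases hy : y = 0
    · subst hy; simpa using k2
    generalize M y x = A, F y x = C at k1
    clear * - k1 hy
    revert γ A C x y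
    decide
  have F1 : ∀ x, F 1 x = 0 := fun x => by
    have k : X.w * (X.b 1 * X.q x * (X.b 1)⁻¹) * X.w⁻¹ = X.b 1 * X.q x * (X.b 1)⁻¹ :=
      calc _ = X.w * X.b 1 * X.w * X.d x * (X.w * X.b 1 * X.w)⁻¹ := by rw [q]; group
        _ = X.b 1 * X.w * (X.b 1 * X.d x * (X.b 1)⁻¹) * X.w⁻¹ * (X.b 1)⁻¹ := by rw [h.wb]; group
        _ = _ := by
          rw [conj_eq_of_mem_C (cents_symm (le_refl C[X.S]) (b_S 1)) (h.dS x), q]; group
    have w : ∀ x c s m n, s ∈ X.Λ → X.w * nf X x c s m n * X.w⁻¹ = X.d x * nf X c 0 s n m :=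
      fun x c s m n hs => by
        rw [nf, nf, mul_assoc _ (X.a m), ← conj_mul, ← conj_mul, ← conj_mul, w_az h1,
          conj_eq_of_mem_C (L_CR h1 h.wL) (r_R hs), h.wq, h.d0, mul_one, q]
        simp only [mul_assoc]
    rw [b, w _ _ _ _ _ (hs _ _), nd x, h.mul_nf dd e z (hs _ _), one_mul, zero_add, add_zero] at k
    have := (h.inj_nf (add_mem z (hs _ _)) (hs _ _) k).2.1
    simpa [m, mul_assoc] using this
  have Fh : ∀ y x, F (om * om * y) (om * om * x) = om * F y x := fun y x => by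
    have k := cj3 X.h (b y x)
    rw [h.hb, h.hq, b, nf.eq_1 X x, mul_assoc _ (X.a _), ← conj_mul, ← conj_mul, ← conj_mul, h_az h1,
      conj_eq_of_mem_C (L_CR h1 h.hL) (r_R (hs _ _)), h.hq, h.hd, ← mul_assoc _ (X.a _),
      (by decide : ∀ y x : F4, om * (y * x) = om * om * y * (om * om * x))] at k
    exact (h.inj_nf (hs _ _) (hs _ _) k).2.2
  have f : ∀ y x, F y x = 0 := orb2 (P := fun y x => F y x = 0) F0 F1 fun y x p => by
    have := Fh (om * om * y) (om * om * x)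
    rwa [Fh y, p, mul_zero, mul_zero, ← mul_assoc, ← mul_assoc _ _ x,
      (by decide : om * om * (om * om) = om)] at this
  exact ⟨k0, fun y x => g y x ▸ hs y x, e, fun y x => by rw [b, g, m, f, nf, h.z0, mul_one]⟩

end

theorem hf : (∀ x y, X.d (x + y) = X.d x * X.d y) ∧ ∃ γ, X.Hf γ := by
  obtain ⟨κ, dd⟩ := h.ex_κ
  obtain ⟨γ, e⟩ := h.ex_γ dd
  obtain ⟨rfl, f⟩ := h.main dd e
  exact ⟨fun x y => by rw [dd, zero_mul, zero_mul, h.z0, mul_one], γ, f⟩

theorem s3 : ∃ γ γ', X.S3 γ γ' :=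
  let ⟨a, γ, f⟩ := h.hf
  let ⟨_, γ', f'⟩ := h.symm.hf
  ⟨γ, γ', h.toS1, a, h.dS, h.hd, h.dr, h.dO, f, f'⟩

end D0

end H14.SuD
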