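import Mathlib
import Cfsg.Agent.H14.SuD2

/-! The parameters of `Q₁` and `Q₂`. -/

set_option autoImplicit false
set_option linter.unusedSectionVars false
set_option synthInstance.maxSize 4000

namespace H14.SuD

open H24 H24.Sz H24.Sz.Dat H26 H26.Gold Subgroup
open H9 (F4)

variable {G : Type*} [Group G] [Finite G] {X : Dat G} {γ γ' : F4}

/-- normal forms in `S D R`. -/
def nP (X : Dat G) (y s m n c : F4) : G := X.d y * X.r s * X.a m * X.b n * X.z c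

section
variable (h : X.S3 γ γ')
include h

theorem qb (x y : F4) : X.q x * X.b y * (X.q x)⁻¹ =
    X.d (y * x) * X.r (γ * y * (x * x)) * X.a (γ * y * (x * x * x)) * X.b y := by
  have i := add_inv h.q_add x
  have := h.f1.bq y x
  calc _ = (X.q x)⁻¹ * (X.b y * X.q x * (X.b y)⁻¹) * X.b y := by rw [i]; group
    _ = _ := by rw [this]; group

theorem nP_symm (y s m n c : F4) : nP X y s m n c = nP X.symm y s n m (m * n + c) := by
  change _ = X.d y * X.r s * X.b n * X.a m * X.z _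
  rw [nP, mul_assoc _ (X.a m), h.ab, h.z_add]
  simp only [mul_assoc]

variable (t : ∀ x, x ∈ X.Λ)
include t

theorem q_nP (x y s m n c : F4) : X.q x * nP X y s m n c * (X.q x)⁻¹ =
    nP X (y + n * x) (s + γ * n * (x * x)) (γ * (x * x) * y + (s * x + (m + γ * n * (x * x * x)))) n
      (s * (n * x) + (γ * x * (y * y) + c)) := by
  have h1 := h.toS1
  have rd : ∀ s y, X.r s * X.d y = X.d y * (X.r s * X.z (s * y)) := fun s y => by
    rw [← h.dr y s (t s), ← mul_assoc, ← mul_assoc, add_sq h.d_add, one_mul, add_inv h.d_add]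
  have ad : ∀ m y, X.a m * X.d y = X.d y * X.a m := fun m y => mem_C.1 (h.dS y) _ (a_S m)
  have zd : ∀ m y, X.z m * X.d y = X.d y * X.z m := fun m y => mem_C.1 (h.dS y) _ (z_S m)
  have ar : ∀ m y, X.a m * X.r y = X.r y * X.a m := fun m y => mem_C.1 (h.rK y (t y)) _ (h.aL m)
  have zr : ∀ m y, X.z m * X.r y = X.r y * X.z m := fun m y => mem_C.1 (h.rK y (t y)) _ (h.zL m)
  rw [nP, ← conj_mul, ← conj_mul, ← conj_mul, ← conj_mul, h.f1.qd, h.qr x (t s), qb h,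
    conj_eq_of_mem_C (h.qA x) (a_A _), conj_eq_of_mem_C (h.qA x) (z_A _)]
  simp only [nP, mul_assoc, h.a_add, h.z_add, h.d_add, h.r_add _ (t _) _ (t _), sw3 (rd _ _),
    sw (ad _ _), sw (zd _ _), sw (ar _ _), sw (zr _ _), sw (h.az _ _), sw (h.bz _ _)]

theorem q_nP' (x y s m n c : F4) : X.symm.q x * nP X y s m n c * (X.symm.q x)⁻¹ =
    nP X (y + m * x) (s + γ' * m * (x * x)) m (γ' * (x * x) * y + (s * x + (n + γ' * m * (x * x * x))))
      ((γ' * (x * x) * y + (s * x + (n + γ' * m * (x * x * x)))) * m +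
        (s * (m * x) + (γ' * x * (y * y) + (m * n + c)))) := by
  rw [nP_symm h, q_nP h.symm t, nP_symm h.symm, symm_symm]

theorem mul_eq (hγ : γ' ≠ 0) : γ * γ' = 1 := by
  by_contra hn
  have e : X.a 1 = nP X 0 0 1 0 0 := by
    simp [nP, add_zero' h.d_add, h.toS1.r0, h.b0, h.z0]
  obtain ⟨s, c, s0, k⟩ : ∃ s c, s ≠ 0 ∧ X.q (γ' * γ') * (X.symm.q 1 * X.a 1 * (X.symm.q 1)⁻¹) *
      (X.q (γ' * γ'))⁻¹ = nP X 0 s 0 γ' c := by
    rw [e, q_nP' h t, q_nP h t]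
    refine ⟨_, _, ?_, by congr 1 <;> (clear * - hγ; revert γ γ'; decide)⟩
    clear * - hγ hn; revert γ γ'; decide
  have k2 := (h.toS1.I_r (t s) s0).conj (X.symm.q (s⁻¹ * γ') * X.d (s⁻¹ * c))
  rw [show ∀ u v w : G, u * v * w * (u * v)⁻¹ = u * (v * w * v⁻¹) * u⁻¹ by intros; group,
    h.dr _ s (t s), ← conj_mul, conj_eq_of_mem_C (h.symm.qA _) (z_B _),
    show _ * X.r s * _ = X.r s * X.b _ from h.symm.qr _ (t s), mul_inv_cancel_left₀ s0,
    mul_inv_cancel_left₀ s0] at k2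
  rw [nP, add_zero' h.d_add, h.a0, one_mul, mul_one] at k
  exact h.IL _ (h.aL 1) (I_conj.1 (I_conj.1 (k ▸ k2)))

theorem ne_zero : γ ≠ 0 := by
  rintro rfl
  obtain rfl : γ' = 0 := by_contra fun e => by simpa using mul_eq h t e
  have k : ∀ c, X.d 1 * X.q 1 * X.symm.q 1 * X.q 1 * X.symm.q 1 * X.r c *
      (X.d 1 * X.q 1 * X.symm.q 1 * X.q 1 * X.symm.q 1)⁻¹ = X.r c * X.z (c * 1 + c * c) := fun c => by
    have e : ∀ s c, nP X 0 s 0 0 c = X.r s * X.z c := fun s c => by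
      simp [nP, add_zero' h.d_add, h.a0, h.b0]
    calc _ = X.d 1 * (X.q 1 * (X.symm.q 1 * (X.q 1 * (X.symm.q 1 * nP X 0 c 0 0 0 * (X.symm.q 1)⁻¹) *
          (X.q 1)⁻¹) * (X.symm.q 1)⁻¹) * (X.q 1)⁻¹) * (X.d 1)⁻¹ := by rw [e, h.z0]; group
      _ = X.d 1 * nP X 0 c 0 0 (c * c) * (X.d 1)⁻¹ := by
        rw [q_nP' h t, q_nP h t, q_nP' h t, q_nP h t]
        congr 3 <;> (clear * -; revert c; decide)
      _ = _ := by
        rw [e, ← conj_mul, h.dr 1 c (t c), conj_eq_of_mem_C (h.dS 1) (z_S _), h.z_add, mul_assoc]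
  have := h.toS1.tr (t 1) one_ne_zero ((k 1).trans (by rw [f4_add_self, h.z0, mul_one])) fun y hy => by
    rw [k, mul_assoc, mem_C.1 (h.rK y hy) _ (h.zL _), ← mul_assoc, h.toS1.rr hy, one_mul]
    exact h.zL _
  have k2 := k om
  rw [conj_eq_of_mem_C this (r_R (t om)), left_eq_mul] at k2
  exact absurd (h.z_inj _ k2) (by decide)

end

/-- a diagonal twist of the coordinates. -/
def tw (X : Dat G) : Dat G :=
  { X with
    a := fun x => X.a (om * om * x)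
    z := fun x => X.z (om * om * x)
    d := fun x => X.d (om * om * x)
    w' := X.h * X.w' * X.h⁻¹ }

theorem rg (f : F4 → G) : Set.range (fun x => f (om * om * x)) = Set.range f :=
  (show Function.Surjective fun x : F4 => om * om * x by decide).range_comp f

theorem tw_Z : (tw X).Z = X.Z := congrArg Subgroup.closure (rg X.z)
theorem tw_A : (tw X).A = X.A := congrArg₂ (· ⊔ ·) (congrArg Subgroup.closure (rg X.a)) tw_Z
theorem tw_B : (tw X).B = X.B := congrArg (Subgroup.closure (Set.range X.b) ⊔ ·) tw_Z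
theorem tw_S : (tw X).S = X.S := congrArg₂ (· ⊔ ·) tw_A tw_B

theorem unc {n u v : G} (h : n * u * n⁻¹ = v) : n⁻¹ * v * n = u := by rw [← h]; group

theorem tw_fr (h : X.Fr) : (tw X).Fr := by
  have o : ∀ x : F4, om * om * (om * x) = x := by decide
  refine ⟨fun x => h.aL _, h.bL, h.hL, h.wL, mul_mem (mul_mem h.hL h.wL') (inv_mem h.hL),
    fun x y => (mul_add _ x y ▸ h.a_add _ _ :), h.b_add, fun x y => (mul_add _ x y ▸ h.z_add _ _ :),
    fun _ _ => h.az _ _, fun _ _ => h.bz _ _, fun x y => (mul_assoc _ x y ▸ h.ba _ _ :),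
    fun c e => (mul_eq_zero.1 (h.z_inj _ e)).resolve_left (by decide), fun _ => h.ha _, h.hb,
    fun x => (mul_left_comm om _ x ▸ h.hz _ :), h.h3, fun _ => h.wa _, h.ww, h.wh, h.wb, fun x => ?_,
    conj_sq h.ww' _, ?_, ?_, fun M h1 h2 h3 h4 => ?_, fun l hl l1 l2 => ?_, fun l hl e => ?_, h.simple⟩
  · have := cj3 X.h (h.wa' (om * x))
    rwa [h.hb, o, h.hz, ← mul_assoc om] at this
  · have := cj3 X.h h.wh'
    rwa [mul_inv_cancel_right, mul_inv_cancel, one_mul] at this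
  · change X.h * X.w' * X.h⁻¹ * X.a _ * (X.h * X.w' * X.h⁻¹) = X.a _ * (X.h * X.w' * X.h⁻¹) * X.a _
    rw [← h.ha, conj_mul, conj_mul, conj_mul, conj_mul, h.wb']
  · have e : X.w = X.b 1 * (X.w * X.b 1 * X.w⁻¹) * X.b 1 := by
      rw [h.wi, h.wb]; simp only [← mul_assoc, h.bb, one_mul]; rw [mul_assoc, h.bb, mul_one]
    have e1 : X.h * X.w = X.w * (X.h * X.h) := by
      rw [eq_inv_of_mul_eq_one_left h.h3, ← h.wh, h.wi]
      simp only [← mul_assoc, h.ww, one_mul]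
    have e2 : X.h = X.w⁻¹ * (X.h * X.b 1 * X.h⁻¹ * (X.w * (X.h * (X.h * X.b 1 * X.h⁻¹) * X.h⁻¹) * X.w⁻¹) *
        (X.h * X.b 1 * X.h⁻¹)) :=
      calc _ = X.w⁻¹ * (X.h * X.w) * X.h⁻¹ := by rw [e1]; group
        _ = X.w⁻¹ * (X.h * (X.b 1 * (X.w * X.b 1 * X.w⁻¹) * X.b 1)) * X.h⁻¹ := by rw [← e]
        _ = X.w⁻¹ * (X.h * X.b 1 * X.h⁻¹ * (X.h * X.w * X.b 1 * (X.h * X.w)⁻¹) *
          (X.h * X.b 1 * X.h⁻¹)) := by group
        _ = _ := by rw [e1]; group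
    rw [h.hb, h.hb] at e2
    have m : X.h ∈ M := e2 ▸ mul_mem (inv_mem h3)
      (mul_mem (mul_mem (h2 _) (mul_mem (mul_mem h3 (h2 _)) (inv_mem h3))) (h2 _))
    exact h.gen M (fun x => o x ▸ h1 _) h2 h3
      (unc (n := X.h) (u := X.w') rfl ▸ mul_mem (mul_mem (inv_mem m) h4) m)
  · obtain ⟨m, hm, e⟩ := h.inv l hl l1 l2
    refine ⟨X.h * (X.h * m), mul_mem h.hL (mul_mem h.hL hm), ?_⟩
    change _ = X.z (om * om * 1)
    rw [mul_assoc om, ← h.hz, ← h.hz, ← e]; group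
  · have := h.cz (X.h * l * X.h⁻¹) (conj_mem (norm_self _ h.hL) hl) (by
      rw [show X.z 1 = X.h * (tw X).z 1 * X.h⁻¹ from ((h.hz _).trans (congrArg X.z (by decide))).symm, conj_mul, conj_mul, e])
    exact tw_S (X := X) ▸ (mem_N.1 (h_NS h) l).2 this

theorem tw_s3 (h : X.S3 γ γ') (t : ∀ x, x ∈ X.Λ) : (tw X).S3 (γ * om) (γ' * (om * om)) := by
  have q2 : ∀ x, (tw X).symm.q x = X.symm.q x := fun x => by
    have := cj3 X.h (u := X.w') (v := X.d (om * x)) (t := X.symm.q (om * x)) rfl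
    rwa [h.hd, ← mul_assoc om, show X.h * X.symm.q _ * X.h⁻¹ = _ from h.symm.hq _,
      (by decide : ∀ x : F4, om * om * (om * x) = x)] at this
  refine ⟨⟨⟨tw_fr h.toFr, h.tight, h.nc, h.ev⟩, h.one, h.r_add, h.rK, h.r_inj, h.sylR, h.IL⟩,
    fun x y => (mul_add _ x y ▸ h.d_add _ _ :), fun x => tw_S (X := X) ▸ h.dS _,
    fun x => (mul_left_comm om _ x ▸ h.hd _ :), fun x y hy => (mul_left_comm y _ x ▸ h.dr _ y hy :),
    fun _ => h.dO _, ⟨fun _ _ => t _, fun x y => (h.f1.qd _ _).trans ?_, fun y x => (h.f1.bq _ _).trans ?_⟩,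
    ⟨fun _ _ => t _, fun x y => q2 x ▸ (h.f2.qd _ _).trans ?_, fun y x => q2 x ▸ (h.f2.bq _ _).trans ?_⟩⟩
  · refine congrArg₂ (· * ·) (congrArg₂ (· * ·) rfl (congrArg X.a ?_)) (congrArg X.z ?_) <;>
      (clear * -; revert γ γ' x y; decide)
  · refine congrArg₂ (· * ·) (congrArg₂ (· * ·) (congrArg₂ (· * ·) rfl (congrArg X.d ?_)) (congrArg X.r ?_))
      (congrArg X.a ?_) <;> (clear * -; revert γ γ' x y; decide)
  · refine congrArg₂ (· * ·) (congrArg₂ (· * ·) rfl (congrArg X.b ?_)) (congrArg X.z ?_) <;>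
      (clear * -; revert γ γ' x y; decide)
  · refine congrArg₂ (· * ·) (congrArg₂ (· * ·) (congrArg₂ (· * ·) rfl (congrArg X.d ?_)) (congrArg X.r ?_))
      (congrArg X.b ?_) <;> (clear * -; revert γ γ' x y; decide)

theorem cases (h : X.S2) : (∃ X' : Dat G, X'.Cy) ∨ ∃ X' : Dat G, X'.NC := by
  obtain ⟨d, h⟩ := exists_d h
  obtain ⟨γ, γ', h⟩ := h.s3
  generalize { X with d := d } = X at h
  by_cases t : ∀ x, x ∈ X.Λ
  · have h1 := ne_zero h t
    obtain rfl := eq_inv_of_mul_eq_one_right (mul_eq h t (ne_zero h.symm t))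
    rcases (by decide : ∀ x : F4, x = 0 ∨ x = 1 ∨ x = om * om ∨ x = om) γ with rfl | rfl | rfl | rfl
    exacts [absurd rfl h1, .inr ⟨X, h, t⟩, .inr ⟨_, tw_s3 h t, t⟩, .inr ⟨_, tw_s3 (tw_s3 h t) t, t⟩]
  · have c : ∀ x ∈ X.Λ, x = 0 ∨ x = 1 := fun x hx => by
      by_contra hn
      refine t fun y => ?_
      rcases (by decide : ∀ x y : F4, ¬ (x = 0 ∨ x = 1) → y = 0 ∨ y = 1 ∨ y = x ∨ y = x + 1) x y hn
        with rfl | rfl | rfl | rfl
      exacts [zero_mem _, h.one, hx, add_mem hx h.one]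
    have k : ∀ γ : F4, (∀ y, γ * y * (1 * 1) = 0 ∨ γ * y * (1 * 1) = 1) → γ = 0 := by decide
    obtain rfl := k γ fun y => c _ (h.f1.lam y 1)
    obtain rfl := k γ' fun y => c _ (h.f2.lam y 1)
    exact .inl ⟨X, h, c⟩

end H14.SuD
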