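import Mathlib
import Cfsg.Agent.H12.U3b

/-! `SU₃(q)`, `q` even: torus, Bruhat decomposition, centre. -/

set_option autoImplicit false
set_option linter.unusedSectionVars false

namespace H14.UM

open Matrix hiding vec
open H12.U3

variable {F : Type*} [Field F] [Fintype F] [CharP F 2] {q : ℕ} {hF : Fintype.card F = q ^ 2}

local notation "σ" => H15.frob hF

/-- a diagonal matrix in the hyperbolic basis -/
def dmat (c m μ l : F) : Matrix (Fin 3) (Fin 3) F :=
  !![m * (1 + c) + l * c, m * (1 + c) + l * (c + 1), 0; m * c + l * c, m * c + l * (c + 1), 0; 0, 0, μ]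

theorem dmat_det (c m μ l : F) : (dmat c m μ l).det = m * μ * l := by
  simp [dmat, Matrix.det_fin_three]
  grind

theorem dmat_vec (c m μ l α β γ : F) : dmat c m μ l *ᵥ vec c α β γ = vec c (m * α) (μ * β) (l * γ) := by
  ext i
  fin_cases i <;> simp [dmat, vec, Matrix.mulVec, dotProduct, Fin.sum_univ_three] <;> grind

theorem σ_ne (k : Fˣ) : σ k ≠ 0 := (map_ne_zero σ).2 k.ne_zero

variable {c : F} (hc : H15.frob hF c = c + 1)

/-- an element of the torus -/
def h0 (k : Fˣ) : Cfsg.SU 3 F q := ⟨⟨dmat c (σ k)⁻¹ (σ k / k) k, by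
  have := σ_ne (hF := hF) k
  rw [dmat_det]; field_simp⟩, by
  intro u v
  show Cfsg.hermForm 3 F q (dmat _ _ _ _ *ᵥ u) (dmat _ _ _ _ *ᵥ v) = _
  obtain ⟨α, β, γ, rfl⟩ := exists_vec c u
  obtain ⟨α', β', γ', rfl⟩ := exists_vec c v
  have := σ_ne (hF := hF) k
  rw [dmat_vec, dmat_vec, herm_vec hc, herm_vec hc]
  simp only [map_mul, map_inv₀, map_div₀, ss]
  field_simp⟩

theorem act_h0 (k : Fˣ) (α β γ : F) :
    act (h0 hc k) (vec c α β γ) = vec c ((σ k)⁻¹ * α) (σ k / k * β) (k * γ) := dmat_vec ..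

/-- the torus -/
def hSU : Fˣ →* Cfsg.SU 3 F q := MonoidHom.mk' (h0 hc) fun k l => by
  have := σ_ne (hF := hF) k
  have := σ_ne (hF := hF) l
  refine ext_act c ?_ ?_ ?_ <;> simp only [act_mul, act_h0, Units.val_mul, map_mul] <;> congr 1 <;>
    field_simp

theorem act_h (k : Fˣ) (α β γ : F) :
    act (hSU hc k) (vec c α β γ) = vec c ((σ k)⁻¹ * α) (σ k / k * β) (k * γ) := act_h0 hc k α β γ

variable (hF) in
/-- the multiplier `k ^ (2 - q)` -/
def lam : Fˣ →* Fˣ := powMonoidHom 2 / Units.map (σ : F →* F)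

theorem lam_val (k : Fˣ) : (lam hF k : F) = k ^ 2 / σ k := by simp [lam]

theorem lam_nm (k : Fˣ) : (lam hF k : F) * σ (lam hF k) = k * σ k := by
  have := σ_ne (hF := hF) k
  rw [lam_val, map_div₀, map_pow, ss]
  field_simp

theorem h_u (k : Fˣ) (a : Uq hF) : hSU hc k * toSU a * (hSU hc k)⁻¹ = toSU (aut (lam hF k) a) := by
  have := σ_ne (hF := hF) k
  rw [mul_inv_eq_iff_eq_mul]
  refine ext_act c ?_ ?_ ?_ <;>
    simp only [act_mul, act_h, act_toSU, aut_x, aut_y, lam_nm] <;>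
    simp only [lam_val, map_mul, map_div₀, map_pow, ss] <;> congr 1 <;> field_simp

theorem t_t : tSU hc * tSU hc = 1 := by
  refine ext_act c ?_ ?_ ?_ <;> simp only [act_mul, act_tSU, act_one]

theorem t_h (k : Fˣ) : tSU hc * hSU hc k * tSU hc = hSU hc (Units.map (σ : F →* F) k)⁻¹ := by
  have := σ_ne (hF := hF) k
  refine ext_act c ?_ ?_ ?_ <;> simp only [act_mul, act_tSU, act_h] <;> congr 1 <;> simp [ss]
  field_simp

theorem det_act {g : Cfsg.SU 3 F q} {α β γ μ ν l : F} (h1 : act g (vec c 1 0 0) = vec c α β γ)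
    (h2 : act g (vec c 0 1 0) = vec c 0 μ ν) (h3 : act g (vec c 0 0 1) = vec c 0 0 l) :
    α * μ * l = 1 := by
  have e : g.1.1 * !![1 + c, 0, 1; c, 0, 1; 0, 1, 0] =
      !![1 + c, 0, 1; c, 0, 1; 0, 1, 0] * !![α, 0, 0; β, μ, 0; γ, ν, l] := by
    ext i j
    have k1 := congrFun h1 i
    have k2 := congrFun h2 i
    have k3 := congrFun h3 i
    fin_cases i <;> fin_cases j <;>
      simp [act, vec, Matrix.mulVec, dotProduct, Fin.sum_univ_three, Matrix.mul_apply] at k1 k2 k3 ⊢ <;>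
      grind
  have := congrArg det e
  rw [det_mul, det_mul, g.1.2] at this
  simp [Matrix.det_fin_three] at this
  grind

theorem fix_e {g : Cfsg.SU 3 F q} {l : F} (h : act g (vec c 0 0 1) = l • vec c 0 0 1) :
    ∃ (a : Uq hF) (k : Fˣ), g = toSU a * hSU hc k := by
  have hl := (act_w hc h).1
  have e3 : act (g * (hSU hc (Units.mk0 l hl))⁻¹) (vec c 0 0 1) = vec c 0 0 1 := by
    rw [act_mul, ← map_inv, act_h, mul_zero, mul_zero, ← mul_zero (((Units.mk0 l hl)⁻¹ : Fˣ) : F),
      ← smul_vec, act_smul, h, smul_smul]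
    simp [hl]
  generalize hg : g * (hSU hc (Units.mk0 l hl))⁻¹ = g' at e3
  obtain ⟨-, μ, ν, -, e2⟩ := act_w hc (e3.trans (one_smul _ _).symm)
  obtain ⟨α, β, γ, e1⟩ := exists_vec c (act g' (vec c 1 0 0))
  have k1 := herm_act g' (vec c 1 0 0) (vec c 0 0 1)
  rw [e1, e3, herm_vec hc, herm_vec hc] at k1
  have k2 := det_act e1 e2 e3
  obtain rfl : α = 1 := by simpa using k1
  obtain rfl : μ = 1 := by simpa using k2
  obtain ⟨a, ha⟩ := mem_range hc e3 e2
  exact ⟨a, Units.mk0 l hl, by rw [ha, ← hg, inv_mul_cancel_right]⟩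

include hc in
theorem iso_e (g : Cfsg.SU 3 F q) : (∃ l : F, act g (vec c 0 0 1) = l • vec c 0 0 1) ∨
    ∃ (l : F) (a : Uq hF), act g (vec c 0 0 1) = l • pt c a :=
  isotropic hc (by rw [herm_act, herm_vec hc]; simp)

theorem bruhat (g : Cfsg.SU 3 F q) : (∃ (a : Uq hF) (k : Fˣ), g = toSU a * hSU hc k) ∨
    ∃ (a b : Uq hF) (k : Fˣ), g = toSU a * tSU hc * (toSU b * hSU hc k) := by
  rcases iso_e hc g with ⟨l, e⟩ | ⟨l, a, e⟩
  · exact .inl (fix_e hc e)
  obtain ⟨b, k, e⟩ := fix_e hc (g := (toSU a * tSU hc)⁻¹ * g) (l := l) (by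
    rw [act_mul, e, act_smul, ← mul_one a, ← act_toSU_pt, pt_one, ← act_tSU hc, mul_one,
      ← act_mul (toSU a), act_inv_act])
  exact .inr ⟨a, b, k, by rw [← e, mul_inv_cancel_left]⟩

include hc in
theorem center_smul {z : Cfsg.SU 3 F q} (hz : z ∈ Subgroup.center _) :
    ∃ l : F, ∀ g : Cfsg.SU 3 F q, act z (act g (vec c 0 0 1)) = l • act g (vec c 0 0 1) := by
  obtain ⟨l, e, -⟩ := fix_of_mem_center hc hz
  exact ⟨l, fun g => by rw [← act_mul, ← Subgroup.mem_center_iff.1 hz, act_mul, e, act_smul]⟩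

theorem ti {g z : Cfsg.SU 3 F q} (hz : z ∈ Subgroup.center _) {a b : Uq hF} (h1 : a ≠ 1)
    (h : g * toSU a * g⁻¹ = toSU b * z) : ∃ (a : Uq hF) (k : Fˣ), g = toSU a * hSU hc k := by
  rcases iso_e hc g with ⟨l, e⟩ | ⟨l, d, e⟩
  · exact fix_e hc e
  obtain ⟨m, hm⟩ := center_smul hc hz
  have e2 := congrArg (act · (act g (vec c 0 0 1))) h
  simp only [act_mul, act_inv_act, act_toSU_e, hm] at e2
  have hl : l ≠ 0 := by
    rintro rfl
    have := congrArg (act g⁻¹) e
    rw [act_inv_act, act_smul, zero_smul, ← zero_smul F (vec c 0 0 1), smul_vec] at this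
    simpa using (vec_inj this).2.2
  rw [e, act_smul, act_smul, act_toSU_pt, pt, pt, smul_vec, smul_vec, smul_vec] at e2
  obtain ⟨e3, e4, e5⟩ := vec_inj e2
  obtain rfl : m = 1 := by simpa [hl] using e3
  obtain rfl : b = 1 := mul_right_cancel (b := d) (by
    rw [one_mul]
    ext
    · simpa [hl] using e4.symm
    · simpa [hl] using e5.symm)
  rw [map_one, one_mul] at h
  refine absurd (eq_one_of_mem_center ?_) h1
  rw [show toSU a = g⁻¹ * z * g⁻¹⁻¹ by rw [← h]; group]
  exact Subgroup.Normal.conj_mem inferInstance z hz _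

theorem h_center {k : Fˣ} : hSU hc k ∈ Subgroup.center _ ↔ lam hF k = 1 := by
  constructor
  · intro h
    obtain ⟨a, ha⟩ := exists_x_ne (hF := hF)
    have e := h_u hc k a
    rw [← Subgroup.mem_center_iff.1 h, mul_inv_cancel_right] at e
    have := congrArg (act · (vec c 0 1 0)) e
    simp only [act_toSU, aut_x] at this
    exact Units.ext (by simpa [ha] using (vec_inj this).2.2.symm)
  · intro h
    have k0 := σ_ne (hF := hF) k
    have e : σ k = k ^ 2 := by
      have := congrArg Units.val h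
      rw [lam_val, Units.val_one, div_eq_one_iff_eq k0] at this
      exact this.symm
    have e2 : (k : F) ^ 3 = 1 := by
      have := ss hF (k : F)
      rw [e, map_pow, e] at this
      exact mul_left_cancel₀ k.ne_zero (by linear_combination this)
    have key : ∀ v, act (hSU hc k) v = (k : F) • v := fun v => by
      obtain ⟨α, β, γ, rfl⟩ := exists_vec c v
      rw [act_h, smul_vec, e]
      congr 2
      · exact inv_eq_of_mul_eq_one_right (by linear_combination e2)
      · field_simp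
    refine Subgroup.mem_center_iff.2 fun g => ext_act c ?_ ?_ ?_ <;>
      rw [act_mul, act_mul, key, key, act_smul]

theorem of_center {z : Cfsg.SU 3 F q} (hz : z ∈ Subgroup.center _) :
    ∃ k, lam hF k = 1 ∧ z = hSU hc k := by
  obtain ⟨l, e, e'⟩ := fix_of_mem_center hc hz
  obtain ⟨a, k, rfl⟩ := fix_e hc e
  have := e' 1
  rw [pt_one, act_mul, act_h, act_toSU, smul_vec] at this
  obtain ⟨-, e2, e3⟩ := vec_inj this
  have k0 := σ_ne (hF := hF) k
  obtain rfl : a = 1 := by
    ext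
    · simpa [k0] using e2
    · simpa [k0] using e3
  rw [map_one, one_mul] at hz ⊢
  exact ⟨k, (h_center hc).1 hz, rfl⟩

theorem t_ne {z : Cfsg.SU 3 F q} (hz : z ∈ Subgroup.center _) (a : Uq hF) (k : Fˣ) :
    tSU hc ≠ toSU a * hSU hc k * z := fun e => by
  obtain ⟨l, -, rfl⟩ := of_center hc hz
  have := congrArg (act · (vec c 0 0 1)) e
  simp only [act_mul, act_tSU, act_h, act_toSU] at this
  simpa using (vec_inj this).1

theorem uh_center {a : Uq hF} {k : Fˣ} (h : toSU a * hSU hc k ∈ Subgroup.center _) :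
    a = 1 ∧ lam hF k = 1 := by
  obtain ⟨l, -, e⟩ := of_center hc h
  have := congrArg (act · (vec c 1 0 0)) e
  simp only [act_mul, act_h, act_toSU] at this
  obtain ⟨-, e2, e3⟩ := vec_inj this
  have k0 := σ_ne (hF := hF) k
  obtain rfl : a = 1 := by
    ext
    · simpa [k0] using e2
    · simpa [k0] using e3
  rw [map_one, one_mul] at h
  exact ⟨rfl, (h_center hc).1 h⟩

end H14.UM
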