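import Mathlib
import Cfsg.Agent.H14.UM0

/-! Central extensions of `SU₃(q)`, `q ≥ 4` even: the root group. -/

set_option autoImplicit false
set_option linter.unusedSectionVars false
set_option linter.unusedVariables false

namespace H14.UM

open H12.U3 Subgroup
open scoped commutatorElement

section gen

variable {M H : Type*} [Group M] [Group H] {φ : M →* H}

theorem tc [Finite M] (hM : Group.IsPerfect M) {A : Subgroup M} {x : M} (hx : x ∈ A)
    (hc : x ∈ center M) (h : A.index.Coprime (orderOf x)) : x ∈ ⁅A, A⁆ := by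
  let V : M →* Abelianization A := MonoidHom.transfer (Abelianization.of (G := A))
  have h2 : V x = 1 := Abelianization.commutator_subset_ker V
    (Group.IsPerfect.commutator_eq_top (G := M) ▸ mem_top x)
  have e := MonoidHom.transfer_eq_pow (Abelianization.of (G := A)) x fun k g _ => by
    rw [mul_assoc, ← mem_center_iff.1 (pow_mem hc k) g, inv_mul_cancel_left]
  have h4 := (Abelianization.ker_of A).le (e.symm.trans h2)
  have h5 : x ^ A.index ∈ ⁅A, A⁆ := by
    have := mem_map_of_mem A.subtype h4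
    rw [commutator_def, map_commutator, ← MonoidHom.range_eq_map, range_subtype] at this
    exact this
  obtain ⟨m, hm⟩ := exists_pow_eq_self_of_coprime h
  rw [← hm]
  exact pow_mem h5 m

theorem l1 {a b y : M} (h : a * ⁅b, y⁆ = ⁅b, y⁆ * a) : ⁅a * b, y⁆ = ⁅b, y⁆ * ⁅a, y⁆ := by
  rw [show ⁅a * b, y⁆ = a * ⁅b, y⁆ * a⁻¹ * ⁅a, y⁆ by simp only [commutatorElement_def]; group, h,
    mul_inv_cancel_right]

theorem l2 {a b y : M} (h : a * ⁅y, b⁆ = ⁅y, b⁆ * a) : ⁅y, a * b⁆ = ⁅y, a⁆ * ⁅y, b⁆ := by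
  rw [show ⁅y, a * b⁆ = ⁅y, a⁆ * (a * ⁅y, b⁆ * a⁻¹) by simp only [commutatorElement_def]; group, h,
    mul_inv_cancel_right]

theorem cg (g x y : M) : g * ⁅x, y⁆ * g⁻¹ = ⁅g * x * g⁻¹, g * y * g⁻¹⁆ := by
  simp only [commutatorElement_def]; group

variable (hk : φ.ker ≤ center M)
include hk

theorem ce {x : M} (e : φ x = 1) (y : M) : y * x = x * y := mem_center_iff.1 (hk e) y

theorem cjq {x x' : M} (e : φ x = φ x') (y : M) : x * y * x⁻¹ = x' * y * x'⁻¹ := by
  have := ce hk (x := x'⁻¹ * x) (by rw [map_mul, map_inv, e, inv_mul_cancel]) y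
  rw [show x * y * x⁻¹ = x' * (x'⁻¹ * x * y) * x⁻¹ by group, ← this]
  group

theorem cc {x x' y y' : M} (e : φ x = φ x') (e' : φ y = φ y') : ⁅x, y⁆ = ⁅x', y'⁆ := by
  rw [commutatorElement_def, cjq hk e, show x' * y * x'⁻¹ * y⁻¹ = x' * (y * x'⁻¹ * y⁻¹) by group,
    cjq hk e']
  group

end gen

variable {F : Type*} [Field F] [Fintype F] [CharP F 2] {q : ℕ} {hF : Fintype.card F = q ^ 2}

local notation "σ" => H15.frob hF

theorem exists_gen (hF : Fintype.card F = q ^ 2) :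
    ∃ g : Fˣ, ∀ n, g ^ n = 1 ↔ (q + 1) * (q - 1) ∣ n := by
  obtain ⟨g, hg⟩ := IsCyclic.exists_ofOrder_eq_natCard (α := Fˣ)
  exact ⟨g, fun n => by rw [← H15.card_units_sq hF, ← hg, orderOf_dvd_iff_pow_eq_one]⟩

theorem cube_of_lam {k : Fˣ} (h : lam hF k = 1) : (k : F) * σ k = k ^ 3 := by
  have := congrArg Units.val h
  rw [lam_val, Units.val_one, div_eq_one_iff_eq (σ_ne k)] at this
  rw [← this]; ring

theorem lam_fix {k : Fˣ} (h : σ k = k) : lam hF k = k :=
  Units.ext (by rw [lam_val, h]; field_simp)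

theorem exists_mu (hq : 4 ≤ q) : ∃ μ : Fˣ, (μ : F) * σ μ = 1 ∧ lam hF μ ≠ 1 := by
  obtain ⟨g, hg⟩ := exists_gen hF
  have e : ((g ^ (q - 1) : Fˣ) : F) * σ (g ^ (q - 1) : Fˣ) = 1 := by
    rw [H15.mul_frob, ← Units.val_pow_eq_pow_val, ← pow_mul, mul_comm, (hg _).2 dvd_rfl, Units.val_one]
  refine ⟨_, e, fun h => ?_⟩
  rw [cube_of_lam h, ← Units.val_pow_eq_pow_val, ← pow_mul, Units.val_eq_one, hg, mul_comm] at e
  have := Nat.le_of_dvd three_pos (Nat.dvd_of_mul_dvd_mul_left (by omega) e)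
  omega

theorem exists_k0 (hq : 4 ≤ q) : ∃ k : Fˣ, (k : F) * σ k ≠ 1 := by
  obtain ⟨g, hg⟩ := exists_gen hF
  refine ⟨g, fun e => ?_⟩
  rw [H15.mul_frob, ← Units.val_pow_eq_pow_val, Units.val_eq_one, hg] at e
  have := Nat.le_of_dvd one_pos (Nat.dvd_of_mul_dvd_mul_left (by omega) (e.trans (mul_one _).symm.dvd))
  omega

theorem exists_lam (hq : 4 ≤ q) :
    ∃ k l : Fˣ, (lam hF l : F) = lam hF k + 1 ∧ (lam hF k : F) ^ 3 ≠ 1 := by
  obtain ⟨g, hg⟩ := exists_gen hF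
  have ne : ∀ {k : Fˣ}, (k : F) ^ 3 ≠ 1 → (k : F) + 1 ≠ 0 := fun h e => h (by grind)
  rcases hq.eq_or_lt with rfl | hq
  · have s : Function.Surjective (lam hF) := Finite.injective_iff_surjective.1
      ((injective_iff_map_eq_one _).2 fun k h => by
        have := cube_of_lam h
        rw [H15.mul_frob] at this
        have h2 : ((k : F) + 1) ^ 2 = 0 := mul_left_cancel₀ (pow_ne_zero 3 k.ne_zero) (by grind)
        have h3 := pow_eq_zero_iff two_ne_zero |>.1 h2
        exact Units.ext (by rw [Units.val_one]; grind))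
    have h : (g : F) ^ 3 ≠ 1 := by
      rw [← Units.val_pow_eq_pow_val, Ne, Units.val_eq_one, hg]; decide
    obtain ⟨k, rfl⟩ := s g
    obtain ⟨l, e⟩ := s (Units.mk0 _ (ne h))
    exact ⟨k, l, by rw [e]; rfl, h⟩
  have e : σ (g ^ (q + 1) : Fˣ) = (g ^ (q + 1) : Fˣ) := by
    rw [Units.val_pow_eq_pow_val, ← H15.mul_frob hF, map_mul, ss, mul_comm]
  have h : ((g ^ (q + 1) : Fˣ) : F) ^ 3 ≠ 1 := fun e => by
    rw [← Units.val_pow_eq_pow_val, ← pow_mul, Units.val_eq_one, hg] at e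
    have := Nat.le_of_dvd three_pos (Nat.dvd_of_mul_dvd_mul_left (by omega) e)
    omega
  exact ⟨_, Units.mk0 _ (ne h), by rw [lam_fix e, lam_fix (by rw [Units.val_mk0, map_add, e, map_one])]; rfl, by rwa [lam_fix e]⟩

theorem bi0 (hq : 4 ≤ q) {M : Type*} [Group M] (D : F → F → M)
    (h1 : ∀ a a' b, D (a + a') b = D a b * D a' b) (h2 : ∀ a b b', D a (b + b') = D a b * D a b')
    (h3 : ∀ (k : Fˣ) a b, D (lam hF k * a) (lam hF k * b) = D a b) (a b : F) : D a b = 1 := by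
  obtain ⟨k, l, e, h⟩ := exists_lam (hF := hF) hq
  have k0 := (lam hF k).ne_zero
  have l0 := (lam hF l).ne_zero
  have h4 : ∀ (k : Fˣ) b, D (lam hF k * a) b = D a ((lam hF k : F)⁻¹ * b) := fun k b => by
    rw [← h3 k a, mul_inv_cancel_left₀ (lam hF k).ne_zero]
  have h5 : ∀ b, D a ((lam hF l : F)⁻¹ * b) = D a ((lam hF k : F)⁻¹ * b + b) := fun b => by
    rw [← h4, h2, ← h4, ← h1, e, add_mul, one_mul]
  have n : (lam hF k : F) ^ 2 + lam hF k + 1 ≠ 0 := fun e => h (by grind)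
  have h6 := h5 (lam hF k * lam hF l * b / ((lam hF k : F) ^ 2 + lam hF k + 1))
  rw [show (lam hF k : F)⁻¹ * _ + _ = (lam hF l : F)⁻¹ * (lam hF k * lam hF l * b /
    ((lam hF k : F) ^ 2 + lam hF k + 1)) + b by rw [e] at l0 ⊢; field_simp; grind, h2] at h6
  exact (left_eq_mul.1 h6)

variable (hF) in
/-- the central elements of the root group -/
def ze (y : F) : Uq hF := ⟨0, y + σ y, by simp [ss]; grind⟩

@[simp] theorem ze_x (y : F) : (ze hF y).x = 0 := rfl
@[simp] theorem ze_y (y : F) : (ze hF y).y = y + σ y := rfl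

theorem ze_add (a b : F) : ze hF (a + b) = ze hF a * ze hF b := by ext <;> simp; ring

theorem ze_sq (a : F) : ze hF a * ze hF a = 1 := mul_self_eq_one.2 rfl

theorem ze_comm (a : F) (b : Uq hF) : b * ze hF a = ze hF a * b :=
  mem_center_iff.1 (mem_center.2 rfl) b

theorem exists_ze {d : Uq hF} (h : d.x = 0) : ∃ e, d = ze hF e := by
  obtain ⟨c, hc⟩ := exists_c (hF := hF)
  have := d.rel
  refine ⟨d.y * c, ?_⟩
  ext
  · exact h
  · simp [hc]; grind

theorem comm_eq (a b : Uq hF) : ⁅a, b⁆ = ze hF (a.x * σ b.x) := by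
  have := a.rel
  have := b.rel
  ext <;> simp [commutatorElement_def, ss] <;> grind

theorem aut_ze (l : Fˣ) (a : F) : aut l (ze hF a) = ze hF (l * σ l * a) := by
  ext <;> simp [aut_x, aut_y, ss]
  ring

theorem cov2 (hq : 4 ≤ q) {M H : Type*} [Group M] [Group H] {φ : M →* H} (hk : φ.ker ≤ center M)
    (hs : Function.Surjective φ) {u : Uq hF →* H} {τ : Fˣ →* H} (ui : ∀ a, u a = 1 → a = 1)
    (h_u : ∀ k a, τ k * u a * (τ k)⁻¹ = u (aut (lam hF k) a)) {x : M} (hx : φ x = 1)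
    (hA : x ∈ ⁅u.range.comap φ, u.range.comap φ⁆) : x = 1 := by
  have two : (2 : F) = 0 := CharTwo.two_eq_zero
  choose U hU using fun a : Uq hF => hs (u a)
  choose h hh using fun k => hs (τ k)
  choose t ht using exists_y (hF := hF)
  let s : F → Uq hF := fun a => ⟨a, t a, ht a⟩
  have hu : ∀ {x a} k, φ x = u a → φ (h k * x * (h k)⁻¹) = u (aut (lam hF k) a) :=
    fun k e => by rw [map_mul, map_mul, map_inv, hh, e, h_u]
  have g1 : ∀ {x y a b}, φ x = u a → φ y = u b → φ ⁅x, y⁆ = u (ze hF (a.x * σ b.x)) :=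
    fun e e' => by rw [map_commutatorElement, e, e', ← map_commutatorElement, comm_eq]
  have sz : ∀ {x w} {a : Uq hF} {b}, φ x = u a → φ w = u (ze hF b) → x * w = w * x := by
    intro x w a b e e'
    have z : ∀ a, φ ⁅U a, w⁆ = 1 := fun a => by
      rw [map_commutatorElement, hU, e', ← map_commutatorElement,
        commutatorElement_eq_one_iff_mul_comm.2 (ze_comm b a), map_one]
    let f : Uq hF →* M := MonoidHom.mk' (fun a => ⁅U a, w⁆) fun a a' =>
      (cc hk (by rw [map_mul, hU, hU, hU, map_mul]) rfl).trans ((l1 (ce hk (z _) _)).trans (ce hk (z _) _))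
    obtain ⟨μ, m1, m2⟩ := exists_mu (hF := hF) hq
    have m3 : (lam hF μ : F) + 1 ≠ 0 := fun e => m2 (Units.ext (CharTwo.add_eq_zero.1 e))
    have f1 : ∀ a, f (aut (lam hF μ) a) = f a := fun a =>
      (cc hk ((hU _).trans (hu μ (hU a)).symm) (e'.trans (by
        rw [hu μ e', aut_ze, lam_nm, m1, one_mul]))).trans (by
          rw [← cg, ce hk (z a), mul_inv_cancel_right]; rfl)
    let d := s (a.x / (lam hF μ + 1))
    obtain ⟨y, hy⟩ := exists_ze (d := (d⁻¹ * aut (lam hF μ) d)⁻¹ * a) (by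
      simp [aut_x, d, s]; field_simp; linear_combination (1 + lam hF μ) * a.x * two - a.x * lam hF μ * two)
    rw [← commutatorElement_eq_one_iff_mul_comm, cc hk (e.trans (hU a).symm) rfl]
    change f a = 1
    rw [inv_mul_eq_iff_eq_mul.1 hy, map_mul, map_mul, f1, map_inv, inv_mul_cancel, one_mul,
      show ze hF y = ⁅s y, s 1⁆ by simp [comm_eq, s], map_commutatorElement,
      commutatorElement_eq_one_iff_mul_comm]
    exact ce hk (z _) _
  obtain ⟨k0, hk0⟩ := exists_k0 (hF := hF) hq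
  have c0 : k0 * σ k0 + 1 ≠ 0 := fun e => hk0 (CharTwo.add_eq_zero.1 e)
  have c1 : σ (k0 * σ k0 + 1) = k0 * σ k0 + 1 := by simp [ss, mul_comm]
  let ψ : F → M := fun b => ⁅h k0, U (ze hF (b / (k0 * σ k0 + 1)))⁆
  have p1 : ∀ b, φ (ψ b) = u (ze hF b) := fun b => by
    change φ ⁅_, _⁆ = _
    rw [commutatorElement_def, map_mul, hu k0 (hU _), map_inv, hU, ← map_inv, ← map_mul, aut_ze,
      lam_nm, inv_eq_of_mul_eq_one_right (ze_sq _), ← ze_add]
    congr 2
    field_simp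
  have p2 : ∀ a b, ψ (a + b) = ψ a * ψ b := fun a b =>
    (cc hk rfl (by rw [map_mul, hU, hU, hU, ← map_mul, ← ze_add, add_div])).trans
      (l2 (sz (hU _) (p1 b)))
  have p0 : ∀ b, ze hF b = 1 → ψ b = 1 := fun b e => (cc hk rfl (y' := 1) (by
    rw [hU, map_one, ← map_one u]
    congr 1
    ext
    · rfl
    · rw [ze_y, map_div₀, c1, ← add_div, ← ze_y, e]; simp)).trans (commutatorElement_one_right _)
  have pp : ∀ b, ψ b * ψ b = 1 := fun b => by rw [← p2, p0 _ (by rw [ze_add, ze_sq])]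
  have p3 : ∀ k b, h k * ψ b * (h k)⁻¹ = ψ (k * σ k * b) := fun k b => (cg _ _ _).trans (cc hk
    (by rw [map_mul, map_mul, map_inv, hh, hh, ← map_mul, mul_comm, map_mul, mul_inv_cancel_right])
    (by rw [hu k (hU _), hU, aut_ze, lam_nm, mul_div_assoc]))
  have cj2 : ∀ {x y} {a b : Uq hF}, φ x = u a → φ y = u b →
      x * y * x⁻¹ = U (s a.x) * y * (U (s a.x))⁻¹ := fun {x y a b} e e' => by
    obtain ⟨d, hd⟩ := exists_ze (d := (s a.x)⁻¹ * a) (CharTwo.add_self_eq_zero _)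
    rw [cjq hk (x' := U (s a.x) * ψ d) (by rw [map_mul, hU, p1, e, ← hd, ← map_mul]; simp),
      mul_assoc (U _), ← sz e' (p1 d)]
    group
  have cc2 : ∀ {x y} {a b : Uq hF}, φ x = u a → φ y = u b → ⁅x, y⁆ = ⁅U (s a.x), U (s b.x)⁆ :=
    fun {x y a b} e e' => by
      rw [commutatorElement_def, cj2 e e', show ∀ x : M, x * y * x⁻¹ * y⁻¹ = x * (y * x⁻¹ * y⁻¹) from
        fun _ => by group, cj2 e' (by rw [map_inv, hU, ← map_inv])]
      group
  have g2 : ∀ a b, φ ⁅U (s a), U (s b)⁆ = u (ze hF (a * σ b)) := fun a b => g1 (hU _) (hU _)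
  have key := bi0 (hF := hF) hq (fun a b => ⁅U (s a), U (s b)⁆ * ψ (a * σ b))
    (fun a a' b => by
      have := cc2 (x := U (s a') * U (s a)) (by rw [map_mul, hU, hU, ← map_mul]) (hU (s b))
      rw [l1 (sz (hU _) (g2 _ _)), mul_x, add_comm] at this
      rw [add_mul, p2, ← this, mul_assoc, mul_assoc, ← mul_assoc ⁅U (s a'), _⁆,
        sz (g2 a' b) (p1 _), mul_assoc])
    (fun a b b' => by
      have := cc2 (y := U (s b) * U (s b')) (hU (s a)) (by rw [map_mul, hU, hU, ← map_mul])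
      rw [l2 (sz (hU _) (g2 _ _)), mul_x] at this
      rw [map_add, mul_add, p2, ← this, mul_assoc, mul_assoc, ← mul_assoc ⁅_, U (s b')⁆,
        sz (g2 a b') (p1 _), mul_assoc])
    fun k a b => by
      have := cc2 (hu k (hU (s a))) (hu k (hU (s b)))
      rw [aut_x, aut_x, ← cg] at this
      rw [map_mul, mul_mul_mul_comm, lam_nm, ← p3, ← this, conj_mul,
        ce hk (x := _ * ψ _) (by rw [map_mul, g2, p1, ← map_mul, ze_sq, map_one]), mul_inv_cancel_right]
  let Y : Subgroup M :=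
    { carrier := {g | ∃ b, g = ψ b}
      mul_mem' := by rintro _ _ ⟨a, rfl⟩ ⟨b, rfl⟩; exact ⟨_, (p2 a b).symm⟩
      one_mem' := ⟨0, (p0 0 (by ext <;> simp)).symm⟩
      inv_mem' := by rintro _ ⟨a, rfl⟩; exact ⟨a, inv_eq_of_mul_eq_one_right (pp a)⟩ }
  obtain ⟨b, rfl⟩ := (commutator_le (H₁ := u.range.comap φ) (H₂ := u.range.comap φ)
    (H₃ := Y)).2 (fun x ⟨a, e⟩ y ⟨b, e'⟩ => ⟨a.x * σ b.x, by
    rw [cc2 e.symm e'.symm, eq_inv_of_mul_eq_one_left (key a.x b.x),
      inv_eq_of_mul_eq_one_right (pp _)]⟩) hA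
  exact p0 b (ui _ ((p1 b).symm.trans hx))

end H14.UM
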