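import Mathlib
import Cfsg.Agent.H14.UM1
import Cfsg.Agent.H24.Base5
import Cfsg.Agent.H2.FpfAction

/-! `SU₃(q)`, `q ≥ 4` even, has no proper perfect central extension. -/

set_option autoImplicit false
set_option linter.unusedSectionVars false
set_option linter.unusedVariables false

namespace H14.UM

open Matrix hiding vec
open H12.U3 Subgroup H24
open scoped commutatorElement

section gen

variable {M H : Type*} [Group M] [Group H] {φ : M →* H}

theorem cyc_of_fpf {V : Type*} [Finite H] [AddCommGroup V] [Finite V] [Nontrivial V]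
    [DistribMulAction H V] {p : ℕ} [Fact p.Prime] (hP : IsPGroup p H) (p2 : p ≠ 2)
    (h : ∀ g : H, g ≠ 1 → ∀ v : V, g • v = v → v = 0) : IsCyclic H := by
  let ρ : H →* MulAut (Multiplicative V) :=
    (MulAutMultiplicative V).symm.toMonoidHom.comp (DistribMulAction.toAddAut H V)
  have : Finite (Multiplicative V ⋊[ρ] H) := Finite.of_equiv _ SemidirectProduct.equivProd.symm
  have n : (SemidirectProduct.inl : _ →* Multiplicative V ⋊[ρ] H).range.Normal := by
    rw [SemidirectProduct.range_inl_eq_ker_rightHom]; infer_instance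
  have := (H2.isCyclic_or_quaternion_of_fpf
    (P := (SemidirectProduct.inr : _ →* Multiplicative V ⋊[ρ] H).range)
    (K := (SemidirectProduct.inl : _ →* Multiplicative V ⋊[ρ] H).range) (fun e => by
      obtain ⟨v, hv⟩ := exists_ne (1 : Multiplicative V)
      exact hv (SemidirectProduct.inl_injective ((mem_bot.1 (e.le ⟨v, rfl⟩)).trans (map_one _).symm)))
    le_normalizer_of_normal (by
      rintro _ ⟨g, rfl⟩ g1
      refine eq_bot_iff.2 ?_
      rintro _ ⟨⟨v, rfl⟩, hv⟩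
      have e := congrArg SemidirectProduct.left (mem_centralizer_singleton_iff.1 hv)
      simp only [SemidirectProduct.mul_left, SemidirectProduct.left_inl, SemidirectProduct.left_inr,
        map_one, mul_one, one_mul, SemidirectProduct.right_inr] at e
      rw [show v = 1 from h g (fun e => g1 (by rw [e, map_one])) v.toAdd e.symm, map_one]
      exact one_mem _)
    (hP.of_surjective _ (MonoidHom.rangeRestrict_surjective _))).resolve_right fun h => p2 h.1
  exact (MonoidHom.ofInjective SemidirectProduct.inr_injective).isCyclic.2 this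

theorem three_dvd {D : Subgroup H} {s : H} (n : s ∈ N[D]) (h3 : s ^ 3 = 1) (h : s ∉ D) :
    3 ∣ D.relIndex (D ⊔ zpowers s) := by
  have n2 := (nml_sup_left (zpowers_le.2 n)).normal
  by_contra e
  obtain ⟨m, hm⟩ := exists_pow_eq_self_of_coprime (x := s) (((Nat.Prime.coprime_iff_not_dvd
    Nat.prime_three).2 e).symm.coprime_dvd_right (orderOf_dvd_of_pow_eq_one h3))
  have : s ^ D.relIndex (D ⊔ zpowers s) ∈ D :=
    pow_index_mem (D.subgroupOf (D ⊔ zpowers s)) ⟨_, mem_sup_right (mem_zpowers s)⟩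
  exact h (hm ▸ pow_mem this m)

variable (hk : φ.ker ≤ center M) (hs : Function.Surjective φ)
include hk hs

theorem cyc_ab (T : Subgroup H) [IsCyclic T] : ⁅T.comap φ, T.comap φ⁆ = ⊥ := by
  obtain ⟨⟨g, hg⟩, h⟩ := IsCyclic.exists_generator (α := T)
  obtain ⟨g, rfl⟩ := hs g
  refine eq_bot_iff.2 (commutator_le.2 fun x hx y hy => ?_)
  obtain ⟨m, e⟩ := h ⟨_, hx⟩
  obtain ⟨n, e'⟩ := h ⟨_, hy⟩
  rw [cc hk (x' := g ^ m) (y' := g ^ n) (by rw [map_zpow]; exact congrArg Subtype.val e.symm)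
    (by rw [map_zpow]; exact congrArg Subtype.val e'.symm), mem_bot,
    commutatorElement_eq_one_iff_commute]
  exact Commute.zpow_zpow_self g m n

theorem gruen (hM : Group.IsPerfect M) {d : M} (h : φ d ∈ center H) : d ∈ center M := by
  rw [← Group.IsPerfect.upperCentralSeries_eq_center M two_ne_zero,
    Subgroup.mem_upperCentralSeries_succ_iff, Subgroup.upperCentralSeries_one]
  exact fun y => hk (by
    rw [MonoidHom.mem_ker, map_commutatorElement, commutatorElement_eq_one_iff_mul_comm,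
      mem_center_iff.1 h])

theorem two_ab (h2 : ∀ x, φ x = 1 → x * x = 1 → x = 1) {D : Subgroup H} {a b s : H}
    (hab : a * b = b * a) (e1 : s * a * s⁻¹ = b) (e2 : s * b * s⁻¹ = a)
    (hD : ∀ d ∈ D, ∃ m n : ℤ, d = a ^ m * b ^ n) : Abl (D.comap φ) := by
  obtain ⟨a, rfl⟩ := hs a
  obtain ⟨b, rfl⟩ := hs b
  obtain ⟨s, rfl⟩ := hs s
  have c : φ ⁅a, b⁆ = 1 := by rwa [map_commutatorElement, commutatorElement_eq_one_iff_mul_comm]
  have e : ⁅a, b⁆ = ⁅b, a⁆ := by
    rw [← cc hk (x := s * a * s⁻¹) (y := s * b * s⁻¹) (x' := b) (y' := a) (by simpa using e1)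
      (by simpa using e2), ← cg, ce hk c, mul_inv_cancel_right]
  have k : Commute a b := commutatorElement_eq_one_iff_commute.1 (h2 _ c (by
    nth_rw 1 [e]; rw [← commutatorElement_inv, inv_mul_cancel]))
  refine abl_iff.2 fun x hx => mem_C.2 fun y hy => ?_
  obtain ⟨m, n, e⟩ := hD _ hx
  obtain ⟨m', n', e'⟩ := hD _ hy
  rw [← commutatorElement_eq_one_iff_mul_comm, cc hk (x' := a ^ m' * b ^ n') (y' := a ^ m * b ^ n)
    (by simpa using e') (by simpa using e), commutatorElement_eq_one_iff_commute]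
  exact ((Commute.zpow_zpow_self a _ _).mul_right (k.zpow_zpow _ _)).mul_left
    ((k.symm.zpow_zpow _ _).mul_right (Commute.zpow_zpow_self b _ _))

theorem covD [Finite M] (hM : Group.IsPerfect M) {D : Subgroup H} (hA : Abl (D.comap φ)) {s : H}
    (hn : s ∈ N[D]) (hc : ∀ d ∈ D, s * d = d * s → d ∈ center H) {x : M} (hx : φ x = 1)
    (h : x ∈ ⁅(D ⊔ zpowers s).comap φ, (D ⊔ zpowers s).comap φ⁆) : x = 1 := by
  obtain ⟨s, rfl⟩ := hs s
  have n1 : ∀ {d}, d ∈ D.comap φ → s * d * s⁻¹ ∈ D.comap φ := fun hd => by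
    simpa using conj_mem hn hd
  have n2 : ∀ {d}, d ∈ D.comap φ → ⁅s, d⁆ ∈ D.comap φ := fun hd => mul_mem (n1 hd) (inv_mem hd)
  have m : ∀ {a b}, a ∈ D.comap φ → b ∈ D.comap φ → ⁅s, a * b⁆ = ⁅s, a⁆ * ⁅s, b⁆ := fun ha hb =>
    l2 (hA.comm ha (n2 hb))
  let Y : Subgroup M :=
    { carrier := {g | ∃ d ∈ D.comap φ, g = ⁅s, d⁆}
      mul_mem' := by rintro _ _ ⟨a, ha, rfl⟩ ⟨b, hb, rfl⟩; exact ⟨_, mul_mem ha hb, (m ha hb).symm⟩
      one_mem' := ⟨1, one_mem _, by simp⟩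
      inv_mem' := by
        rintro _ ⟨a, ha, rfl⟩
        exact ⟨_, inv_mem ha, inv_eq_of_mul_eq_one_right (by rw [← m ha (inv_mem ha)]; simp)⟩ }
  have k : ∀ n : ℕ, ∀ d ∈ D.comap φ, ⁅s ^ n, d⁆ ∈ Y := fun n d hd => by
    induction n with
    | zero => simp
    | succ n ih =>
      obtain ⟨d', hd', e⟩ := ih
      refine ⟨_, mul_mem (n1 hd') hd, ?_⟩
      rw [m (n1 hd') hd, pow_succ', show ⁅s * s ^ n, d⁆ = s * ⁅s ^ n, d⁆ * s⁻¹ * ⁅s, d⁆ by
        simp only [commutatorElement_def]; group, e, cg, mul_inv_cancel_right]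
  have e : (D ⊔ zpowers (φ s)).comap φ = D.comap φ ⊔ zpowers s := by
    rw [← MonoidHom.map_zpowers, ← map_comap_eq_self_of_surjective hs D, ← Subgroup.map_sup,
      comap_map_eq, map_comap_eq_self_of_surjective hs,
      sup_eq_left.2 ((ker_le_comap φ D).trans le_sup_left)]
  rw [e, der1_sup (zpowers_le.2 (mem_N_of_finite fun _ => n1)), der1_eq_bot.2 hA,
    der1_eq_bot.2 (abl_zpowers s), bot_sup_eq, sup_bot_eq, commutator_comm] at h
  obtain ⟨d, hd, rfl⟩ := (commutator_le (H₃ := Y)).2 (fun y hy d hd => by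
    obtain ⟨n, rfl⟩ := mem_powers_iff_mem_zpowers.2 hy
    exact k n d hd) h
  rw [map_commutatorElement, commutatorElement_eq_one_iff_mul_comm] at hx
  exact commutatorElement_eq_one_iff_mul_comm.2 (mem_center_iff.1 (gruen hk hs hM (hc _ hd hx)) s)

end gen

variable {F : Type*} [Field F] [Fintype F] [CharP F 2] {q : ℕ} {hF : Fintype.card F = q ^ 2}

local notation "σ" => H15.frob hF
local notation "NN" => MonoidHom.ker (powMonoidHom (q + 1) : Fˣ →* Fˣ)

theorem card_SU {s : ℕ} (hF : Fintype.card F = (s + 1) ^ 2) : Nat.card (Cfsg.SU 3 F (s + 1)) =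
    (s + 1) ^ 3 * ((s + 2) * s) * ((s + 2) * (s ^ 2 + s + 1)) := by
  have := H7.card_su hF 3 (by norm_num)
  simp only [Finset.prod_range_succ, Finset.prod_range_zero] at this
  norm_num [show ¬ Even 1 by decide, show Even 2 by decide] at this
  rw [show (s + 1) ^ 2 - 1 = (s + 2) * s from Nat.sub_eq_of_eq_add (by ring)] at this
  exact Nat.eq_of_mul_eq_mul_left (by omega : 0 < s + 1 + 1) (this.trans (by ring))

theorem toSU_inj : Function.Injective (toSU (hF := hF)) := (injective_iff_map_eq_one _).2 fun a e =>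
  eq_one_of_mem_center (e ▸ one_mem _)

theorem hSU_inj {c : F} (hc : σ c = c + 1) : Function.Injective (hSU hc) :=
  (injective_iff_map_eq_one _).2 fun k e => by
    have := act_h hc k 0 0 1
    rw [e, act_one] at this
    exact Units.ext (by simpa using (vec_inj this).2.2.symm)

theorem nn (a : NN) : (a.1 : F) * σ a.1 = 1 := by
  rw [H15.mul_frob]; exact congrArg Units.val a.2

theorem su_ext {g h : Cfsg.SU 3 F q} (e : g.1.1 = h.1.1) : g = h := Subtype.ext (Subtype.ext e)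

theorem val_mul (g h : Cfsg.SU 3 F q) : (g * h).1.1 = g.1.1 * h.1.1 := rfl

/-- a diagonal matrix -/
def dm (x y z : F) : Matrix (Fin 3) (Fin 3) F := !![x, 0, 0; 0, y, 0; 0, 0, z]

theorem dm_mul (x y z x' y' z' : F) : dm x y z * dm x' y' z' = dm (x * x') (y * y') (z * z') := by
  simp [dm]

theorem dm_herm {x y z : F} (h1 : x * σ x = 1) (h2 : y * σ y = 1) (h3 : z * σ z = 1) (u v : Fin 3 → F) :
    Cfsg.hermForm 3 F q (dm x y z *ᵥ u) (dm x y z *ᵥ v) = Cfsg.hermForm 3 F q u v := by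
  rw [herm_eq (hF := hF), herm_eq (hF := hF)]
  simp [dm, mulVec, dotProduct, Fin.sum_univ_three]
  linear_combination u 0 * σ (v 0) * h1 + u 1 * σ (v 1) * h2 + u 2 * σ (v 2) * h3

variable (hF) in
/-- the diagonal matrices -/
def dg : NN × NN →* Cfsg.SU 3 F q := MonoidHom.mk'
  (fun a => ⟨⟨dm (a.1.1 : F) a.2.1 ((a.1 * a.2)⁻¹).1, by simp [dm, det_fin_three]; field_simp⟩,
    dm_herm (hF := hF) (nn _) (nn _) (nn _)⟩)
  fun a b => su_ext (by rw [val_mul, dm_mul]; simp [mul_mul_mul_comm, mul_comm])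

theorem dg_val (a : NN × NN) : (dg hF a).1.1 = dm (a.1.1 : F) a.2.1 ((a.1 * a.2)⁻¹).1 := rfl

variable (hF) in
/-- a transposition -/
def sw : Cfsg.SU 3 F q := ⟨⟨!![0, 1, 0; 1, 0, 0; 0, 0, 1], by simp [det_fin_three, CharTwo.neg_eq]⟩,
  fun u v => by
  show Cfsg.hermForm 3 F q (!![0, 1, 0; 1, 0, 0; 0, 0, 1] *ᵥ u) (!![0, 1, 0; 1, 0, 0; 0, 0, 1] *ᵥ v) = _
  rw [herm_eq (hF := hF), herm_eq (hF := hF)]
  simp [mulVec, dotProduct, Fin.sum_univ_three]
  ring⟩

variable (hF) in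
/-- a three-cycle -/
def cy : Cfsg.SU 3 F q := ⟨⟨!![0, 0, 1; 1, 0, 0; 0, 1, 0], by simp [det_fin_three]⟩, fun u v => by
  show Cfsg.hermForm 3 F q (!![0, 0, 1; 1, 0, 0; 0, 1, 0] *ᵥ u) (!![0, 0, 1; 1, 0, 0; 0, 1, 0] *ᵥ v) = _
  rw [herm_eq (hF := hF), herm_eq (hF := hF)]
  simp [mulVec, dotProduct, Fin.sum_univ_three]
  ring⟩

theorem sw_dg (a b : NN) : sw hF * dg hF (a, b) * (sw hF)⁻¹ = dg hF (b, a) := by
  rw [mul_inv_eq_iff_eq_mul]
  refine su_ext ?_
  rw [val_mul, val_mul, dg_val, dg_val, mul_comm a]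
  simp [sw, dm]

theorem cy_dg (a b : NN) : cy hF * dg hF (a, b) * (cy hF)⁻¹ = dg hF ((a * b)⁻¹, a) := by
  rw [mul_inv_eq_iff_eq_mul]
  refine su_ext ?_
  rw [val_mul, val_mul, dg_val, dg_val, show ((a * b)⁻¹ * a)⁻¹ = b by simp [mul_comm]]
  simp [cy, dm]

theorem cy_cube : cy hF ^ 3 = 1 := by
  refine su_ext ?_
  rw [pow_three, val_mul, val_mul]
  simp [cy, one_fin_three]

theorem dg_inj : Function.Injective (dg hF) := fun a b e => by
  have := congrArg (·.1.1) e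
  simp only [dg_val] at this
  exact Prod.ext (Subtype.ext (Units.ext (congrFun (congrFun this 0) 0)))
    (Subtype.ext (Units.ext (congrFun (congrFun this 1) 1)))

theorem cy_not_mem : cy hF ∉ (dg hF).range := fun ⟨a, e⟩ =>
  a.1.1.ne_zero (congrFun (congrFun (congrArg (·.1.1) e) 0) 0)

theorem dg_center {a : NN × NN} (h : cy hF * dg hF a = dg hF a * cy hF) : dg hF a ∈ center _ := by
  obtain ⟨a, b⟩ := a
  obtain ⟨e, e'⟩ := Prod.ext_iff.1 (dg_inj ((cy_dg a b).symm.trans (mul_inv_eq_iff_eq_mul.2 h)))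
  obtain rfl : a = b := e'
  replace e : (a * a)⁻¹ = a := e
  refine mem_center_iff.2 fun g => su_ext ?_
  have : (dg hF (a, a)).1.1 = (a.1 : F) • (1 : Matrix (Fin 3) (Fin 3) F) := by
    rw [dg_val, e]
    ext i j
    fin_cases i <;> fin_cases j <;> simp [dm]
  rw [val_mul, val_mul, this]
  simp

theorem cyc_sylow {s p : ℕ} (hF : Fintype.card F = (s + 1) ^ 2) [hp : Fact p.Prime] (p2 : p ≠ 2)
    (h1 : p ∣ s ^ 2 + s + 1) (h2 : ¬ p ∣ s + 2) {P : Subgroup (Cfsg.SU 3 F (s + 1))}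
    (hP : IsPGroup p P) : IsCyclic P := by
  refine cyc_of_fpf (V := Fin 3 → F) hP p2 fun g g1 v hv => ?_
  let W := LinearMap.ker (toLin' (g.1.1.1 - 1))
  have mW : ∀ v, v ∈ W ↔ g • v = v := fun v => by
    rw [LinearMap.mem_ker, toLin'_apply, sub_mulVec, one_mulVec, sub_eq_zero]; rfl
  have c := (hP.to_subgroup (zpowers g)).card_modEq_card_fixedPoints (Fin 3 → F)
  rw [Nat.card_congr (show MulAction.fixedPoints (zpowers g) (Fin 3 → F) ≃ W from
    Equiv.subtypeEquivRight fun v => by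
      rw [mW, MulAction.mem_fixedPoints]
      exact ⟨fun h => h ⟨g, mem_zpowers g⟩, fun h => by
        rintro ⟨_, n, rfl⟩
        exact MulAction.mem_fixedBy.1 (MulAction.fixedBy_subset_fixedBy_zpow _ g n h)⟩),
    Module.natCard_eq_pow_finrank (K := F) (V := W), Nat.card_fun, Nat.card_eq_fintype_card, hF,
    Nat.card_fin] at c
  have d := W.finrank_le
  rw [Module.finrank_fin_fun] at d
  have z : ((s : ZMod p) ^ 2 + s + 1 = 0) := by exact_mod_cast (ZMod.natCast_eq_zero_iff _ p).2 h1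
  have z2 : ((s : ZMod p) + 2 ≠ 0) := by exact_mod_cast mt (ZMod.natCast_eq_zero_iff _ p).1 h2
  have c := (ZMod.natCast_eq_natCast_iff _ _ p).2 c
  push_cast at c
  generalize (s : ZMod p) = t at z z2 c
  generalize hd : Module.finrank F W = n at d c
  interval_cases n
  · exact (Submodule.finrank_eq_zero.1 hd).le ((mW v).2 hv)
  · exact absurd (by grind) z2
  · exact absurd (by grind) z2
  refine absurd (Subtype.ext (Subtype.ext (Subtype.ext ?_))) g1
  have := Submodule.eq_top_of_finrank_eq (hd.trans (Module.finrank_fin_fun F).symm)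
  rw [LinearMap.ker_eq_top, map_eq_zero_iff _ toLin'.injective, sub_eq_zero] at this
  exact this

theorem ar {s p : ℕ} (hp : p.Prime) (p2 : p ≠ 2) (h1 : p ∣ s + 2)
    (h : p * 3 ∣ (s + 1) ^ 3 * s * (s ^ 2 + s + 1)) : False := by
  have := Fact.mk hp
  have z : ((s : ZMod p) + 2 = 0) := by exact_mod_cast (ZMod.natCast_eq_zero_iff _ p).2 h1
  have z2 := (ZMod.natCast_eq_zero_iff _ p).2 ((dvd_mul_right p 3).trans h)
  push_cast at z2
  have z3 : ((2 * 3 : ℕ) : ZMod p) = 0 := by push_cast; grind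
  obtain rfl : p = 3 := by
    rcases (Nat.Prime.dvd_mul hp).1 ((ZMod.natCast_eq_zero_iff _ p).1 z3) with e | e
    exacts [absurd ((Nat.prime_dvd_prime_iff_eq hp Nat.prime_two).1 e) p2,
      (Nat.prime_dvd_prime_iff_eq hp Nat.prime_three).1 e]
  obtain ⟨t, rfl⟩ : ∃ t, s = 3 * t + 1 := ⟨s / 3, by omega⟩
  rw [show (3 * t + 1 + 1) ^ 3 * (3 * t + 1) * ((3 * t + 1) ^ 2 + (3 * t + 1) + 1) = 9 * (81 * t ^ 6 +
    270 * t ^ 5 + 378 * t ^ 4 + 285 * t ^ 3 + 122 * t ^ 2 + 28 * t + 2) + 6 by ring] at h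
  omega

theorem ker_bot (hF : Fintype.card F = q ^ 2) (hq : 4 ≤ q) {M : Type*} [Group M] [Finite M]
    (hM : Group.IsPerfect M) {φ : M →* Cfsg.SU 3 F q} (hk : φ.ker ≤ center M)
    (hs : Function.Surjective φ) : φ.ker = ⊥ := by
  obtain ⟨c, hc⟩ := exists_c (hF := hF)
  obtain ⟨s, rfl⟩ : ∃ s, q = s + 1 := ⟨q - 1, by omega⟩
  have cS := card_SU hF
  have ev : Even (s + 1) := by
    have := FiniteField.even_card_of_char_two (F := F) (ringChar.eq F 2)
    rw [hF, ← Nat.even_iff, Nat.even_pow] at this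
    exact this.1
  have key : ∀ {p x} (A : Subgroup (Cfsg.SU 3 F (s + 1))), p.Prime → φ x = 1 → orderOf x = p →
      ¬ p ∣ A.index → x ∈ ⁅A.comap φ, A.comap φ⁆ := fun A hp hx ho h =>
    tc hM (ker_le_comap φ A hx) (hk hx) (by
      rw [index_comap_of_surjective _ hs, ho]; exact ((Nat.Prime.coprime_iff_not_dvd hp).2 h).symm)
  have h2 : ∀ x, φ x = 1 → x * x = 1 → x = 1 := fun x hx e => by
    by_contra x1
    refine x1 (cov2 hq hk hs (fun a e => toSU_inj (e.trans (map_one _).symm)) (h_u hc) hx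
      (key _ Nat.prime_two hx (orderOf_eq_prime (by rwa [sq]) x1) ?_))
    have e := (toSU (hF := hF)).range.card_mul_index
    rw [← Nat.card_congr (MonoidHom.ofInjective toSU_inj).toEquiv, card_Uq, cS, mul_assoc] at e
    rw [Nat.eq_of_mul_eq_mul_left (by positivity) e, ← even_iff_two_dvd]
    grind
  by_contra hne
  obtain ⟨p, hp, hd⟩ := Nat.exists_prime_and_dvd (card_eq_one.not.2 hne)
  obtain ⟨x, hx, ho⟩ := exists_orderOf_eq hp hd
  have x1 : x ≠ 1 := fun e => hp.one_lt.ne (by rw [← ho, e, orderOf_one])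
  have p2 : p ≠ 2 := by
    rintro rfl
    exact x1 (h2 x hx (by rw [← sq, ← ho, pow_orderOf_eq_one]))
  have := Fact.mk hp
  by_cases h1 : p ∣ s + 2
  · obtain ⟨ν, hν⟩ := IsCyclic.exists_generator
      (α := MonoidHom.ker (powMonoidHom (s + 1 + 1) : Fˣ →* Fˣ))
    have n : cy hF ∈ N[(dg hF).range] := mem_N_of_finite (by
      rintro _ ⟨⟨a, b⟩, rfl⟩
      exact ⟨_, (cy_dg a b).symm⟩)
    refine x1 (covD hk hs hM (two_ab hk hs h2 (by rw [← map_mul, mul_comm, map_mul]) (sw_dg (hF := hF) ν 1)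
      (sw_dg 1 ν) ?_) n (by rintro _ ⟨a, rfl⟩; exact dg_center) hx (key _ hp hx ho fun h => ?_))
    · rintro _ ⟨⟨a, b⟩, rfl⟩
      obtain ⟨m, rfl⟩ := hν a
      obtain ⟨n, rfl⟩ := hν b
      exact ⟨m, n, by rw [← map_zpow, ← map_zpow, ← map_mul]; simp⟩
    have e3 := three_dvd n cy_cube cy_not_mem
    have e := (dg hF).range.card_mul_index
    rw [← Nat.card_congr (MonoidHom.ofInjective dg_inj).toEquiv, Nat.card_prod,
      H15.card_norm_one_units hF, cS, ← relIndex_mul_index (le_sup_left (b := zpowers (cy hF)))] at e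
    refine ar hp p2 h1 ((mul_dvd_mul h e3).trans (Dvd.intro 1 ?_))
    refine Nat.eq_of_mul_eq_mul_left (by positivity : 0 < (s + 1 + 1) * (s + 1 + 1)) ?_
    rw [mul_one, mul_comm (index _), e]
    ring
  by_cases h3 : p ∣ s ^ 2 + s + 1
  · obtain ⟨P⟩ : Nonempty (Sylow p (Cfsg.SU 3 F (s + 1))) := inferInstance
    have := cyc_sylow hF p2 h3 h1 P.isPGroup'
    exact x1 (mem_bot.1 (cyc_ab hk hs (P : Subgroup _) ▸ key P hp hx ho P.not_dvd_index))
  have : IsCyclic (hSU hc).range := isCyclic_of_surjective _ (hSU hc).rangeRestrict_surjective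
  refine x1 (mem_bot.1 (cyc_ab hk hs (hSU hc).range ▸ key _ hp hx ho fun h => ?_))
  have e := (hSU hc).range.card_mul_index
  rw [← Nat.card_congr (MonoidHom.ofInjective (hSU_inj hc)).toEquiv, H15.card_units_sq hF, cS,
    Nat.add_sub_cancel, mul_comm (_ ^ 3), mul_assoc _ (_ ^ 3)] at e
  rw [Nat.eq_of_mul_eq_mul_left (Nat.mul_pos (by omega) (by omega)) e, hp.dvd_mul, hp.dvd_mul] at h
  rcases h with h | h | h
  exacts [p2 (by
    obtain ⟨r, k, hr, c, -, e⟩ := H15.exists_char_pow hF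
    obtain rfl : r = 2 := CharP.eq F c ‹CharP F 2›
    exact (Nat.prime_dvd_prime_iff_eq hp hr).1 (hp.dvd_of_dvd_pow (e ▸ hp.dvd_of_dvd_pow h))), h1 h, h3 h]

theorem exists_cover (hF : Fintype.card F = q ^ 2) (hq : 4 ≤ q) {L : Type*} [Group L] [Finite L]
    (hL : Group.IsPerfect L) (e : L ⧸ center L ≃* Cfsg.PSU 3 F q) :
    ∃ ψ : Cfsg.SU 3 F q →* L, Function.Surjective ψ ∧ ∀ g, ψ g ∈ center L ↔ g ∈ center _ := by
  let P : Subgroup (L × Cfsg.SU 3 F q) := MonoidHom.eqLocus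
    ((e.toMonoidHom.comp (QuotientGroup.mk' _)).comp (MonoidHom.fst _ _))
    ((QuotientGroup.mk' _).comp (MonoidHom.snd _ _))
  have mP : ∀ x : L × Cfsg.SU 3 F q, x ∈ P ↔ e (x.1 : L ⧸ center L) = (x.2 : Cfsg.PSU 3 F q) :=
    fun _ => Iff.rfl
  have c : ∀ x ∈ P, x.1 ∈ center L ↔ x.2 ∈ center _ := fun x hx => by
    rw [← QuotientGroup.eq_one_iff, ← QuotientGroup.eq_one_iff, ← (mP x).1 hx, map_eq_one_iff _ e.injective]
  have s1 : P.map (MonoidHom.fst _ _) = ⊤ := eq_top_iff.2 fun x _ => by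
    obtain ⟨g, hg⟩ := QuotientGroup.mk_surjective (e x)
    exact ⟨(x, g), hg.symm, rfl⟩
  have s2 : P.map (MonoidHom.snd _ _) = ⊤ := eq_top_iff.2 fun g _ => by
    obtain ⟨x, hx⟩ := QuotientGroup.mk_surjective (e.symm g)
    exact ⟨(x, g), (mP _).2 (by rw [hx, e.apply_symm_apply]), rfl⟩
  have t1 : ⁅P, P⁆.map (MonoidHom.fst _ _) = ⊤ := by
    rw [map_commutator, s1]; exact hL.commutator_eq_top
  have t2 : ⁅P, P⁆.map (MonoidHom.snd _ _) = ⊤ := by
    rw [map_commutator, s2]; exact H7.su_perfect hF 3 le_rfl (by omega)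
  have k : ((MonoidHom.snd _ _).comp P.subtype).ker ≤ center P := fun x hx => mem_center_iff.2 fun y =>
    Subtype.ext (Prod.ext (mem_center_iff.1 ((c x x.2).2 ((show x.1.2 = 1 from hx) ▸ one_mem _)) _)
      (by simp [show x.1.2 = 1 from hx]))
  let φ := (MonoidHom.snd _ _).comp ⁅P, P⁆.subtype
  have hs : Function.Surjective φ := fun g => by
    obtain ⟨x, hx, e⟩ := t2.ge (mem_top g)
    exact ⟨⟨x, hx⟩, e⟩
  have hM : Group.IsPerfect ↥⁅P, P⁆ := Subgroup.isPerfect_iff.2 (le_antisymm (der1_le _)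
    (commutator_le.2 fun x hx y hy => by
      obtain ⟨x', e1⟩ := hs x.2
      obtain ⟨y', e2⟩ := hs y.2
      have := congrArg Subtype.val (cc k (x := ⟨x, hx⟩) (y := ⟨y, hy⟩) (x' := ⟨x', der1_le _ x'.2⟩)
        (y' := ⟨y', der1_le _ y'.2⟩) e1.symm e2.symm)
      exact (show ⁅x, y⁆ = ⁅x'.1, y'.1⁆ from this) ▸ commutator_mem_commutator x'.2 y'.2))
  have hi := (MonoidHom.ker_eq_bot_iff φ).1 (ker_bot hF hq hM (fun x hx => mem_center_iff.2 fun y =>
    Subtype.ext (Subtype.ext_iff.1 (mem_center_iff.1 (k (x := ⟨x, der1_le _ x.2⟩) hx)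
      ⟨y, der1_le _ y.2⟩) :)) hs)
  let ι := MulEquiv.ofBijective φ ⟨hi, hs⟩
  refine ⟨((MonoidHom.fst _ _).comp ⁅P, P⁆.subtype).comp ι.symm.toMonoidHom, fun l => ?_, fun g => ?_⟩
  · obtain ⟨x, hx, e⟩ := t1.ge (mem_top l)
    exact ⟨ι ⟨x, hx⟩, by simpa using e⟩
  · obtain ⟨x, rfl⟩ := ι.surjective g
    rw [MonoidHom.comp_apply, MulEquiv.coe_toMonoidHom, ι.symm_apply_apply]
    exact c x (der1_le _ x.2)

end H14.UM
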