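import Mathlib
import Cfsg.Agent.H14.UM2

/-! Perfect central extensions of `PSU₃(q)`, `q ≥ 4` even: coordinates and automorphisms. -/

set_option autoImplicit false
set_option linter.unusedSectionVars false
set_option linter.unusedVariables false

namespace H14.UM

open H12.U3 Subgroup H24 Cfsg
open scoped commutatorElement

variable {F : Type*} [Field F] [Fintype F] [CharP F 2] {q : ℕ} {hF : Fintype.card F = q ^ 2}

local notation "σ" => H15.frob hF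

/-- the left factor in the Bruhat decomposition of `n u(d) n` -/
def r1 (d : Uq hF) : Uq hF := ⟨d.x / σ d.y, d.y⁻¹, by
  rcases eq_or_ne d 1 with rfl | h
  · simp
  have h1 := y_ne_zero h
  have h2 := (map_ne_zero σ).2 h1
  rw [map_div₀, map_inv₀, ss, div_mul_div_comm, ← d.rel]
  field_simp
  ring⟩

/-- the right factor in the Bruhat decomposition of `n u(d) n` -/
def r2 (d : Uq hF) : Uq hF := ⟨d.x / d.y, d.y⁻¹, by
  rcases eq_or_ne d 1 with rfl | h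
  · simp
  have h1 := y_ne_zero h
  have h2 := (map_ne_zero σ).2 h1
  rw [map_div₀, map_inv₀, div_mul_div_comm, ← d.rel]
  field_simp
  ring⟩

theorem t_u {c : F} (hc : σ c = c + 1) {d : Uq hF} (h : d ≠ 1) : tSU hc * toSU d * tSU hc =
    toSU (r1 d) * tSU hc * (hSU hc (Units.mk0 _ (y_ne_zero h)) * toSU (r2 d)) := by
  have h1 := y_ne_zero h
  have h2 := (map_ne_zero σ).2 h1
  have h3 := d.rel
  have two : (2 : F) = 0 := CharTwo.two_eq_zero
  refine ext_act c ?_ ?_ ?_ <;>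
    simp only [act_mul, act_tSU, act_h, act_toSU, r1, r2, Units.val_mk0, map_div₀, ss] <;>
    congr 1 <;> field_simp <;> grind

theorem exists_dec {l : Fˣ} (h : l ≠ 1) (a : Uq hF) : ∃ d y, a = d⁻¹ * aut l d * ze hF y := by
  have m : (l : F) + 1 ≠ 0 := fun e => h (Units.ext (CharTwo.add_eq_zero.1 e))
  obtain ⟨y, hy⟩ := exists_y (hF := hF) (a.x / (l + 1))
  obtain ⟨e, he⟩ := exists_ze (d := ((⟨_, y, hy⟩ : Uq hF)⁻¹ * aut l ⟨_, y, hy⟩)⁻¹ * a) (by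
    simp [aut_x]; field_simp; grind)
  exact ⟨_, e, inv_mul_eq_iff_eq_mul.1 he⟩

theorem ze_ne : ∃ y, ze hF y ≠ 1 := by
  obtain ⟨c, hc⟩ := exists_c (hF := hF)
  exact ⟨c, fun e => by have := congrArg Uq.y e; simp [hc] at this; grind⟩

theorem aut_fix {k : Fˣ} (h1 : σ k = k) (h2 : k ≠ 1) {a : Uq hF} (h : aut k a = a) : a = 1 := by
  by_contra e
  have := congrArg Uq.y h
  rw [aut_y, h1, mul_eq_right₀ (y_ne_zero e), mul_self_eq_one_iff, CharTwo.neg_eq, or_self] at this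
  exact h2 (Units.ext this)

variable (hF) in
/-- coordinates -/
structure R1 (M : Type*) [Group M] where
  u : Uq hF →* M
  τ : Fˣ →* M
  n : M
  ui : Function.Injective u
  hu : ∀ k a, τ k * u a * (τ k)⁻¹ = u (aut (lam hF k) a)
  nn : n * n = 1
  nτ : ∀ k, n * τ k * n = τ (Units.map (σ : F →* F) k)⁻¹
  br : ∀ g, (∃ a k, g = u a * τ k) ∨ ∃ a b k, g = u a * n * (u b * τ k)
  ti : ∀ {g a b}, a ≠ 1 → g * u a * g⁻¹ = u b → ∃ a k, g = u a * τ k
  nB : ∀ a k, n ≠ u a * τ k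
  cen : ∀ g ∈ center M, ∃ k, g = τ k
  cen' : ∀ k, lam hF k = 1 → τ k ∈ center M
  rel : ∀ {d} (h : d ≠ 1), n * u d * n = u (r1 d) * n * (τ (Units.mk0 _ (y_ne_zero h)) * u (r2 d))
  card : ∃ m, Odd m ∧ Nat.card M = q ^ 3 * m
  perf : Group.IsPerfect M
  hq : 4 ≤ q

theorem exists_R1 (hF : Fintype.card F = q ^ 2) (hq : 4 ≤ q) {M : Type*} [Group M] [Finite M]
    (hM : Group.IsPerfect M) (e : M ⧸ center M ≃* PSU 3 F q) : Nonempty (R1 hF M) := by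
  obtain ⟨c, hc⟩ := exists_c (hF := hF)
  obtain ⟨ψ, hs, hk⟩ := exists_cover hF hq hM e
  have k : ∀ {g g'}, ψ g = ψ g' → ∃ z ∈ center _, g = g' * z := fun {g g'} e =>
    ⟨g'⁻¹ * g, (hk _).1 (by rw [map_mul, map_inv, e, inv_mul_cancel]; exact one_mem _), by group⟩
  have ui : Function.Injective (ψ.comp (toSU (hF := hF))) := (injective_iff_map_eq_one _).2
    fun a e => eq_one_of_mem_center ((hk _).1 ((show ψ (toSU a) = 1 from e) ▸ one_mem _))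
  refine ⟨⟨ψ.comp toSU, ψ.comp (hSU hc), ψ (tSU hc), ui, fun k a => ?_, ?_, fun k => ?_, fun g => ?_,
    fun {g a b} h1 h2 => ?_, fun a l e => ?_, fun g hg => ?_, fun l h => (hk _).2 ((h_center hc).2 h),
    fun h => ?_, ?_, hM, hq⟩⟩
  · simp only [MonoidHom.comp_apply, ← h_u hc, map_mul, map_inv]
  · rw [← map_mul, t_t, map_one]
  · simp only [MonoidHom.comp_apply, ← t_h hc, map_mul]
  · obtain ⟨g, rfl⟩ := hs g
    rcases bruhat hc g with ⟨a, k, rfl⟩ | ⟨a, b, k, rfl⟩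
    exacts [.inl ⟨a, k, by simp⟩, .inr ⟨a, b, k, by simp⟩]
  · obtain ⟨g, rfl⟩ := hs g
    obtain ⟨z, hz, e⟩ := k (g := g * toSU a * g⁻¹) (g' := toSU b) (by simpa using h2)
    obtain ⟨a, l, rfl⟩ := ti hc hz h1 e
    exact ⟨a, l, by simp⟩
  · obtain ⟨z, hz, e⟩ := k (g' := toSU a * hSU hc l) (by simpa using e)
    exact t_ne hc hz a l e
  · obtain ⟨g, rfl⟩ := hs g
    obtain ⟨l, -, rfl⟩ := of_center hc ((hk g).1 hg)
    exact ⟨l, rfl⟩
  · simpa using congrArg ψ (t_u hc h)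
  · obtain ⟨m, hm⟩ := card_dvd_of_injective _ ui
    have d := card_dvd_of_surjective ψ hs
    rw [card_Uq] at hm
    refine ⟨m, ?_, hm⟩
    obtain ⟨s, rfl⟩ : ∃ s, q = s + 1 := ⟨q - 1, by omega⟩
    have ev := FiniteField.even_card_of_char_two (F := F) (ringChar.eq F 2)
    rw [hF, ← Nat.even_iff, Nat.even_pow] at ev
    rw [hm, card_SU hF, mul_assoc, Nat.mul_dvd_mul_iff_left (by positivity)] at d
    exact Odd.of_dvd_nat (by grind) d

namespace R1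

variable {M : Type*} [Group M] [Finite M] (X : R1 hF M) {α : MulAut M}

theorem pu (a : Uq hF) : PiElt {2} (X.u a) := piElt_of_pow_eq_one (piNat_self_pow Nat.prime_two 2) (by
  rw [← map_pow, show a ^ 2 ^ 2 = a * a * (a * a) by simp [pow_succ, mul_assoc],
    mul_self_eq_one.2 (CharTwo.add_self_eq_zero _), map_one])

theorem syl : Syl 2 ⊤ X.u.range := by
  obtain ⟨m, h1, h2⟩ := X.card
  refine Syl.mk' Nat.prime_two le_top (isPi_iff_piElt.2 (by rintro _ ⟨a, rfl⟩; exact X.pu a)) ?_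
  have e := X.u.range.card_mul_index
  rw [← Nat.card_congr (MonoidHom.ofInjective X.ui).toEquiv, card_Uq, h2] at e
  have := X.hq
  rw [relIndex_top_right, Nat.eq_of_mul_eq_mul_left (by positivity) e, ← even_iff_two_dvd]
  exact Nat.not_even_iff_odd.2 h1

theorem uN (a : Uq hF) : X.u a ∈ N[X.u.range] := norm_self _ ⟨a, rfl⟩

theorem τN (k : Fˣ) : X.τ k ∈ N[X.u.range] := mem_N_of_finite (by
  rintro _ ⟨a, rfl⟩; exact ⟨_, (X.hu k a).symm⟩)

theorem B_of {g : M} {a : Uq hF} (h1 : a ≠ 1) (h : g * X.u a * g⁻¹ ∈ X.u.range) : g ∈ N[X.u.range] := by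
  obtain ⟨b, e⟩ := h
  obtain ⟨a, k, rfl⟩ := X.ti h1 e.symm
  exact mul_mem (X.uN a) (X.τN k)

theorem of_B {g : M} (h : g ∈ N[X.u.range]) : ∃ a k, g = X.u a * X.τ k := by
  obtain ⟨y, hy⟩ := ze_ne (hF := hF)
  obtain ⟨b, e⟩ := conj_mem h ⟨ze hF y, rfl⟩
  exact X.ti hy e.symm

theorem nN : X.n ∉ N[X.u.range] := fun h => by
  obtain ⟨a, k, e⟩ := X.of_B h
  exact X.nB a k e

theorem ni : X.n⁻¹ = X.n := inv_eq_of_mul_eq_one_right X.nn

theorem mem_S {g : M} (h : PiElt {2} g) (h2 : g ∈ N[X.u.range]) : g ∈ X.u.range :=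
  X.syl.le_of_norm h.isPi le_top (zpowers_le.2 h2) (mem_zpowers _)

theorem key {a : Uq hF} (e : X.n * X.u a * X.n ∈ N[X.u.range]) : a = 1 := by
  by_contra h1
  nth_rw 2 [← X.ni] at e
  exact X.nN (X.B_of h1 (X.mem_S ((X.pu a).conj _) e))

theorem nτN (k : Fˣ) : X.n * X.τ k * X.n ∈ N[X.u.range] := X.nτ k ▸ X.τN _

theorem key2 {g : M} (h : g ∈ N[X.u.range]) (e : X.n * g * X.n ∈ N[X.u.range]) : ∃ k, g = X.τ k := by
  obtain ⟨a, k, rfl⟩ := X.of_B h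
  have := mul_mem e (inv_mem (X.nτN k))
  rw [show X.n * (X.u a * X.τ k) * X.n * (X.n * X.τ k * X.n)⁻¹ = X.n * X.u a * X.n⁻¹ by group, X.ni] at this
  exact ⟨k, by rw [X.key this, map_one, one_mul]⟩

theorem aut_B (hS : ∀ a, α (X.u a) ∈ X.u.range) {g : M} : α g ∈ N[X.u.range] ↔ g ∈ N[X.u.range] := by
  have e : X.u.range.map α.toMonoidHom = X.u.range := eq_of_card_eq
    (by rintro _ ⟨_, ⟨a, rfl⟩, rfl⟩; exact hS a) (card_map_of_injective α.injective)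
  conv_lhs => rw [← e, ← map_equiv_normalizer_eq]
  exact mem_map_iff_mem α.injective

theorem aut_n (hS : ∀ a, α (X.u a) ∈ X.u.range) :
    ∃ a, ∃ b ∈ N[X.u.range], α X.n = X.u a * X.n * b := by
  rcases X.br (α X.n) with ⟨a, k, e⟩ | ⟨a, b, k, e⟩
  · exact absurd ((X.aut_B hS).1 (e ▸ mul_mem (X.uN a) (X.τN k))) X.nN
  · exact ⟨a, _, mul_mem (X.uN b) (X.τN k), e⟩

theorem fix_n {b : M} (hb : b ∈ N[X.u.range]) (h : α X.n = X.n * b) : ∃ j, α X.n = X.n * X.τ j := by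
  have e := congrArg α X.nn
  rw [map_mul, h, map_one, ← mul_assoc, mul_eq_one_iff_eq_inv] at e
  obtain ⟨j, rfl⟩ := X.key2 hb (e ▸ inv_mem hb)
  exact ⟨j, h⟩

theorem fix_d (hS : ∀ a, α (X.u a) ∈ X.u.range) {j : Fˣ} (h : α X.n = X.n * X.τ j) {d : Uq hF}
    (h1 : α (X.u d) = X.u d) (h2 : α (X.u (r1 d)) = X.u (r1 d)) : aut (lam hF j) d = d := by
  rcases eq_or_ne d 1 with rfl | d1
  · exact map_one _
  have m := mul_mem (X.τN (Units.mk0 _ (y_ne_zero d1))) (X.uN (r2 d))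
  have e := X.rel d1
  generalize X.τ (Units.mk0 _ (y_ne_zero d1)) * X.u (r2 d) = b at m e
  have e2 := congrArg α e
  have e3 := congrArg α X.nn
  simp only [map_mul, h, h1, h2, map_one] at e2 e3
  refine (inv_mul_eq_one.1 (X.key ?_)).symm
  rw [map_mul, map_inv, ← X.hu, show X.n * ((X.u d)⁻¹ * (X.τ j * X.u d * (X.τ j)⁻¹)) * X.n =
    (X.n * X.u d * X.n⁻¹)⁻¹ * (X.n * X.τ j * X.u d * (X.n * X.τ j)) * (X.n * X.τ j * (X.n * X.τ j))⁻¹ *
      (X.n * X.n) by group, X.ni, e, e2, e3, X.nn]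
  simpa [mul_assoc] using mul_mem (inv_mem m) (mul_mem (X.τN j) ((X.aut_B hS).2 m))

theorem aut_τ (hS : ∀ a, α (X.u a) ∈ X.u.range) {j : Fˣ} (h : α X.n = X.n * X.τ j) (k : Fˣ) :
    ∃ l, α (X.τ k) = X.τ l := by
  have m := (X.aut_B hS).2 (X.nτN k)
  rw [map_mul, map_mul, h] at m
  obtain ⟨l, e⟩ := X.key2 (mul_mem (X.τN j) ((X.aut_B hS).2 (X.τN k)))
    (by simpa [mul_assoc] using mul_mem m (inv_mem (X.τN j)))
  exact ⟨j⁻¹ * l, by rw [map_mul, ← e, map_inv, inv_mul_cancel_left]⟩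

theorem fix_all (hx : ∀ a, ∃ b, α (X.u a) = X.u b ∧ b.x = a.x) {b : M} (hb : b ∈ N[X.u.range])
    (h : α X.n = X.n * b) (x : M) : α x = x := by
  choose A hA hA' using hx
  have hS : ∀ a, α (X.u a) ∈ X.u.range := fun a => ⟨_, (hA a).symm⟩
  obtain ⟨j, h⟩ := X.fix_n hb h
  obtain ⟨a0, h0⟩ := exists_x_ne (hF := hF)
  have hτ : ∀ k, ∃ l, α (X.τ k) = X.τ l ∧ lam hF l = lam hF k := fun k => by
    obtain ⟨l, e⟩ := X.aut_τ hS h k
    have := congrArg α (X.hu k a0)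
    rw [map_mul, map_mul, map_inv, e, hA, hA, X.hu] at this
    have := congrArg Uq.x (X.ui this)
    rw [aut_x, hA', hA', aut_x] at this
    exact ⟨l, e, Units.ext (mul_right_cancel₀ h0 this)⟩
  have hz : ∀ y, α (X.u (ze hF y)) = X.u (ze hF y) := fun y => by
    obtain ⟨s, hs⟩ := exists_y (hF := hF) y
    obtain ⟨s', hs'⟩ := exists_y (hF := hF) 1
    have e : ze hF y = ⁅(⟨y, s, hs⟩ : Uq hF), ⟨1, s', hs'⟩⁆ := by simp [comm_eq]
    rw [e, map_commutatorElement, map_commutatorElement, hA, hA, ← map_commutatorElement,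
      ← map_commutatorElement, comm_eq, comm_eq, hA', hA']
  have hu : ∀ a, α (X.u a) = X.u a := fun a => by
    obtain ⟨μ, m1, m2⟩ := exists_mu (hF := hF) X.hq
    obtain ⟨d, y, rfl⟩ := exists_dec m2 a
    obtain ⟨l, e, e'⟩ := hτ μ
    obtain ⟨z, hz'⟩ := exists_ze (d := d⁻¹ * A d) (by simp [hA', CharTwo.add_self_eq_zero])
    have e1 : α (X.u (aut (lam hF μ) d)) = X.u (aut (lam hF μ) (A d)) := by
      rw [← X.hu, map_mul, map_mul, map_inv, e, hA, X.hu, e']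
    rw [map_mul, map_mul, map_mul, map_mul, hz, e1, map_inv, map_inv, hA, ← map_inv, ← map_inv,
      ← map_mul, ← map_mul X.u d⁻¹, inv_mul_eq_iff_eq_mul.1 hz', map_mul (aut _), aut_ze, lam_nm, m1,
      one_mul, ze_comm z d, ze_comm z, mul_inv_rev, mul_assoc d⁻¹, inv_mul_cancel_left]
  have hj := congrArg Uq.x (X.fix_d hS h (hu a0) (hu _))
  rw [aut_x, mul_eq_right₀ h0, Units.val_eq_one] at hj
  let π := QuotientGroup.mk' (center M)
  have p : ∀ k, lam hF k = 1 → π (X.τ k) = 1 := fun k e => (QuotientGroup.eq_one_iff _).2 (X.cen' k e)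
  have p1 : ∀ k, π (α (X.τ k)) = π (X.τ k) := fun k => by
    obtain ⟨l, e, e'⟩ := hτ k
    rw [e, ← mul_inv_eq_one, ← map_inv, ← map_mul, ← map_inv, ← map_mul, p _ (by simp [e'])]
  have p2 : ∀ x, π (α x) = π x := fun x => by
    rcases X.br x with ⟨a, k, rfl⟩ | ⟨a, b, k, rfl⟩ <;> simp only [map_mul, hu, p1, h, p j hj, mul_one]
  exact (commutator_le (H₃ := α.toMonoidHom.eqLocus (MonoidHom.id M))).2 (fun x _ y _ =>
    (map_commutatorElement α x y).trans (cc (QuotientGroup.ker_mk' _).le (p2 x) (p2 y)))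
    (X.perf.commutator_eq_top.ge (mem_top x))

theorem autS (hx : ∀ a, ∃ b, α (X.u a) = X.u b ∧ b.x = a.x) :
    ∃ a, ∀ x, α x = X.u a * x * (X.u a)⁻¹ := by
  obtain ⟨a, b, hb, e⟩ := X.aut_n (α := α) fun a => by
    obtain ⟨b, e, -⟩ := hx a
    exact ⟨b, e.symm⟩
  refine ⟨a, fun x => ?_⟩
  have := X.fix_all (α := (MulAut.conj (X.u a))⁻¹ * α) (fun c => by
      obtain ⟨d, e, e'⟩ := hx c
      refine ⟨a⁻¹ * d * a, by simp [e], ?_⟩
      simp only [mul_x, inv_x, e']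
      grind) (mul_mem hb (X.uN a)) (by
      simp only [MulAut.mul_apply, e, MulAut.conj_inv_apply]; group) x
  simp only [MulAut.mul_apply, MulAut.conj_inv_apply] at this
  conv_rhs => rw [← this]
  group

theorem cK (hz : ∀ y, α (X.u (ze hF y)) = X.u (ze hF y)) {k : Fˣ} (h1 : σ k = k) (h2 : k ≠ 1)
    (h : α (X.τ k) * (X.τ k)⁻¹ ∈ center M) (y : F) :
    α (X.n * X.u (ze hF y) * X.n⁻¹) = X.n * X.u (ze hF y) * X.n⁻¹ := by
  obtain ⟨y0, hy⟩ := ze_ne (hF := hF)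
  have hS : ∀ a, α (X.u a) ∈ X.u.range := fun a => X.mem_S ((X.pu a).map α.toMonoidHom)
    (X.B_of hy ⟨ze hF y0, by
      rw [eq_mul_inv_iff_mul_eq, ← hz, ← map_mul, ← map_mul, ← map_mul, ← map_mul, ze_comm]⟩)
  obtain ⟨a, b, hb, e⟩ := X.aut_n hS
  obtain rfl : a = 1 := by
    have m := (X.aut_B hS).2 (X.nτN k)
    nth_rw 1 [← X.ni] at m
    rw [map_mul, map_mul, map_inv, e, ← inv_mul_cancel_right (α (X.τ k)) (X.τ k)] at m
    generalize α (X.τ k) * (X.τ k)⁻¹ = z at h m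
    have m2 : z ∈ N[X.u.range] := C_le_N _ (mem_C.2 fun x _ => mem_center_iff.1 h x)
    refine aut_fix h1 h2 (inv_mul_eq_one.1 (X.key ?_)).symm
    rw [map_mul, map_inv, ← lam_fix h1, ← X.hu]
    have := mul_mem (inv_mem m2) (mul_mem (mul_mem (mul_mem hb m) (inv_mem hb)) (inv_mem (X.nτN k)))
    rw [← mul_assoc _ z, mem_center_iff.1 h, mul_assoc z, mul_assoc z, ← mul_assoc b,
      mem_center_iff.1 h b] at this
    convert this using 1
    nth_rw 1 [← X.ni]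
    nth_rw 2 [← X.ni]
    group
  obtain ⟨j, e⟩ := X.fix_n hb (by simpa using e)
  obtain ⟨y', e'⟩ := exists_ze (d := r1 (ze hF y)) (by simp [r1])
  rw [map_mul, map_mul, map_inv, e, hz, mul_inv_rev, ← mul_assoc, mul_assoc X.n, mul_assoc X.n, X.hu,
    X.fix_d hS e (hz y) (e' ▸ hz y')]

theorem K0 {Y : Subgroup M} (h1 : ∀ y, X.u (ze hF y) ∈ Y) (h2 : ∀ y, X.n * X.u (ze hF y) * X.n ∈ Y) :
    X.n ∈ Y ∧ ∀ k : Fˣ, σ k = k → X.τ k ∈ Y := by
  have h : ∀ k : Fˣ, σ k = k → X.n * X.τ k ∈ Y := fun k e => by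
    let d : Uq hF := ⟨0, k, by simp [e, CharTwo.add_self_eq_zero]⟩
    have d1 : d ≠ 1 := fun e => k.ne_zero (congrArg Uq.y e)
    obtain ⟨a, ea⟩ := exists_ze (d := d) rfl
    obtain ⟨b, eb⟩ := exists_ze (d := r1 d) (by simp [r1, d])
    obtain ⟨c, ec⟩ := exists_ze (d := r2 d) (by simp [r2, d])
    have := mul_mem (mul_mem (inv_mem (h1 b)) (h2 a)) (inv_mem (h1 c))
    rw [← ea, ← eb, ← ec, X.rel d1] at this
    simpa [mul_assoc, d] using this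
  have n := h 1 (by simp)
  rw [map_one, mul_one] at n
  exact ⟨n, fun k e => (mul_mem_cancel_left n).1 (h k e)⟩

theorem K1 {Y : Subgroup M} (h1 : ∀ y, X.u (ze hF y) ∈ Y) {l : M} {a : Uq hF} {b : M}
    (hb : b ∈ N[X.u.range]) (h2 : ∀ y, X.u a * X.n * b * X.u (ze hF y) * (X.u a * X.n * b)⁻¹ ∈ Y) :
    (∀ y, X.u (ze hF y) ∈ Y.comap (MulAut.conj (X.u a)).toMonoidHom) ∧
      ∀ y, X.n * X.u (ze hF y) * X.n ∈ Y.comap (MulAut.conj (X.u a)).toMonoidHom := by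
  refine ⟨fun y => ?_, fun y => ?_⟩
  · change X.u a * _ * _ ∈ Y
    rw [← map_mul, ze_comm, map_mul, mul_inv_cancel_right]
    exact h1 y
  obtain ⟨c, k, e⟩ := X.of_B (inv_mem hb)
  have := h2 (lam hF k * σ (lam hF k) * y)
  rw [← aut_ze, ← X.hu, ← inv_inv b, e, show ∀ z, X.u a * X.n * (X.u c * X.τ k)⁻¹ * (X.τ k * z * (X.τ k)⁻¹) *
    (X.u a * X.n * (X.u c * X.τ k)⁻¹)⁻¹ = X.u a * (X.n * ((X.τ k)⁻¹ * ((X.u c)⁻¹ * (X.τ k * z * (X.τ k)⁻¹) *
    X.u c) * X.τ k) * X.n⁻¹) * (X.u a)⁻¹ from fun _ => by group, X.hu, aut_ze, mul_assoc (X.u c)⁻¹,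
    ← map_mul, ← ze_comm, map_mul, inv_mul_cancel_left, ← aut_ze, ← X.hu, X.ni] at this
  simpa [mul_assoc] using this

theorem gen0 {Y : Subgroup M} {a : F} (a0 : a ≠ 0) (h1 : ∀ d : Uq hF, ∀ e, σ e = e → d.x = e * a → X.u d ∈ Y)
    (h2 : ∀ y, X.n * X.u (ze hF y) * X.n ∈ Y) (d : Uq hF) : X.u d ∈ Y := by
  have z : ∀ y, X.u (ze hF y) ∈ Y := fun y => h1 _ 0 (map_zero _) (zero_mul a).symm
  obtain ⟨n, t⟩ := X.K0 z h2
  obtain ⟨y, hy⟩ := exists_y (hF := hF) a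
  let f : Uq hF := ⟨a, y, hy⟩
  have f1 : f ≠ 1 := fun e => a0 (congrArg Uq.x e)
  have m := mul_mem (mul_mem n (h1 f 1 (map_one _) (one_mul a).symm)) n
  rw [X.rel f1] at m
  obtain ⟨k1, k2⟩ := X.K1 z (l := 1) (mul_mem (X.τN _) (X.uN _))
    fun y => mul_mem (mul_mem m (z y)) (inv_mem m)
  have t2 := (X.K0 k1 k2).2
  have c : ∀ k : Fˣ, σ k = k → X.u (aut k (r1 f) * (r1 f)⁻¹) ∈ Y := fun k e => by
    have := mul_mem (t k e) (inv_mem (show X.u (r1 f) * X.τ k * (X.u (r1 f))⁻¹ ∈ Y from t2 k e))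
    rw [map_mul, map_inv, ← lam_fix e, ← X.hu]
    convert this using 1
    group
  obtain ⟨k, hk⟩ := exists_k0 (hF := hF) X.hq
  let κ : Fˣ := k * Units.map (σ : F →* F) k
  have κ1 : σ κ = κ := by simp [κ, ss, mul_comm]
  have κ2 : (κ : F) + 1 ≠ 0 := fun e => hk (CharTwo.add_eq_zero.1 e)
  have y0 : y ≠ 0 := y_ne_zero f1
  have y1 := (map_ne_zero σ).2 y0
  have y2 : y + σ y ≠ 0 := hy ▸ mul_ne_zero a0 ((map_ne_zero σ).2 a0)
  have a1 := (map_ne_zero σ).2 a0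
  let e := (d.x / a + σ (d.x / a)) * (y * σ y) / ((y + σ y) * (κ + 1))
  have e1 : σ e = e := by simp only [e, map_div₀, map_mul, map_add, ss, κ1, map_one]; ring
  obtain ⟨g, hg, e2⟩ : ∃ g, X.u g ∈ Y ∧ g.x = e * ((κ + 1) * (a / σ y)) := by
    rcases eq_or_ne e 0 with e0 | e0
    · exact ⟨1, by simp, by simp [e0]⟩
    refine ⟨aut (Units.mk0 e e0) (aut κ (r1 f) * (r1 f)⁻¹), ?_, by simp [aut_x, r1, f, add_mul, mul_add]⟩
    rw [← lam_fix (k := Units.mk0 e e0) e1, ← X.hu]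
    exact mul_mem (mul_mem (t _ e1) (c κ κ1)) (inv_mem (t _ e1))
  refine (mul_mem_cancel_left hg).1 ?_
  rw [← map_mul]
  refine h1 _ ((g.x + d.x) / a) ?_ (by simp [a0])
  rw [e2]
  simp only [e, map_div₀, map_mul, map_add, ss, κ1, map_one]
  field_simp
  grind

theorem gen {Y : Subgroup M} {a : F} (a0 : a ≠ 0) {l : M} (hl : l ∉ N[X.u.range])
    (h1 : ∀ d : Uq hF, ∀ e, σ e = e → d.x = e * a → X.u d ∈ Y)
    (h2 : ∀ y, l * X.u (ze hF y) * l⁻¹ ∈ Y) (d : Uq hF) : X.u d ∈ Y := by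
  rcases X.br l with ⟨b, k, rfl⟩ | ⟨s, b, k, rfl⟩
  · exact absurd (mul_mem (X.uN b) (X.τN k)) hl
  have := X.gen0 a0 (fun d e e1 e2 => ?_) (X.K1 (l := 1) (fun y => h1 _ 0 (map_zero _) (zero_mul a).symm)
    (mul_mem (X.uN b) (X.τN k)) h2).2 (s⁻¹ * d * s)
  · simpa [mul_assoc] using this
  · simpa using h1 (s * d * s⁻¹) e e1 (by simp only [mul_x, inv_x, e2]; grind)

end R1

end H14.UM
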