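import Mathlib
import Cfsg.Agent.H2.Frattini
import Cfsg.Agent.H14.PermChar

/-! Rank three groups of Wielandt type. -/

set_option autoImplicit false
set_option linter.unusedSectionVars false

namespace H14

open Cfsg H4 Module LinearMap MulAction
open scoped ComplexConjugate Matrix

variable {G : Type*} [Group G] {Ω : Type*} [Fintype Ω] [DecidableEq Ω] [MulAction G Ω]

theorem prime_of_subdegree_one [Finite G] (hprim : IsPreprimitive G Ω) {a b : Ω} (hab : b ≠ a)
    (h : Nat.card (orbit (stabilizer G a) b) = 1) : (Fintype.card Ω).Prime := by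
  have hle : stabilizer G a ≤ stabilizer G b := fun g hg => by
    have := (Nat.card_eq_one_iff_unique.1 h).1
    exact congrArg Subtype.val (Subsingleton.elim
      (⟨g • b, ⟨⟨g, hg⟩, rfl⟩⟩ : orbit (stabilizer G a) b) ⟨b, mem_orbit_self b⟩)
  have : Nontrivial Ω := ⟨⟨b, a, hab⟩⟩
  have hco := fun x : Ω => (isCoatom_stabilizer_iff_preprimitive G x).2 hprim
  have heq : stabilizer G a = stabilizer G b := 
    hle.eq_or_lt.resolve_right fun h => (hco b).1 ((hco a).2 _ h)
  rcases rel_trivial_or_total (h := hprim) (fun x y => stabilizer G x = stabilizer G y)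
    ⟨fun _ => rfl, Eq.symm, Eq.trans⟩ (fun g x y hxy => by
      rw [stabilizer_smul_eq_stabilizer_map_conj, stabilizer_smul_eq_stabilizer_map_conj, hxy])
    with h1 | h1
  · exact absurd (h1 _ _ heq).symm hab
  have : (stabilizer G a).Normal := ⟨fun n hn g => by
    rw [h1 a (g⁻¹ • a)] at hn
    rw [mem_stabilizer_iff] at hn ⊢
    rw [mul_smul, mul_smul, hn, smul_inv_smul]⟩
  have := H2.prime_index_of_isCoatom_of_normal (hco a)
  rwa [index_stabilizer_of_transitive, Nat.card_eq_fintype_card] at this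

theorem wielandt_arith {m k l : ℕ} {r s : ℤ} (hm : 2 ≤ m) (hk : 2 ≤ k) (hl : 2 ≤ l)
    (hkl : k + l + 1 = 2 * m) (h1 : (k : ℤ) + (m - 1) * r + m * s = 0)
    (h2 : (k : ℤ) ^ 2 + (m - 1) * r ^ 2 + m * s ^ 2 = 2 * m * k) :
    ∃ a : ℕ, 0 < a ∧ m = 2 * a ^ 2 + 2 * a + 1 ∧
      ((k = a * (2 * a + 1) ∧ l = (a + 1) * (2 * a + 1)) ∨
        (l = a * (2 * a + 1) ∧ k = (a + 1) * (2 * a + 1))) := by
  obtain ⟨t, rfl⟩ : ∃ t, s = -(r + t) := ⟨-s - r, by ring⟩
  have hk' : (k : ℤ) = r + m * t := by linarith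
  have hm' : (2 : ℤ) ≤ m := by exact_mod_cast hm
  have h3 : 2 * ((r + t) * (r + t - 1)) + (m - 1) * (t * (t - 2)) = 0 := by
    apply mul_left_cancel₀ (show (m : ℤ) ≠ 0 by omega)
    rw [hk'] at h2
    linear_combination h2
  have h4 : 0 ≤ (r + t) * (r + t - 1) := by
    rcases le_or_gt (r + t) 0 with h | h <;> nlinarith
  have h5 : t * (t - 2) ≤ 0 := by
    by_contra h
    nlinarith
  have h6 : t = 0 ∨ t = 1 ∨ t = 2 := by
    by_contra h
    rcases (by omega : t ≤ -1 ∨ 3 ≤ t) with h | h <;> nlinarith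
  rcases h6 with rfl | rfl | rfl
  · exfalso; nlinarith
  · rcases le_or_gt 0 r with h | h
    · obtain ⟨a, rfl⟩ := Int.eq_ofNat_of_zero_le h
      have e1 : m = 2 * a ^ 2 + 2 * a + 1 := by zify; linear_combination -h3
      have e2 : k = (a + 1) * (2 * a + 1) := by zify at e1 ⊢; linear_combination hk' + e1
      have e3 : l = a * (2 * a + 1) := by zify at e1 e2 hkl ⊢; linear_combination hkl + 2 * e1 - e2
      exact ⟨a, Nat.pos_of_ne_zero fun h => by rw [h] at e1; omega, e1, Or.inr ⟨e3, e2⟩⟩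
    · obtain ⟨a, ha⟩ := Int.eq_ofNat_of_zero_le (show 0 ≤ -r - 1 by omega)
      obtain rfl : r = -a - 1 := by omega
      have e1 : m = 2 * a ^ 2 + 2 * a + 1 := by zify; linear_combination -h3
      have e2 : k = a * (2 * a + 1) := by zify at e1 ⊢; linear_combination hk' + e1
      have e3 : l = (a + 1) * (2 * a + 1) := by
        zify at e1 e2 hkl ⊢; linear_combination hkl + 2 * e1 - e2
      exact ⟨a, Nat.pos_of_ne_zero fun h => by rw [h] at e1; omega, e1, Or.inl ⟨e2, e3⟩⟩
  · exfalso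
    have : r ≤ -3 := by omega
    nlinarith

theorem exists_int_of_isIntegral_mul {x : ℂ} (hx : IsIntegral ℤ x) {a : ℤ} {b : ℕ} (hb : b ≠ 0)
    (h : (b : ℂ) * x = a) : ∃ n : ℤ, x = n := by
  have hb' : (b : ℂ) ≠ 0 := Nat.cast_ne_zero.2 hb
  have h1 : x = ((a / b : ℚ) : ℂ) := by push_cast; rw [← h]; field_simp
  obtain ⟨n, hn⟩ := exists_int_of_isIntegral_rat (h1 ▸ hx)
  exact ⟨n, by rw [h1, ← hn]; simp⟩

variable [Fintype G]

theorem mEnd_ones [IsPretransitive G Ω] [Nonempty Ω] :
    mEnd (Matrix.of fun _ _ : Ω => (1 : ℂ)) =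
      (Fintype.card Ω : ℂ) • cIdem (permRep ℂ G Ω) (fun _ => 1) := by
  rw [← mEnd_eMat, ← map_smul]
  congr 1
  have hinv : InvM G (eMat Ω (fun _ : G => (1 : ℂ))) := by
    rw [← commute_mEnd_iff, mEnd_eMat]; exact cIdem_commute (isClassFunction_const 1)
  have hrow : ∀ g : G, pMat Ω g * eMat Ω (fun _ : G => (1 : ℂ)) = eMat Ω (fun _ : G => 1) := by
    intro g
    apply mEnd.injective
    rw [map_mul, ← permRep_eq, mEnd_eMat, cIdem, mul_smul_comm, Finset.mul_sum]
    congr 1
    exact Fintype.sum_equiv (Equiv.mulLeft g) _ _ fun k => by simp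
  have hsum : ∀ y, ∑ x, eMat Ω (fun _ : G => (1 : ℂ)) x y = 1 := by
    intro y
    simp only [eMat, Matrix.smul_apply, Matrix.sum_apply, pMat, Matrix.of_apply, smul_eq_mul,
      ← Finset.mul_sum, map_one, one_mul]
    rw [Finset.sum_comm]
    simp [← Nat.card_eq_fintype_card, card_ne_zero G]
  ext x y
  refine (hsum y).symm.trans ?_
  rw [Finset.sum_congr rfl
    (g := fun _ => eMat Ω (fun _ : G => (1 : ℂ)) x y) (fun z _ => by
      obtain ⟨g, rfl⟩ := exists_smul_eq G x z
      conv_rhs => rw [← hrow g⁻¹, pMat_mul_apply, inv_inv])]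
  simp

theorem ev_ones [IsPretransitive G Ω] [Nonempty Ω] {χ : G → ℂ} (hχ : IsIrrCharacter G χ)
    (h1 : χ ≠ fun _ => 1) :
    classInner (trF (permRep ℂ G Ω) (mEnd (Matrix.of fun _ _ : Ω => (1 : ℂ)))) χ = 0 := by
  rw [mEnd_ones (G := G), trF_smul, trF_cIdem isIrrCharacter_one, classInner_smul_left,
    classInner_smul_left, isIrrCharacter_one.inner_of_ne hχ h1.symm, mul_zero, mul_zero]

theorem wielandt_type (hprim : IsPreprimitive G Ω) {m : ℕ} (hm : Fintype.card Ω = 2 * m) (a₀ : Ω)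
    (hrank : Nat.card (orbitRel.Quotient (stabilizer G a₀) Ω) = 3) (χ₁ χ₂ : G → ℂ)
    (h₁ : IsIrrCharacter G χ₁) (h₂ : IsIrrCharacter G χ₂)
    (hπ : permC G Ω = fun g => 1 + χ₁ g + χ₂ g) (hd₁ : χ₁ 1 = (m : ℂ) - 1) (hd₂ : χ₂ 1 = m) :
    ∃ a : ℕ, 0 < a ∧ m = 2 * a ^ 2 + 2 * a + 1 ∧ ∀ b : Ω, b ≠ a₀ →
      Nat.card (orbit (stabilizer G a₀) b) = a * (2 * a + 1) ∨
      Nat.card (orbit (stabilizer G a₀) b) = (a + 1) * (2 * a + 1) := by
  classical
  have : Nonempty Ω := ⟨a₀⟩
  have hπ' : permC G Ω = (fun _ => 1) + χ₁ + χ₂ := hπ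
  have hin : ∀ χ, classInner (permC G Ω) χ =
      classInner (fun _ => 1) χ + classInner χ₁ χ + classInner χ₂ χ := fun χ => by
    rw [hπ', classInner_add_left, classInner_add_left]
  have hm2 : 2 ≤ m := by
    obtain ⟨n, hn, hn'⟩ := h₁.exists_nat_apply_one
    rw [hd₁, sub_eq_iff_eq_add] at hn'
    norm_cast at hn'
    omega
  have h12 : χ₁ ≠ χ₂ := fun h => by
    rw [h, hd₂] at hd₁; simp [eq_sub_iff_add_eq] at hd₁
  have h20 : χ₂ ≠ fun _ => 1 := fun h => by
    rw [h] at hd₂
    have : m = 1 := Nat.cast_eq_one.1 hd₂.symm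
    omega
  have h10 : χ₁ ≠ fun _ => 1 := fun h => by
    have := hin (fun _ => 1)
    rw [inner_permC_one, h₂.inner_of_ne isIrrCharacter_one h20, h, classInner_one_one] at this
    norm_num at this
  have m1 : classInner (permC G Ω) χ₁ = 1 := by
    rw [hin, isIrrCharacter_one.inner_of_ne h₁ h10.symm, h₁.inner_self,
      h₂.inner_of_ne h₁ h12.symm]; simp
  have m2 : classInner (permC G Ω) χ₂ = 1 := by
    rw [hin, isIrrCharacter_one.inner_of_ne h₂ h20.symm, h₂.inner_self,
      h₁.inner_of_ne h₂ h12]; simp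
  have m0 : ∀ χ, IsIrrCharacter G χ → classInner (permC G Ω) χ ≠ 0 →
      χ = (fun _ => 1) ∨ χ = χ₁ ∨ χ = χ₂ := fun χ hχ h => by
    by_contra hc
    push Not at hc
    apply h
    rw [hin, isIrrCharacter_one.inner_of_ne hχ hc.1.symm, h₁.inner_of_ne hχ hc.2.1.symm,
      h₂.inner_of_ne hχ hc.2.2.symm]; simp
  have hconj : ∀ χ, IsIrrCharacter G χ →
      classInner (permC G Ω) (fun g => conj (χ g)) = classInner (permC G Ω) χ := fun χ hχ => by
    rw [(isCharacter_fixedBy Ω).inner_comm hχ.isCharacter, ← classInner_conj_conj (permC G Ω) χ]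
    simp only [map_natCast]
  have hsym : ∀ {M : Matrix Ω Ω ℂ}, InvM G M → Mᵀ = M := symm_of_multFree_real fun χ hχ h => by
    rcases m0 χ hχ h with rfl | rfl | rfl
    · exact ⟨inner_permC_one, fun _ => map_one _⟩
    · refine ⟨m1, congrFun ?_⟩
      rcases m0 _ hχ.conj (by rwa [hconj _ hχ]) with h | h | h
      · exact absurd (funext fun g => by simpa using congrArg conj (congrFun h g)) h10
      · exact h
      · have := congrFun h 1
        rw [conj_apply_one hχ.isCharacter, hd₁, hd₂] at this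
        simp at this
    · refine ⟨m2, congrFun ?_⟩
      rcases m0 _ hχ.conj (by rwa [hconj _ hχ]) with h | h | h
      · exact absurd (funext fun g => by simpa using congrArg conj (congrFun h g)) h20
      · have := congrFun h 1
        rw [conj_apply_one hχ.isCharacter, hd₁, hd₂] at this
        simp [eq_sub_iff_add_eq] at this
      · exact h
  have htr : ∀ {M : Matrix Ω Ω ℂ}, InvM G M →
      M.trace = classInner (trF (permRep ℂ G Ω) (mEnd M)) (fun _ => 1) +
        (m - 1) * classInner (trF (permRep ℂ G Ω) (mEnd M)) χ₁ +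
        m * classInner (trF (permRep ℂ G Ω) (mEnd M)) χ₂ := fun {M} hM => by
    rw [← trace_mEnd, ← trF_apply_one (permRep ℂ G Ω), (trF_classFun hM.commute).apply_eq_sum,
      ← Finset.sum_subset (Finset.subset_univ {irrOne G, ⟨χ₁, h₁⟩, ⟨χ₂, h₂⟩}),
      Finset.sum_insert, Finset.sum_pair]
    · simp only [irrOne_coe, hd₁, hd₂]; ring
    · exact fun h => h12 (congrArg Subtype.val h)
    · simp only [Finset.mem_insert, Finset.mem_singleton, not_or]
      exact ⟨fun h => h10 (congrArg Subtype.val h).symm, fun h => h20 (congrArg Subtype.val h).symm⟩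
    · intro χ _ hχ
      rw [inner_trF_eq_zero χ.2, zero_mul]
      rw [char_permRep]
      by_contra h
      apply hχ
      rcases m0 χ χ.2 h with h | h | h
      · simp [show χ = irrOne G from Subtype.ext h]
      · simp [show χ = ⟨χ₁, h₁⟩ from Subtype.ext h]
      · simp [show χ = ⟨χ₂, h₂⟩ from Subtype.ext h]
  -- the three orbits
  have := Fintype.ofFinite (orbitRel.Quotient (stabilizer G a₀) Ω)
  let q₀ : orbitRel.Quotient (stabilizer G a₀) Ω := Quotient.mk _ a₀
  obtain ⟨q₁, q₂, hq, hqq⟩ := Finset.card_eq_two.1 (show (Finset.univ.erase q₀).card = 2 by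
    rw [Finset.card_erase_of_mem (Finset.mem_univ _), Finset.card_univ,
      ← Nat.card_eq_fintype_card, hrank])
  induction q₁ using Quotient.inductionOn with | _ b => ?_
  induction q₂ using Quotient.inductionOn with | _ c => ?_
  have hb : b ≠ a₀ := fun h => Finset.ne_of_mem_erase
    (hqq ▸ Finset.mem_insert_self _ _ : Quotient.mk _ b ∈ Finset.univ.erase q₀) (by rw [h])
  have hc : c ≠ a₀ := fun h => Finset.ne_of_mem_erase
    (hqq ▸ by simp : Quotient.mk _ c ∈ Finset.univ.erase q₀) (by rw [h])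
  have hall : ∀ x, x ≠ a₀ → x ∈ orbit (stabilizer G a₀) b ∨ x ∈ orbit (stabilizer G a₀) c := by
    intro x hx
    have : Quotient.mk _ x ∈ Finset.univ.erase q₀ := Finset.mem_erase.2 ⟨fun h => hx (by
      have : x ∈ orbit (stabilizer G a₀) a₀ := Quotient.exact h
      rwa [orbit_stab_self] at this), Finset.mem_univ _⟩
    rw [hqq, Finset.mem_insert, Finset.mem_singleton] at this
    exact this.imp Quotient.exact Quotient.exact
  have hsum := card_eq_sum_orbits (H := stabilizer G a₀) (Ω := Ω)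
  rw [← Finset.add_sum_erase _ _ (Finset.mem_univ q₀), hqq, Finset.sum_pair hq,
    orbitRel.Quotient.orbit_mk, orbitRel.Quotient.orbit_mk, orbitRel.Quotient.orbit_mk,
    orbit_stab_self, Nat.card_unique, hm] at hsum
  have hnp : ¬ (Fintype.card Ω).Prime := by
    rw [hm]; exact Nat.not_prime_mul (by norm_num) (by omega)
  have hge : ∀ x, x ≠ a₀ → 2 ≤ Nat.card (orbit (stabilizer G a₀) x) := fun x hx => by
    have : Nonempty (orbit (stabilizer G a₀) x) := ⟨⟨x, mem_orbit_self x⟩⟩
    have h1 : 0 < Nat.card (orbit (stabilizer G a₀) x) := Nat.card_pos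
    have h2 := mt (prime_of_subdegree_one hprim hx) hnp
    omega
  set k := Nat.card (orbit (stabilizer G a₀) b)
  set l := Nat.card (orbit (stabilizer G a₀) c)
  set B := orbM G a₀ b
  have hB : InvM G B := orbM_inv _ _
  have hBB : ∀ x y, B x y * B x y = B x y := fun x y => by
    rcases orbM_zero_or_one (G := G) a₀ b x y with h | h <;> simp [B, h]
  have hdiag : ∀ x, (B * B) x x = k := fun x => by
    rw [← orbM_rowsum a₀ b x, Matrix.mul_apply]
    refine Finset.sum_congr rfl fun y _ => ?_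
    rw [← Matrix.transpose_apply B x y, hsym hB, hBB]
  have hint : ∀ x y, ∃ n : ℤ, (B * B) x y = n := fun x y => by
    have : ∀ x y, ∃ n : ℤ, B x y = n := fun x y => (orbM_zero_or_one (G := G) a₀ b x y).elim
      (fun h => ⟨0, by simp [B, h]⟩) fun h => ⟨1, by simp [B, h]⟩
    choose N hN using this
    exact ⟨∑ z, N x z * N z y, by simp [Matrix.mul_apply, hN]⟩
  obtain ⟨lam, hlam⟩ := hint a₀ b
  obtain ⟨mu, hmu⟩ := hint a₀ c
  have hsq : B * B = (k - mu : ℂ) • 1 + (lam - mu : ℂ) • B + (mu : ℂ) • Matrix.of fun _ _ => 1 := by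
    ext x y
    obtain ⟨g, rfl⟩ := exists_smul_eq G a₀ x
    obtain ⟨y, rfl⟩ := (toPerm g).surjective y
    simp only [toPerm_apply, Matrix.add_apply, Matrix.smul_apply, Matrix.of_apply, smul_eq_mul,
      (hB.mul hB) g, hB g, Matrix.one_apply, smul_left_cancel_iff]
    by_cases hy : y = a₀
    · rw [hy, hdiag, show B a₀ a₀ = 0 from orbM_diag hb _]; simp
    rw [if_neg (Ne.symm hy)]
    rcases hall y hy with h | h
    · obtain ⟨g, h1, rfl⟩ := mem_orbit_stab_iff.1 h
      have h2 := (hB.mul hB) g a₀ b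
      rw [h1] at h2
      rw [show B a₀ (g • b) = 1 from orbM_of_mem ⟨g, h1, rfl⟩, h2, hlam]; ring
    · have : B a₀ y = 0 := orbM_of_not_mem fun h' => hq (Quotient.sound
        ((orbitRel (stabilizer G a₀) Ω).trans ((orbitRel (stabilizer G a₀) Ω).symm
          (mem_orbit_stab_iff.2 h' : y ∈ _)) h))
      obtain ⟨g, h1, rfl⟩ := mem_orbit_stab_iff.1 h
      have h2 := (hB.mul hB) g a₀ c
      rw [h1] at h2
      rw [this, h2, hmu]; ring
  have hev : ∀ χ, IsIrrCharacter G χ → χ ≠ (fun _ => 1) → classInner (permC G Ω) χ = 1 →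
      classInner (trF (permRep ℂ G Ω) (mEnd B)) χ ^ 2 =
        (k - mu) + (lam - mu) * classInner (trF (permRep ℂ G Ω) (mEnd B)) χ := fun χ hχ h h' => by
    rw [sq, ← inner_trF_mul hχ (by rwa [char_permRep]) hB.commute, ← map_mul, hsq, map_add,
      map_add, map_smul, map_smul, map_smul, map_one, trF_add, trF_add, trF_smul, trF_smul,
      trF_smul, classInner_add_left, classInner_add_left, classInner_smul_left,
      classInner_smul_left, classInner_smul_left, ev_ones hχ h, trF_one, char_permRep, h']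
    ring
  have e0 : classInner (trF (permRep ℂ G Ω) (mEnd B)) (fun _ => 1) = k :=
    ev_one hB (orbM_rowsum a₀ b)
  have t1 := htr hB
  have t2 := htr (hB.mul hB)
  rw [map_mul, inner_trF_mul isIrrCharacter_one (by rw [char_permRep, inner_permC_one])
    hB.commute, inner_trF_mul h₁ (by rwa [char_permRep]) hB.commute,
    inner_trF_mul h₂ (by rwa [char_permRep]) hB.commute, e0, Matrix.trace] at t2
  rw [e0, Matrix.trace] at t1
  simp only [Matrix.diag_apply, hdiag, B, orbM_diag hb, Finset.sum_const, Finset.card_univ, hm,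
    smul_zero, nsmul_eq_mul] at t1 t2
  have i1 := isIntegral_inner_trF hB.commute (isIntegral_orbM a₀ b) h₁.isCharacter
  have e1 := hev _ h₁ h10 m1
  have e2 := hev _ h₂ h20 m2
  set r := classInner (trF (permRep ℂ G Ω) (mEnd B)) χ₁
  set s := classInner (trF (permRep ℂ G Ω) (mEnd B)) χ₂
  obtain ⟨r', s', hr, hs⟩ : ∃ r' s' : ℤ, r = r' ∧ s = s' := by
    by_cases hrs : r = s
    · obtain ⟨n, hn⟩ := exists_int_of_isIntegral_mul i1 (a := -k) (b := 2 * m - 1) (by omega)
        (by
          rw [Nat.cast_sub (by omega)]; push_cast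
          linear_combination -t1 + m * hrs)
      exact ⟨n, n, hn, hrs ▸ hn⟩
    · have h3 : r + s = lam - mu := mul_left_cancel₀ (sub_ne_zero.2 hrs)
        (by linear_combination e1 - e2)
      exact ⟨k + m * (lam - mu), -k - (m - 1) * (lam - mu), by
        push_cast; linear_combination t1 + m * h3, by
        push_cast; linear_combination -t1 - (m - 1) * h3⟩
  rw [hr, hs] at t1 t2
  obtain ⟨a, ha, ham, hkl⟩ := wielandt_arith (r := r') (s := s') hm2 (hge b hb) (hge c hc)
    (by omega) (by exact_mod_cast t1.symm) (by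
      have : (k : ℂ) ^ 2 + (m - 1) * r' ^ 2 + m * s' ^ 2 = 2 * m * k := by
        push_cast at t2; linear_combination -t2
      exact_mod_cast this)
  refine ⟨a, ha, ham, fun x hx => ?_⟩
  rcases hall x hx with h | h <;> rw [orbit_eq_iff.2 h] <;> tauto

end H14
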