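import Mathlib
import Cfsg.Agent.H4.Galois
import Cfsg.Agent.H14.WielandtType
import Cfsg.Agent.H14.Count

/-! Wielandt's theorem on primitive groups of degree `2p`. -/

set_option autoImplicit false
set_option linter.unusedSectionVars false

namespace H14

open Cfsg H4 Module LinearMap MulAction
open scoped ComplexConjugate Matrix

theorem mul_eq_sum_of_regular {H : Type*} [Group H] [Fintype H] [DecidableEq H] {V : Type*}
    [AddCommGroup V] [Module ℂ V] [FiniteDimensional ℂ V] {ρ : Representation ℂ H V}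
    (hc : ∀ a b : H, a * b = b * a) {F : End ℂ V} (hF : ∀ g, Commute F (ρ g)) (hFF : F * F = F)
    (hreg : ∀ g, trF ρ F g = if g = 1 then (Nat.card H : ℂ) else 0) {S : End ℂ V}
    (hS : ∀ g, Commute S (ρ g)) (hSF : Commute F S) :
    S * F = ∑ g, (trF ρ (S * F) g⁻¹ / Nat.card H) • (ρ g * F) := by
  have h1 := eq_sum_of_regular (ρ := (rangeRep hF).toRepresentation) hc
    (fun g => by rw [char_rangeRep hF hFF, hreg]) (S := S.restrict (mapsTo_range_of_commute hSF))
    (fun g => by ext v; exact congrArg (fun f : End ℂ V => f v) (hS g).eq)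
  have h2 : ∀ g, trF (rangeRep hF).toRepresentation (S.restrict (mapsTo_range_of_commute hSF)) g =
      trF ρ (S * F) g := fun g => by
    rw [trF_apply, trF_apply, ← mul_assoc, ← trace_restrict_range hFF ((hF g).mul_right hSF)]
    rfl
  simp only [h2] at h1
  ext v
  have h3 := congrArg Subtype.val (DFunLike.congr_fun h1 ⟨F v, v, rfl⟩)
  simp only [LinearMap.sum_apply, Submodule.coe_sum, LinearMap.smul_apply,
    Submodule.coe_smul] at h3 ⊢
  exact h3

theorem conv_eq_zero {H : Type*} [Group H] [Fintype H] {p : ℕ} (hp : p.Prime)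
    (hH : Nat.card H = p) (β : H → ℕ) (h1 : β 1 = 0) (h0 : ∑ g, β g ≠ 0) (φ : H → ℂ)
    (h : ∀ k, ∑ g, (β g : ℂ) * φ (g⁻¹ * k) = 0) : φ = 0 := by
  have : Fact p.Prime := ⟨hp⟩
  have hcyc : IsCyclic H := isCyclic_of_prime_card hH
  have hc : ∀ a b : H, a * b = b * a := fun a b => hcyc.isMulCommutative.1.1 a b
  refine (isClassFunction_of_comm hc φ).eq_zero_of_inner fun χ hχ => ?_
  have hχ1 := hχ.apply_one_of_comm hc
  obtain ⟨lam, hlam⟩ := hχ.conj.isCharacter.exists_linear (by simp [hχ1])
  have hl : ∀ g, conj (χ g) = lam g := congrFun hlam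
  have h2 : (∑ g, (β g : ℂ) * lam g) * ∑ k, φ k * lam k = 0 := by
    rw [Finset.sum_mul]
    have : ∀ g, (β g : ℂ) * lam g * ∑ k, φ k * lam k =
        ∑ k, (β g : ℂ) * φ (g⁻¹ * k) * lam k := fun g => by
      rw [Finset.mul_sum]
      exact Fintype.sum_equiv (Equiv.mulLeft g) _ _ fun k => by simp; ring
    simp only [this]
    rw [Finset.sum_comm]
    simp [← Finset.sum_mul, h]
  rw [classInner_def]
  simp only [hl]
  rw [(mul_eq_zero.1 h2).resolve_left, mul_zero]
  intro h3
  obtain ⟨u, hu⟩ := hcyc.exists_monoid_generator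
  have hou : orderOf u = p := by
    rw [orderOf_eq_card_of_forall_mem_powers hu, hH]
  have hbij : Function.Bijective (fun i : Fin p => u ^ (i : ℕ)) := by
    rw [Fintype.bijective_iff_injective_and_card, Fintype.card_fin, ← Nat.card_eq_fintype_card, hH]
    exact ⟨fun i j hij => Fin.ext (pow_injOn_Iio_orderOf (by simp [hou]) (by simp [hou]) hij), rfl⟩
  by_cases hz : (lam u : ℂ) = 1
  · have : ∀ g, (lam g : ℂ) = 1 := fun g => by
      obtain ⟨i, rfl⟩ := hbij.2 g
      simp [hz]
    simp only [this, mul_one] at h3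
    exact h0 (by exact_mod_cast h3)
  have hprim : IsPrimitiveRoot (lam u : ℂ) p := by
    have : orderOf (lam u : ℂ) = p := orderOf_eq_prime
      (by rw [← Units.val_pow_eq_pow_val, ← map_pow, ← hou, pow_orderOf_eq_one]; simp) hz
    exact this ▸ IsPrimitiveRoot.orderOf _
  rw [← hbij.sum_comp] at h3
  have h4 := (hprim.sum_eq_zero_iff_forall_eq_int hp (fun i => β (u ^ (i : ℕ)))).1
    (by simpa using h3)
  refine h0 (Finset.sum_eq_zero fun g _ => ?_)
  obtain ⟨i, rfl⟩ := hbij.2 g
  have := h4 i ⟨0, hp.pos⟩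
  simp only [pow_zero, h1] at this
  exact_mod_cast this

variable {G : Type*} [Group G] {Ω : Type*} [Fintype Ω] [DecidableEq Ω] [MulAction G Ω]

theorem exists_two_orbits (P : Subgroup G) [Fintype P] (hΩ : Fintype.card Ω = 2 * Nat.card P)
    (hfix : ∀ g : P, g ≠ 1 → ∀ x : Ω, g • x ≠ x) (x : Ω) :
    ∃ y : Ω, ∀ f : Ω → ℂ, ∑ z, f z = ∑ g : P, f (g • x) + ∑ g : P, f (g • y) := by
  have hinj : ∀ x : Ω, Function.Injective fun g : P => g • x := fun x g h hgh => by
    by_contra hne
    exact hfix (h⁻¹ * g) (by rwa [Ne, inv_mul_eq_one, eq_comm]) x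
      (by rw [mul_smul, inv_smul_eq_iff]; exact hgh)
  have hcard : ∀ x : Ω, (Finset.univ.image fun g : P => g • x).card = Nat.card P := fun x => by
    rw [Finset.card_image_of_injective _ (hinj x), Finset.card_univ, Nat.card_eq_fintype_card]
  have hpos : 0 < Nat.card P := Nat.card_pos
  obtain ⟨y, -, hy⟩ := Finset.exists_mem_notMem_of_card_lt_card
    (show (Finset.univ.image fun g : P => g • x).card < (Finset.univ : Finset Ω).card by
      rw [hcard, Finset.card_univ]; omega)
  have hd : Disjoint (Finset.univ.image fun g : P => g • x)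
      (Finset.univ.image fun g : P => g • y) := by
    rw [Finset.disjoint_left]
    simp only [Finset.mem_image, Finset.mem_univ, true_and] at hy ⊢
    rintro _ ⟨g, rfl⟩ ⟨h, hh⟩
    exact hy ⟨h⁻¹ * g, by rw [mul_smul, ← hh, inv_smul_smul]⟩
  refine ⟨y, fun f => ?_⟩
  rw [← Finset.eq_univ_of_card _ (show _ = Fintype.card Ω by
      rw [Finset.card_union_of_disjoint hd, hcard, hcard]; omega),
    Finset.sum_union hd, Finset.sum_image (fun _ _ _ _ h => hinj x h),
    Finset.sum_image (fun _ _ _ _ h => hinj y h)]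

variable [Fintype G]

/-- the combinatorial heart of Wielandt's theorem -/
theorem rank_le_three_of_regular (hprim : IsPreprimitive G Ω) {p : ℕ} (hp : p.Prime)
    (hΩ : Fintype.card Ω = 2 * p) (P : Subgroup G) (hP : Nat.card P = p)
    (hfix : ∀ g : P, g ≠ 1 → ∀ x : Ω, g • x ≠ x) {χ : G → ℂ} (hχ : IsIrrCharacter G χ)
    (hχ1 : χ ≠ fun _ => 1) (hm : classInner (permC G Ω) χ = 1) (hr : ∀ g, conj (χ g) = χ g)
    (hd : χ 1 = p) (hv : ∀ g : P, g ≠ 1 → χ g = 0) (a : Ω) :
    Nat.card (orbitRel.Quotient (stabilizer G a) Ω) ≤ 3 := by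
  classical
  have : Nonempty Ω := ⟨a⟩
  have : Fact p.Prime := ⟨hp⟩
  have hcyc : IsCyclic P := isCyclic_of_prime_card hP
  have hc : ∀ a b : P, a * b = b * a := fun a b => hcyc.isMulCommutative.1.1 a b
  have hp0 : (p : ℂ) ≠ 0 := Nat.cast_ne_zero.2 hp.ne_zero
  rw [← char_permRep] at hm
  set ρ := permRep ℂ G Ω with hρ
  let s : Matrix Ω Ω ℂ → ℂ := fun M => classInner (trF ρ (mEnd M)) χ
  let E := eMat Ω χ
  have hE : InvM G E := by rw [← commute_mEnd_iff, mEnd_eMat]; exact cIdem_commute hχ.classFun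
  have hEs : Eᵀ = E := by rw [eMat_transpose hχ.isCharacter, funext hr]
  have hME : ∀ M, InvM G M → M * E = s M • E := fun M hM => mEnd.injective (by
    rw [map_mul, map_smul, mEnd_eMat, mul_cIdem_eq_smul hχ hm hM.commute])
  have hEM : ∀ M, InvM G M → E * M = M * E := fun M hM => mEnd.injective (by
    rw [map_mul, map_mul, mEnd_eMat, (commute_cIdem hM.commute χ).eq])
  have hEE : E * E = E := mEnd.injective (by rw [map_mul, mEnd_eMat, cIdem_mul_self hχ])
  have htE : trF ρ (mEnd E) = χ := by rw [mEnd_eMat, trF_cIdem hχ, hm, one_smul]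
  have htrE : E.trace = p := by rw [← trace_mEnd, ← trF_apply_one ρ, htE, hd]
  have hst : ∀ M, InvM G M → s Mᵀ = s M := fun M hM => by
    have h1 := hME _ hM.transpose
    rw [← hEM _ hM.transpose, ← hEs, ← Matrix.transpose_mul, hME M hM, Matrix.transpose_smul,
      hEs] at h1
    have h2 := congrArg Matrix.trace h1
    rw [Matrix.trace_smul, Matrix.trace_smul, htrE] at h2
    exact (mul_right_cancel₀ hp0 h2).symm
  let F := 1 - E
  have hF : InvM G F := fun g x y => by
    simp only [F, Matrix.sub_apply, hE g, Matrix.one_apply, smul_left_cancel_iff]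
  have hFF : F * F = F := by simp only [F, mul_sub, sub_mul, hEE, one_mul, mul_one]; abel
  let A : Matrix Ω Ω ℂ → P → ℂ := fun M g => (∑ x, M (g • x) x) / p
  have htF : ∀ M, InvM G M → ∀ g : P, trF ρ (mEnd (M * F)) (g⁻¹ : P) =
      p * (A M g - if g = 1 then s M else 0) := fun M hM g => by
    rw [mul_sub, mul_one, hME M hM, map_sub, map_smul, trF_sub, trF_smul, htE, Pi.sub_apply,
      trF_mEnd, Subgroup.coe_inv, inv_inv, mul_sub, mul_div_cancel₀ _ hp0, Pi.smul_apply,
      smul_eq_mul]
    congr 1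
    split_ifs with h
    · rw [h, OneMemClass.coe_one, inv_one, hd, mul_comm]
    · rw [← Subgroup.coe_inv, hv _ (inv_ne_one.2 h), mul_zero, mul_zero]
  have hexp : ∀ M, InvM G M → M * F =
      ∑ g : P, (A M g - if g = 1 then s M else 0) • (pMat Ω (g : G) * F) := fun M hM => by
    apply mEnd.injective
    rw [map_mul, mul_eq_sum_of_regular (ρ := ρ.comp P.subtype) hc (fun g => hF.commute g)
      (by rw [← map_mul, hFF]) (fun g => ?_) (fun g => hM.commute g)
      (by rw [Commute, SemiconjBy, ← map_mul, ← map_mul]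
          simp only [F, mul_sub, sub_mul, one_mul, mul_one, hEM M hM]), map_sum]
    · refine Finset.sum_congr rfl fun g _ => ?_
      rw [map_smul, map_mul, ← permRep_eq, ← map_mul]
      congr 1
      exact (congrArg (· / (Nat.card P : ℂ)) (htF M hM g)).trans
        (by rw [hP]; exact mul_div_cancel_left₀ _ hp0)
    · show trF ρ (mEnd (1 - E)) g = _
      rw [map_sub, map_one, trF_sub, trF_one, htE, char_permRep, Pi.sub_apply]
      split_ifs with h
      · rw [h, OneMemClass.coe_one, permC_one, hd, hΩ, hP]; push_cast; ring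
      · have : IsEmpty (fixedBy Ω (g : G)) := ⟨fun x => hfix g h x.1 x.2⟩
        simp [permC, hv g h]
  have hkey : ∀ M N, InvM G M → InvM G N → ∑ x, ∑ y, N x y * M x y = p * (s N * s M +
      ∑ g : P, (A M g - if g = 1 then s M else 0) * (A N g - if g = 1 then s N else 0)) := by
    intro M N hM hN
    have h1 : ∑ x, ∑ y, N x y * M x y = (Nᵀ * (M * E)).trace + (Nᵀ * (M * F)).trace := by
      rw [← Matrix.trace_add, ← mul_add, ← mul_add, add_sub_cancel, mul_one, Finset.sum_comm]
      simp [Matrix.trace, Matrix.mul_apply]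
    rw [h1, hME M hM, Matrix.mul_smul, hME _ hN.transpose, hst N hN, hexp M hM, Finset.mul_sum,
      Matrix.trace_sum, Matrix.trace_smul, Matrix.trace_smul, htrE, mul_add, Finset.mul_sum]
    congr 1
    · simp only [smul_eq_mul]; ring
    refine Finset.sum_congr rfl fun g _ => ?_
    have h2 := htF _ hN.transpose g⁻¹
    have h3 : A Nᵀ g⁻¹ = A N g := by
      simp only [A]
      congr 1
      exact Fintype.sum_equiv (toPerm g⁻¹) _ _ fun x => by simp
    rw [inv_inv, h3, hst N hN, trF_apply, permRep_eq, ← map_mul, trace_mEnd] at h2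
    simp only [inv_eq_one] at h2
    have h4 : Nᵀ * pMat Ω (g : G) = pMat Ω (g : G) * Nᵀ := mEnd.injective (by
      rw [map_mul, map_mul, ← permRep_eq, (hN.transpose.commute _).eq])
    rw [Matrix.mul_smul, Matrix.trace_smul, ← mul_assoc, h4, mul_assoc, h2, smul_eq_mul]
    ring
  have hA : ∀ x, ∃ y, ∀ M, InvM G M → ∀ g : P, A M g = M (g • x) x + M (g • y) y := fun x => by
    obtain ⟨y, hy⟩ := exists_two_orbits P (by rw [hP, hΩ]) hfix x
    refine ⟨y, fun M hM g => ?_⟩
    have h1 : ∀ (h : P) z, M (g • h • z) (h • z) = M (g • z) z := fun h z => by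
      rw [← mul_smul, hc, mul_smul]; exact hM h _ _
    simp only [A, hy, h1, Finset.sum_const, Finset.card_univ, ← Nat.card_eq_fintype_card, hP,
      nsmul_eq_mul]
    field_simp
  have hA1 : ∀ b, b ≠ a → A (orbM G a b) 1 = 0 := fun b hb => by simp [A, orbM_diag hb]
  have hkey2 : ∀ b c, b ≠ a → c ≠ a → ∑ x, ∑ y, orbM G a b x y * orbM G a c x y =
      p * (2 * (s (orbM G a b) * s (orbM G a c)) +
        ∑ g, A (orbM G a b) g * A (orbM G a c) g) := fun b c hb hc => by
    rw [hkey _ _ (orbM_inv a c) (orbM_inv a b), ← Finset.add_sum_erase _ _ (Finset.mem_univ 1),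
      ← Finset.add_sum_erase _ _ (Finset.mem_univ 1), hA1 b hb, hA1 c hc,
      Finset.sum_congr rfl (g := fun g => A (orbM G a b) g * A (orbM G a c) g) fun g hg => by
        simp only [if_neg (Finset.ne_of_mem_erase hg)]; ring]
    simp only [if_true]; ring
  have hsq : ∀ b, b ≠ a → 2 * (Nat.card (orbit (stabilizer G a) b) : ℂ) =
      2 * s (orbM G a b) ^ 2 + ∑ g, A (orbM G a b) g ^ 2 := fun b hb => by
    have h1 := hkey2 b b hb hb
    have hBB : ∀ x y, orbM G a b x y * orbM G a b x y = orbM G a b x y := fun x y => by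
      rcases orbM_zero_or_one (G := G) a b x y with h | h <;> simp [h]
    simp only [hBB, orbM_rowsum, Finset.sum_const, Finset.card_univ, hΩ, nsmul_eq_mul] at h1
    apply mul_left_cancel₀ hp0
    simp only [sq]
    rw [← h1]; push_cast; ring
  have hrow : ∀ b, b ≠ a → (Nat.card (orbit (stabilizer G a) b) : ℂ) =
      ∑ g, A (orbM G a b) g - s (orbM G a b) := fun b hb => by
    have h1 := hkey _ (Matrix.of fun _ _ => 1) (orbM_inv a b) (fun _ _ _ => rfl)
    have h2 : ∀ g, A (Matrix.of fun _ _ => 1) g = 2 := fun g => by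
      simp only [A, Matrix.of_apply, Finset.sum_const, Finset.card_univ, hΩ, nsmul_eq_mul]
      push_cast; field_simp
    rw [show s (Matrix.of fun _ _ => 1) = 0 from ev_ones hχ hχ1] at h1
    simp only [h2, Matrix.of_apply, one_mul, orbM_rowsum, Finset.sum_const, Finset.card_univ, hΩ,
      nsmul_eq_mul, ite_self, sub_zero, zero_mul, zero_add, ← Finset.sum_mul,
      Finset.sum_sub_distrib, Finset.sum_ite_eq', Finset.mem_univ, if_true] at h1
    apply mul_left_cancel₀ (mul_ne_zero hp0 two_ne_zero)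
    push_cast at h1
    linear_combination h1
  have hnat : ∀ b x y, ∃ n : ℕ, n ≤ 1 ∧ orbM G a b x y = n := fun b x y =>
    (orbM_zero_or_one (G := G) a b x y).elim (fun h => ⟨0, by simp [h]⟩) fun h => ⟨1, by simp [h]⟩
  choose β hβ1 hβ using hnat
  have hpos : ∀ b : Ω, 0 < Nat.card (orbit (stabilizer G a) b) := fun b => by
    have : Nonempty (orbit (stabilizer G a) b) := ⟨⟨b, mem_orbit_self b⟩⟩
    exact Nat.card_pos
  have hs0 : ∀ b, b ≠ a → s (orbM G a b) ≠ 0 := fun b hb h0 => by
    have hF0 : ∀ x, (fun h : P => F (h • x) x - if h = 1 then 1 / 2 else 0) = 0 := fun x => by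
      obtain ⟨y, hy⟩ := hA x
      have h1 := hsq b hb
      have h2 := hrow b hb
      simp only [hy _ (orbM_inv a b), hβ, h0, sub_zero, ne_eq, OfNat.ofNat_ne_zero,
        not_false_eq_true, zero_pow, mul_zero, zero_add] at h1 h2
      have h1' : 2 * (Nat.card (orbit (stabilizer G a) b) : ℤ) =
          ∑ g : P, ((β b (g • x) x : ℤ) + β b (g • y) y) ^ 2 := by exact_mod_cast h1
      have h2' : (Nat.card (orbit (stabilizer G a) b) : ℤ) =
          ∑ g : P, ((β b (g • x) x : ℤ) + β b (g • y) y) := by exact_mod_cast h2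
      have h3 : ∀ g : P, β b (g • y) y = β b (g • x) x := by
        have h4 : ∑ g : P, ((β b (g • x) x : ℤ) - β b (g • y) y) ^ 2 = 0 := by
          rw [Finset.sum_congr rfl (g := fun g : P => 2 * ((β b (g • x) x : ℤ) + β b (g • y) y) -
            ((β b (g • x) x : ℤ) + β b (g • y) y) ^ 2) fun g _ => ?_, Finset.sum_sub_distrib,
            ← Finset.mul_sum, ← h1', ← h2', sub_self]
          have e1 := hβ1 b (g • x) x
          have e2 := hβ1 b (g • y) y
          generalize β b (g • x) x = i at *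
          generalize β b (g • y) y = j at *
          interval_cases i <;> interval_cases j <;> simp
        intro g
        have := (Finset.sum_eq_zero_iff_of_nonneg fun _ _ => sq_nonneg _).1 h4 g (Finset.mem_univ _)
        have := pow_eq_zero_iff (two_ne_zero) |>.1 this
        omega
      refine conv_eq_zero hp hP (fun g => β b (g • x) x) ?_ ?_ _ fun k => ?_
      · have := hβ b ((1 : P) • x) x
        rw [one_smul, orbM_diag hb] at this
        rw [one_smul]
        exact_mod_cast this.symm
      · intro h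
        have h5 : ∑ g : P, (β b (g • x) x : ℤ) = 0 := by exact_mod_cast h
        simp only [h3, Finset.sum_add_distrib, h5] at h2'
        have := hpos b
        omega
      · have h5 := congrFun (congrFun (hexp _ (orbM_inv a b)) (k • x)) x
        rw [mul_sub, mul_one, hME _ (orbM_inv a b), h0, zero_smul, sub_zero] at h5
        simp only [Matrix.sum_apply, Matrix.smul_apply, pMat_mul_apply, hy _ (orbM_inv a b), hβ,
          h3, ite_self, sub_zero, smul_eq_mul] at h5
        simp only [mul_sub, Finset.sum_sub_distrib, inv_mul_eq_one, mul_ite, mul_zero,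
          Finset.sum_ite_eq', Finset.mem_univ, if_true, h5, Finset.sum_mul, mul_smul]
        rw [← Finset.sum_sub_distrib]
        refine Finset.sum_eq_zero fun g _ => ?_
        rw [show (g : G)⁻¹ • k • x = g⁻¹ • k • x from rfl]
        ring
    have hFs : Fᵀ = F := by simp only [F, Matrix.transpose_sub, Matrix.transpose_one, hEs]
    have hFd : F a a = 1 / 2 := by simpa [sub_eq_zero] using congrFun (hF0 a) 1
    obtain ⟨c, hc, hFc⟩ : ∃ c, c ≠ a ∧ F a c ≠ 0 := by
      by_contra hcon
      push Not at hcon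
      have h1 := congrFun (congrFun hFF a) a
      rw [Matrix.mul_apply, Finset.sum_eq_single a (fun c _ hc => by rw [hcon c hc, zero_mul])
        (by simp), hFd] at h1
      norm_num at h1
    have hA0 : ∀ g, A (orbM G a c) g = 0 := fun g => by
      by_cases hg : g = 1
      · rw [hg, hA1 c hc]
      simp only [A]
      rw [Finset.sum_eq_zero, zero_div]
      refine fun x _ => orbM_of_not_mem fun ⟨γ, h1, h2⟩ => hFc ?_
      rw [← hF γ, h1, h2]
      simpa [hg] using congrFun (hF0 x) g
    have h1 := hsq c hc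
    have h2 := hrow c hc
    simp only [hA0, ne_eq, OfNat.ofNat_ne_zero, not_false_eq_true, zero_pow,
      Finset.sum_const_zero, add_zero, zero_sub] at h1 h2
    have h3 : Nat.card (orbit (stabilizer G a) c) * Nat.card (orbit (stabilizer G a) c) =
        Nat.card (orbit (stabilizer G a) c) := by
      have : (Nat.card (orbit (stabilizer G a) c) : ℂ) * Nat.card (orbit (stabilizer G a) c) =
          Nat.card (orbit (stabilizer G a) c) := by
        linear_combination (-1 / 2 : ℂ) * h1 +
          ((Nat.card (orbit (stabilizer G a) c) : ℂ) - s (orbM G a c)) * h2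
      exact_mod_cast this
    have h4 := prime_of_subdegree_one hprim hc ((Nat.mul_eq_left (hpos c).ne').1 h3)
    rw [hΩ] at h4
    exact Nat.not_prime_mul (by norm_num) hp.ne_one h4
  obtain ⟨y, hy⟩ := hA a
  let z : Ω → ℤ := fun b => ∑ g : P, ((β b (g • a) a : ℤ) + β b (g • y) y) -
    Nat.card (orbit (stabilizer G a) b)
  have hz : ∀ b, b ≠ a → s (orbM G a b) = z b := fun b hb => by
    have := hrow b hb
    simp only [hy _ (orbM_inv a b), hβ] at this
    simp only [z]
    push_cast
    linear_combination this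
  have hz0 : ∀ b, b ≠ a → z b ≠ 0 := fun b hb h => hs0 b hb (by rw [hz b hb, h, Int.cast_zero])
  have hzz : ∀ b c, b ≠ a → c ≠ a → b ∉ orbit (stabilizer G a) c → z b * z c ≤ 0 := by
    intro b c hb hc hbc
    have h1 := hkey2 b c hb hc
    rw [Finset.sum_eq_zero fun x _ => Finset.sum_eq_zero fun y _ => ?_, eq_comm,
      mul_eq_zero, or_iff_right hp0, hz b hb, hz c hc] at h1
    · simp only [hy _ (orbM_inv a _), hβ] at h1
      have h2 : 2 * (z b * z c) + ((∑ g : P, (β b (g • a) a + β b (g • y) y) *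
        (β c (g • a) a + β c (g • y) y) : ℕ) : ℤ) = 0 := by exact_mod_cast h1
      omega
    · by_cases h : ∃ g : G, g • a = x ∧ g • b = y
      · obtain ⟨g, h1, h2⟩ := h
        rw [orbM_of_not_mem (b := c), mul_zero]
        rintro ⟨k, h3, h4⟩
        exact hbc (mem_orbit_stab_iff.2 ⟨g⁻¹ * k, by rw [mul_smul, h3, ← h1, inv_smul_smul],
          by rw [mul_smul, h4, ← h2, inv_smul_smul]⟩)
      · rw [orbM_of_not_mem h, zero_mul]
  by_contra hcon
  have := Fintype.ofFinite (orbitRel.Quotient (stabilizer G a) Ω)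
  let q₀ : orbitRel.Quotient (stabilizer G a) Ω := Quotient.mk _ a
  obtain ⟨q₁, q₂, q₃, m1, m2, m3, n1, n2, n3⟩ := Finset.two_lt_card_iff.1
    (show 2 < (Finset.univ.erase q₀).card by
      rw [Finset.card_erase_of_mem (Finset.mem_univ _), Finset.card_univ,
        ← Nat.card_eq_fintype_card]; omega)
  induction q₁ using Quotient.inductionOn with | _ b => ?_
  induction q₂ using Quotient.inductionOn with | _ c => ?_
  induction q₃ using Quotient.inductionOn with | _ d => ?_
  have hb : b ≠ a := fun h => Finset.ne_of_mem_erase m1 (by rw [h])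
  have hc : c ≠ a := fun h => Finset.ne_of_mem_erase m2 (by rw [h])
  have hd : d ≠ a := fun h => Finset.ne_of_mem_erase m3 (by rw [h])
  have e1 := hzz b c hb hc fun h => n1 (Quotient.sound h)
  have e2 := hzz b d hb hd fun h => n2 (Quotient.sound h)
  have e3 := hzz c d hc hd fun h => n3 (Quotient.sound h)
  have := mul_self_pos.2 (mul_ne_zero (mul_ne_zero (hz0 b hb) (hz0 c hc)) (hz0 d hd))
  nlinarith [mul_nonneg_of_nonpos_of_nonpos e1 e2]

theorem two_trans_of_rank_two [IsPretransitive G Ω] (a : Ω)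
    (h : Nat.card (orbitRel.Quotient (stabilizer G a) Ω) = 2) : IsMultiplyPretransitive G Ω 2 := by
  have key : ∀ b c, b ≠ a → c ≠ a → ∃ g : G, g • a = a ∧ g • b = c := fun b c hb hc => by
    have hne : ∀ b, b ≠ a → (Quotient.mk _ b : orbitRel.Quotient (stabilizer G a) Ω) ≠
        Quotient.mk _ a := fun b hb h => hb (by
      have : b ∈ orbit (stabilizer G a) a := Quotient.exact h
      rwa [orbit_stab_self] at this)
    obtain ⟨q, -, hq⟩ := (Nat.card_eq_two_iff' (Quotient.mk _ a)).1 h
    exact mem_orbit_stab_iff.1 (Quotient.exact ((hq _ (hne c hc)).trans (hq _ (hne b hb)).symm))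
  rw [is_two_pretransitive_iff]
  intro x y z w hxy hzw
  obtain ⟨g, rfl⟩ := exists_smul_eq G a x
  obtain ⟨k, rfl⟩ := exists_smul_eq G a z
  obtain ⟨l, h1, h2⟩ := key (g⁻¹ • y) (k⁻¹ • w) (fun h => hxy (by rw [← h, smul_inv_smul]))
    (fun h => hzw (by rw [← h, smul_inv_smul]))
  exact ⟨k * l * g⁻¹, by simp [mul_smul, h1], by simp [mul_smul, h2]⟩

theorem wielandt_2p_of_semiregular (hprim : IsPreprimitive G Ω) {p : ℕ} (hp : p.Prime)
    (hΩ : Fintype.card Ω = 2 * p) (P : Subgroup G) (hP : Nat.card P = p)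
    (hfix : ∀ g : P, g ≠ 1 → ∀ x : Ω, g • x ≠ x) (a₀ : Ω) :
    IsMultiplyPretransitive G Ω 2 ∨ (Nat.card (orbitRel.Quotient (stabilizer G a₀) Ω) = 3 ∧
      ∃ a : ℕ, 0 < a ∧ p = 2 * a ^ 2 + 2 * a + 1 ∧ ∀ b : Ω, b ≠ a₀ →
      Nat.card (orbit (stabilizer G a₀) b) = a * (2 * a + 1) ∨
      Nat.card (orbit (stabilizer G a₀) b) = (a + 1) * (2 * a + 1)) := by
  classical
  have : Nonempty Ω := ⟨a₀⟩
  have : Fact p.Prime := ⟨hp⟩
  have hp0 : (p : ℂ) ≠ 0 := Nat.cast_ne_zero.2 hp.ne_zero
  have hπ : IsCharacter G (permC G Ω) := isCharacter_fixedBy Ω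
  let I : (G → ℂ) → ℂ := fun θ => classInner (fun g : P => θ g) (fun _ => 1)
  have hI : ∀ (θ : G → ℂ) (c : ℂ), (∀ g : P, g ≠ 1 → θ g = c) → p * I θ = θ 1 + (p - 1) * c := by
    intro θ c h
    rw [← hP, card_mul_classInner, ← Finset.add_sum_erase _ _ (Finset.mem_univ 1),
      Finset.sum_congr rfl (g := fun _ => c) fun g hg => by
        rw [h g (Finset.ne_of_mem_erase hg), map_one, mul_one], Finset.sum_const,
      Finset.card_erase_of_mem (Finset.mem_univ _), Finset.card_univ, ← Nat.card_eq_fintype_card,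
      nsmul_eq_mul, Nat.cast_sub Nat.card_pos]
    simp
  have hIπ : I (permC G Ω) = 2 := by
    apply mul_left_cancel₀ hp0
    rw [hI _ 0 fun g h => by
      have : IsEmpty (fixedBy Ω (g : G)) := ⟨fun x => hfix g h x.1 x.2⟩
      simp [permC], permC_one, hΩ]
    push_cast; ring
  choose m hm using fun χ : IrrCharacter G => hπ.inner_nat χ.2.isCharacter
  choose n hn using fun χ : IrrCharacter G => (χ.2.isCharacter.restrict P).inner_nat isCharacter_one
  have hm1 : m (irrOne G) = 1 := by
    have := hm (irrOne G)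
    rw [irrOne_coe, inner_permC_one] at this
    exact_mod_cast this.symm
  have hn1 : n (irrOne G) = 1 := by
    have := hn (irrOne G)
    rw [irrOne_coe, classInner_one_one] at this
    exact_mod_cast this.symm
  have hsum : ∑ χ ∈ Finset.univ.erase (irrOne G), m χ * n χ = 1 := by
    have h1 : (fun g : P => permC G Ω g) =
        ∑ χ : IrrCharacter G, (m χ : ℂ) • fun g : P => (χ : G → ℂ) g := by
      funext g
      rw [hπ.classFun.apply_eq_sum]
      simp [hm]
    simp only [I, h1, classInner_sum_left, classInner_smul_left, hn] at hIπ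
    rw [← Finset.add_sum_erase _ _ (Finset.mem_univ (irrOne G)), hm1, hn1] at hIπ
    have : 1 * 1 + ∑ χ ∈ Finset.univ.erase (irrOne G), m χ * n χ = 2 := by exact_mod_cast hIπ
    omega
  obtain ⟨χ, hχT, hχ0⟩ := Finset.exists_ne_zero_of_sum_ne_zero (hsum ▸ one_ne_zero)
  have huniq : ∀ ψ ∈ Finset.univ.erase (irrOne G), m ψ * n ψ ≠ 0 → ψ = χ := fun ψ hψ h => by
    by_contra hne
    have := Finset.sum_le_sum_of_subset (f := fun χ => m χ * n χ)
      (show {ψ, χ} ⊆ Finset.univ.erase (irrOne G) by simp [Finset.insert_subset_iff, hψ, hχT])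
    rw [Finset.sum_pair hne] at this
    omega
  have hmn : m χ * n χ = 1 := by
    have := Finset.single_le_sum (f := fun χ => m χ * n χ) (fun _ _ => Nat.zero_le _) hχT
    omega
  have hmχ : classInner (permC G Ω) χ = 1 := by
    rw [hm, Nat.eq_one_of_mul_eq_one_right hmn, Nat.cast_one]
  have hnχ : I χ = 1 := by
    rw [show I χ = n χ from hn χ, Nat.eq_one_of_mul_eq_one_left hmn, Nat.cast_one]
  obtain ⟨χ, hχ⟩ := χ
  simp only at hmχ hnχ
  have hχ1 : χ ≠ fun _ => 1 := fun h => Finset.ne_of_mem_erase hχT (Subtype.ext h)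
  have hgal : ∀ (σ : ℂ →+* ℂ) g, σ (χ g) = χ g := fun σ => by
    have h1 := classInner_map_ringHom (permC G Ω) hχ.isGen σ
    have h2 := classInner_map_ringHom (fun g : P => χ g) isGen_one σ
    simp only [map_natCast, map_one, hmχ] at h1 h2
    have h3 := hm ⟨_, hχ.map_ringHom σ⟩
    have h4 := hn ⟨_, hχ.map_ringHom σ⟩
    simp only at h3 h4
    rw [h2, show classInner _ _ = _ from hnχ, map_one] at h4
    rw [show classInner _ _ = _ from h1] at h3
    refine congrFun (congrArg Subtype.val (huniq ⟨_, hχ.map_ringHom σ⟩ (Finset.mem_erase.2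
      ⟨fun h => hχ1 (funext fun g => σ.injective ?_), Finset.mem_univ _⟩) ?_))
    · simpa using congrFun (congrArg Subtype.val h) g
    · rw [Nat.cast_eq_one.1 h3.symm, Nat.cast_eq_one.1 h4.symm]; exact one_ne_zero
  obtain ⟨u, hu⟩ := (isCyclic_of_prime_card hP).exists_monoid_generator
  have hou : orderOf u = p := by rw [orderOf_eq_card_of_forall_mem_powers hu, hP]
  have hu1 : u ≠ 1 := fun h => hp.ne_one (by rw [← hou, h, orderOf_one])
  obtain ⟨c, hc⟩ := exists_int_of_forall_ringEquiv (hχ.isCharacter.isIntegral u)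
    (fun σ => hgal σ u)
  have hcg : ∀ g : P, g ≠ 1 → χ g = c := fun g hg => by
    obtain ⟨k, rfl⟩ := hu g
    have hk : k.Coprime p := ((Nat.Prime.coprime_iff_not_dvd hp).2 fun h =>
      hg (orderOf_dvd_iff_pow_eq_one.1 (hou ▸ h))).symm
    obtain ⟨σ, hσ⟩ := exists_ringEquiv_pow hp.ne_zero hk
    rw [← hc, ← hgal σ u, hχ.isCharacter.map_apply_eq_pow (σ : ℂ →+* ℂ) hσ (g := u)
      (by rw [← hou, ← Subgroup.coe_pow, pow_orderOf_eq_one, OneMemClass.coe_one])]
    rfl
  obtain ⟨d, hd0, hd⟩ := hχ.exists_nat_apply_one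
  have hdc : (p : ℤ) = d + (p - 1) * c := by
    have := hI χ c hcg
    rw [hnχ, hd, mul_one] at this
    exact_mod_cast this
  have h1χ := isIrrCharacter_one.inner_of_ne hχ hχ1.symm
  have hχ1' := hχ.inner_of_ne isIrrCharacter_one hχ1
  have hψ : IsCharacter G (permC G Ω - (fun _ => 1) - χ) :=
    (hπ.sub_irr isIrrCharacter_one (by rw [inner_permC_one]; exact one_ne_zero)).sub_irr hχ
      (by rw [classInner_sub_left, hmχ, h1χ, sub_zero]; exact one_ne_zero)
  set ψ := permC G Ω - (fun _ => 1) - χ with hψdef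
  have hπeq : permC G Ω = (fun _ => 1) + χ + ψ := by rw [hψdef]; abel
  obtain ⟨e, he⟩ := hψ.exists_nat_apply_one
  have hde : 1 + d + e = 2 * p := by
    have := congrFun hπeq 1
    rw [permC_one, hΩ, Pi.add_apply, Pi.add_apply, hd, he] at this
    exact_mod_cast this.symm
  obtain ⟨t, ht⟩ := hψ.inner_nat hψ
  have hrank : Nat.card (orbitRel.Quotient (stabilizer G a₀) Ω) = 2 + t := by
    have h1 : classInner ψ (fun _ => 1) = 0 := by
      rw [hψdef, classInner_sub_left, classInner_sub_left, inner_permC_one, classInner_one_one,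
        hχ1']; simp
    have h2 : classInner ψ χ = 0 := by
      rw [hψdef, classInner_sub_left, classInner_sub_left, hmχ, h1χ, hχ.inner_self]; simp
    have := inner_permC_self (G := G) a₀
    rw [hπeq] at this
    simp only [classInner_add_left, classInner_add_right, classInner_one_one, h1χ, hχ1', h1, h2,
      classInner_comm_of_eq_zero h1, classInner_comm_of_eq_zero h2, hχ.inner_self, ht] at this
    exact_mod_cast (this.symm.trans (by push_cast; ring) : _ = ((2 + t : ℕ) : ℂ))
  have hp2 : (2 : ℤ) ≤ p := by exact_mod_cast hp.two_le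
  have hc3 : c = 1 ∨ c = 0 ∨ c = -1 := by
    by_contra h
    zify at hd0 hde
    rcases (by omega : 2 ≤ c ∨ c ≤ -2) with h | h
    · nlinarith
    · nlinarith [Int.natCast_nonneg e]
  rcases hc3 with rfl | rfl | rfl
  · exfalso
    obtain rfl : d = 1 := by omega
    obtain ⟨lam, hlam⟩ := hχ.isCharacter.exists_linear (by rw [hd, Nat.cast_one])
    have : IsPretransitive lam.ker Ω := hprim.isQuasiPreprimitive.isPretransitive_of_normal
      fun h => hfix u hu1 a₀ ((h ▸ Set.mem_univ a₀ : a₀ ∈ fixedPoints lam.ker Ω)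
        ⟨u, Units.ext (by simpa [hlam] using hc)⟩)
    have h1 := inner_permC_one (G := lam.ker) (Ω := Ω)
    obtain ⟨k, hk⟩ := (hψ.restrict lam.ker).inner_nat isCharacter_one
    have h2 : permC lam.ker Ω = (fun _ => 1) + (fun _ => 1) + fun g : lam.ker => ψ g := by
      funext g
      have := congrFun hπeq g
      simp only [Pi.add_apply, hlam, show lam g = 1 from g.2] at this ⊢
      exact this
    rw [h2, classInner_add_left, classInner_add_left, classInner_one_one, hk] at h1
    have : 1 + 1 + k = 1 := by exact_mod_cast h1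
    omega
  · have h1 := rank_le_three_of_regular hprim hp hΩ P hP hfix hχ hχ1 hmχ (hgal conj)
      (by rw [hd, Nat.cast_inj]; omega) (fun g hg => by rw [hcg g hg, Int.cast_zero]) a₀
    have ht0 : t ≠ 0 := fun h => by
      rw [h, Nat.cast_zero, classInner_self_eq_zero] at ht
      rw [ht, Pi.zero_apply, eq_comm, Nat.cast_eq_zero] at he
      omega
    obtain rfl : t = 1 := by omega
    refine Or.inr ⟨hrank, wielandt_type hprim hΩ a₀ hrank ψ χ
      (hψ.isIrr_of_inner_self (by rw [ht, Nat.cast_one])) hχ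
      (hπeq.trans (funext fun g => by simp only [Pi.add_apply]; ring)) ?_
      (by rw [hd, Nat.cast_inj]; omega)⟩
    rw [he, eq_sub_iff_add_eq]
    exact_mod_cast (by omega : e + 1 = p)
  · refine Or.inl (two_trans_of_rank_two a₀ ?_)
    obtain rfl : e = 0 := by omega
    rw [hψ.eq_zero_of_apply_one (by rw [he, Nat.cast_zero]), classInner_zero_left, eq_comm,
      Nat.cast_eq_zero] at ht
    rw [hrank, ht]

open Equiv Equiv.Perm in
theorem wielandt_2p {α : Type*} [Fintype α] [DecidableEq α] {p : ℕ} (hp : p.Prime)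
    (hα : Fintype.card α = 2 * p) (G : Subgroup (Perm α)) (hG : IsPreprimitive G α) (a₀ : α) :
    IsMultiplyPretransitive G α 2 ∨ (Nat.card (orbitRel.Quotient (stabilizer G a₀) α) = 3 ∧
      ∃ a : ℕ, 0 < a ∧ p = 2 * a ^ 2 + 2 * a + 1 ∧ ∀ b : α, b ≠ a₀ →
      Nat.card (orbit (stabilizer G a₀) b) = a * (2 * a + 1) ∨
      Nat.card (orbit (stabilizer G a₀) b) = (a + 1) * (2 * a + 1)) := by
  classical
  have : Fact p.Prime := ⟨hp⟩
  have hp2 := hp.two_le
  by_cases hA : alternatingGroup α ≤ G
  · left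
    have h1 := alternatingGroup.isMultiplyPretransitive α
    have h2 : IsMultiplyPretransitive (alternatingGroup α) α 2 :=
      isMultiplyPretransitive_of_le (n := Nat.card α - 2)
        (by rw [Nat.card_eq_fintype_card]; omega) (Nat.sub_le _ _)
    rw [is_two_pretransitive_iff] at h2 ⊢
    intro a b c d hab hcd
    obtain ⟨g, hg⟩ := h2 hab hcd
    exact ⟨⟨g, hA g.2⟩, hg⟩
  obtain ⟨g, hgG, hg⟩ := exists_mem_orderOf_eq (H := G) hp (by
    rw [← (stabilizer G a₀).card_mul_index, index_stabilizer_of_transitive,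
      Nat.card_eq_fintype_card (α := α), hα]
    exact (dvd_mul_left p 2).mul_left _)
  have hs : ∀ k ∈ G, orderOf k = p → k.support = Finset.univ := fun k hkG hk => by
    apply Finset.eq_univ_of_card
    have hle := k.support.card_le_univ
    rcases hp2.eq_or_lt with rfl | h3
    · by_contra hne
      exact hA (alt_le_of_support_le_three hG hkG (fun h => by simp [h] at hk) (by omega))
    · obtain ⟨c, hc, h⟩ := support_of_prime_order' hG hA hkG hp hk (by omega)
      have := Nat.mul_le_mul_left p hc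
      omega
  have hcard : Nat.card (Subgroup.zpowers (⟨g, hgG⟩ : G)) = p := by
    rw [Nat.card_zpowers, ← hg, ← Subgroup.orderOf_coe]
  refine wielandt_2p_of_semiregular hG hp hα _ hcard (fun k hk x => ?_) a₀
  have h1 : orderOf ((k : G) : Perm α) = p := by
    rw [Subgroup.orderOf_coe, Subgroup.orderOf_coe]
    exact orderOf_eq_prime (by rw [← hcard]; exact pow_card_eq_one') hk
  exact mem_support.1 (hs _ (k : G).2 h1 ▸ Finset.mem_univ x)

end H14
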