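import Mathlib
import Cfsg.Agent.H14.Count

/-! Witt's lemma on transitive extensions. -/

set_option autoImplicit false
set_option linter.unusedSectionVars false

namespace H14

open MulAction Subgroup

variable {G : Type*} [Group G] {α : Type*} [MulAction G α]

theorem MT_two_of {H : Subgroup G} {F : Set α} (hF : 2 ≤ F.ncard)
    (h : ∀ a ∈ F, ∀ b ∈ F, ∀ c ∈ F, ∀ d ∈ F, a ≠ b → c ≠ d → ∃ g ∈ H, g • a = c ∧ g • b = d) :
    MT H F 2 := by
  classical
  refine MT_of_exact' hF fun s f hs hc hi hm => ?_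
  obtain ⟨a, b, hab, rfl⟩ := Finset.card_eq_two.1 hc
  obtain ⟨g, hg, h1, h2⟩ := h a (hs (by simp)) b (hs (by simp)) (f a) (hm (by simp)) (f b)
    (hm (by simp)) hab (fun h => hab (hi (by simp) (by simp) h))
  exact ⟨g, hg, by simp [h1, h2]⟩

/-- closure under a double coset -/
theorem closure_double_coset (A : Subgroup G) (s : G) (hs : s ^ 2 ∈ A)
    (h : ∀ g ∈ A, s * g * s ∈ A ∨ ∃ a ∈ A, ∃ b ∈ A, s * g * s = a * s * b) :
    ∀ g ∈ A ⊔ zpowers s, g ∈ A ∨ ∃ a ∈ A, ∃ b ∈ A, g = a * s * b := by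
  let B : Subgroup G :=
    { carrier := {g | g ∈ A ∨ ∃ a ∈ A, ∃ b ∈ A, g = a * s * b}
      one_mem' := Or.inl A.one_mem
      mul_mem' := by
        rintro x y (hx | ⟨a, ha, b, hb, rfl⟩) (hy | ⟨c, hc, d, hd, rfl⟩)
        · exact Or.inl (A.mul_mem hx hy)
        · exact Or.inr ⟨x * c, A.mul_mem hx hc, d, hd, by group⟩
        · exact Or.inr ⟨a, ha, b * y, A.mul_mem hb hy, by group⟩
        · rcases h (b * c) (A.mul_mem hb hc) with h1 | ⟨u, hu, v, hv, h1⟩
          · left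
            have : a * s * b * (c * s * d) = a * (s * (b * c) * s) * d := by group
            rw [this]; exact A.mul_mem (A.mul_mem ha h1) hd
          · refine Or.inr ⟨a * u, A.mul_mem ha hu, v * d, A.mul_mem hv hd, ?_⟩
            calc a * s * b * (c * s * d) = a * (s * (b * c) * s) * d := by group
              _ = _ := by rw [h1]; group
      inv_mem' := by
        rintro x (hx | ⟨a, ha, b, hb, rfl⟩)
        · exact Or.inl (A.inv_mem hx)
        · exact Or.inr ⟨b⁻¹, A.inv_mem hb, (s ^ 2)⁻¹ * a⁻¹, A.mul_mem (A.inv_mem hs) (A.inv_mem ha),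
            by group⟩ }
  have : A ⊔ zpowers s ≤ B := sup_le (fun g hg => Or.inl hg)
    (zpowers_le.2 (Or.inr ⟨1, A.one_mem, 1, A.one_mem, by simp⟩))
  exact this

/-- the chain of subgroups in Witt's lemma -/
def wittChain (K : Subgroup G) (s : ℕ → G) : ℕ → Subgroup G
  | 0 => K
  | 1 => K
  | i + 2 => wittChain K s (i + 1) ⊔ zpowers (s (i + 1))

theorem wittChain_succ (K : Subgroup G) (s : ℕ → G) {i : ℕ} (hi : 1 ≤ i) :
    wittChain K s (i + 1) = wittChain K s i ⊔ zpowers (s i) := by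
  obtain ⟨j, rfl⟩ : ∃ j, i = j + 1 := ⟨i - 1, by omega⟩
  rfl

theorem wittChain_le_iff (K : Subgroup G) (s : ℕ → G) (i : ℕ) (M : Subgroup G) :
    wittChain K s i ≤ M ↔ K ≤ M ∧ ∀ j, 1 ≤ j → j < i → s j ∈ M := by
  induction i with
  | zero => simp [wittChain]
  | succ i ih =>
    rcases Nat.eq_zero_or_pos i with rfl | hi
    · simp only [wittChain]
      exact ⟨fun h => ⟨h, fun j h1 h2 => by omega⟩, fun h => h.1⟩
    rw [wittChain_succ K s hi, sup_le_iff, ih, zpowers_le]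
    refine ⟨fun h => ⟨h.1.1, fun j h1 h2 => ?_⟩, fun h => ⟨⟨h.1, fun j h1 h2 => h.2 j h1 (by omega)⟩,
      h.2 i hi (by omega)⟩⟩
    rcases (by omega : j < i ∨ j = i) with h3 | rfl
    · exact h.1.2 j h1 h3
    · exact h.2

theorem witt_extension [Finite α] [Finite G] (t : ℕ) (ht : 2 ≤ t) (q : ℕ → α)
    (hq : ∀ i j : ℕ, 1 ≤ i → i ≤ t → 1 ≤ j → j ≤ t → q i = q j → i = j) (A : Subgroup G)
    (hfix : ∀ g ∈ A, ∀ i : ℕ, 3 ≤ i → i ≤ t → g • q i = q i)
    (h2 : ∀ a b c d : α, (∀ i, 3 ≤ i → i ≤ t → a ≠ q i ∧ b ≠ q i ∧ c ≠ q i ∧ d ≠ q i) → a ≠ b →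
      c ≠ d → ∃ g ∈ A, g • a = c ∧ g • b = d) (s : ℕ → G) (hs1 : s 1 ∈ A)
    (hs1q : s 1 • q 1 = q 2 ∧ s 1 • q 2 = q 1)
    (hsq : ∀ i : ℕ, 2 ≤ i → i + 1 ≤ t → s i • q i = q (i + 1) ∧ s i • q (i + 1) = q i ∧
      ∀ j : ℕ, 1 ≤ j → j ≤ t → j ≠ i → j ≠ i + 1 → s i • q j = q j) (H : Subgroup G)
    (hH : H = A ⊓ stabilizer G (q 1) ⊓ stabilizer G (q 2))
    (hsq2 : ∀ i : ℕ, 1 ≤ i → i + 1 ≤ t → s i ^ 2 ∈ H)
    (hbraid : ∀ i : ℕ, 1 ≤ i → i + 2 ≤ t → (s i * s (i + 1)) ^ 3 ∈ H)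
    (hcomm : ∀ i j : ℕ, 1 ≤ i → i + 2 ≤ j → j + 1 ≤ t → (s i * s j) ^ 2 ∈ H ∧ (s j * s i) ^ 2 ∈ H)
    (hnorm : ∀ i : ℕ, 2 ≤ i → i + 1 ≤ t → ∀ g ∈ A ⊓ stabilizer G (q 2),
      s i * g * (s i)⁻¹ ∈ A ⊓ stabilizer G (q 2)) :
    MT (closure ((A : Set G) ∪ {x | ∃ i : ℕ, 2 ≤ i ∧ i + 1 ≤ t ∧ x = s i})) (Set.univ : Set α) t ∧
      closure ((A : Set G) ∪ {x | ∃ i : ℕ, 2 ≤ i ∧ i + 1 ≤ t ∧ x = s i}) ⊓
        fixingSubgroup G {x | ∃ i : ℕ, 1 ≤ i ∧ i ≤ t ∧ x = q i} = H := by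
  set K := A ⊓ stabilizer G (q 2) with hK
  set L := wittChain K s with hL
  have hne : ∀ i j : ℕ, 1 ≤ i → i ≤ t → 1 ≤ j → j ≤ t → i ≠ j → q i ≠ q j :=
    fun i j h1 h2 h3 h4 h5 h => h5 (hq i j h1 h2 h3 h4 h)
  have hKL : ∀ i, K ≤ L i := fun i => ((wittChain_le_iff K s i _).1 le_rfl).1
  have hsL : ∀ i j, 1 ≤ j → j < i → s j ∈ L i := fun i => ((wittChain_le_iff K s i _).1 le_rfl).2
  have hHK : H ≤ K := by rw [hH]; exact fun g hg => ⟨hg.1.1, hg.2⟩
  have hLL : ∀ i, L i ≤ L (i + 1) := fun i =>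
    (wittChain_le_iff K s i _).2 ⟨hKL _, fun j h1 h2 => hsL _ j h1 (by omega)⟩
  have hLfix : ∀ i j, 1 ≤ i → i < j → j ≤ t → L i ≤ stabilizer G (q j) := by
    intro i j hi hij hj
    refine (wittChain_le_iff K s i _).2 ⟨fun g hg => ?_, fun l h1 h2 => ?_⟩
    · rcases (by omega : j = 2 ∨ 3 ≤ j) with rfl | h3
      · exact hg.2
      · exact hfix g hg.1 j h3 hj
    · rcases (by omega : l = 1 ∨ 2 ≤ l) with rfl | h3
      · exact hfix _ hs1 j (by omega) hj
      · exact (hsq l h3 (by omega)).2.2 j (by omega) hj (by omega) (by omega)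
  have hA1 : ∀ g ∈ A, g ∈ K ∨ ∃ a ∈ K, ∃ b ∈ K, g = a * s 1 * b := by
    intro g hg
    by_cases h : g • q 2 = q 2
    · exact Or.inl ⟨hg, h⟩
    obtain ⟨a, ha, h3, h4⟩ := h2 (q 2) (q 1) (q 2) (g • q 2) (fun i h1 h2 =>
      ⟨hne _ _ (by omega) ht (by omega) h2 (by omega), hne _ _ le_rfl (by omega) (by omega) h2
        (by omega), hne _ _ (by omega) ht (by omega) h2 (by omega), fun hh =>
        hne 2 i (by omega) ht (by omega) h2 (by omega)
          (smul_left_cancel g (hh.trans (hfix g hg i h1 h2).symm))⟩)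
      (hne _ _ (by omega) ht le_rfl (by omega) (by omega)) (Ne.symm h)
    refine Or.inr ⟨a, ⟨ha, h3⟩, (s 1)⁻¹ * a⁻¹ * g,
      ⟨A.mul_mem (A.mul_mem (A.inv_mem hs1) (A.inv_mem ha)) hg, ?_⟩, by group⟩
    show ((s 1)⁻¹ * a⁻¹ * g) • q 2 = q 2
    rw [mul_smul, mul_smul, ← h4, inv_smul_smul, inv_smul_eq_iff, hs1q.2]
  have hL2 : L 2 = A := by
    refine le_antisymm ((wittChain_le_iff K s 2 _).2 ⟨inf_le_left, fun j h1 h2 => ?_⟩) fun g hg => ?_
    · rwa [show j = 1 by omega]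
    · rcases hA1 g hg with h | ⟨a, ha, b, hb, rfl⟩
      · exact hKL 2 h
      · exact mul_mem (mul_mem (hKL 2 ha) (hsL 2 1 le_rfl (by omega))) (hKL 2 hb)
  have hdc : ∀ i, 1 ≤ i → i + 1 ≤ t →
      ∀ g ∈ L (i + 1), g ∈ L i ∨ ∃ a ∈ L i, ∃ b ∈ L i, g = a * s i * b := by
    intro i hi
    induction i, hi using Nat.le_induction with
    | base => intro _ g hg; exact hA1 g (hL2 ▸ hg)
    | succ i hi ih =>
      intro hit
      have hsq' : s (i + 1) ^ 2 ∈ L i := hKL i (hHK (hsq2 (i + 1) (by omega) hit))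
      have hnorm' : s (i + 1) ∈ normalizer (L i : Set G) := by
        refine H22.mem_normalizer_of_conj_mem ?_
        rw [← H22.cj_le_iff, H22.cj_le_iff_le_cj_inv]
        refine (wittChain_le_iff K s i _).2 ⟨fun g hg => ?_, fun j h1 h2 => ?_⟩
        · rw [H22.mem_cj, inv_inv]
          exact hKL i (hnorm (i + 1) (by omega) hit g hg)
        · rw [H22.mem_cj, inv_inv]
          have h3 := hKL i (hHK (hcomm j (i + 1) h1 (by omega) hit).2)
          have : s (i + 1) * s j * (s (i + 1))⁻¹ =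
              (s (i + 1) * s j) ^ 2 * (s j)⁻¹ * (s (i + 1) ^ 2)⁻¹ := by
            simp only [pow_two]; group
          rw [this]
          exact mul_mem (mul_mem h3 (inv_mem (hsL i j h1 h2))) (inv_mem hsq')
      rw [hL, wittChain_succ K s (by omega)]
      refine closure_double_coset _ _ (hLL i hsq') fun g hg => ?_
      rcases ih (by omega) g hg with h | ⟨a, ha, b, hb, rfl⟩
      · left
        have : s (i + 1) * g * s (i + 1) = s (i + 1) * g * (s (i + 1))⁻¹ * s (i + 1) ^ 2 := by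
          simp only [pow_two]; group
        rw [this]
        exact hLL i (mul_mem (H22.conj_mem_of_mem_normalizer hnorm' h) hsq')
      · right
        have h3 := hKL (i + 1) (hHK (hbraid i hi hit))
        have h4 := hsL (i + 1) i hi (by omega)
        refine ⟨s (i + 1) * a * (s (i + 1))⁻¹ * (s i)⁻¹ * (s i * s (i + 1)) ^ 3, ?_,
          (s (i + 1) ^ 2)⁻¹ * (s i)⁻¹ * ((s (i + 1))⁻¹ * b * s (i + 1)), ?_, ?_⟩
        · exact mul_mem (mul_mem (hLL i (H22.conj_mem_of_mem_normalizer hnorm' ha)) (inv_mem h4)) h3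
        · exact mul_mem (mul_mem (inv_mem (hLL i hsq')) (inv_mem h4))
            (hLL i (H22.conj_mem_of_mem_normalizer' hnorm' hb))
        · simp only [pow_succ, pow_zero]; group
  have hsi : ∀ i, 1 ≤ i → i + 1 ≤ t → s i • q (i + 1) = q i := fun i hi hit => by
    rcases (by omega : i = 1 ∨ 2 ≤ i) with rfl | h
    · exact hs1q.2
    · exact (hsq i h hit).2.1
  have hstab : ∀ i, 1 ≤ i → i + 1 ≤ t → ∀ g ∈ L (i + 1), g • q (i + 1) = q (i + 1) → g ∈ L i := by
    intro i hi hit g hg h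
    rcases hdc i hi hit g hg with h1 | ⟨a, ha, b, hb, rfl⟩
    · exact h1
    · exfalso
      have ha' : a • q (i + 1) = q (i + 1) := hLfix i (i + 1) hi (by omega) hit ha
      have hb' : b • q (i + 1) = q (i + 1) := hLfix i (i + 1) hi (by omega) hit hb
      rw [mul_smul, mul_smul, hb', hsi i hi hit] at h
      exact hne i (i + 1) hi (by omega) (by omega) hit (by omega)
        (smul_left_cancel a (h.trans ha'.symm))
  have hLt : closure ((A : Set G) ∪ {x | ∃ i : ℕ, 2 ≤ i ∧ i + 1 ≤ t ∧ x = s i}) = L t := by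
    apply le_antisymm
    · rw [closure_le]
      rintro x (hx | ⟨i, h1, h2, rfl⟩)
      · rcases hA1 x hx with h | ⟨a, ha, b, hb, rfl⟩
        · exact hKL t h
        · exact mul_mem (mul_mem (hKL t ha) (hsL t 1 le_rfl (by omega))) (hKL t hb)
      · exact hsL t i (by omega) h2
    · refine (wittChain_le_iff K s t _).2 ⟨fun g hg => subset_closure (Or.inl hg.1),
        fun j h1 h2 => ?_⟩
      rcases (by omega : j = 1 ∨ 2 ≤ j) with rfl | h
      · exact subset_closure (Or.inl hs1)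
      · exact subset_closure (Or.inr ⟨j, h, h2, rfl⟩)
  rw [hLt]
  let X : ℕ → Set α := fun i => {x | ∀ j, i < j → j ≤ t → x ≠ q j}
  have hP : ∀ i, 1 ≤ i → Pres (L i) (X i) := fun i hi g hg x hx j h1 h2 h =>
    hx j h1 h2 (smul_left_cancel g (h.trans (hLfix i j hi h1 h2 hg).symm))
  have hqX : ∀ i j, 1 ≤ j → j ≤ i → j ≤ t → q j ∈ X i := fun i j h1 h2 h3 l h4 h5 =>
    hne j l h1 h3 (by omega) h5 (by omega)
  have hMT : ∀ i, 2 ≤ i → i ≤ t → MT (L i) (X i) i := by
    intro i hi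
    induction i, hi using Nat.le_induction with
    | base =>
      intro _
      rw [hL2]
      refine MT_two_of ?_ fun a ha b hb c hc d hd => h2 a b c d fun i h1 h2 =>
        ⟨ha i h1 h2, hb i h1 h2, hc i h1 h2, hd i h1 h2⟩
      refine (Set.ncard_pair (hne 1 2 le_rfl (by omega) (by omega) ht (by omega))).ge.trans
        (Set.ncard_le_ncard ?_)
      rintro x (rfl | rfl)
      · exact hqX 2 1 le_rfl (by omega) (by omega)
      · exact hqX 2 2 (by omega) le_rfl ht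
    | succ i hi ih =>
      intro hit
      have h1 := ih (by omega)
      have hX : X (i + 1) \ {q (i + 1)} = X i := by
        ext x
        refine ⟨fun hx j h1 h2 => ?_, fun hx => ⟨fun j h1 h2 => hx j (by omega) h2,
          hx (i + 1) (by omega) hit⟩⟩
        rcases (by omega : j = i + 1 ∨ i + 1 < j) with rfl | h
        · exact hx.2
        · exact hx.1 j h h2
      have hto : ∀ a ∈ X (i + 1), ∃ g ∈ L (i + 1), g • a = q i := by
        intro a ha
        by_cases h : a = q (i + 1)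
        · exact ⟨s i, hsL _ i (by omega) (by omega), h ▸ hsi i (by omega) hit⟩
        · obtain ⟨g, hg, h⟩ := h1.one (by omega) (hX ▸ ⟨ha, h⟩ : a ∈ X i)
            (hqX i i (by omega) le_rfl (by omega))
          exact ⟨g, hLL i hg, h⟩
      refine MT.of_stab (MT.of_one (hP _ (by omega)) fun a ha b hb => ?_) (hP _ (by omega))
        (hqX (i + 1) (i + 1) (by omega) le_rfl hit) ?_
      · obtain ⟨g, hg, h2⟩ := hto a ha
        obtain ⟨k, hk, h3⟩ := hto b hb
        exact ⟨k⁻¹ * g, mul_mem (inv_mem hk) hg, by rw [mul_smul, h2, inv_smul_eq_iff, h3]⟩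
      · rw [hX]
        exact h1.mono_le (le_inf (hLL i) (hLfix i (i + 1) (by omega) (by omega) hit))
  constructor
  · have := hMT t ht le_rfl
    rwa [show X t = Set.univ from Set.eq_univ_of_forall fun x j h1 h2 => by omega] at this
  · apply le_antisymm
    · rintro g ⟨hg, hgf⟩
      have hf : ∀ i, 1 ≤ i → i ≤ t → g • q i = q i := fun i h1 h2 =>
        mem_fixing.1 hgf _ ⟨i, h1, h2, rfl⟩
      have key : ∀ k, k < t → g ∈ L (t - k) := by
        intro k
        induction k with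
        | zero => exact fun _ => hg
        | succ k ih =>
          intro hk
          refine hstab (t - (k + 1)) (by omega) (by omega) g ?_ (hf _ (by omega) (by omega))
          rw [show t - (k + 1) + 1 = t - k by omega]
          exact ih (by omega)
      have := key (t - 1) (by omega)
      rw [show t - (t - 1) = 1 by omega] at this
      rw [hH]
      exact ⟨⟨this.1, hf 1 le_rfl (by omega)⟩, this.2⟩
    · refine le_inf (hHK.trans (hKL t)) fun g hg => mem_fixing.2 ?_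
      rintro _ ⟨i, h1, h2, rfl⟩
      rcases (by omega : i = 1 ∨ 1 < i) with rfl | h
      · rw [hH] at hg; exact hg.1.2
      · exact hLfix 1 i le_rfl h h2 (hKL 1 (hHK hg))

end H14
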