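import Mathlib
import Cfsg.Agent.H6.XZDefs
import Cfsg.Agent.H6.XS1

/-! The swap case in width four: linear algebra. -/

set_option autoImplicit false
set_option linter.unusedSectionVars false

namespace H14.ZS

open Subgroup H24 H15 H15.XP Module H20.XA H6.XS

variable {V : Type*} [AddCommGroup V] [Module (ZMod 2) V] [Finite V]
variable {q : QuadraticForm (ZMod 2) V} {H : Subgroup (ofQuad q).Isom} {S : Set V}
  {E : V → Submodule (ZMod 2) V}
  {A A' : Submodule (ZMod 2) V} (hs : Swap4 H S E A A') (hq : (ofQuad q).Nondeg)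
  {g k : (ofQuad q).Isom} {a u v : V}
include hs

theorem eq0 (h1 : a ∈ A) (h2 : a ∈ A') : a = 0 := hs.compl.disjoint.le_bot ⟨h1, h2⟩

theorem decA (v : V) : ∃ a ∈ A, ∃ u ∈ A', a + u = v :=
  Submodule.mem_sup.1 (hs.compl.sup_eq_top.ge trivial)

theorem nboth (h1 : ∀ a ∈ A, g.1 a ∈ A) (h2 : ∀ a ∈ A, g.1 a ∈ A') : False := by
  have : A = ⊥ := eq_bot_iff.2 fun a h =>
    H28.XL.g_inj g ((eq0 hs (h1 a h) (h2 a h)).trans (map_zero _).symm)
  have h1 := hs.dimA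
  rw [this, finrank_bot] at h1
  omega

/-- the stabiliser of `A` -/
def KK : Subgroup (ofQuad q).Isom where
  carrier := {g | g ∈ H ∧ (∀ a ∈ A, g.1 a ∈ A) ∧ ∀ a ∈ A', g.1 a ∈ A'}
  one_mem' := ⟨one_mem _, fun _ => id, fun _ => id⟩
  mul_mem' := fun x y =>
    ⟨mul_mem x.1 y.1, fun a h => x.2.1 _ (y.2.1 a h), fun a h => x.2.2 _ (y.2.2 a h)⟩
  inv_mem' := fun {g} x => ⟨inv_mem x.1, (hs.pres _ (inv_mem x.1)).resolve_right fun c => by
    have : A = ⊥ := eq_bot_iff.2 fun a h =>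
      eq0 hs h (Form.Isom.inv_apply_apply g a ▸ c.1 _ (x.2.1 a h))
    have h1 := hs.dimA
    rw [this, finrank_bot] at h1
    omega⟩

theorem sw (hg : g ∈ H) (h : g ∉ KK hs) : (∀ a ∈ A, g.1 a ∈ A') ∧ ∀ a ∈ A', g.1 a ∈ A :=
  (hs.pres g hg).resolve_left fun c => h ⟨hg, c⟩

theorem mulK (hg : g ∈ H) (h : g ∉ KK hs) (hk : k ∈ H) (h' : k ∉ KK hs) : g * k ∈ KK hs :=
  ⟨mul_mem hg hk, fun a c => (sw hs hg h).2 _ ((sw hs hk h').1 a c),
    fun a c => (sw hs hg h).1 _ ((sw hs hk h').2 a c)⟩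

theorem fix0 (hg : g ∈ H) (h : g ∉ KK hs) (e : g.1 v = v) (hv : v ∈ A ∨ v ∈ A') : v = 0 :=
  hv.elim (fun c => eq0 hs c (e ▸ (sw hs hg h).1 v c)) fun c => eq0 hs (e ▸ (sw hs hg h).2 v c) c

theorem comp {a' u' : V} (h1 : a ∈ A) (h2 : a' ∈ A) (h3 : u ∈ A') (h4 : u' ∈ A')
    (e : a + u = a' + u') : a = a' ∧ u = u' := by
  have : a + a' = 0 := eq0 hs (add_mem h1 h2) (by
    rw [← vv'' u a, e, add_comm a', add_right_comm (u' + a'), vv'']; exact add_mem h4 h3)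
  rw [aez] at this
  exact ⟨this, add_left_cancel (this ▸ e)⟩

theorem fixd (hg : g ∈ H) (h : g ∉ KK hs) (e : g.1 v = v) : ∃ a ∈ A, v = a + g.1 a := by
  obtain ⟨a, a1, u, u1, rfl⟩ := decA hs v
  rw [map_add, add_comm] at e
  exact ⟨a, a1, by rw [(comp hs ((sw hs hg h).2 u u1) a1 ((sw hs hg h).1 a a1) u1 e).2]⟩

/-- `k` fixes `a + g a` -/
theorem fixW (hg : g ∈ H) (h : g ∉ KK hs) (hk : k ∈ KK hs) (ha : a ∈ A)
    (e : k.1 (a + g.1 a) = a + g.1 a) : k.1 a = a ∧ k.1 (g.1 a) = g.1 a :=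
  comp hs (hk.2.1 a ha) ha (hk.2.2 _ ((sw hs hg h).1 a ha)) ((sw hs hg h).1 a ha)
    ((map_add _ _ _).symm.trans e)

include hq

theorem nd (hu : u ∈ A') (h : ∀ a ∈ A, pol q u a = 0) : u = 0 :=
  eq0 hs (H28.XL.perp_self hq (fun a h b h' => H28.XL.ts_pol hs.tsA h h') (by
    rw [← Submodule.finrank_add_eq_of_isCompl hs.compl, hs.dimA, hs.dimA'])
    fun a c => (pol_comm ..).trans (h a c)) hu

theorem ndb (hg : g ∈ H) (h : g ∉ KK hs) (ha : a ∈ A) (e : ∀ b ∈ A, pol q (g.1 a) b = 0) : a = 0 :=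
  H28.XL.g_inj g ((nd hs hq ((sw hs hg h).1 a ha) e).trans (map_zero _).symm)

theorem faith (hk : k ∈ KK hs) (h : ∀ a ∈ A, k.1 a = a) : k = 1 := by
  refine Form.Isom.ext fun v => ?_
  obtain ⟨a, a1, u, u1, rfl⟩ := decA hs v
  rw [map_add, h a a1, aez.1 (nd hs hq (add_mem (hk.2.2 u u1) u1) fun b b1 => by
    rw [map_add, LinearMap.add_apply]; nth_rw 1 [← h b b1]; rw [mp, zz])]
  rfl

theorem faith2 {k' : (ofQuad q).Isom} (hk : k ∈ KK hs) (hk' : k' ∈ KK hs)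
    (h : ∀ a ∈ A, k.1 a = k'.1 a) : k = k' := by
  have := faith hs hq (mul_mem (inv_mem hk') hk) fun a ha => by
    rw [Form.Isom.mul_apply, h a ha, Form.Isom.inv_apply_apply]
  rw [inv_mul_eq_one] at this
  exact this.symm

/-- the non-alternating case -/
theorem two1 (hg : g ∈ H) (h : g ∉ KK hs) (h2 : g * g = 1) {a1 : V} (ha : a1 ∈ A)
    (h1 : pol q (g.1 a1) a1 = 1) {k' : (ofQuad q).Isom} (hk : k ∈ KK hs) (hk' : k' ∈ KK hs)
    (f : ∀ a ∈ A, pol q (g.1 a) a = 0 → k.1 (a + g.1 a) = a + g.1 a)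
    (f' : ∀ a ∈ A, pol q (g.1 a) a = 0 → k'.1 (a + g.1 a) = a + g.1 a) (k1 : k ≠ 1) (k1' : k' ≠ 1) :
    k = k' := by
  have sy : ∀ x y, pol q (g.1 x) y = pol q (g.1 y) x := fun x y => by
    rw [← mp g, H28.XL.g_sq h2, pol_comm]
  have hyp : ∀ a ∈ A, pol q (g.1 a) a = 0 ∨ pol q (g.1 (a + a1)) (a + a1) = 0 := fun a _ => by
    rcases z2 (pol q (g.1 a) a) with e | e
    · exact Or.inl e
    · right
      rw [map_add, map_add, map_add (pol q), LinearMap.add_apply, LinearMap.add_apply, e, h1, sy a1 a]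
      exact (by decide : ∀ a : ZMod 2, 1 + a + (a + 1) = 0) _
  have ext : ∀ {k k' : (ofQuad q).Isom}, k ∈ KK hs → k' ∈ KK hs →
      (∀ a ∈ A, pol q (g.1 a) a = 0 → k.1 a = k'.1 a) → k.1 a1 = k'.1 a1 → k = k' :=
    fun {k k'} hk hk' e1 e2 => faith2 hs hq hk hk' fun a ha' => (hyp a ha').elim (e1 a ha') fun c => by
      have := e1 _ (add_mem ha' ha) c
      rwa [map_add, map_add, e2, add_left_inj] at this
  have key : ∀ {k : (ofQuad q).Isom}, k ∈ KK hs →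
      (∀ a ∈ A, pol q (g.1 a) a = 0 → k.1 (a + g.1 a) = a + g.1 a) → k ≠ 1 →
      (∀ a ∈ A, pol q (g.1 a) a = 0 → pol q (g.1 a) (k.1 a1 + a1) = 0) ∧
        pol q (g.1 a1) (k.1 a1 + a1) = 1 := fun {k} hk f k1 => by
    have p1 : ∀ a ∈ A, pol q (g.1 a) a = 0 → pol q (g.1 a) (k.1 a1 + a1) = 0 := fun a a0 c => by
      rw [map_add]; nth_rw 1 [← (fixW hs hg h hk a0 (f a a0 c)).2]; rw [mp, zz]
    refine ⟨p1, z1 fun c => k1 (ext hk (one_mem _) (fun a a0 c => (fixW hs hg h hk a0 (f a a0 c)).1)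
      (aez.1 (ndb hs hq hg h (add_mem (hk.2.1 _ ha) ha) fun b b0 => ?_)))⟩
    rw [sy]
    rcases hyp b b0 with e | e
    · exact p1 b b0 e
    · have := p1 _ (add_mem b0 ha) e
      rwa [map_add g.1, map_add (pol q), LinearMap.add_apply, c, add_zero] at this
  obtain ⟨p1, p2⟩ := key hk f k1
  obtain ⟨p1', p2'⟩ := key hk' f' k1'
  refine ext hk hk' (fun a a0 c => (fixW hs hg h hk a0 (f a a0 c)).1.trans
    (fixW hs hg h hk' a0 (f' a a0 c)).1.symm) ?_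
  have := ndb hs hq hg h (add_mem (add_mem (hk.2.1 _ ha) ha) (add_mem (hk'.2.1 _ ha) ha))
    fun b b0 => by
      rw [sy, map_add]
      rcases hyp b b0 with e | e
      · rw [p1 b b0 e, p1' b b0 e, add_zero]
      · have e1 := p1 _ (add_mem b0 ha) e
        have e2 := p1' _ (add_mem b0 ha) e
        rw [map_add g.1, map_add (pol q), LinearMap.add_apply] at e1 e2
        rw [p2] at e1
        rw [p2'] at e2
        exact (by decide : ∀ a b : ZMod 2, a + 1 = 0 → b + 1 = 0 → a + b = 0) _ _ e1 e2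
  exact add_right_cancel (aez.1 this)

/-- the alternating case -/
theorem two2 (hg : g ∈ H) (h : g ∉ KK hs) (h2 : g * g = 1) (alt : ∀ a ∈ A, pol q (g.1 a) a = 0)
    {a0 : V} (ha : a0 ∈ A) (hk : k ∈ KK hs) (c : k * g = g * k)
    (f : ∀ a ∈ A, k.1 a = a ∨ k.1 a = a + a0) (k1 : k ≠ 1) :
    ∀ a ∈ A, k.1 a = a + pol q (g.1 a0) a • a0 := by
  have sy : ∀ x y, pol q (g.1 x) y = pol q (g.1 y) x := fun x y => by
    rw [← mp g, H28.XL.g_sq h2, pol_comm]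
  have pr : ∀ x y, pol q (g.1 (k.1 x)) (k.1 y) = pol q (g.1 x) y := fun x y => by
    rw [← Form.Isom.mul_apply, ← c, Form.Isom.mul_apply, mp]
  obtain ⟨a1, b1, e1⟩ : ∃ a1 ∈ A, k.1 a1 ≠ a1 := by
    by_contra hn
    push Not at hn
    exact k1 (faith hs hq hk hn)
  have e2 := (f a1 b1).resolve_left e1
  have n0 : a0 ≠ 0 := fun e => e1 (by rw [e2, e, add_zero])
  have p1 : ∀ a ∈ A, k.1 a = a → pol q (g.1 a0) a = 0 := fun a _ e => by
    have := pr a1 a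
    rwa [e2, e, map_add, map_add, LinearMap.add_apply, add_eq_left] at this
  have p2 : ∀ a ∈ A, k.1 a = a + a0 → pol q (g.1 a0) a = pol q (g.1 a0) a1 := fun a a2 e => by
    have := p1 _ (add_mem a2 b1) (by rw [map_add, e, e2, add_add_add_comm, vv, add_zero])
    rwa [map_add, aez] at this
  have p3 : pol q (g.1 a0) a1 = 1 := z1 fun e => n0 (ndb hs hq hg h ha fun b b0 =>
    (f b b0).elim (p1 b b0) fun e' => (p2 b b0 e').trans e)
  intro a a2
  rcases f a a2 with e | e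
  · rw [p1 a a2 e, zero_smul, add_zero, e]
  · rw [p2 a a2 e, p3, one_smul, e]

theorem outerB (τ : A ≃ₗ[ZMod 2] Dual (ZMod 2) A) (s2 : ∀ x y : A, τ x y = τ y x) :
    ∃ g ∈ H, g ∉ KK hs ∧ g * g = 1 ∧ ∀ x y : A, pol q (g.1 x) y = τ x y := by
  obtain ⟨g, g1, g2⟩ := hs.swap
  have g3 : g ∉ KK hs := fun c => nboth hs c.2.1 g2
  let L : Subgroup (A ≃ₗ[ZMod 2] A) :=
    { carrier := {φ | ∃ k ∈ KK hs, ∀ a : A, k.1 a = φ a}
      one_mem' := ⟨1, one_mem _, fun _ => rfl⟩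
      mul_mem' := by
        rintro _ _ ⟨x, x1, x2⟩ ⟨y, y1, y2⟩
        exact ⟨x * y, mul_mem x1 y1, fun a => by rw [Form.Isom.mul_apply, y2, x2]; rfl⟩
      inv_mem' := by
        rintro φ ⟨x, x1, x2⟩
        exact ⟨x⁻¹, inv_mem x1, fun a => by
          rw [Form.Isom.inv_apply_eq, x2]; exact congrArg _ (φ.apply_symm_apply a)⟩ }
  have hL : L = ⊤ := tv_top L fun p φ _ _ e => by
    obtain ⟨ψ, hψ⟩ := LinearMap.exists_extend φ
    obtain ⟨v, hv⟩ := hq.exists_dual ψ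
    obtain ⟨a, a1, u, u1, rfl⟩ := decA hs v
    have e1 : ∀ x : A, pol q u x = φ x := fun x => by
      have : pol q (a + u) x = ψ x := hv x
      rw [map_add, LinearMap.add_apply, H28.XL.ts_pol hs.tsA a1 x.2, zero_add] at this
      rw [this, ← hψ]; rfl
    obtain ⟨y, y1, y2⟩ := hs.tv u u1 p p.2 ((e1 p).trans e)
    have y3 : ∀ x : A, y.1 x = x + φ x • p := fun x => by
      rw [y2, H28.XL.ts_pol hs.tsA p.2 x.2, hs.tsA p p.2, e1]; simp
    have y4 : ∀ x ∈ A, y.1 x ∈ A := fun x c => y3 ⟨x, c⟩ ▸ (⟨x, c⟩ + φ ⟨x, c⟩ • p : A).2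
    have y5 : y ∈ KK hs := by_contra fun c => nboth hs y4 (sw hs y1 c).1
    refine ⟨LinearMap.linearEquivOfInjective (y.1.toLinearMap.restrict y4) (fun a b c =>
      Subtype.ext (y.1.injective (congrArg Subtype.val c))) rfl, ⟨y, y5, fun _ => rfl⟩,
      fun x => Subtype.ext (y3 x)⟩
  let ψ := LinearMap.linearEquivOfInjective
    ((pol q).compl₁₂ (g.1.toLinearMap ∘ₗ A.subtype) A.subtype)
    ((injective_iff_map_eq_zero _).2 fun x c => Subtype.ext (H28.XL.g_inj g ((nd hs hq (g2 _ x.2)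
      fun a a1 => congrArg (· ⟨a, a1⟩) c).trans (map_zero _).symm))) Subspace.dual_finrank_eq.symm
  obtain ⟨k, k1, k2⟩ := hL.ge (mem_top (τ.trans ψ.symm))
  have s1 : ∀ x y : A, pol q ((g * k).1 x) y = τ x y := fun x y => by
    rw [Form.Isom.mul_apply, k2]
    exact congrArg (· y) (ψ.apply_symm_apply (τ x))
  have m1 := mul_mem g1 k1.1
  have m2 : g * k ∉ KK hs := fun c => g3 ((mul_mem_cancel_right k1).1 c)
  have m3 : (g * k)⁻¹ ∉ KK hs := fun c => m2 (inv_mem_iff.1 c)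
  generalize g * k = r at s1 m1 m2 m3
  have r1 : ∀ a ∈ A, r.1 a = (r⁻¹).1 a := fun a a1 => aez.1 (nd hs hq
    (add_mem ((sw hs m1 m2).1 a a1) ((sw hs (inv_mem m1) m3).1 a a1)) fun b b1 => by
      rw [map_add, LinearMap.add_apply, s1 ⟨a, a1⟩ ⟨b, b1⟩, s2, ← s1, ← H28.XL.g_pol_r, pol_comm, zz])
  refine ⟨r, m1, m2, Form.Isom.ext fun v => ?_, s1⟩
  obtain ⟨a, a1, u, u1, rfl⟩ := decA hs v
  rw [Form.Isom.mul_apply, map_add, map_add, r1 a a1, r1 _ ((sw hs m1 m2).2 u u1),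
    Form.Isom.apply_inv_apply, Form.Isom.inv_apply_apply]
  rfl

theorem outer : ∃ g ∈ H, g ∉ KK hs ∧ g * g = 1 ∧ ∀ a ∈ A, pol q (g.1 a) a = 0 := by
  let e := Module.finBasisOfFinrankEq (ZMod 2) A hs.dimA
  let σ := e.equiv e (Fin.revPerm : Equiv.Perm (Fin 4))
  have h1 : ∀ x y : A, (σ.trans e.toDualEquiv) x y = ∑ i, e.repr x i * e.repr y i.rev := fun x y => by
    conv_lhs => rw [← e.sum_repr x]
    rw [map_sum, LinearMap.sum_apply]
    refine Finset.sum_congr rfl fun i _ => ?_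
    rw [map_smul, LinearMap.smul_apply, LinearEquiv.trans_apply, Basis.equiv_apply,
      Basis.toDualEquiv_apply, Basis.toDual_apply_right]
    rfl
  obtain ⟨g, g1, g2, g3, g4⟩ := outerB hs hq (σ.trans e.toDualEquiv) fun x y => by
    rw [h1, h1, Fin.sum_univ_four, Fin.sum_univ_four]
    simp only [Fin.rev]
    simp
    ring
  refine ⟨g, g1, g2, g3, fun a ha => ?_⟩
  rw [g4 ⟨a, ha⟩ ⟨a, ha⟩, h1, Fin.sum_univ_four]
  simp only [Fin.rev]
  simp
  exact (by decide : ∀ a b c d : ZMod 2, a * d + b * c + c * b + d * a = 0) _ _ _ _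

end H14.ZS
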